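import Mathlib
import Cfsg.Prelude.Def_Characters
import Cfsg.Agent.Lib.Char.BrauerInd
import Cfsg.Agent.Lib.Char.Integrality
import Cfsg.Agent.Lib.Char.Values
import Cfsg.Agent.Lib.Char.CompleteCor
import Cfsg.Agent.Lib.Char.RepEquiv

/-!
# The `p`-regular part of a character is a generalized character after multiplying by `|G|_p`
-/

set_option autoImplicit false

namespace Cfsg.Agent.Lib.Char.PRegular

open Cfsg Cfsg.Agent.Lib.Char.BrauerInd Cfsg.Agent.Lib.Char.Basic Cfsg.Agent.Lib.Char.IndRep

universe u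

section Elementary

variable {E : Type u} [Group E] [Finite E]

/-- An elementary group has a normal `p`-complement, for any prime `p`. -/
theorem exists_normal_pComplement_of_isElementary (r p : ℕ) (hr : r.Prime) [hp : Fact p.Prime]
    (hE : IsElementary r E) : ∃ L : Subgroup E, L.Normal ∧ (∃ b, L.index = p ^ b) ∧ ¬ p ∣ Nat.card L := by
  classical
  obtain ⟨x, hxc, hxcop, k, hk⟩ := hE
  have hnorm : (Subgroup.zpowers x).Normal := by
    refine ⟨fun n hn g => ?_⟩
    obtain ⟨i, rfl⟩ := hn
    have hc : (x ^ i) ∈ Subgroup.center E := Subgroup.zpow_mem _ hxc i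
    have : g * (fun y => x ^ y) i * g⁻¹ = x ^ i := by
      have := (Subgroup.mem_center_iff.1 hc g)
      simp only
      rw [this]
      group
    rw [this]
    exact ⟨i, rfl⟩
  by_cases hrp : r = p
  · subst hrp
    refine ⟨Subgroup.zpowers x, hnorm, ⟨k, hk⟩, ?_⟩
    rw [Nat.card_zpowers]
    intro h
    have := Nat.dvd_gcd h (dvd_refl r)
    rw [hxcop] at this
    exact hr.one_lt.ne' (Nat.dvd_one.1 this)
  · haveI : Fact r.Prime := ⟨hr⟩
    obtain ⟨P⟩ : Nonempty (Sylow p E) := inferInstance
    have hPx : (P : Subgroup E) ≤ Subgroup.zpowers x := by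
      have hq : IsPGroup r (E ⧸ Subgroup.zpowers x) := by
        apply IsPGroup.of_card (n := k)
        rw [← hk]
        rfl
      have h1 : IsPGroup p ((P : Subgroup E).map (QuotientGroup.mk' (Subgroup.zpowers x))) :=
        P.isPGroup'.map _
      have h2 : IsPGroup r (⊤ : Subgroup (E ⧸ Subgroup.zpowers x)) := hq.to_subgroup _
      have hd := IsPGroup.disjoint_of_ne p r (Ne.symm hrp) _ _ h1 h2
      have hbot : (P : Subgroup E).map (QuotientGroup.mk' (Subgroup.zpowers x)) = ⊥ := by
        simpa using hd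
      rw [Subgroup.map_eq_bot_iff] at hbot
      simpa using hbot
    have hP : Subgroup.normalizer ((P : Subgroup E) : Set E) ≤ Subgroup.centralizer ((P : Subgroup E) : Set E) := by
      intro g _
      rw [Subgroup.mem_centralizer_iff]
      intro h hh
      have hh' := hPx hh
      obtain ⟨i, rfl⟩ := hh'
      have hc : (x ^ i) ∈ Subgroup.center E := Subgroup.zpow_mem _ hxc i
      exact (Subgroup.mem_center_iff.1 hc g).symm
    refine ⟨(MonoidHom.transferSylow P hP).ker, MonoidHom.normal_ker _, ?_,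
      MonoidHom.not_dvd_card_ker_transferSylow P hP⟩
    obtain ⟨b, hb⟩ := P.isPGroup'.exists_card_eq
    refine ⟨b, ?_⟩
    rw [(MonoidHom.ker_transferSylow_isComplement' P hP).symm.index_eq_card, hb]

/-- A subgroup of `p`-power index and order prime to `p` consists of the `p`-regular elements. -/
theorem mem_iff_not_dvd_orderOf (p : ℕ) [hp : Fact p.Prime] (L : Subgroup E) [L.Normal] (b : ℕ)
    (hb : L.index = p ^ b) (hL : ¬ p ∣ Nat.card L) (e : E) : e ∈ L ↔ ¬ p ∣ orderOf e := by
  constructor
  · intro he h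
    apply hL
    exact h.trans (Subgroup.orderOf_dvd_natCard L he)
  · intro h
    have h1 : e ^ L.index ∈ L := Subgroup.pow_index_mem L e
    rw [hb] at h1
    have hcop : Nat.Coprime (p ^ b) (orderOf e) :=
      Nat.Coprime.pow_left _ ((Nat.Prime.coprime_iff_not_dvd hp.out).2 h)
    have h2 := Nat.gcd_eq_gcd_ab (p ^ b) (orderOf e)
    rw [hcop] at h2
    have h3 : e = (e ^ p ^ b) ^ (Nat.gcdA (p ^ b) (orderOf e)) := by
      have h4 : e ^ ((p ^ b : ℕ) * Nat.gcdA (p ^ b) (orderOf e) + (orderOf e : ℤ) * Nat.gcdB (p ^ b) (orderOf e)) = e := by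
        rw [← h2]
        simp
      rw [zpow_add, zpow_mul (e) (orderOf e : ℤ), zpow_natCast e (orderOf e), pow_orderOf_eq_one, one_zpow, mul_one,
        zpow_mul, zpow_natCast] at h4
      exact h4.symm
    rw [h3]
    exact L.zpow_mem h1 _

open Classical in
/-- The permutation character on the cosets of a normal subgroup. -/
theorem indFun_one_normal [Fintype E] (L : Subgroup E) [L.Normal] (e : E) :
    indFun L (fun _ => (1 : ℂ)) e = if e ∈ L then (L.index : ℂ) else 0 := by
  classical
  unfold indFun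
  have hext : ∀ y : E, extendByZero L (fun _ => (1 : ℂ)) y = if y ∈ L then 1 else 0 := by
    intro y
    unfold extendByZero
    split_ifs with h
    · exact (Subtype.val_injective.extend_apply (fun _ : L => (1 : ℂ)) 0 ⟨y, h⟩)
    · refine Function.extend_apply' _ _ _ ?_
      rintro ⟨a, rfl⟩
      exact h a.2
  have hconj : ∀ x : E, x⁻¹ * e * x ∈ L ↔ e ∈ L := by
    intro x
    have hn : L.Normal := inferInstance
    constructor
    · intro h
      have := hn.conj_mem _ h x
      simpa [mul_assoc] using this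
    · intro h
      have := hn.conj_mem _ h x⁻¹
      simpa [mul_assoc] using this
  simp only [hext, hconj]
  split_ifs with h
  · simp only [Finset.sum_const, Finset.card_univ, nsmul_eq_mul, mul_one]
    have h1 := Subgroup.card_mul_index L
    rw [← Nat.card_eq_fintype_card, ← h1]
    have hL : (Nat.card L : ℂ) ≠ 0 := Nat.cast_ne_zero.mpr Nat.card_pos.ne'
    push_cast
    field_simp
  · simp

end Elementary

variable {G : Type u} [Group G] [Finite G]

/-- **S0961**. -/
theorem isGeneralized_pRegular (p : ℕ) [hp : Fact p.Prime] {χ : G → ℂ} (hχ : IsCharacter G χ) :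
    IsGeneralizedCharacter G (fun x : G => if p ∣ orderOf x then 0 else
      ((p ^ (Nat.card G).factorization p : ℕ) : ℂ) * χ x) := by
  classical
  cases nonempty_fintype G
  refine isGeneralized_of_restrict ?_ ?_
  · intro g h
    have hor : orderOf (h * g * h⁻¹) = orderOf g := by
      rw [← MulAut.conj_apply, MulEquiv.orderOf_eq]
    simp only [hor]
    split_ifs
    · rfl
    · congr 1
      obtain ⟨n, ρ, rfl⟩ := hχ
      exact Representation.char_conj ρ g h
  · intro E r hr hE
    obtain ⟨L, hLn, ⟨b, hb⟩, hL⟩ := exists_normal_pComplement_of_isElementary (p := p) r hr hE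
    haveI := hLn
    have hmem := mem_iff_not_dvd_orderOf p L b hb hL
    haveI : Fintype E := Fintype.ofFinite _
    -- the divisibility of `p^b` into `|G|_p`
    have hbdvd : p ^ b ∣ p ^ (Nat.card G).factorization p := by
      have h1 : p ^ b ∣ Nat.card G := by
        rw [← hb]
        exact (Subgroup.index_dvd_card L).trans (Subgroup.card_subgroup_dvd_card E)
      exact pow_dvd_pow p ((Nat.Prime.pow_dvd_iff_le_factorization hp.out Nat.card_pos.ne').1 h1)
    obtain ⟨c, hc⟩ := hbdvd
    have hf : IsCharacter E (indFun L (fun _ => (1 : ℂ))) := isCharacter_indFun L isCharacter_one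
    have hres : IsCharacter E (fun e : E => χ e) := isCharacter_restrict hχ E
    have hprod := isCharacter_mul hf hres
    have heq : (fun e : E => if p ∣ orderOf (e : G) then 0 else
        ((p ^ (Nat.card G).factorization p : ℕ) : ℂ) * χ e) =
        (((c : ℤ) : ℂ) • (indFun L (fun _ => (1 : ℂ)) * fun e : E => χ e)) := by
      funext e
      simp only [Subgroup.orderOf_coe, Pi.smul_apply, Pi.mul_apply, indFun_one_normal]
      by_cases he : p ∣ orderOf e
      · have : e ∉ L := fun h => (hmem e).1 h he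
        simp [he, this]
      · have : e ∈ L := (hmem e).2 he
        simp only [he, if_false, this, if_true, hc, hb, smul_eq_mul]
        push_cast
        ring
    rw [heq]
    exact Cfsg.Agent.Lib.Char.Virtual.isGeneralized_intCast_smul
      (Cfsg.Agent.Lib.Char.Virtual.isGeneralized_of_isCharacter hprod) c

/-- A sum of a class function, grouped along the conjugacy classes. -/
theorem sum_eq_sum_conjClasses [Fintype G] [Fintype (ConjClasses G)] {A : Type*} [CommRing A]
    (f : G → A) (hf : ∀ g h : G, f (h * g * h⁻¹) = f g) :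
    ∑ g : G, f g = ∑ K : ConjClasses G, ((Subgroup.centralizer ({K.out} : Set G)).index : A) * f K.out := by
  classical
  have h1 : ∑ g : G, f g = ∑ K : ConjClasses G, ∑ g ∈ Finset.univ.filter (fun g => ConjClasses.mk g = K), f g :=
    (Finset.sum_fiberwise Finset.univ (fun g : G => ConjClasses.mk g) f).symm
  rw [h1]
  refine Finset.sum_congr rfl fun K _ => ?_
  have hK : ConjClasses.mk K.out = K := Quotient.out_eq K
  have hfil : Finset.univ.filter (fun g => ConjClasses.mk g = K) = Integrality.classFinset K.out := by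
    ext g
    rw [Integrality.mem_classFinset, Finset.mem_filter]
    simp only [Finset.mem_univ, true_and]
    constructor
    · intro h
      rw [← ConjClasses.mk_eq_mk_iff_isConj, hK, h]
    · intro h
      rw [← ConjClasses.mk_eq_mk_iff_isConj, hK] at h
      exact h.symm
  rw [hfil, Finset.sum_congr rfl (g := fun _ => f K.out), Finset.sum_const, Integrality.card_classFinset, nsmul_eq_mul]
  intro g hg
  rw [Integrality.mem_classFinset] at hg
  obtain ⟨h, rfl⟩ := isConj_iff.1 hg
  exact hf _ _

/-- **Defect zero vanishing (S0165).** -/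
theorem character_eq_zero_of_defect_zero {V : Type*} [AddCommGroup V] [Module ℂ V]
    [FiniteDimensional ℂ V] (ρ : Representation ℂ G V) [ρ.IsIrreducible] (p n : ℕ) (hp : p.Prime)
    (hn : p ^ n ∣ Nat.card G) (hn' : ¬ p ^ (n + 1) ∣ Nat.card G)
    (hdeg : p ^ n ∣ Module.finrank ℂ V) (x : G) (hx : p ∣ orderOf x) : ρ.character x = 0 := by
  classical
  cases nonempty_fintype G
  haveI : Fact p.Prime := ⟨hp⟩
  cases nonempty_fintype (ConjClasses G)
  set d := Module.finrank ℂ V with hd
  have hd0 : d ≠ 0 := Integrality.finrank_ne_zero_of_isIrreducible ρ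
  have hdC : (d : ℂ) ≠ 0 := Nat.cast_ne_zero.mpr hd0
  have hGC : (Nat.card G : ℂ) ≠ 0 := Nat.cast_ne_zero.mpr Nat.card_pos.ne'
  have hpnC : ((p ^ n : ℕ) : ℂ) ≠ 0 := Nat.cast_ne_zero.mpr (pow_ne_zero _ hp.ne_zero)
  have hfac : (Nat.card G).factorization p = n := by
    have hG : Nat.card G ≠ 0 := Nat.card_pos.ne'
    have h1 := (hp.pow_dvd_iff_le_factorization hG).1 hn
    have h2 : ¬ n + 1 ≤ (Nat.card G).factorization p := fun h =>
      hn' ((hp.pow_dvd_iff_le_factorization hG).2 h)
    omega
  -- the character on `Fin k → ℂ`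
  have hχ : IsIrrCharacter G ρ.character := isIrrCharacter_of_rep ρ
  obtain ⟨k, ρ', hirr', hk⟩ := id hχ
  have hχc : IsCharacter G ρ.character := isCharacter_of_isIrrCharacter hχ
  set χ := ρ.character with hχdef
  have hconj : ∀ g, starRingEnd ℂ (χ g) = χ g⁻¹ := fun g => (Cfsg.Agent.Lib.Char.Complete.isIrr_inv hχ g).symm
  -- the integer `m`
  have hgen := isGeneralized_pRegular p hχc
  obtain ⟨m, hm⟩ := Cfsg.Agent.Lib.Char.Virtual.exists_int_classInner hgen
    (Cfsg.Agent.Lib.Char.Virtual.isGeneralized_of_isCharacter hχc)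
  rw [hfac] at hm
  -- `N`, the sum over the regular elements of the norm squared
  let F : G → ℂ := fun g => if p ∣ orderOf g then 0 else χ g * starRingEnd ℂ (χ g)
  have hnorm : ∀ g, χ g * starRingEnd ℂ (χ g) = ((‖χ g‖ ^ 2 : ℝ) : ℂ) := by
    intro g
    rw [Complex.mul_conj, Complex.normSq_eq_norm_sq]
  let N : ℝ := ∑ g : G, if p ∣ orderOf g then 0 else ‖χ g‖ ^ 2
  have hFN : ∑ g : G, F g = (N : ℂ) := by
    simp only [F, N, hnorm]
    push_cast
    refine Finset.sum_congr rfl fun g _ => ?_
    split_ifs <;> simp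
  have hmN : ((p ^ n : ℕ) : ℂ) * (N : ℂ) = (Nat.card G : ℂ) * (m : ℂ) := by
    rw [← hm, ← hFN]
    unfold classInner
    rw [← mul_assoc, mul_inv_cancel₀ hGC, one_mul, Finset.mul_sum]
    refine Finset.sum_congr rfl fun g _ => ?_
    simp only [F]
    split_ifs
    · simp
    · ring
  have hNpos : 0 < N := by
    have h1 : (if p ∣ orderOf (1 : G) then 0 else ‖χ 1‖ ^ 2) ≤ N := by
      refine Finset.single_le_sum (f := fun g : G => if p ∣ orderOf g then 0 else ‖χ g‖ ^ 2) ?_ (Finset.mem_univ 1)
      intro g _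
      split_ifs <;> positivity
    have h2 : ¬ p ∣ orderOf (1 : G) := by
      rw [orderOf_one]
      exact hp.one_lt.ne' ∘ Nat.dvd_one.1
    rw [if_neg h2] at h1
    have h3 : χ 1 = d := Representation.char_one ρ
    have h4 : 0 < ‖χ 1‖ ^ 2 := by
      rw [h3]
      have : 0 < d := pos_of_ne_zero hd0
      simp only [Complex.norm_natCast]
      positivity
    linarith
  -- integrality of `N / d`
  have hint : IsIntegral ℤ ((N : ℂ) / (d : ℂ)) := by
    rw [← hFN, sum_eq_sum_conjClasses F, Finset.sum_div]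
    · refine IsIntegral.sum _ fun K _ => ?_
      simp only [F]
      split_ifs
      · simpa using isIntegral_zero
      · have h1 := Integrality.isIntegral_classSize_mul_character_div_finrank ρ K.out
        have h2 : IsIntegral ℤ (starRingEnd ℂ (χ K.out)) := by
          rw [hconj]
          exact Cfsg.Agent.Lib.Char.Values.isIntegral_character ρ _
        have := h1.mul h2
        convert this using 1
        rw [hχdef]
        ring
    · intro g h
      simp only [F]
      have hor : orderOf (h * g * h⁻¹) = orderOf g := by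
        rw [← MulAut.conj_apply, MulEquiv.orderOf_eq]
      simp only [hor, Cfsg.Agent.Lib.Char.CompleteCor.isIrr_classFunction hχ g h]
  -- `p^n ∣ m`
  obtain ⟨c, hc⟩ := hdeg
  obtain ⟨β, hβ⟩ := hn
  have hβp : ¬ p ∣ β := by
    intro h
    apply hn'
    rw [hβ, pow_succ]
    exact Nat.mul_dvd_mul_left _ h
  have hNβ : (N : ℂ) = (β : ℂ) * (m : ℂ) := by
    have h1 : ((p ^ n : ℕ) : ℂ) * (N : ℂ) = ((p ^ n : ℕ) : ℂ) * ((β : ℂ) * (m : ℂ)) := by
      rw [hmN, hβ]
      push_cast
      ring
    exact mul_left_cancel₀ hpnC h1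
  have hmpos : 0 < m := by
    have h1 : (N : ℝ) = (β : ℝ) * (m : ℝ) := by
      have : ((N : ℝ) : ℂ) = (((β : ℝ) * (m : ℝ) : ℝ) : ℂ) := by
        rw [hNβ]
        push_cast
        rfl
      exact_mod_cast this
    by_contra hm0
    have hm1 : (m : ℝ) ≤ 0 := by exact_mod_cast not_lt.1 hm0
    have hβ0 : (0 : ℝ) ≤ β := Nat.cast_nonneg _
    nlinarith
  obtain ⟨m', rfl⟩ : ∃ m' : ℕ, m = m' := ⟨m.toNat, (Int.toNat_of_nonneg hmpos.le).symm⟩
  have hm'pos : 0 < m' := by exact_mod_cast hmpos
  have hdvd : p ^ n ∣ m' := by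
    have h1 : IsIntegral ℤ (((β * m' : ℕ) : ℂ) / ((p ^ n : ℕ) : ℂ)) := by
      have h2 : ((β * m' : ℕ) : ℂ) / ((p ^ n : ℕ) : ℂ) = ((N : ℂ) / (d : ℂ)) * (c : ℂ) := by
        have h3 : (d : ℂ) = ((p ^ n : ℕ) : ℂ) * (c : ℂ) := by rw [← Nat.cast_mul, ← hc]
        have hcC : (c : ℂ) ≠ 0 := by
          intro h
          apply hdC
          rw [h3, h, mul_zero]
        rw [hNβ, h3]
        push_cast
        field_simp
      rw [h2]
      refine hint.mul ?_
      have := isIntegral_algebraMap (R := ℤ) (A := ℂ) (x := (c : ℤ))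
      simpa using this
    have h2 := Integrality.natCast_dvd_of_isIntegral_div (pow_ne_zero n hp.ne_zero) h1
    exact Nat.Coprime.dvd_of_dvd_mul_left (Nat.Coprime.pow_left _ ((Nat.Prime.coprime_iff_not_dvd hp).2 hβp)) h2
  have hle : p ^ n ≤ m' := Nat.le_of_dvd hm'pos hdvd
  have hNge : (Nat.card G : ℝ) ≤ N := by
    have h1 : (N : ℝ) = (β : ℝ) * (m' : ℝ) := by
      have : ((N : ℝ) : ℂ) = (((β : ℝ) * (m' : ℝ) : ℝ) : ℂ) := by
        rw [hNβ]
        push_cast
        rfl
      exact_mod_cast this
    rw [h1, hβ]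
    push_cast
    have h2 : ((p : ℝ) ^ n) ≤ (m' : ℝ) := by exact_mod_cast hle
    have hβ0 : (0 : ℝ) ≤ β := Nat.cast_nonneg _
    nlinarith
  -- the total sum
  have htotal : ∑ g : G, ‖χ g‖ ^ 2 = (Nat.card G : ℝ) := by
    have h1 := Integrality.sum_character_mul_inv ρ'
    rw [hk] at h1
    simp only [← hconj, hnorm] at h1
    exact_mod_cast h1
  by_contra hne
  have hlt : N < ∑ g : G, ‖χ g‖ ^ 2 := by
    refine Finset.sum_lt_sum ?_ ⟨x, Finset.mem_univ x, ?_⟩
    · intro g _
      split_ifs
      · positivity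
      · exact le_rfl
    · rw [if_pos hx]
      have : 0 < ‖χ x‖ := norm_pos_iff.2 hne
      positivity
  rw [htotal] at hlt
  linarith

end Cfsg.Agent.Lib.Char.PRegular
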