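import Mathlib
import Cfsg.Prelude.Def_Characters
import Cfsg.Agent.Lib.Char.Basic
import Cfsg.Agent.Lib.Char.Ortho
import Cfsg.Agent.Lib.Char.Values
import Cfsg.Agent.Lib.Char.Codegree
import Cfsg.Agent.Lib.Char.Integrality

set_option autoImplicit false
open Cfsg

namespace Cfsg.Agent.Lib.Char.BlichfeldtA

section Generic

variable {G : Type*} [Group G] [Fintype G]

open Classical in
/-- A set `T` of non-identity elements whose conjugates inside `T` only come from `N`: the
weighted count of `T` is controlled by the sum over the non-identity elements of `G`. -/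
theorem ti_sum_le (N : Subgroup G) (T : Finset G) (h1 : (1 : G) ∉ T)
    (hTI : ∀ g, ∀ c ∈ T, g * c * g⁻¹ ∈ T → g ∈ N)
    (F : G → ℝ) (hF : ∀ y, 0 ≤ F y) (hcl : ∀ g y, F (g * y * g⁻¹) = F y) :
    (Nat.card G : ℝ) * ∑ c ∈ T, F c ≤ (Nat.card N : ℝ) * (∑ y, F y - F 1) := by
  set s : Finset (G × G) := Finset.univ ×ˢ T with hs
  let φ : G × G → G := fun p => p.1 * p.2 * p.1⁻¹
  have hLHS : ∑ p ∈ s, F (φ p) = (Nat.card G : ℝ) * ∑ c ∈ T, F c := by
    rw [hs, Finset.sum_product]
    simp only [φ, hcl, Finset.sum_const, Finset.card_univ, nsmul_eq_mul]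
    rw [Nat.card_eq_fintype_card]
  have hfib : ∀ y, ((s.filter (fun p => φ p = y)).card : ℕ) ≤ Nat.card N := by
    intro y
    by_cases hne : (s.filter (fun p => φ p = y)).Nonempty
    · obtain ⟨⟨g₀, c₀⟩, h₀⟩ := hne
      simp only [hs, Finset.mem_filter, Finset.mem_product, Finset.mem_univ, true_and, φ] at h₀
      obtain ⟨hc₀, hy⟩ := h₀
      have hcard : Nat.card N = (Finset.univ.filter (fun g : G => g ∈ N)).card := by
        rw [Nat.card_eq_fintype_card, Fintype.card_subtype]
      rw [hcard]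
      refine Finset.card_le_card_of_injOn (fun p => g₀⁻¹ * p.1) ?_ ?_
      · rintro ⟨g, c⟩ hp
        have hp' := Finset.mem_coe.1 hp
        simp only [hs, Finset.mem_filter, Finset.mem_product, Finset.mem_univ, true_and, φ] at hp'
        obtain ⟨hc, hyy⟩ := hp'
        simp only [Finset.coe_filter, Finset.mem_univ, true_and, Set.mem_ofPred_eq]
        apply hTI _ c hc
        have : g₀⁻¹ * g * c * (g₀⁻¹ * g)⁻¹ = c₀ := by
          have h2 : g * c * g⁻¹ = g₀ * c₀ * g₀⁻¹ := by rw [hyy, hy]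
          calc g₀⁻¹ * g * c * (g₀⁻¹ * g)⁻¹ = g₀⁻¹ * (g * c * g⁻¹) * g₀ := by group
            _ = g₀⁻¹ * (g₀ * c₀ * g₀⁻¹) * g₀ := by rw [h2]
            _ = c₀ := by group
        rw [this]
        exact hc₀
      · rintro ⟨g, c⟩ hp ⟨g', c'⟩ hp' he
        have hp1 := Finset.mem_coe.1 hp
        have hp2 := Finset.mem_coe.1 hp'
        simp only [Finset.mem_filter, φ] at hp1 hp2
        have hg : g = g' := mul_left_cancel he
        subst hg
        have : g * c * g⁻¹ = g * c' * g⁻¹ := by rw [hp1.2, hp2.2]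
        have hc : c = c' := by simpa using this
        rw [hc]
    · rw [Finset.not_nonempty_iff_eq_empty] at hne
      rw [hne]
      simp
  have hfib1 : s.filter (fun p => φ p = 1) = ∅ := by
    apply Finset.filter_eq_empty_iff.2
    rintro ⟨g, c⟩ hp hy
    simp only [hs, Finset.mem_product, Finset.mem_univ, true_and] at hp
    simp only [φ] at hy
    have : c = 1 := by
      have h3 : g * c = g := by
        calc g * c = (g * c * g⁻¹) * g := by group
          _ = g := by rw [hy, one_mul]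
      simpa using h3
    exact h1 (this ▸ hp)
  have hRHS : ∑ p ∈ s, F (φ p) = ∑ y, ((s.filter (fun p => φ p = y)).card : ℝ) * F y := by
    rw [← Finset.sum_fiberwise_of_maps_to (s := s) (t := Finset.univ) (g := φ)
      (fun _ _ => Finset.mem_univ _)]
    refine Finset.sum_congr rfl fun y _ => ?_
    rw [Finset.sum_congr rfl (g := fun _ => F y)]
    · simp
    · intro p hp
      rw [(Finset.mem_filter.1 hp).2]
  rw [← hLHS, hRHS, ← Finset.add_sum_erase _ _ (Finset.mem_univ (1 : G)), hfib1]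
  have herase : ∑ y, F y - F 1 = ∑ y ∈ Finset.univ.erase (1 : G), F y := by
    rw [← Finset.add_sum_erase _ _ (Finset.mem_univ (1 : G))]
    ring
  rw [herase, Finset.mul_sum]
  simp only [Finset.card_empty, Nat.cast_zero, zero_mul, zero_add]
  refine Finset.sum_le_sum fun y _ => ?_
  exact mul_le_mul_of_nonneg_right (by exact_mod_cast hfib y) (hF y)

end Generic

section Orbit

variable {H X : Type*} [Group H] [Finite H] [MulAction H X] [Fintype X]

open Classical in
/-- Invariant weights on a set where the group acts with stabilizers of a fixed size on the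
support: the total weight is divisible by the orbit size. -/
theorem orbit_dvd (m : X → ℕ) (hm : ∀ (h : H) x, m (h • x) = m x) (e : ℕ)
    (he : ∀ x, m x ≠ 0 → Nat.card (MulAction.stabilizer H x) * e = Nat.card H) :
    e ∣ ∑ x, m x := by
  have hcard : ∀ x, m x ≠ 0 → (MulAction.orbit H x).ncard = e := by
    intro x hx
    have h1 := MulAction.index_stabilizer H x
    have h2 := Subgroup.card_mul_index (MulAction.stabilizer H x)
    rw [← he x hx] at h2
    have hpos : 0 < Nat.card (MulAction.stabilizer H x) := Nat.card_pos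
    rw [← h1]
    exact Nat.eq_of_mul_eq_mul_left hpos h2
  have hrel : ∀ x y, (MulAction.orbitRel H X).r y x ↔ y ∈ MulAction.orbit H x := by
    intro x y
    exact MulAction.orbitRel_apply
  rw [Finset.sum_partition (MulAction.orbitRel H X)]
  refine Finset.dvd_sum fun ω hω => ?_
  obtain ⟨x, -, rfl⟩ := Finset.mem_image.1 hω
  have hsum : ∀ y ∈ Finset.univ.filter (fun y => (⟦y⟧ : Quotient (MulAction.orbitRel H X)) = ⟦x⟧),
      m y = m x := by
    intro y hy
    have h2 : (MulAction.orbitRel H X).r y x := Quotient.exact (Finset.mem_filter.1 hy).2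
    obtain ⟨h, rfl⟩ := (hrel x y).1 h2
    exact hm h x
  rw [Finset.sum_congr rfl hsum]
  by_cases hx : m x = 0
  · simp [hx]
  · have hfil : (Finset.univ.filter (fun y => (⟦y⟧ : Quotient (MulAction.orbitRel H X)) = ⟦x⟧)).card
        = e := by
      rw [← hcard x hx, ← Set.ncard_coe_finset]
      congr 1
      ext y
      simp only [Finset.coe_filter, Finset.mem_univ, true_and, Set.mem_ofPred_eq]
      rw [Quotient.eq]
      exact hrel x y
    rw [Finset.sum_const, hfil, smul_eq_mul]
    exact dvd_mul_right _ _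

open Classical in
/-- The support of an invariant weight contains a full orbit. -/
theorem orbit_le_support (m : X → ℕ) (hm : ∀ (h : H) x, m (h • x) = m x) (e : ℕ)
    (he : ∀ x, m x ≠ 0 → Nat.card (MulAction.stabilizer H x) * e = Nat.card H)
    (x : X) (hx : m x ≠ 0) : e ≤ (Finset.univ.filter (fun y => m y ≠ 0)).card := by
  have h1 := MulAction.index_stabilizer H x
  have h2 := Subgroup.card_mul_index (MulAction.stabilizer H x)
  rw [← he x hx] at h2
  have hpos : 0 < Nat.card (MulAction.stabilizer H x) := Nat.card_pos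
  have h3 : (MulAction.orbit H x).ncard = e := by
    rw [← h1]
    exact Nat.eq_of_mul_eq_mul_left hpos h2
  rw [← h3, ← Set.ncard_coe_finset]
  apply Set.ncard_le_ncard _ (Finset.finite_toSet _)
  rintro y ⟨h, rfl⟩
  simp only [Finset.coe_filter, Finset.mem_univ, true_and, Set.mem_ofPred_eq]
  show m (h • x) ≠ 0
  rw [hm]
  exact hx

end Orbit

section Numeric

/-- The arithmetic heart. -/
theorem numeric {I : Type*} [Fintype I] (n : I → ℕ) (e x Q A : ℕ) (he : 2 ≤ e) (hdx : e ∣ x)
    (hxe : e ≤ x) (hdQ : e ∣ Q - 1) (hxQ : x ^ 2 + 1 < Q)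
    (ha : e + 1 ≤ ∑ i, n i) (hd : ∑ i, n i + 1 ≤ x ^ 2) (hA : ∑ i, n i ≤ A)
    (hlt : A * Q < e * Q + ∑ i, n i ^ 2) :
    Q = e ^ 2 + e + 1 ∧ ∃ i₀, n i₀ = e + 1 ∧ ∀ i, i ≠ i₀ → n i = 0 := by
  classical
  set a := ∑ i, n i with ha_def
  have hne : (Finset.univ : Finset I).Nonempty := by
    by_contra hcon
    rw [Finset.not_nonempty_iff_eq_empty] at hcon
    rw [ha_def, hcon] at ha
    simp at ha
  obtain ⟨i₀, -, hi₀⟩ := Finset.exists_max_image Finset.univ n hne
  set N := n i₀ with hN
  have hNa : N ≤ a := Finset.single_le_sum (f := n) (fun _ _ => Nat.zero_le _) (Finset.mem_univ i₀)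
  have hB : ∑ i, n i ^ 2 ≤ N * a := by
    rw [ha_def, Finset.mul_sum]
    refine Finset.sum_le_sum fun i _ => ?_
    rw [sq]
    exact Nat.mul_le_mul_right _ (hi₀ i (Finset.mem_univ i))
  -- Q ≥ x² + e + 1
  have hdx2 : e ∣ x ^ 2 := dvd_pow hdx (by norm_num)
  have hQ1 : x ^ 2 + e + 1 ≤ Q := by
    obtain ⟨t, ht⟩ := hdQ
    obtain ⟨s, hs⟩ := hdx2
    have hpos : 0 < e := by omega
    have h1 : e * s < e * t := by
      rw [← hs, ← ht]
      omega
    have h2 : s < t := lt_of_mul_lt_mul_left h1 (Nat.zero_le _)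
    have h3 : e * (s + 1) ≤ e * t := Nat.mul_le_mul_left _ h2
    rw [mul_add, mul_one, ← hs, ← ht] at h3
    omega
  have hxsq : e ^ 2 ≤ x ^ 2 := Nat.pow_le_pow_left hxe 2
  have hQ2 : e ^ 2 + e + 1 ≤ Q := by omega
  have hlt2 : a * Q < e * Q + N * a := by
    have : a * Q ≤ A * Q := Nat.mul_le_mul_right _ hA
    omega
  -- step 1: N ≤ e + 1
  have hNle : N ≤ e + 1 := by
    by_contra hcon
    push Not at hcon
    have hN2 : e + 2 ≤ N := hcon
    have hNQ : N + e + 2 ≤ Q := by omega
    -- write Q = N + r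
    obtain ⟨r, hr⟩ : ∃ r, Q = N + r := ⟨Q - N, by omega⟩
    have hr2 : e + 2 ≤ r := by omega
    have h1 : N * r ≤ a * r := Nat.mul_le_mul_right _ hNa
    have h2 : a * r < e * Q := by
      have : a * Q = a * N + a * r := by rw [hr, mul_add]
      have h3 : N * a = a * N := Nat.mul_comm _ _
      omega
    have aux : ∀ N' r' : ℕ, e + 2 ≤ N' → e + 2 ≤ r' → (e + 2) * (N' + r' - (e + 2)) ≤ N' * r' := by
      intro N' r' h1' h2'
      obtain ⟨u, rfl⟩ : ∃ u, N' = e + 2 + u := ⟨N' - (e + 2), by omega⟩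
      obtain ⟨v, rfl⟩ : ∃ v, r' = e + 2 + v := ⟨r' - (e + 2), by omega⟩
      have : e + 2 + u + (e + 2 + v) - (e + 2) = e + 2 + u + v := by omega
      rw [this]
      nlinarith [Nat.zero_le (u * v)]
    have h3 : (e + 2) * (N + r - (e + 2)) ≤ N * r := aux N r hN2 hr2
    have h4 : 2 * Q < (e + 2) ^ 2 := by
      have h5 : (e + 2) * (Q - (e + 2)) < e * Q := by
        rw [hr]
        exact lt_of_le_of_lt h3 (lt_of_le_of_lt h1 (by rwa [← hr]))
      obtain ⟨w, hw⟩ : ∃ w, Q = e + 2 + w := ⟨Q - (e + 2), by omega⟩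
      rw [hw] at h5 ⊢
      have : e + 2 + w - (e + 2) = w := by omega
      rw [this] at h5
      nlinarith
    by_cases he3 : 3 ≤ e
    · nlinarith
    · have he2 : e = 2 := by omega
      subst he2
      have hQ8 : Q < 8 := by nlinarith
      have hx2 : x ^ 2 + 3 ≤ Q := by omega
      have hx3 : x ^ 2 < 5 := by omega
      have : x ≤ 2 := by nlinarith
      have hxeq : x = 2 := by omega
      subst hxeq
      have : N + 1 ≤ 4 := by
        have : N + 1 ≤ a + 1 := by omega
        omega
      omega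
  -- step 2: a = e + 1
  have haeq : a = e + 1 := by
    by_contra hcon
    have ha2 : e + 2 ≤ a := by omega
    obtain ⟨r, hr⟩ : ∃ r, Q = e + 1 + r := ⟨Q - (e + 1), by omega⟩
    have h1 : N * a ≤ (e + 1) * a := Nat.mul_le_mul_right _ hNle
    have h2 : a * r < e * Q := by
      have : a * Q = a * (e + 1) + a * r := by rw [hr, mul_add]
      have h3 : (e + 1) * a = a * (e + 1) := Nat.mul_comm _ _
      omega
    have h3 : (e + 2) * r ≤ a * r := Nat.mul_le_mul_right _ ha2
    have h4 : (e + 2) * r < e * Q := lt_of_le_of_lt h3 h2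
    rw [hr] at h4 hQ2
    nlinarith
  -- step 3: N = e + 1
  have hQlt : Q < ∑ i, n i ^ 2 := by
    have : a * Q ≤ A * Q := Nat.mul_le_mul_right _ hA
    rw [haeq] at this
    have h2 : (e + 1) * Q = e * Q + Q := by ring
    omega
  have hNeq : N = e + 1 := by
    by_contra hcon
    have hNe : N ≤ e := by omega
    have h1 : ∑ i, n i ^ 2 ≤ e * (e + 1) := by
      calc ∑ i, n i ^ 2 ≤ N * a := hB
        _ ≤ e * (e + 1) := by rw [haeq]; exact Nat.mul_le_mul_right _ hNe
    nlinarith
  -- all the weight is at i₀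
  have hrest : ∀ i, i ≠ i₀ → n i = 0 := by
    intro i hi
    have h1 : n i₀ + ∑ j ∈ Finset.univ.erase i₀, n j = a := by
      rw [ha_def, Finset.add_sum_erase _ _ (Finset.mem_univ i₀)]
    have h2 : ∑ j ∈ Finset.univ.erase i₀, n j = 0 := by
      have : n i₀ = e + 1 := hNeq
      omega
    exact (Finset.sum_eq_zero_iff.1 h2) i (Finset.mem_erase.2 ⟨hi, Finset.mem_univ i⟩)
  refine ⟨?_, i₀, hNeq, hrest⟩
  -- Q < (e+1)² forces Q = e² + e + 1
  have hB2 : ∑ i, n i ^ 2 ≤ (e + 1) ^ 2 := by
    calc ∑ i, n i ^ 2 ≤ N * a := hB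
      _ = (e + 1) ^ 2 := by rw [hNeq, haeq, sq]
  obtain ⟨t, ht⟩ := hdQ
  have hQpos : Q - 1 + 1 = Q := by omega
  have h1 : e * t < e * (e + 2) := by
    rw [← ht]
    have : Q < (e + 1) ^ 2 := lt_of_lt_of_le hQlt hB2
    have h2 : (e + 1) ^ 2 = e * (e + 2) + 1 := by ring
    omega
  have h2 : e * (e + 1) ≤ e * t := by
    rw [← ht]
    have h3 : e * (e + 1) = e ^ 2 + e := by ring
    omega
  have hpos : 0 < e := by omega
  have h3 : t < e + 2 := lt_of_mul_lt_mul_left h1 (Nat.zero_le _)
  have h4 : e + 1 ≤ t := le_of_mul_le_mul_left h2 hpos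
  have h5 : t = e + 1 := by omega
  subst h5
  have h6 : e * (e + 1) = e ^ 2 + e := by ring
  omega

end Numeric

end Cfsg.Agent.Lib.Char.BlichfeldtA
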