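import Mathlib
import Cfsg.Prelude.Def_Characters
import Cfsg.Agent.Lib.Char.Basic
import Cfsg.Agent.Lib.Char.Ortho
import Cfsg.Agent.Lib.Char.Values
import Cfsg.Agent.Lib.Char.Codegree
import Cfsg.Agent.Lib.Char.Integrality
import Cfsg.Agent.Lib.Char.Burnside2
import Cfsg.Agent.Lib.Char.Clifford
import Cfsg.Agent.Lib.Char.BlichfeldtA

set_option autoImplicit false
open Cfsg

namespace Cfsg.Agent.Lib.Char.BlichfeldtB

open Cfsg.Agent.Lib.Char.BlichfeldtA Cfsg.Agent.Lib.Char.Ortho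

section Central

variable {K : Type*} [Group K] [Finite K]

/-- A central element acts on an irreducible character by a scalar of norm one. -/
theorem irr_central_mul {ζ : K → ℂ} (hζ : IsIrrCharacter K ζ) (z : K) (hz : ∀ g, g * z = z * g) :
    ∃ a : ℂ, ‖a‖ = 1 ∧ ∀ c, ζ (z * c) = a * ζ c := by
  obtain ⟨n, ρ, hρ, rfl⟩ := hζ
  obtain ⟨a, ha⟩ := Cfsg.Agent.Lib.Char.Integrality.exists_smul_id_of_commute ρ (ρ z) (fun g => by
    show ρ z * ρ g = ρ g * ρ z
    rw [← map_mul, ← map_mul, hz])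
  have hnt : Nontrivial (Fin n → ℂ) := Cfsg.Agent.Lib.Char.Integrality.nontrivial_of_isIrreducible ρ
  have hk : z ^ (orderOf z) = 1 := pow_orderOf_eq_one z
  have hkpos : 0 < orderOf z := orderOf_pos z
  have h1 : a ^ (orderOf z) = 1 := by
    have h2 : ρ (z ^ orderOf z) = (a ^ orderOf z) • (LinearMap.id : (Fin n → ℂ) →ₗ[ℂ] (Fin n → ℂ)) := by
      rw [map_pow, ha]
      ext v i
      simp [smul_pow, Module.End.one_apply]
    rw [hk, map_one] at h2
    obtain ⟨v, hv⟩ := exists_ne (0 : Fin n → ℂ)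
    have h3 := congrArg (fun T : (Fin n → ℂ) →ₗ[ℂ] (Fin n → ℂ) => T v) h2
    simp only [Module.End.one_apply, LinearMap.smul_apply, LinearMap.id_coe, id_eq] at h3
    have h4 : (a ^ orderOf z - 1) • v = 0 := by
      rw [sub_smul, one_smul, ← h3, sub_self]
    rcases smul_eq_zero.1 h4 with h5 | h5
    · exact sub_eq_zero.1 h5
    · exact absurd h5 hv
  have hnorm : ‖a‖ = 1 := Complex.norm_eq_one_of_pow_eq_one h1 hkpos.ne'
  refine ⟨a, hnorm, fun c => ?_⟩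
  unfold Representation.character
  rw [map_mul, ha]
  have : (a • (LinearMap.id : (Fin n → ℂ) →ₗ[ℂ] (Fin n → ℂ))) * ρ c = a • ρ c := by
    ext v i
    simp [Module.End.mul_apply]
  rw [this, map_smul, smul_eq_mul]

end Central

section Setup

variable {G : Type*} [Group G] [Fintype G]

/-- The local structure used in the Blichfeldt-type bound. -/
structure BSetup (P C D N : Subgroup G) (Q e : ℕ) : Prop where
  hPC : P ≤ C
  hDC : D ≤ C
  hCN : C ≤ N
  central : ∀ u ∈ P, ∀ c ∈ C, u * c = c * u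
  decomp : ∀ c ∈ C, ∃ u ∈ P, ∃ d ∈ D, c = u * d
  disj : ∀ u ∈ P, u ∈ D → u = 1
  hTI : ∀ g, ∀ c ∈ C, c ∉ D → g * c * g⁻¹ ∈ C → g * c * g⁻¹ ∉ D → g ∈ N
  conjP : ∀ g ∈ N, ∀ u ∈ P, g * u * g⁻¹ ∈ P
  conjC : ∀ g ∈ N, ∀ c ∈ C, g * c * g⁻¹ ∈ C
  free : ∀ g ∈ N, ∀ u ∈ P, u ≠ 1 → g * u * g⁻¹ = u → g ∈ C
  cardQ : Nat.card P = Q
  cardN : Nat.card N = e * Nat.card C

/-- A `Fintype` structure on the subgroups, used for the sums below. -/
noncomputable abbrev finH (H : Subgroup G) : Fintype H := Fintype.ofFinite H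

attribute [local instance] finH

variable {P C D N : Subgroup G} {Q e : ℕ}

/-- The parametrisation of `C` by `P × D`. -/
noncomputable def prodEquiv (hS : BSetup P C D N Q e) : ↥P × ↥D ≃ ↥C :=
  Equiv.ofBijective
    (fun p => ⟨(p.1 : G) * (p.2 : G), C.mul_mem (hS.hPC p.1.2) (hS.hDC p.2.2)⟩)
    (by
      constructor
      · rintro ⟨⟨u, hu⟩, ⟨d, hd⟩⟩ ⟨⟨u', hu'⟩, ⟨d', hd'⟩⟩ he
        have he' : u * d = u' * d' := congrArg Subtype.val he
        have h1 : u'⁻¹ * u = d' * d⁻¹ := by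
          calc u'⁻¹ * u = u'⁻¹ * (u * d) * d⁻¹ := by group
            _ = u'⁻¹ * (u' * d') * d⁻¹ := by rw [he']
            _ = d' * d⁻¹ := by group
        have h2 : u'⁻¹ * u = 1 := hS.disj _ (P.mul_mem (P.inv_mem hu') hu)
          (by rw [h1]; exact D.mul_mem hd' (D.inv_mem hd))
        have h3 : u = u' := by
          have := mul_left_cancel (a := u'⁻¹) (b := u) (c := u') (by rw [h2]; simp)
          exact this
        subst h3
        have h4 : d = d' := mul_left_cancel he'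
        subst h4
        rfl
      · rintro ⟨c, hc⟩
        obtain ⟨u, hu, d, hd, rfl⟩ := hS.decomp c hc
        exact ⟨(⟨u, hu⟩, ⟨d, hd⟩), rfl⟩)

theorem prodEquiv_apply (hS : BSetup P C D N Q e) (p : ↥P × ↥D) :
    ((prodEquiv hS p : ↥C) : G) = (p.1 : G) * (p.2 : G) := rfl

theorem cardC (hS : BSetup P C D N Q e) : Nat.card C = Q * Nat.card D := by
  rw [← Nat.card_congr (prodEquiv hS), Nat.card_prod, hS.cardQ]

theorem Q_pos (hS : BSetup P C D N Q e) : 0 < Q := by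
  rw [← hS.cardQ]; exact Nat.card_pos

theorem e_pos (hS : BSetup P C D N Q e) : 0 < e := by
  have h : 0 < Nat.card N := Nat.card_pos
  rw [hS.cardN] at h
  exact Nat.pos_of_mul_pos_right h

/-- The `L²`-mean over a subgroup. -/
noncomputable def S (H : Subgroup G) (f : G → ℂ) : ℝ := (Nat.card H : ℝ)⁻¹ * ∑ h : H, ‖f h‖ ^ 2

/-- The `L²`-mean over the group. -/
noncomputable def Sg (f : G → ℂ) : ℝ := (Nat.card G : ℝ)⁻¹ * ∑ y, ‖f y‖ ^ 2

theorem S_nonneg (H : Subgroup G) (f : G → ℂ) : 0 ≤ S H f := by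
  unfold S
  positivity

open Classical in
theorem sum_subgroup (H : Subgroup G) (F : G → ℝ) :
    ∑ h : H, F h = ∑ y ∈ Finset.univ.filter (fun y => y ∈ H), F y := by
  symm
  exact Finset.sum_subtype (p := fun y => y ∈ H) _ (by simp) F

theorem star (hS : BSetup P C D N Q e) (f : G → ℂ) (hf : IsClassFunction G f) :
    (Q : ℝ) * S C f - S D f ≤ (Q : ℝ) * e * (Sg f - ‖f 1‖ ^ 2 / Nat.card G) := by
  classical
  set F : G → ℝ := fun y => ‖f y‖ ^ 2 with hF
  set T : Finset G := Finset.univ.filter (fun c => c ∈ C ∧ c ∉ D) with hT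
  have h1 : (1 : G) ∉ T := by
    simp [hT, D.one_mem]
  have hTI : ∀ g, ∀ c ∈ T, g * c * g⁻¹ ∈ T → g ∈ N := by
    intro g c hc hc'
    simp only [hT, Finset.mem_filter, Finset.mem_univ, true_and] at hc hc'
    exact hS.hTI g c hc.1 hc.2 hc'.1 hc'.2
  have hmain := ti_sum_le N T h1 hTI F (fun y => by positivity)
    (fun g y => by simp only [hF]; rw [hf y g])
  have hsplit : ∑ c ∈ T, F c = ∑ c : C, F c - ∑ d : D, F d := by
    rw [sum_subgroup, sum_subgroup, eq_sub_iff_add_eq, hT, ← Finset.sum_union]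
    · refine Finset.sum_congr ?_ fun _ _ => rfl
      ext y
      simp only [Finset.mem_union, Finset.mem_filter, Finset.mem_univ, true_and]
      constructor
      · rintro (⟨h, -⟩ | h)
        · exact h
        · exact hS.hDC h
      · intro h
        by_cases hy : y ∈ D
        · exact Or.inr hy
        · exact Or.inl ⟨h, hy⟩
    · rw [Finset.disjoint_filter]
      intro y _ h
      exact h.2
  have hcardG : (0 : ℝ) < Nat.card G := by exact_mod_cast Nat.card_pos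
  have hcardD : (0 : ℝ) < Nat.card D := by exact_mod_cast Nat.card_pos
  have hcardC : (0 : ℝ) < Nat.card C := by exact_mod_cast Nat.card_pos
  have hC : (Nat.card C : ℝ) = Q * Nat.card D := by exact_mod_cast cardC hS
  have hN : (Nat.card N : ℝ) = e * (Q * Nat.card D) := by
    rw [hS.cardN, cardC hS]; push_cast; ring
  have hQ : (0 : ℝ) < Q := by exact_mod_cast Q_pos hS
  have eC : ∑ c : C, F c = (Q * Nat.card D : ℝ) * S C f := by
    simp only [S, ← hC]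
    field_simp
    rfl
  have eD : ∑ d : D, F d = (Nat.card D : ℝ) * S D f := by
    simp only [S]
    field_simp
    rfl
  have eG : ∑ y, F y = (Nat.card G : ℝ) * Sg f := by
    simp only [Sg]
    field_simp
    rfl
  rw [hsplit, eC, eD, eG, hN] at hmain
  have hF1 : F 1 = ‖f 1‖ ^ 2 := rfl
  rw [hF1] at hmain
  have key : (Nat.card G : ℝ) * (Nat.card D : ℝ) * ((Q : ℝ) * S C f - S D f) ≤
      (Nat.card G : ℝ) * (Nat.card D : ℝ) * ((Q : ℝ) * e * (Sg f - ‖f 1‖ ^ 2 / Nat.card G)) := by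
    have : (Nat.card G : ℝ) * ((Q * Nat.card D : ℝ) * S C f - (Nat.card D : ℝ) * S D f) =
        (Nat.card G : ℝ) * (Nat.card D : ℝ) * ((Q : ℝ) * S C f - S D f) := by ring
    rw [this] at hmain
    have h2 : ((e : ℝ) * (Q * Nat.card D)) * ((Nat.card G : ℝ) * Sg f - ‖f 1‖ ^ 2) =
        (Nat.card G : ℝ) * (Nat.card D : ℝ) * ((Q : ℝ) * e * (Sg f - ‖f 1‖ ^ 2 / Nat.card G)) := by
      field_simp
    rw [h2] at hmain
    exact hmain
  exact le_of_mul_le_mul_left key (by positivity)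

theorem star_lt (hS : BSetup P C D N Q e) (f : G → ℂ) (hf : IsClassFunction G f) (h1 : f 1 ≠ 0) :
    (Q : ℝ) * S C f - S D f < (Q : ℝ) * e * Sg f := by
  have h := star hS f hf
  have hQ : (0 : ℝ) < Q := by exact_mod_cast Q_pos hS
  have he : (0 : ℝ) < e := by exact_mod_cast e_pos hS
  have hG : (0 : ℝ) < Nat.card G := by exact_mod_cast Nat.card_pos
  have hn : 0 < ‖f 1‖ := norm_pos_iff.2 h1
  have h3 : 0 < (Q : ℝ) * e * (‖f 1‖ ^ 2 / Nat.card G) := by positivity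
  have h4 : (Q : ℝ) * e * (Sg f - ‖f 1‖ ^ 2 / Nat.card G) =
      (Q : ℝ) * e * Sg f - (Q : ℝ) * e * (‖f 1‖ ^ 2 / Nat.card G) := by ring
  linarith

/-! ### Characters of `C` -/

/-- `P` inside `C`. -/
def inP (hS : BSetup P C D N Q e) (u : ↥P) : ↥C := ⟨u, hS.hPC u.2⟩

/-- `D` inside `C`. -/
def inD (hS : BSetup P C D N Q e) (d : ↥D) : ↥C := ⟨d, hS.hDC d.2⟩

theorem inP_central (hS : BSetup P C D N Q e) (u : ↥P) (g : ↥C) : g * inP hS u = inP hS u * g :=
  Subtype.ext (hS.central u u.2 g g.2).symm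

theorem zeta_mul (hS : BSetup P C D N Q e) {ζ : ↥C → ℂ} (hζ : IsIrrCharacter ↥C ζ) (u : ↥P)
    (c : ↥C) : ζ (inP hS u * c) = (ζ (inP hS u) / ζ 1) * ζ c := by
  obtain ⟨a, -, ha⟩ := irr_central_mul hζ (inP hS u) (inP_central hS u)
  have h1 := ha 1
  rw [mul_one] at h1
  have h2 : ζ 1 ≠ 0 := irr_apply_one_ne_zero hζ
  rw [ha c, h1, mul_div_cancel_right₀ _ h2]

theorem zeta_norm (hS : BSetup P C D N Q e) {ζ : ↥C → ℂ} (hζ : IsIrrCharacter ↥C ζ) (u : ↥P) :
    ‖ζ (inP hS u)‖ = ‖ζ 1‖ := by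
  obtain ⟨a, ha1, ha⟩ := irr_central_mul hζ (inP hS u) (inP_central hS u)
  have h1 := ha 1
  rw [mul_one] at h1
  rw [h1, norm_mul, ha1, one_mul]

theorem inP_mul (hS : BSetup P C D N Q e) (u v : ↥P) : inP hS (u * v) = inP hS u * inP hS v := rfl

theorem res_irr (hS : BSetup P C D N Q e) {ζ : ↥C → ℂ} (hζ : IsIrrCharacter ↥C ζ) :
    IsIrrCharacter ↥D (fun d : ↥D => ζ (inD hS d)) := by
  have hch : IsCharacter ↥D (fun d : ↥D => ζ (inD hS d)) :=
    Cfsg.Agent.Lib.Char.Basic.isCharacter_comp_hom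
      (Cfsg.Agent.Lib.Char.Basic.isCharacter_of_isIrrCharacter hζ) (Subgroup.inclusion hS.hDC)
  apply isIrrCharacter_of_classInner_self_eq_one hch
  have h1 := classInner_irr_self hζ
  rw [classInner_self_eq] at h1
  have h2 : ((Nat.card C : ℝ)⁻¹ * ∑ c : C, ‖ζ c‖ ^ 2) = 1 := by exact_mod_cast h1
  have h3 : ∑ c : C, ‖ζ c‖ ^ 2 = (Q : ℝ) * ∑ d : D, ‖ζ (inD hS d)‖ ^ 2 := by
    rw [← Equiv.sum_comp (prodEquiv hS), Fintype.sum_prod_type]
    have h4 : ∀ (u : ↥P) (d : ↥D), ‖ζ (prodEquiv hS (u, d))‖ ^ 2 = ‖ζ (inD hS d)‖ ^ 2 := by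
      intro u d
      have h5 : prodEquiv hS (u, d) = inP hS u * inD hS d := rfl
      rw [h5, zeta_mul hS hζ, norm_mul, norm_div, zeta_norm hS hζ, div_self, one_mul]
      exact norm_ne_zero_iff.2 (irr_apply_one_ne_zero hζ)
    simp only [h4, Finset.sum_const, Finset.card_univ, nsmul_eq_mul]
    rw [← Nat.card_eq_fintype_card, hS.cardQ]
  rw [h3] at h2
  rw [classInner_self_eq]
  have hC : (Nat.card C : ℝ) = Q * Nat.card D := by exact_mod_cast cardC hS
  have hQ : (0 : ℝ) < Q := by exact_mod_cast Q_pos hS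
  have hD : (0 : ℝ) < Nat.card D := by exact_mod_cast Nat.card_pos
  rw [hC] at h2
  have h6 : ((Nat.card D : ℝ)⁻¹ * ∑ d : D, ‖ζ (inD hS d)‖ ^ 2) = 1 := by
    rw [← h2]
    field_simp
  exact_mod_cast h6

/-- Restriction of irreducible characters from `C` to `D`. -/
noncomputable def resD (hS : BSetup P C D N Q e) (ζ : IrrCharacter ↥C) : IrrCharacter ↥D :=
  ⟨_, res_irr hS ζ.2⟩

section Decomp

variable {K : Type*} [Group K] [Finite K] [Fintype K]

theorem mean_sq_of_decomp (ξ : K → ℂ) (m : IrrCharacter K → ℕ)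
    (hm : ∀ k, ξ k = ∑ ζ : IrrCharacter K, (m ζ : ℂ) * ζ.1 k) :
    (Nat.card K : ℝ)⁻¹ * ∑ k, ‖ξ k‖ ^ 2 = ∑ ζ, ((m ζ : ℝ)) ^ 2 := by
  have hξ : ξ = ∑ χ : IrrCharacter K, (m χ : ℂ) • (χ : K → ℂ) := by
    funext k
    rw [hm k, Finset.sum_apply]
    rfl
  have h1 : ∀ ψ : IrrCharacter K, classInner ξ ψ = m ψ := by
    intro ψ
    rw [hξ]
    exact classInner_sum_irr _ ψ
  have h2 : classInner ξ ξ = ∑ ζ, ((m ζ : ℂ)) ^ 2 := by
    conv_lhs => rw [hξ]
    rw [← hξ]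
    conv_lhs => arg 2; rw [hξ]
    rw [classInner_sum_right]
    refine Finset.sum_congr rfl fun i _ => ?_
    rw [classInner_smul_right, h1]
    simp [sq]
  rw [classInner_self_eq] at h2
  have h3 : (((Nat.card K : ℝ)⁻¹ * ∑ k, ‖ξ k‖ ^ 2 : ℝ) : ℂ) = ((∑ ζ, ((m ζ : ℝ)) ^ 2 : ℝ) : ℂ) := by
    rw [h2]
    push_cast
    rfl
  exact_mod_cast h3

theorem exists_degree (ζ : IrrCharacter K) : ∃ n : ℕ, 0 < n ∧ ζ.1 1 = n := irr_degree_pos ζ.2

end Decomp

/-- The multiplicities of a character of `G` on `C` and on `D`. -/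
structure Mult (hS : BSetup P C D N Q e) (ξ : G → ℂ) (m : IrrCharacter ↥C → ℕ)
    (n : IrrCharacter ↥D → ℕ) : Prop where
  hm : ∀ c : ↥C, ξ c = ∑ ζ : IrrCharacter ↥C, (m ζ : ℂ) * ζ.1 c
  hn : ∀ d : ↥D, ξ d = ∑ δ : IrrCharacter ↥D, (n δ : ℂ) * δ.1 d
  hmn : ∑ ζ, m ζ = ∑ δ, n δ
  hle : ∀ ζ, m ζ ≤ n (resD hS ζ)

theorem exists_mult (hS : BSetup P C D N Q e) {ξ : G → ℂ} (hξ : IsCharacter G ξ) :
    ∃ m n, Mult hS ξ m n := by
  classical
  have hC := Cfsg.Agent.Lib.Char.Basic.isCharacter_restrict hξ C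
  obtain ⟨m, hm⟩ := exists_nat_decomp hC
  have hm' : ∀ c : ↥C, ξ c = ∑ ζ : IrrCharacter ↥C, (m ζ : ℂ) * ζ.1 c := by
    intro c
    have := congrFun hm c
    simp only [Finset.sum_apply, Pi.smul_apply, nsmul_eq_mul] at this
    exact this
  let n : IrrCharacter ↥D → ℕ := fun δ => ∑ ζ ∈ Finset.univ.filter (fun ζ => resD hS ζ = δ), m ζ
  refine ⟨m, n, hm', ?_, ?_, ?_⟩
  · intro d
    have h1 := hm' (inD hS d)
    have h2 : (ξ ((inD hS d : ↥C) : G)) = ξ d := rfl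
    rw [h2] at h1
    rw [h1]
    have h3 : ∀ ζ : IrrCharacter ↥C, (m ζ : ℂ) * ζ.1 (inD hS d) =
        (m ζ : ℂ) * (resD hS ζ).1 d := fun ζ => rfl
    simp only [h3]
    rw [← Finset.sum_fiberwise (s := Finset.univ) (g := fun ζ => resD hS ζ)]
    refine Finset.sum_congr rfl fun δ _ => ?_
    simp only [n]
    push_cast
    rw [Finset.sum_mul]
    refine Finset.sum_congr rfl fun ζ hζ => ?_
    rw [(Finset.mem_filter.1 hζ).2]
  · simp only [n]
    rw [Finset.sum_fiberwise (s := Finset.univ) (g := fun ζ => resD hS ζ)]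
  · intro ζ
    simp only [n]
    exact Finset.single_le_sum (f := m) (fun _ _ => Nat.zero_le _) (by simp)

theorem Mult.S_C {hS : BSetup P C D N Q e} {ξ : G → ℂ} {m n} (h : Mult hS ξ m n) :
    S C ξ = ∑ ζ, ((m ζ : ℝ)) ^ 2 :=
  mean_sq_of_decomp (fun c : ↥C => ξ c) m h.hm

theorem Mult.S_D {hS : BSetup P C D N Q e} {ξ : G → ℂ} {m n} (h : Mult hS ξ m n) :
    S D ξ = ∑ δ, ((n δ : ℝ)) ^ 2 :=
  mean_sq_of_decomp (fun d : ↥D => ξ d) n h.hn

end Setup

end Cfsg.Agent.Lib.Char.BlichfeldtB
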