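import Mathlib
import Cfsg.Prelude.Def_Characters
import Cfsg.Agent.Lib.Char.DegreeDvd

/-!
# The tensor decomposition over an invariant character of a normal subgroup

For a `G`-invariant irreducible representation `Y` of `N ⊴ G` on `W` under the irreducible
representation `ρ` of `G` on `V`, the finite group `Γ = Gam Y` acts on `U = Hom_N(W, V)` and
`V ≅ U ⊗ W` as `Γ`-modules:  `χ (π p) = tr (T_p) * β (p)`.
-/

set_option autoImplicit false
set_option linter.unusedSectionVars false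
set_option linter.style.haveILetI false

namespace Cfsg.Agent.Lib.Char.FongTensor

open Cfsg Module TensorProduct
open Cfsg.Agent.Lib.Char.DegreeDvd

universe u v w

section Tensor

variable {G : Type u} [Group G] {N : Subgroup G} [hN : N.Normal]
  {V : Type v} [AddCommGroup V] [Module ℂ V] [FiniteDimensional ℂ V]
  {W : Type v} [AddCommGroup W] [Module ℂ W] [FiniteDimensional ℂ W]
  (ρ : Representation ℂ G V) (Y : Representation ℂ N W)

/-- Evaluation `U ⊗ W → V`. -/
noncomputable def ev : (Uhom ρ Y) ⊗[ℂ] W →ₗ[ℂ] V :=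
  TensorProduct.lift ((Uhom ρ Y).subtype)

@[simp] theorem ev_tmul (f : Uhom ρ Y) (w : W) : ev ρ Y (f ⊗ₜ[ℂ] w) = (f : W →ₗ[ℂ] V) w := rfl

/-- The semilinear compatibility of evaluation. -/
theorem ev_map (p : Gam Y) (t : (Uhom ρ Y) ⊗[ℂ] W) :
    ev ρ Y (TensorProduct.map (repU ρ Y p) (p.1.2 : W →ₗ[ℂ] W) t) = ρ p.1.1 (ev ρ Y t) := by
  induction t using TensorProduct.induction_on with
  | zero => simp
  | tmul f w =>
      rw [TensorProduct.map_tmul, ev_tmul, ev_tmul]
      exact repU_apply' ρ Y p f w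
  | add a b ha hb => rw [map_add, map_add, map_add, ha, hb, map_add]

/-- Evaluation is surjective. -/
theorem ev_surjective [Finite G] [ρ.IsIrreducible] [Y.IsIrreducible] (hW : 0 < finrank ℂ W)
    (hinv : ∀ (g : G) (n : N), Y.character (cn g n) = Y.character n)
    (hU : 0 < finrank ℂ (Uhom ρ Y)) : Function.Surjective (ev ρ Y) := by
  classical
  let R : Subrepresentation ρ :=
    { toSubmodule := LinearMap.range (ev ρ Y)
      apply_mem_toSubmodule := by
        rintro g _ ⟨t, rfl⟩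
        obtain ⟨T, hT⟩ := exists_T Y hW hinv g
        exact ⟨_, ev_map ρ Y ⟨(g, T), hT⟩ t⟩ }
  have hR : R ≠ ⊥ := by
    intro h
    have h0 : LinearMap.range (ev ρ Y) = ⊥ := congrArg Subrepresentation.toSubmodule h
    have hUnt : Nontrivial (Uhom ρ Y) := Module.nontrivial_of_finrank_pos hU
    obtain ⟨f, hf⟩ := exists_ne (0 : Uhom ρ Y)
    apply hf
    apply Subtype.ext
    ext w
    have h1 : ev ρ Y (f ⊗ₜ[ℂ] w) ∈ LinearMap.range (ev ρ Y) := ⟨_, rfl⟩
    rw [h0, Submodule.mem_bot, ev_tmul] at h1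
    exact h1
  have htop : R = ⊤ := (eq_bot_or_eq_top R).resolve_left hR
  have h2 : LinearMap.range (ev ρ Y) = ⊤ := congrArg Subrepresentation.toSubmodule htop
  exact LinearMap.range_eq_top.1 h2

/-- The character identity `χ (π p) = β (p) * tr (T_p)`. -/
theorem character_piG [Finite G] [ρ.IsIrreducible] [Y.IsIrreducible] (hW : 0 < finrank ℂ W)
    (hinv : ∀ (g : G) (n : N), Y.character (cn g n) = Y.character n)
    (hU : 0 < finrank ℂ (Uhom ρ Y))
    (hdim : finrank ℂ (Uhom ρ Y) * finrank ℂ W = finrank ℂ V) (p : Gam Y) :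
    ρ.character p.1.1 = (repU ρ Y).character p * LinearMap.trace ℂ W (p.1.2 : W →ₗ[ℂ] W) := by
  classical
  have hs := ev_surjective ρ Y hW hinv hU
  have hfr : finrank ℂ ((Uhom ρ Y) ⊗[ℂ] W) = finrank ℂ V := by
    rw [Module.finrank_tensorProduct, hdim]
  have hb : Function.Bijective (ev ρ Y) := by
    refine ⟨?_, hs⟩
    have h3 := LinearMap.injective_iff_surjective_of_finrank_eq_finrank (K := ℂ)
      (V := (Uhom ρ Y) ⊗[ℂ] W) (V₂ := V) hfr (f := ev ρ Y)
    exact h3.2 hs
  let e : (Uhom ρ Y) ⊗[ℂ] W ≃ₗ[ℂ] V := LinearEquiv.ofBijective (ev ρ Y) hb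
  have h1 : (ρ p.1.1 : V →ₗ[ℂ] V) =
      e.conj (TensorProduct.map (repU ρ Y p) (p.1.2 : W →ₗ[ℂ] W)) := by
    ext v
    obtain ⟨t, rfl⟩ := e.surjective v
    rw [LinearEquiv.conj_apply_apply, LinearEquiv.symm_apply_apply]
    exact (ev_map ρ Y p t).symm
  show LinearMap.trace ℂ V (ρ p.1.1) = LinearMap.trace ℂ _ (repU ρ Y p) * _
  rw [h1]
  refine (LinearMap.trace_conj' (R := ℂ) (M := (Uhom ρ Y) ⊗[ℂ] W) (N := V)
    (TensorProduct.map (repU ρ Y p) (p.1.2 : W →ₗ[ℂ] W)) e).trans ?_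
  exact LinearMap.trace_tensorProduct' (R := ℂ) _ _

end Tensor

end Cfsg.Agent.Lib.Char.FongTensor
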