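import Mathlib
import Cfsg.Prelude.Def_Characters
import Cfsg.Agent.Lib.Char.Induced

/-!
# Mackey's formula for the inner product of induced functions

`mackeySum φ θ x = ∑_{h ∈ H} φ h * conj (θ° (x⁻¹ h x))`, which is constant on double cosets of `H`.
The inner product of `Ind φ` with `Ind θ` is `|H|⁻² ∑_x mackeySum φ θ x`.
-/

set_option autoImplicit false

namespace Cfsg.Agent.Lib.Char.Mackey

open Cfsg Cfsg.Agent.Lib.Char.Induced
open scoped ComplexConjugate

universe u

variable {G : Type u} [Group G] (H : Subgroup G)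

/-- The Mackey sum at `x`. -/
noncomputable def mackeySum [Fintype H] (φ θ : H → ℂ) (x : G) : ℂ :=
  ∑ h : H, φ h * conj (extendByZero H θ (x⁻¹ * h * x))

/-- `extendByZero` of a class function of `H` is invariant under conjugation by `H`. -/
theorem extendByZero_conj (θ : H → ℂ) (hθ : IsClassFunction H θ) (h : H) (t : G) :
    extendByZero H θ ((h : G)⁻¹ * t * h) = extendByZero H θ t := by
  by_cases ht : t ∈ H
  · have hmem : (h : G)⁻¹ * t * h ∈ H := H.mul_mem (H.mul_mem (H.inv_mem h.2) ht) h.2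
    rw [extendByZero_of_mem _ _ hmem, extendByZero_of_mem _ _ ht]
    have := hθ ⟨t, ht⟩ h⁻¹
    rw [← this]
    congr 1
    apply Subtype.ext
    simp
  · have hmem : (h : G)⁻¹ * t * h ∉ H := by
      intro hh
      apply ht
      have h3 : t = (h : G) * ((h : G)⁻¹ * t * h) * (h : G)⁻¹ := by group
      rw [h3]
      exact H.mul_mem (H.mul_mem h.2 hh) (H.inv_mem h.2)
    rw [extendByZero_of_notMem _ _ hmem, extendByZero_of_notMem _ _ ht]

/-- The Mackey sum is constant on double cosets. -/
theorem mackeySum_double [Fintype H] (φ θ : H → ℂ) (hφ : IsClassFunction H φ)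
    (hθ : IsClassFunction H θ) (h₁ h₂ : H) (x : G) :
    mackeySum H φ θ ((h₁ : G) * x * h₂) = mackeySum H φ θ x := by
  unfold mackeySum
  refine Eq.trans ?_ (Equiv.sum_comp (⟨fun h => h₁⁻¹ * h * h₁, fun h => h₁ * h * h₁⁻¹,
    fun h => by group, fun h => by group⟩ : H ≃ H) _)
  refine Finset.sum_congr rfl fun h _ => ?_
  have h1 : φ h = φ (h₁⁻¹ * h * h₁) := by
    have := hφ h h₁⁻¹
    simpa using this.symm
  have h2 : ((h₁ : G) * x * h₂)⁻¹ * h * ((h₁ : G) * x * h₂)
      = (h₂ : G)⁻¹ * (x⁻¹ * ((h₁ : G)⁻¹ * h * h₁) * x) * h₂ := by group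
  simp only [Equiv.coe_fn_mk]
  rw [h2, extendByZero_conj H θ hθ, h1]
  simp

/-- The Mackey sum at the identity. -/
theorem mackeySum_one [Fintype H] (φ θ : H → ℂ) :
    mackeySum H φ θ 1 = ∑ h : H, φ h * conj (θ h) := by
  unfold mackeySum
  refine Finset.sum_congr rfl fun h _ => ?_
  simp

/-- The Mackey sum at an element of `H`. -/
theorem mackeySum_of_mem [Fintype H] (φ θ : H → ℂ) (hφ : IsClassFunction H φ)
    (hθ : IsClassFunction H θ) {x : G} (hx : x ∈ H) :
    mackeySum H φ θ x = ∑ h : H, φ h * conj (θ h) := by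
  have := mackeySum_double H φ θ hφ hθ ⟨x, hx⟩ 1 1
  simp only [mul_one, OneMemClass.coe_one] at this
  rw [this, mackeySum_one]

/-- Mackey's formula. -/
theorem classInner_indFun_indFun [Fintype G] [Fintype H] (φ θ : H → ℂ) :
    classInner (indFun H φ) (indFun H θ)
      = (Nat.card H : ℂ)⁻¹ * ((Nat.card H : ℂ)⁻¹ * ∑ x : G, mackeySum H φ θ x) := by
  rw [frobenius_reciprocity H φ _ (indFun_isClassFunction H θ), classInner_def]
  congr 1
  simp only [indFun_apply, map_mul, map_inv₀, Complex.conj_natCast, map_sum, mackeySum,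
    Finset.mul_sum]
  rw [Finset.sum_comm]
  refine Finset.sum_congr rfl fun h _ => ?_
  refine Finset.sum_congr rfl fun x _ => ?_
  ring

/-- Mackey's formula for a group with two double cosets of `H`. -/
theorem classInner_indFun_indFun_two_double [Fintype G] [Fintype H] (φ θ : H → ℂ)
    (hφ : IsClassFunction H φ) (hθ : IsClassFunction H θ) (w : G)
    (hw : ∀ x : G, x ∉ H → ∃ h₁ h₂ : H, x = (h₁ : G) * w * h₂) :
    classInner (indFun H φ) (indFun H θ) = classInner φ θ +
      (Nat.card H : ℂ)⁻¹ * ((Nat.card H : ℂ)⁻¹ *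
        (((Nat.card G : ℂ) - (Nat.card H : ℂ)) * mackeySum H φ θ w)) := by
  classical
  have hH : (Nat.card H : ℂ) ≠ 0 := natCard_ne_zero_complex
  rw [classInner_indFun_indFun]
  have hterm : ∀ x : G, mackeySum H φ θ x = if x ∈ H then ∑ h : H, φ h * conj (θ h)
      else mackeySum H φ θ w := by
    intro x
    split_ifs with hx
    · exact mackeySum_of_mem H φ θ hφ hθ hx
    · obtain ⟨h₁, h₂, rfl⟩ := hw x hx
      exact mackeySum_double H φ θ hφ hθ h₁ h₂ w
  rw [Finset.sum_congr rfl (fun x _ => hterm x)]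
  rw [Finset.sum_ite, Finset.sum_const, Finset.sum_const, nsmul_eq_mul, nsmul_eq_mul]
  have hc : (Finset.univ.filter (fun x : G => x ∈ H)).card = Nat.card H := by
    rw [Nat.card_eq_fintype_card, Fintype.card_subtype]
  have hc2 : ((Finset.univ.filter (fun x : G => ¬ x ∈ H)).card : ℂ) = (Nat.card G : ℂ) - (Nat.card H : ℂ) := by
    have h1 := Finset.card_filter_add_card_filter_not (s := (Finset.univ : Finset G)) (fun x => x ∈ H)
    rw [hc, Finset.card_univ, ← Nat.card_eq_fintype_card] at h1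
    rw [← h1]
    push_cast
    ring
  rw [hc, hc2, classInner_def]
  field_simp

end Cfsg.Agent.Lib.Char.Mackey
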