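import Mathlib
import Cfsg.Agent.Lib.Char.Clifford
import Cfsg.Agent.Lib.Char.Mackey
import Cfsg.Agent.Lib.Char.CliffordCorr

/-!
# Restriction of an induced character to a normal subgroup `M` with `G = M H`

* `indFun_res_of_forall_mul`: `(ϑ^G)_M = (ϑ_{H ∩ M})^M` if `G = M H`.
* `eq_zero_of_irr_eq_add`: an irreducible character is not the sum of two nonzero characters.
* `isIrr_of_comp`: a character that becomes irreducible after composition with a homomorphism is
  irreducible.
* `eq_smul_of_degree`: a character `ψ` with `[ψ,β] β(1) = ψ(1)` is a multiple of `β`.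
-/

set_option autoImplicit false

namespace Cfsg.Agent.Lib.Char.MackeyNormal

open Cfsg Cfsg.Agent.Lib.Char.Basic Cfsg.Agent.Lib.Char.Ortho Cfsg.Agent.Lib.Char.Induced
  Cfsg.Agent.Lib.Char.IndRep Cfsg.Agent.Lib.Char.Clifford Cfsg.Agent.Lib.Char.CliffordCorr
open scoped ComplexConjugate

universe u

section
variable {G : Type u} [Group G]

/-- The size of a fibre of the multiplication map `M × H → G`. -/
theorem card_fiber_mul [DecidableEq G] [Fintype G] (H M : Subgroup G) [Fintype H] [Fintype M]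
    [Fintype (H.subgroupOf M)] {m₀ : G} {h₀ : G} (hm : m₀ ∈ M) (hh : h₀ ∈ H) :
    (Finset.univ.filter (fun p : M × H => (p.1 : G) * p.2 = m₀ * h₀)).card =
      Fintype.card (H.subgroupOf M) := by
  symm
  rw [← Finset.card_univ]
  refine Finset.card_bij
    (fun t _ => (⟨m₀ * ((t : M) : G), M.mul_mem hm (t : M).2⟩,
      ⟨((t : M) : G)⁻¹ * h₀, H.mul_mem (H.inv_mem (Subgroup.mem_subgroupOf.mp t.2)) hh⟩))
    ?_ ?_ ?_
  · intro t _
    simp [mul_assoc]
  · intro t _ t' _ h
    have h1 := congrArg (fun p : M × H => ((p.1 : M) : G)) h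
    simp only [mul_right_inj] at h1
    exact Subtype.ext (Subtype.ext h1)
  · rintro ⟨m, h⟩ hp
    have hp' : (m : G) * h = m₀ * h₀ := by simpa using hp
    have ht : m₀⁻¹ * (m : G) ∈ M := M.mul_mem (M.inv_mem hm) m.2
    have ht2 : m₀⁻¹ * (m : G) ∈ H := by
      have : m₀⁻¹ * (m : G) = h₀ * (h : G)⁻¹ := by
        have h3 : (m : G) = m₀ * h₀ * (h : G)⁻¹ := by rw [← hp']; group
        rw [h3]; group
      rw [this]
      exact H.mul_mem hh (H.inv_mem h.2)
    refine ⟨⟨⟨_, ht⟩, Subgroup.mem_subgroupOf.mpr ht2⟩, Finset.mem_univ _, ?_⟩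
    ext
    · simp
    · simp only
      have h3 : (h : G) = (m : G)⁻¹ * (m₀ * h₀) := by rw [← hp']; group
      rw [h3]
      group

/-- **Mackey formula**, special case: if `G = M H` with `M` normal, the restriction of `ϑ^G` to `M`
is the character induced from the restriction of `ϑ` to `H ∩ M`. -/
theorem indFun_res_of_forall_mul [Fintype G] (H M : Subgroup G) [hM : M.Normal] [Fintype H] [Fintype M]
    (hG : ∀ g : G, ∃ m ∈ M, ∃ h ∈ H, g = m * h) (ϑ : H → ℂ) (hϑ : IsClassFunction H ϑ) (x : M) :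
    indFun H ϑ x = indFun (H.subgroupOf M)
      (fun y => ϑ ⟨((y : M) : G), Subgroup.mem_subgroupOf.mp y.2⟩) x := by
  classical
  letI : Fintype (H.subgroupOf M) := Fintype.ofFinite _
  rw [indFun_apply, indFun_apply]
  set c : G → ℂ := fun g => extendByZero H ϑ (g⁻¹ * x * g) with hc
  have hcH : ∀ (g : G) (h : H), c (g * h) = c g := by
    intro g h
    simp only [hc]
    have h1 : (g * h)⁻¹ * x * (g * h) = (h : G)⁻¹ * (g⁻¹ * x * g) * h := by group
    rw [h1, Cfsg.Agent.Lib.Char.Mackey.extendByZero_conj H ϑ hϑ h]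
  -- double counting
  have h1 : ∑ p : M × H, c ((p.1 : G) * p.2) = (Nat.card H : ℂ) * ∑ m : M, c m := by
    rw [Fintype.sum_prod_type]
    rw [Finset.mul_sum]
    refine Finset.sum_congr rfl (fun m _ => ?_)
    rw [Finset.sum_congr rfl (fun h _ => hcH m h)]
    simp [Nat.card_eq_fintype_card]
  have h2 : ∑ p : M × H, c ((p.1 : G) * p.2) =
      (Nat.card (H.subgroupOf M) : ℂ) * ∑ g : G, c g := by
    rw [← Finset.sum_fiberwise (Finset.univ : Finset (M × H)) (fun p => (p.1 : G) * p.2)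
      (fun p => c ((p.1 : G) * p.2))]
    rw [Finset.mul_sum]
    refine Finset.sum_congr rfl (fun g _ => ?_)
    obtain ⟨m₀, hm, h₀, hh, rfl⟩ := hG g
    rw [Finset.sum_congr rfl (g := fun _ => c (m₀ * h₀))]
    · rw [Finset.sum_const, card_fiber_mul H M hm hh]
      simp [Nat.card_eq_fintype_card]
    · intro p hp
      rw [(Finset.mem_filter.mp hp).2]
  have hH : (Nat.card H : ℂ) ≠ 0 := natCard_ne_zero_complex
  have hHM : (Nat.card (H.subgroupOf M) : ℂ) ≠ 0 := natCard_ne_zero_complex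
  have h3 : ∑ m : M, extendByZero (H.subgroupOf M)
        (fun y => ϑ ⟨((y : M) : G), Subgroup.mem_subgroupOf.mp y.2⟩) (m⁻¹ * x * m) =
      ∑ m : M, c m := by
    refine Finset.sum_congr rfl (fun m _ => ?_)
    simp only [hc]
    by_cases hmem : (m⁻¹ * x * m) ∈ H.subgroupOf M
    · rw [extendByZero_of_mem _ _ hmem]
      have hmem' : (m : G)⁻¹ * x * m ∈ H := by
        simpa using Subgroup.mem_subgroupOf.mp hmem
      rw [extendByZero_of_mem _ _ hmem']
      congr 1
    · rw [extendByZero_of_notMem _ _ hmem]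
      have hmem' : (m : G)⁻¹ * x * m ∉ H := by
        intro h0
        apply hmem
        rw [Subgroup.mem_subgroupOf]
        simpa using h0
      rw [extendByZero_of_notMem _ _ hmem']
  rw [h3]
  field_simp
  have h4 := h1.symm.trans h2
  rw [mul_comm (Nat.card H : ℂ)] at h4
  linear_combination -h4

end

section
variable {K : Type u} [Group K]

/-- An irreducible character is not the sum of two nonzero characters. -/
theorem eq_zero_of_irr_eq_add [Fintype K] {χ a b : K → ℂ} (hχ : IsIrrCharacter K χ)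
    (ha : IsCharacter K a) (hb : IsCharacter K b) (h : χ = a + b) (ha0 : a 1 ≠ 0) : b = 0 := by
  classical
  obtain ⟨ν, hν, hne⟩ := exists_irr_constituent ha ha0
  have hνc := isCharacter_of_isIrrCharacter hν
  obtain ⟨n₁, hn₁⟩ := exists_nat_classInner_of_isCharacter ha hνc
  obtain ⟨n₂, hn₂⟩ := exists_nat_classInner_of_isCharacter hb hνc
  have hχν : classInner χ ν ≠ 0 := by
    rw [h, classInner_add_left, hn₁, hn₂]
    have : n₁ ≠ 0 := by
      rintro rfl
      exact hne (by simpa using hn₁)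
    exact_mod_cast (by omega : n₁ + n₂ ≠ 0)
  have hνχ : ν = χ := by
    by_contra hcon
    exact hχν (classInner_irr_of_ne hχ hν (Ne.symm hcon))
  subst hνχ
  obtain ⟨Ξ, hΞ, hadd⟩ := exists_char_add ha hχ hne
  have h1 := congrFun h 1
  rw [Pi.add_apply, hadd, Pi.add_apply] at h1
  obtain ⟨d₁, hd₁⟩ := exists_degree_of_isCharacter hΞ
  obtain ⟨d₂, hd₂⟩ := exists_degree_of_isCharacter hb
  rw [hd₁, hd₂] at h1
  have h2 : (d₁ : ℂ) + d₂ = 0 := by
    linear_combination -h1
  have h3 : d₁ + d₂ = 0 := by exact_mod_cast h2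
  have h4 : d₂ = 0 := by omega
  apply eq_zero_of_apply_one_eq_zero hb
  rw [hd₂, h4]
  simp

/-- A character that becomes irreducible after composition with a homomorphism is irreducible. -/
theorem isIrr_of_comp [Fintype K] {A : Type*} [Group A] [Fintype A] (f : A →* K) {ψ : K → ℂ}
    (hψ : IsCharacter K ψ) (h : IsIrrCharacter A (fun a => ψ (f a))) : IsIrrCharacter K ψ := by
  classical
  have h1 : ψ 1 ≠ 0 := by
    have := irr_apply_one_ne_zero h
    simpa using this
  obtain ⟨ν, hν, hne⟩ := exists_irr_constituent hψ h1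
  obtain ⟨Ξ, hΞ, hadd⟩ := exists_char_add hψ hν hne
  have h2 : (fun a => ψ (f a)) = (fun a => ν (f a)) + (fun a => Ξ (f a)) := by
    funext a
    rw [hadd]
    rfl
  have hν1 : (fun a => ν (f a)) 1 ≠ 0 := by
    have := irr_apply_one_ne_zero hν
    simpa using this
  have h3 := eq_zero_of_irr_eq_add h (isCharacter_comp_hom (isCharacter_of_isIrrCharacter hν) f)
    (isCharacter_comp_hom hΞ f) h2 hν1
  have h4 : Ξ 1 = 0 := by
    have := congrFun h3 1
    simpa using this
  have h5 := eq_zero_of_apply_one_eq_zero hΞ h4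
  rw [hadd, h5, add_zero]
  exact hν

/-- A character `ψ` with `ψ 1 = [ψ, β] β 1` is a multiple of the irreducible `β`. -/
theorem eq_smul_of_degree [Fintype K] {ψ β : K → ℂ} (hψ : IsCharacter K ψ)
    (hβ : IsIrrCharacter K β) {f : ℕ} (h1 : classInner ψ β = f) (h2 : ψ 1 = f * β 1) :
    ψ = (f : ℂ) • β := by
  classical
  obtain ⟨m, hm⟩ := exists_nat_decomp hψ
  let β₀ : IrrCharacter K := ⟨β, hβ⟩
  have hmβ : (m β₀ : ℂ) = f := by
    have := classInner_sum_irr (G := K) (fun ν => (m ν : ℂ)) β₀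
    rw [← h1, ← this]
    congr 1
    rw [hm]
    exact Finset.sum_congr rfl (fun ν _ => by rw [Nat.cast_smul_eq_nsmul])
  have hmβ' : m β₀ = f := by exact_mod_cast hmβ
  let Ξ : K → ℂ := ∑ ν ∈ Finset.univ.erase β₀, m ν • (ν : K → ℂ)
  have hΞ : IsCharacter K Ξ := by
    refine isCharacter_finset_sum _ (fun ν _ => ?_)
    exact isCharacter_nsmul (isCharacter_of_isIrrCharacter ν.2) _
  have hdec : ψ = (f : ℂ) • β + Ξ := by
    rw [hm, ← Finset.add_sum_erase _ _ (Finset.mem_univ β₀), hmβ', Nat.cast_smul_eq_nsmul]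
  have hΞ1 : Ξ 1 = 0 := by
    have h3 := congrFun hdec 1
    rw [Pi.add_apply, Pi.smul_apply, smul_eq_mul, h2] at h3
    linear_combination -h3
  rw [hdec, eq_zero_of_apply_one_eq_zero hΞ hΞ1, add_zero]

/-- The sum of the squared norms of an irreducible character. -/
theorem sum_norm_sq_eq_card [Fintype K] {χ : K → ℂ} (hχ : IsIrrCharacter K χ) :
    ∑ x : K, ‖χ x‖ ^ 2 = (Nat.card K : ℝ) := by
  have h1 := classInner_irr_self hχ
  rw [classInner_self_eq] at h1
  have h2 : ((Nat.card K : ℝ)⁻¹ * ∑ g : K, ‖χ g‖ ^ 2 : ℝ) = 1 := by exact_mod_cast h1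
  have hK : (Nat.card K : ℝ) ≠ 0 := by
    exact_mod_cast (Nat.card_pos (α := K)).ne'
  field_simp at h2
  linarith

end

end Cfsg.Agent.Lib.Char.MackeyNormal
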