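import Mathlib
import Cfsg.Prelude.Def_Blocks
import Cfsg.Prelude.Def_Solvable
import Cfsg.Agent.Lib.Char.Mackey
import Cfsg.Agent.Lib.Char.MackeyNormal
import Cfsg.Agent.Lib.Char.IndRep
import Cfsg.Agent.Lib.Char.LinearChars
import Cfsg.Agent.Lib.Char.AbelianQuot
import Cfsg.Agent.Lib.Char.GaloisC
import Cfsg.Agent.Lib.Char.QuotRep
import Cfsg.Agent.Lib.Frobenius.Basic

/-!
# Irreducible characters of prime codegree

If `χ` is irreducible with `|G| = p χ(1)`, `p` prime, a subgroup `P` of order `p` is normal and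
self-centralizing (`exists_normal_selfCentralizing`): `χ` is induced from a linear character of `P`,
and Mackey's formula forces `N(P) = G`, `C(P) = P`.

Also: `exists_ne_of_classInner_indFun_self`, the Mackey criterion for linear characters.
-/

set_option autoImplicit false

namespace Cfsg.Agent.Lib.Char.PrimeCod

open Cfsg Cfsg.Agent.Lib.Char.Basic Cfsg.Agent.Lib.Char.Ortho Cfsg.Agent.Lib.Char.Induced
  Cfsg.Agent.Lib.Char.Mackey Cfsg.Agent.Lib.Char.Clifford Cfsg.Agent.Lib.Char.CliffordCorr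
open scoped ComplexConjugate

universe u

variable {G : Type u} [Group G]

/-- A character with the degree of one of its irreducible constituents is that constituent. -/
theorem eq_of_classInner_ne_zero [Fintype G] {ψ β : G → ℂ} (hψ : IsCharacter G ψ)
    (hβ : IsIrrCharacter G β) (h : classInner ψ β ≠ 0) (h1 : ψ 1 = β 1) : ψ = β := by
  classical
  obtain ⟨m, hm⟩ := exists_nat_decomp hψ
  let β₀ : IrrCharacter G := ⟨β, hβ⟩
  have hmβ : (m β₀ : ℂ) = classInner ψ β := by
    have := classInner_sum_irr (G := G) (fun ν => (m ν : ℂ)) β₀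
    rw [← this]
    congr 1
    rw [hm]
    exact Finset.sum_congr rfl (fun ν _ => by rw [Nat.cast_smul_eq_nsmul])
  have hm0 : m β₀ ≠ 0 := by
    intro h0
    rw [h0] at hmβ
    exact h (by simpa using hmβ.symm)
  let Ξ : G → ℂ := ∑ ν ∈ Finset.univ.erase β₀, m ν • (ν : G → ℂ)
  have hΞ : IsCharacter G Ξ := by
    refine isCharacter_finset_sum _ (fun ν _ => ?_)
    exact isCharacter_nsmul (isCharacter_of_isIrrCharacter ν.2) _
  have hdec : ψ = m β₀ • β + Ξ := by
    rw [hm, ← Finset.add_sum_erase _ _ (Finset.mem_univ β₀)]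
  obtain ⟨a, ha, haβ⟩ := irr_degree_pos hβ
  obtain ⟨b, hb⟩ := exists_degree_of_isCharacter hΞ
  have hnat : m β₀ * a + b = a := by
    have h3 := congrFun hdec 1
    rw [h1, Pi.add_apply, Pi.smul_apply, haβ, hb, nsmul_eq_mul] at h3
    exact_mod_cast h3.symm
  have hm1 : m β₀ = 1 := by
    have : m β₀ * a ≤ a := by omega
    have h5 : m β₀ ≤ 1 := by
      by_contra hcon
      have : 2 * a ≤ m β₀ * a := Nat.mul_le_mul_right a (by omega)
      omega
    omega
  have hb0 : b = 0 := by
    rw [hm1] at hnat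
    omega
  have hΞ0 : Ξ = 0 := eq_zero_of_apply_one_eq_zero hΞ (by rw [hb, hb0]; simp)
  rw [hdec, hΞ0, hm1]
  simp

section Mackey

variable (H : Subgroup G)

/-- The elements of `H` whose conjugate under `x⁻¹` stays in `H`. -/
def meetConj (x : G) : Subgroup H where
  carrier := {h | x⁻¹ * (h : G) * x ∈ H}
  mul_mem' := by
    intro a b ha hb
    have : x⁻¹ * ((a * b : H) : G) * x = (x⁻¹ * a * x) * (x⁻¹ * b * x) := by
      push_cast
      group
    simp only [Set.mem_setOf_eq] at ha hb ⊢
    rw [this]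
    exact H.mul_mem ha hb
  one_mem' := by
    simp only [Set.mem_setOf_eq]
    simp
  inv_mem' := by
    intro a ha
    have : x⁻¹ * ((a⁻¹ : H) : G) * x = (x⁻¹ * a * x)⁻¹ := by
      push_cast
      group
    simp only [Set.mem_setOf_eq] at ha ⊢
    rw [this]
    exact H.inv_mem ha

/-- The linear character measuring the difference between `φ` and its `x`-conjugate. -/
noncomputable def mackeyHom (φ : H →* ℂˣ) (x : G) : meetConj H x →* ℂ where
  toFun q := ((φ q.1 : ℂˣ) : ℂ) * ((φ ⟨x⁻¹ * q.1 * x, q.2⟩ : ℂˣ) : ℂ)⁻¹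
  map_one' := by
    have : (⟨x⁻¹ * ((1 : meetConj H x) : H) * x, (1 : meetConj H x).2⟩ : H) = 1 := by
      apply Subtype.ext
      simp
    simp only [this]
    simp
  map_mul' := by
    intro a b
    have : (⟨x⁻¹ * ((a * b : meetConj H x) : H) * x, (a * b : meetConj H x).2⟩ : H)
        = ⟨x⁻¹ * (a : H) * x, a.2⟩ * ⟨x⁻¹ * (b : H) * x, b.2⟩ := by
      apply Subtype.ext
      push_cast
      group
    rw [this]
    simp only [Subgroup.coe_mul, map_mul, Units.val_mul]
    rw [mul_inv]
    ring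

/-- Units in the image of a linear character of a finite group have norm one. -/
theorem norm_hom_eq_one [Finite H] (φ : H →* ℂˣ) (y : H) : ‖((φ y : ℂˣ) : ℂ)‖ = 1 := by
  have h : ((φ y : ℂˣ) : ℂ) ^ Nat.card H = 1 := by
    rw [← Units.val_pow_eq_pow_val, ← map_pow, pow_card_eq_one']
    simp
  exact Complex.norm_eq_one_of_pow_eq_one h Nat.card_pos.ne'

/-- The Mackey sum of a linear character is a sum of a homomorphism. -/
theorem mackeySum_eq_sum_hom [Fintype H] (φ : H →* ℂˣ) (x : G) [Fintype (meetConj H x)] :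
    mackeySum H (fun h => ((φ h : ℂˣ) : ℂ)) (fun h => ((φ h : ℂˣ) : ℂ)) x
      = ∑ q : meetConj H x, mackeyHom H φ x q := by
  classical
  unfold mackeySum
  symm
  refine Fintype.sum_of_injective (fun q : meetConj H x => (q : H)) Subtype.val_injective _ _ ?_ ?_
  · intro h hh
    have h1 : x⁻¹ * (h : G) * x ∉ H := fun hmem => hh ⟨⟨h, hmem⟩, rfl⟩
    rw [extendByZero_of_notMem H _ h1]
    simp
  · intro q
    have h1 : x⁻¹ * ((q : H) : G) * x ∈ H := q.2
    rw [extendByZero_of_mem H _ h1]
    show ((φ q.1 : ℂˣ) : ℂ) * ((φ ⟨x⁻¹ * q.1 * x, q.2⟩ : ℂˣ) : ℂ)⁻¹ = _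
    congr 1
    rw [Complex.inv_eq_conj (norm_hom_eq_one H φ _)]

/-- **Mackey's criterion** for linear characters, in the direction we use. -/
theorem exists_ne_of_classInner_indFun_self [Fintype G] [Fintype H] (φ : H →* ℂˣ)
    (hirr : classInner (indFun H (fun h => ((φ h : ℂˣ) : ℂ)))
      (indFun H (fun h => ((φ h : ℂˣ) : ℂ))) = 1) {x : G} (hx : x ∉ H) :
    ∃ h : H, ∃ hm : x⁻¹ * (h : G) * x ∈ H, φ h ≠ φ ⟨x⁻¹ * (h : G) * x, hm⟩ := by
  classical
  by_contra hcon
  push Not at hcon
  set ψ : H → ℂ := fun h => ((φ h : ℂˣ) : ℂ) with hψ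
  have hHc : (Nat.card H : ℂ) ≠ 0 := natCard_ne_zero_complex
  rw [classInner_indFun_indFun] at hirr
  have hsum : ∑ y : G, mackeySum H ψ ψ y = (Nat.card H : ℂ) * (Nat.card H : ℂ) := by
    field_simp at hirr
    linear_combination hirr
  -- each term is `0` or a positive natural number
  have hterm : ∀ y : G, 0 ≤ (mackeySum H ψ ψ y).re := by
    intro y
    rw [hψ, mackeySum_eq_sum_hom]
    by_cases hf : mackeyHom H φ y = 1
    · simp only [hf, MonoidHom.one_apply, Finset.sum_const, nsmul_eq_mul, mul_one,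
        Complex.natCast_re]
      positivity
    · rw [sum_hom_units_eq_zero _ hf]
      simp
  have hmem : ∀ y ∈ H, (mackeySum H ψ ψ y).re = (Nat.card H : ℝ) := by
    intro y hy
    have hcl : IsClassFunction H ψ := by
      intro a b
      simp [hψ, mul_comm]
    rw [mackeySum_of_mem H ψ ψ hcl hcl hy]
    have h1 : ∀ h : H, ψ h * conj (ψ h) = 1 := by
      intro h
      rw [Complex.mul_conj', hψ]
      simp only
      rw [norm_hom_eq_one H φ h]
      simp
    simp only [h1, Finset.sum_const, nsmul_eq_mul, mul_one, Finset.card_univ,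
      Nat.card_eq_fintype_card, Complex.natCast_re]
  have hx1 : 1 ≤ (mackeySum H ψ ψ x).re := by
    rw [hψ, mackeySum_eq_sum_hom]
    have hf : mackeyHom H φ x = 1 := by
      ext q
      show ((φ q.1 : ℂˣ) : ℂ) * ((φ ⟨x⁻¹ * q.1 * x, q.2⟩ : ℂˣ) : ℂ)⁻¹ = 1
      rw [← hcon q.1 q.2]
      simp
    simp only [hf, MonoidHom.one_apply, Finset.sum_const, nsmul_eq_mul, mul_one,
        Complex.natCast_re]
    have : 0 < Fintype.card (meetConj H x) := Fintype.card_pos
    simp only [Finset.card_univ]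
    exact_mod_cast this
  have hre : ∑ y : G, (mackeySum H ψ ψ y).re = (Nat.card H : ℝ) * (Nat.card H : ℝ) := by
    rw [← Complex.re_sum, hsum]
    simp [← Complex.ofReal_natCast, ← Complex.ofReal_mul, -Complex.ofReal_natCast]
  have hsplit := Finset.sum_filter_add_sum_filter_not (Finset.univ : Finset G) (fun y => y ∈ H)
    (fun y => (mackeySum H ψ ψ y).re)
  have h1 : ∑ y ∈ Finset.univ.filter (fun y => y ∈ H), (mackeySum H ψ ψ y).re
      = (Nat.card H : ℝ) * (Nat.card H : ℝ) := by
    rw [Finset.sum_congr rfl (fun y hy => hmem y (Finset.mem_filter.mp hy).2)]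
    have hc : (Finset.univ.filter (fun y : G => y ∈ H)).card = Nat.card H := by
      rw [Nat.card_eq_fintype_card, Fintype.card_subtype]
    rw [Finset.sum_const, hc, nsmul_eq_mul]
  have h2 : 1 ≤ ∑ y ∈ Finset.univ.filter (fun y => ¬ y ∈ H), (mackeySum H ψ ψ y).re :=
    hx1.trans (Finset.single_le_sum (f := fun y => (mackeySum H ψ ψ y).re)
      (fun y _ => hterm y) (Finset.mem_filter.mpr ⟨Finset.mem_univ x, hx⟩))
  rw [h1, hre] at hsplit
  linarith

end Mackey

section Structure

/-- A subgroup of prime order is generated by each of its nontrivial elements. -/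
theorem exists_zpow_of_card_prime {P : Subgroup G} {p : ℕ} (hp : p.Prime) (hP : Nat.card P = p)
    {h u : G} (hh : h ∈ P) (hu : u ∈ P) (h1 : h ≠ 1) : ∃ k : ℤ, u = h ^ k := by
  haveI := Fact.mk hp
  haveI : Finite P := Nat.finite_of_card_ne_zero (by rw [hP]; exact hp.ne_zero)
  haveI := Fintype.ofFinite P
  have hmem : (⟨u, hu⟩ : P) ∈ Subgroup.zpowers (⟨h, hh⟩ : P) :=
    mem_zpowers_of_prime_card (p := p) hP (by simpa [Subtype.ext_iff] using h1)
  obtain ⟨k, hk⟩ := Subgroup.mem_zpowers_iff.mp hmem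
  refine ⟨k, ?_⟩
  have := congrArg Subtype.val hk
  simpa using this.symm

/-- If `χ` is irreducible and `|G| = p χ(1)`, `p` a prime, then a subgroup of order `p` is normal
and self-centralizing. -/
theorem exists_normal_selfCentralizing [Finite G] {χ : G → ℂ} (hχ : IsIrrCharacter G χ) {p d : ℕ}
    (hp : p.Prime) (hd : χ 1 = d) (hcard : Nat.card G = p * d) :
    ∃ P : Subgroup G, Nat.card P = p ∧ P.Normal ∧ ∀ g : G, (∀ u ∈ P, g * u = u * g) → g ∈ P := by
  classical
  haveI := Fintype.ofFinite G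
  haveI := Fact.mk hp
  obtain ⟨P, hP⟩ : ∃ P : Subgroup G, Nat.card P = p := by
    have := Sylow.exists_subgroup_card_pow_prime (G := G) p (n := 1)
      (by rw [pow_one, hcard]; exact dvd_mul_right p d)
    simpa using this
  haveI : Fintype P := Fintype.ofFinite _
  have hcyc : IsCyclic P := isCyclic_of_prime_card hP
  have hindex : P.index = d := by
    have := Subgroup.card_mul_index P
    rw [hP, hcard] at this
    exact Nat.eq_of_mul_eq_mul_left hp.pos this
  have hd0 : d ≠ 0 := by
    rintro rfl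
    simp at hcard
  have hcomm : ∀ a b : P, a * b = b * a := fun a b => hcyc.commutative.is_comm.comm a b
  have hres : IsCharacter P (fun h : P => χ h) :=
    isCharacter_restrict (isCharacter_of_isIrrCharacter hχ) P
  have hres1 : (fun h : P => χ h) 1 ≠ 0 := by
    simp only [OneMemClass.coe_one, hd]
    exact_mod_cast hd0
  obtain ⟨ν, hν, hne⟩ := exists_irr_constituent hres hres1
  have hν1 : ν 1 = 1 := by
    obtain ⟨n, ρ, hρ, rfl⟩ := hν
    haveI := hρ
    have := Cfsg.Agent.Lib.Char.AbelianQuot.finrank_eq_one_of_commuting ρ (by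
      intro x y
      rw [← Module.End.mul_eq_comp, ← Module.End.mul_eq_comp, ← map_mul, ← map_mul, hcomm])
    rw [Representation.char_one, this]
    simp
  obtain ⟨φ, rfl⟩ := Cfsg.Agent.Lib.Char.LinearChars.exists_hom_of_isCharacter_one
    (isCharacter_of_isIrrCharacter hν) hν1
  have hind := Cfsg.Agent.Lib.Char.IndRep.isCharacter_indFun P (isCharacter_of_isIrrCharacter hν)
  have hinner : classInner (indFun P (fun g => ((φ g : ℂˣ) : ℂ))) χ ≠ 0 := by
    rw [frobenius_reciprocity P _ χ
      (isClassFunction_of_isCharacter (isCharacter_of_isIrrCharacter hχ))]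
    intro h0
    apply hne
    rw [← classInner_conj_symm, h0]
    simp
  have hdeg : indFun P (fun g => ((φ g : ℂˣ) : ℂ)) 1 = χ 1 := by
    rw [indFun_one, hindex, hd]
    simp
  have heq := eq_of_classInner_ne_zero hind hχ hinner hdeg
  have hirr : classInner (indFun P (fun g => ((φ g : ℂˣ) : ℂ)))
      (indFun P (fun g => ((φ g : ℂˣ) : ℂ))) = 1 := by
    rw [heq]
    exact classInner_irr_self hχ
  have key := fun (x : G) (hx : x ∉ P) => exists_ne_of_classInner_indFun_self P φ hirr hx
  refine ⟨P, hP, ⟨fun u hu g => ?_⟩, fun g hg => ?_⟩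
  · by_cases hgP : g⁻¹ ∈ P
    · have hg' : g ∈ P := by simpa using P.inv_mem hgP
      exact P.mul_mem (P.mul_mem hg' hu) hgP
    · obtain ⟨h, hm, hn⟩ := key _ hgP
      have h1 : (h : G) ≠ 1 := by
        intro h0
        apply hn
        congr 1
        apply Subtype.ext
        simp [h0]
      obtain ⟨k, rfl⟩ := exists_zpow_of_card_prime hp hP h.2 hu h1
      have : g * (h : G) ^ k * g⁻¹ = ((g⁻¹)⁻¹ * h * g⁻¹) ^ k := by
        simp only [inv_inv]
        exact (conj_zpow).symm
      rw [this]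
      exact P.zpow_mem hm k
  · by_contra hgP
    obtain ⟨h, hm, hn⟩ := key g hgP
    apply hn
    congr 1
    apply Subtype.ext
    show (h : G) = g⁻¹ * h * g
    rw [mul_assoc, ← hg h h.2]
    group

/-- A complement of a normal self-centralizing subgroup of prime order is a Frobenius
complement as soon as it is proper and nontrivial. -/
theorem isFrobeniusComplement_of_isComplement {P H : Subgroup G} {p : ℕ} (hp : p.Prime)
    (hP : Nat.card P = p) (hPn : P.Normal) (hC : ∀ g : G, (∀ u ∈ P, g * u = u * g) → g ∈ P)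
    (hc : Subgroup.IsComplement' P H) (hb : H ≠ ⊥) (ht : H ≠ ⊤) : IsFrobeniusComplement H := by
  refine ⟨hb, ht, fun g hg => ?_⟩
  rw [eq_bot_iff]
  rintro x ⟨hxH, hxg⟩
  have hxg : g⁻¹ * x * g ∈ H := (Cfsg.Agent.Lib.Frobenius.Basic.mem_conj_smul_iff H g x).mp hxg
  have hdisj : ∀ y : G, y ∈ P → y ∈ H → y = 1 := fun y h1 h2 => by
    have : y ∈ P ⊓ H := ⟨h1, h2⟩
    rw [hc.disjoint.eq_bot] at this
    simpa using this
  obtain ⟨⟨⟨u, hu⟩, ⟨h₀, hh₀⟩⟩, hug, -⟩ := hc.existsUnique g
  simp only at hug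
  subst hug
  have hu1 : u ≠ 1 := by
    rintro rfl
    apply hg
    simpa using hh₀
  have h1 : u⁻¹ * x * u ∈ H := by
    have h2 : h₀ * ((u * h₀)⁻¹ * x * (u * h₀)) * h₀⁻¹ = u⁻¹ * x * u := by group
    rw [← h2]
    exact H.mul_mem (H.mul_mem hh₀ hxg) (H.inv_mem hh₀)
  have h3 : u⁻¹ * x * u * x⁻¹ = 1 := by
    apply hdisj
    · have : u⁻¹ * x * u * x⁻¹ = u⁻¹ * (x * u * x⁻¹) := by group
      rw [this]
      exact P.mul_mem (P.inv_mem hu) (hPn.conj_mem u hu x)
    · exact H.mul_mem h1 (H.inv_mem hxH)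
  have h4 : x * u = u * x := by
    have : u⁻¹ * x * u = x := by
      rwa [mul_inv_eq_one] at h3
    calc x * u = u * (u⁻¹ * x * u) := by group
      _ = u * x := by rw [this]
  have h5 : x ∈ P := by
    apply hC
    intro v hv
    obtain ⟨k, rfl⟩ := exists_zpow_of_card_prime hp hP hu hv hu1
    exact ((Commute.zpow_right h4 k) : Commute x (u ^ k))
  exact hdisj x h5 hxH

/-- If `χ` is irreducible with `|G| = p χ(1)`, then `G` has prime order or is a Frobenius group with
kernel of order `p`. -/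
theorem cyclic_or_frobenius [Finite G] {χ : G → ℂ} (hχ : IsIrrCharacter G χ) {p d : ℕ}
    (hp : p.Prime) (hd : χ 1 = d) (hcard : Nat.card G = p * d) :
    (IsCyclic G ∧ Nat.card G = p) ∨ ∃ H : Subgroup G, IsFrobeniusComplement H ∧ H.index = p := by
  classical
  haveI := Fintype.ofFinite G
  by_cases hd1 : d = 1
  · subst hd1
    rw [mul_one] at hcard
    left
    haveI := Fact.mk hp
    exact ⟨isCyclic_of_prime_card hcard, hcard⟩
  right
  have hd0 : d ≠ 0 := by
    rintro rfl
    simp at hcard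
  obtain ⟨P, hP, hPn, hC⟩ := exists_normal_selfCentralizing hχ hp hd hcard
  have hindex : P.index = d := by
    have := Subgroup.card_mul_index P
    rw [hP, hcard] at this
    exact Nat.eq_of_mul_eq_mul_left hp.pos this
  -- the degree is below `p`
  have hle : d * d ≤ p * d := by
    have h1 := Cfsg.Agent.Lib.Char.GaloisC.sum_norm_sq_of_isIrr hχ
    have h2 : ‖χ 1‖ ^ 2 ≤ ∑ g : G, ‖χ g‖ ^ 2 :=
      Finset.single_le_sum (f := fun g => ‖χ g‖ ^ 2) (fun _ _ => by positivity) (Finset.mem_univ 1)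
    rw [h1, hd, hcard] at h2
    simp only [Complex.norm_natCast] at h2
    have : ((d * d : ℕ) : ℝ) ≤ ((p * d : ℕ) : ℝ) := by
      push_cast at h2 ⊢
      nlinarith
    exact_mod_cast this
  have hlt : d < p := by
    have h1 : d ≤ p := Nat.le_of_mul_le_mul_right hle (Nat.pos_of_ne_zero hd0)
    refine lt_of_le_of_ne h1 fun hdp => ?_
    subst hdp
    have hcomm : ∀ a b : G, a * b = b * a := by
      haveI := Fact.mk hp
      exact IsPGroup.commutative_of_card_eq_prime_sq (p := d) (by rw [hcard, sq])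
    have h2 : P = ⊤ := by
      rw [eq_top_iff]
      intro g _
      exact hC g fun u _ => hcomm g u
    rw [h2, Subgroup.card_top, hcard] at hP
    have := hp.two_le
    nlinarith
  have hcop : Nat.Coprime (Nat.card P) P.index := by
    rw [hP, hindex]
    exact (Nat.Prime.coprime_iff_not_dvd hp).2 (Nat.not_dvd_of_pos_of_lt (Nat.pos_of_ne_zero hd0) hlt)
  obtain ⟨H, hH⟩ := Subgroup.exists_right_complement'_of_coprime hcop
  have hcardH : Nat.card H = d := by
    rw [← hindex, hH.symm.index_eq_card]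
  have hindexH : H.index = p := by
    rw [← hP, hH.index_eq_card]
  refine ⟨H, isFrobeniusComplement_of_isComplement hp hP hPn hC hH ?_ ?_, hindexH⟩
  · rintro rfl
    rw [Subgroup.card_bot] at hcardH
    exact hd1 hcardH.symm
  · rintro rfl
    rw [Subgroup.index_top] at hindexH
    exact hp.one_lt.ne hindexH

/-- If `χ` is irreducible with `|G| = p χ(1)` and `G` is nontrivial, then `G` is not perfect. -/
theorem commutator_ne_top_of_card_eq [Finite G] {χ : G → ℂ} (hχ : IsIrrCharacter G χ) {p d : ℕ}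
    (hp : p.Prime) (hd : χ 1 = d) (hcard : Nat.card G = p * d) : commutator G ≠ ⊤ := by
  classical
  by_cases hd1 : d = 1
  · subst hd1
    rw [mul_one] at hcard
    haveI := Fact.mk hp
    have hcyc : IsCyclic G := isCyclic_of_prime_card hcard
    have hnt : Nontrivial G := by
      rw [← Finite.one_lt_card_iff_nontrivial, hcard]
      exact hp.one_lt
    intro h
    have h2 : commutator G = ⊥ := by
      rw [commutator_eq_bot_iff_center_eq_top]
      rw [eq_top_iff]
      intro g _
      rw [Subgroup.mem_center_iff]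
      exact fun u => hcyc.isMulCommutative.is_comm.comm u g
    rw [h2] at h
    exact bot_ne_top h
  have hd0 : d ≠ 0 := by
    rintro rfl
    rw [mul_zero] at hcard
    exact Nat.card_pos.ne' hcard
  obtain ⟨P, hP, hPn, hC⟩ := exists_normal_selfCentralizing hχ hp hd hcard
  intro htop
  have hPtop : P = ⊤ := by
    rw [eq_top_iff, ← htop]
    unfold commutator
    rw [Subgroup.commutator_le]
    intro x _ y _
    have hcyc : IsCyclic P := by
      haveI := Fact.mk hp
      exact isCyclic_of_prime_card hP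
    have hcomm : ∀ a b : MulAut P, a * b = b * a := by
      intro a b
      apply (hcyc.mulAutMulEquiv P).injective
      rw [map_mul, map_mul, mul_comm]
    haveI := hPn
    have hf : MulAut.conjNormal (H := P) (x * y * x⁻¹ * y⁻¹) = 1 := by
      rw [map_mul, map_mul, map_mul, map_inv, map_inv, hcomm (MulAut.conjNormal x)]
      simp
    show x * y * x⁻¹ * y⁻¹ ∈ P
    apply hC
    intro u hu
    have h2 := congrArg (fun e : MulAut P => ((e ⟨u, hu⟩ : P) : G)) hf
    simp only [MulAut.conjNormal_apply, MulAut.one_apply] at h2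
    rwa [mul_inv_eq_iff_eq_mul] at h2
  rw [hPtop, Subgroup.card_top, hcard] at hP
  have h1 : p * d = p * 1 := by omega
  exact hd1 (Nat.eq_of_mul_eq_mul_left hp.pos h1)

/-- A perfect group has no irreducible character of prime codegree. -/
theorem not_prime_codegree_of_perfect [Finite G] (h : commutator G = ⊤) {χ : G → ℂ}
    (hχ : IsIrrCharacter G χ) :
    ¬ (Nat.card G / (Nat.card {g : G // χ g = χ 1} * charDegree χ)).Prime := by
  intro hp
  have hdvd := Cfsg.Agent.Lib.Char.Codegree.card_ker_mul_degree_dvd hχ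
  have hmul := Nat.mul_div_cancel' hdvd
  set p := Nat.card G / (Nat.card {g : G // χ g = χ 1} * charDegree χ) with hpdef
  obtain ⟨n, ρ, hρ, rfl⟩ := hχ
  haveI := hρ
  have hdeg : charDegree ρ.character = n := by
    refine Cfsg.Agent.Lib.Char.Values.IsCharacter.charDegree_eq ⟨n, ρ, rfl⟩ ?_
    rw [Representation.char_one]
    simp
  rw [Cfsg.Agent.Lib.Char.Codegree.natCard_ker_eq, hdeg] at hmul
  let K := Cfsg.Agent.Lib.Char.Codegree.repKer ρ
  haveI : K.Normal := Cfsg.Agent.Lib.Char.Codegree.repKer_normal ρ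
  have hKtriv : ∀ g ∈ K, ρ g = 1 := fun g hg => (Cfsg.Agent.Lib.Char.Codegree.mem_repKer ρ g).mp hg
  have hirr : (Cfsg.Agent.Lib.Char.QuotRep.quotRep ρ K hKtriv).IsIrreducible :=
    Cfsg.Agent.Lib.Char.QuotRep.quotRep_isIrreducible ρ K hKtriv
  have hcard : Nat.card (G ⧸ K) = p * n := by
    have h1 := Subgroup.card_mul_index K
    have hK : 0 < Nat.card K := Nat.card_pos
    have h2 : Nat.card K * K.index = Nat.card K * (p * n) := by
      rw [h1, ← hmul]
      show _ * n * p = _
      ring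
    have h3 := Nat.eq_of_mul_eq_mul_left hK h2
    rw [← Subgroup.index_eq_card, h3]
  refine commutator_ne_top_of_card_eq (G := G ⧸ K) (χ := (Cfsg.Agent.Lib.Char.QuotRep.quotRep ρ K hKtriv).character)
    ⟨n, _, hirr, rfl⟩ hp (d := n) ?_ hcard ?_
  · rw [Representation.char_one]
    simp
  · have h1 := Subgroup.map_commutator (⊤ : Subgroup G) ⊤ (QuotientGroup.mk' K)
    have h2 : (⊤ : Subgroup G).map (QuotientGroup.mk' K) = ⊤ :=
      Subgroup.map_top_of_surjective _ (QuotientGroup.mk'_surjective K)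
    rw [h2] at h1
    unfold commutator at h ⊢
    rw [← h1, h, h2]

/-- A non-perfect group has an irreducible character of prime codegree. -/
theorem exists_prime_codegree_of_ne_top [Finite G] (h : commutator G ≠ ⊤) :
    ∃ χ : IrrCharacter G,
      (Nat.card G / (Nat.card {g : G // (χ : G → ℂ) g = (χ : G → ℂ) 1} * charDegree (χ : G → ℂ))).Prime := by
  classical
  have h1 : 1 < Nat.card (G →* ℂˣ) := by
    rw [← Nat.card_congr Cfsg.Agent.Lib.Char.LinearChars.linearEquivHom,
      Cfsg.Agent.Lib.Char.LinearChars.card_linear_chars]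
    have h2 : (commutator G).index ≠ 1 := by
      rwa [Ne, Subgroup.index_eq_one]
    have h3 : (commutator G).index ≠ 0 := Subgroup.index_ne_zero_of_finite
    omega
  have hfin : Finite (G →* ℂˣ) := by
    apply Nat.finite_of_card_ne_zero
    omega
  have hnt : Nontrivial (G →* ℂˣ) := Finite.one_lt_card_iff_nontrivial.mp h1
  obtain ⟨φ₀, hφ₀⟩ := exists_ne (1 : G →* ℂˣ)
  have hord : orderOf φ₀ ≠ 1 := by
    rwa [Ne, orderOf_eq_one_iff]
  obtain ⟨p, hp, hpd⟩ := Nat.exists_prime_and_dvd hord
  haveI := Fact.mk hp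
  let φ := φ₀ ^ (orderOf φ₀ / p)
  have hφord : orderOf φ = p := orderOf_pow_orderOf_div (orderOf_pos φ₀).ne' hpd
  have hφp : φ ^ p = 1 := by
    rw [← hφord, pow_orderOf_eq_one]
  have hφ1 : φ ≠ 1 := by
    intro h0
    rw [h0, orderOf_one] at hφord
    exact hp.one_lt.ne hφord
  -- the range has order `p`
  haveI : Finite φ.range := Finite.of_surjective φ.rangeRestrict φ.rangeRestrict_surjective
  have hcyc : IsCyclic φ.range :=
    isCyclic_of_subgroup_isDomain ((Units.coeHom ℂ).comp φ.range.subtype)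
      (Units.val_injective.comp Subtype.val_injective)
  obtain ⟨⟨z, g₀, rfl⟩, hz⟩ := hcyc.exists_generator
  have hz1 : φ g₀ ≠ 1 := by
    intro h0
    apply hφ1
    ext g
    obtain ⟨k, hk⟩ := hz ⟨φ g, g, rfl⟩
    have := congrArg Subtype.val hk
    simp [h0] at this
    simp [this]
  have hzord : orderOf (φ g₀) = p := by
    apply orderOf_eq_prime _ hz1
    have := congrArg (fun f : G →* ℂˣ => f g₀) hφp
    simpa using this
  have hrange : Nat.card φ.range = p := by
    rw [← orderOf_eq_card_of_forall_mem_zpowers hz, ← hzord]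
    exact Subgroup.orderOf_coe (H := φ.range) ⟨φ g₀, g₀, rfl⟩ |>.symm ▸ rfl
  refine ⟨⟨_, Cfsg.Agent.Lib.Char.LinearChars.isIrr_of_hom φ⟩, ?_⟩
  have hker : Nat.card {g : G // ((φ g : ℂˣ) : ℂ) = ((φ 1 : ℂˣ) : ℂ)} = Nat.card φ.ker := by
    refine Nat.card_congr (Equiv.subtypeEquivRight fun g => ?_)
    rw [MonoidHom.mem_ker, map_one, Units.val_one]
    exact Units.val_eq_one
  have hdeg : charDegree (fun g => ((φ g : ℂˣ) : ℂ)) = 1 := by
    refine Cfsg.Agent.Lib.Char.Values.IsCharacter.charDegree_eq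
      (isCharacter_of_isIrrCharacter (Cfsg.Agent.Lib.Char.LinearChars.isIrr_of_hom φ)) ?_
    simp
  simp only [hker, hdeg, mul_one]
  have h3 := Subgroup.card_mul_index φ.ker
  rw [Subgroup.index_ker, hrange] at h3
  rw [← h3, Nat.mul_div_cancel_left _ Nat.card_pos]
  exact hp

end Structure

end Cfsg.Agent.Lib.Char.PrimeCod
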