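import Mathlib
import Cfsg.Agent.Lib.Char.CliffordCorr
import Cfsg.Agent.Lib.Char.CompleteCor
import Cfsg.Agent.Lib.Char.LinearChars
import Cfsg.Agent.Lib.Char.Monomial
import Cfsg.Agent.Lib.Char.Integrality
import Cfsg.Agent.Lib.Char.DegreeDvd
import Cfsg.Agent.Lib.Coprime.PSolvable
import Cfsg.Agent.Lib.Basic.JordanCover

/-!
# The Itô–Michler theorem for `p`-solvable groups

If every irreducible character degree of a `p`-solvable group `G` is prime to `p`, then the Sylow
`p`-subgroups of `G` are normal and abelian.
-/

set_option autoImplicit false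

namespace Cfsg.Agent.Lib.Char.ItoMichler

open Cfsg Cfsg.Agent.Lib.Char.Basic Cfsg.Agent.Lib.Char.Ortho Cfsg.Agent.Lib.Char.Induced
  Cfsg.Agent.Lib.Char.IndRep Cfsg.Agent.Lib.Char.Clifford Cfsg.Agent.Lib.Char.CliffordCorr
  Cfsg.Agent.Lib.Char.Monomial Cfsg.Agent.Lib.Coprime.PSolvable
open scoped ComplexConjugate

universe u

/-- All irreducible character degrees are prime to `p`. -/
def DegPrime (p : ℕ) (G : Type*) [Group G] : Prop :=
  ∀ χ : IrrCharacter G, ¬ p ∣ charDegree (χ : G → ℂ)

section
variable {G : Type u} [Group G] [Finite G]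

/-- An irreducible character over a given irreducible character of a normal subgroup. -/
theorem exists_irr_over [Fintype G] (N : Subgroup G) [N.Normal] [Fintype N] {θ : N → ℂ}
    (hθ : IsIrrCharacter N θ) :
    ∃ χ : G → ℂ, IsIrrCharacter G χ ∧ classInner (fun n : N => χ n) θ ≠ 0 := by
  classical
  have hθc := isCharacter_of_isIrrCharacter hθ
  have h1 : indFun N θ 1 ≠ 0 := by
    rw [indFun_one]
    refine mul_ne_zero ?_ (irr_apply_one_ne_zero hθ)
    exact_mod_cast (Subgroup.index_ne_zero_of_finite (H := N))
  obtain ⟨χ, hχ, hne⟩ := exists_irr_constituent (isCharacter_indFun N hθc) h1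
  refine ⟨χ, hχ, ?_⟩
  rw [frobenius_reciprocity N θ χ (isClassFunction_of_isCharacter (isCharacter_of_isIrrCharacter hχ))] at hne
  intro h0
  apply hne
  rw [← classInner_conj_symm, h0]
  simp

theorem degPrime_quotient {p : ℕ} (N : Subgroup G) [N.Normal] (hD : DegPrime p G) :
    DegPrime p (G ⧸ N) := by
  intro χ
  have h := hD ⟨fun g => (χ : G ⧸ N → ℂ) (g : G ⧸ N),
    isIrrCharacter_comp_surjective χ.2 (QuotientGroup.mk' N) (QuotientGroup.mk'_surjective N)⟩
  simpa [charDegree] using h

theorem degPrime_normal {p : ℕ} (N : Subgroup G) [N.Normal] (hD : DegPrime p G) :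
    DegPrime p N := by
  classical
  cases nonempty_fintype G
  letI : Fintype N := Fintype.ofFinite _
  intro θ hdvd
  obtain ⟨χ, hχ, hne⟩ := exists_irr_over N θ.2
  obtain ⟨e, he, -⟩ := Cfsg.Agent.Lib.Char.DegreeDvd.exists_degree_ratio N hχ θ.2 hne
  have h1 := Cfsg.Agent.Lib.Char.Values.IsCharacter.charDegree_cast (isCharacter_of_isIrrCharacter θ.2)
  have h2 : Cfsg.charDegree χ = e * Cfsg.charDegree (θ : N → ℂ) := by
    apply Cfsg.Agent.Lib.Char.Values.IsCharacter.charDegree_eq (isCharacter_of_isIrrCharacter hχ)
    rw [he]
    push_cast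
    rw [h1]
  apply hD ⟨χ, hχ⟩
  change p ∣ Cfsg.charDegree χ
  rw [h2]
  exact Dvd.dvd.mul_left hdvd e

/-- A finite group all of whose irreducible characters are linear is abelian. -/
theorem mul_comm_of_forall_degree_one (h : ∀ χ : IrrCharacter G, (χ : G → ℂ) 1 = 1) (a b : G) :
    a * b = b * a := by
  classical
  cases nonempty_fintype G
  letI := Fintype.ofFinite (IrrCharacter G)
  have h1 := Cfsg.Agent.Lib.Char.LinearChars.card_linear_chars (G := G)
  have h2 : Nat.card {χ : IrrCharacter G // (χ : G → ℂ) 1 = 1} = Nat.card (IrrCharacter G) :=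
    Nat.card_congr (Equiv.subtypeUnivEquiv h)
  have h3 := Cfsg.Agent.Lib.Char.CompleteCor.sum_sq_degrees (G := G)
  simp only [h, one_pow, Finset.sum_const, Finset.card_univ, nsmul_eq_mul, mul_one] at h3
  have h4 : Nat.card (IrrCharacter G) = Nat.card G := by
    rw [Nat.card_eq_fintype_card (α := IrrCharacter G)]
    exact_mod_cast h3
  rw [h2, h4] at h1
  have h5 := (commutator G).card_mul_index
  rw [← h1] at h5
  have h6 : Nat.card (commutator G) = 1 := by
    have hpos : 0 < Nat.card G := Nat.card_pos
    nlinarith [Nat.card_pos (α := commutator G)]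
  have h7 : commutator G = ⊥ := (Subgroup.eq_bot_iff_card _).mpr h6
  have h8 : a * b * a⁻¹ * b⁻¹ ∈ commutator G := by
    rw [commutator_def]
    exact Subgroup.commutator_mem_commutator (Subgroup.mem_top a) (Subgroup.mem_top b)
  rw [h7, Subgroup.mem_bot] at h8
  have h9 : a * b * a⁻¹ = b := mul_inv_eq_one.mp h8
  exact mul_inv_eq_iff_eq_mul.mp h9

/-- A `p`-subgroup containing a subgroup of index prime to `p` equals it. -/
theorem le_of_isPGroup_of_le {p : ℕ} (hp : p.Prime) {A C : Subgroup G} (hAC : A ≤ C)
    (hC : IsPGroup p C) (hA : ¬ p ∣ A.index) : C ≤ A := by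
  haveI : Fact p.Prime := ⟨hp⟩
  have h1 : A.relIndex C * C.index = A.index := Subgroup.relIndex_mul_index hAC
  have h2 : A.relIndex C ∣ Nat.card C := Subgroup.relIndex_dvd_card A C
  obtain ⟨k, hk⟩ := hC.exists_card_eq
  rw [hk] at h2
  obtain ⟨j, -, hj⟩ := (Nat.dvd_prime_pow hp).mp h2
  have hj0 : j = 0 := by
    by_contra h0
    apply hA
    rw [← h1, hj]
    exact Dvd.dvd.mul_right (dvd_pow_self p h0) _
  rw [hj0, pow_zero, Subgroup.relIndex_eq_one] at hj
  exact hj

/-- A `p`-subgroup lies in a normal subgroup of index prime to `p` which is a `p`-group. -/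
theorem le_of_isPGroup_of_normal {p : ℕ} (hp : p.Prime) {A B : Subgroup G} [A.Normal]
    (hA : IsPGroup p A) (hA' : ¬ p ∣ A.index) (hB : IsPGroup p B) : B ≤ A :=
  le_sup_left.trans (le_of_isPGroup_of_le hp (le_sup_right : A ≤ B ⊔ A)
    (hB.to_sup_of_normal_right hA) hA')

end

/-- **Itô–Michler** for `p`-solvable groups: the Sylow `p`-subgroups are normal. -/
theorem normal_of_degPrime {p : ℕ} (hp : p.Prime) : ∀ (n : ℕ) (G : Type u) [Group G] [Finite G],
    Nat.card G = n → IsPSolvable p G → DegPrime p G → ∀ P : Subgroup G, IsPGroup p P →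
    ¬ p ∣ P.index → P.Normal := by
  intro n
  induction n using Nat.strong_induction_on with
  | _ n ih =>
    intro G _ _ hn hsolv hD P hP hPi
    classical
    cases nonempty_fintype G
    haveI : Fact p.Prime := ⟨hp⟩
    by_cases hnt : Nontrivial G
    swap
    · rw [not_nontrivial_iff_subsingleton] at hnt
      constructor
      intro a ha g
      rw [Subsingleton.elim (g * a * g⁻¹) a]
      exact ha
    obtain ⟨N, hNn, hNbot, hgood⟩ := exists_normal_good hsolv hnt
    haveI := hNn
    letI : Fintype N := Fintype.ofFinite _
    let π : G →* G ⧸ N := QuotientGroup.mk' N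
    have hπ : Function.Surjective π := QuotientGroup.mk'_surjective N
    have hNcard : 1 < Nat.card N := by
      have h1 : Nat.card N ≠ 1 := fun h => hNbot ((Subgroup.eq_bot_iff_card N).mpr h)
      have h2 := Nat.card_pos (α := N)
      omega
    have hQcard : Nat.card (G ⧸ N) < n := by
      have h1 := N.card_mul_index
      rw [hn] at h1
      have h3 : 0 < N.index := Nat.pos_of_ne_zero (Subgroup.index_ne_zero_of_finite)
      rw [Subgroup.index] at h1 h3
      nlinarith
    have hPbar : IsPGroup p (P.map π) := hP.map π
    have hPbari : ¬ p ∣ (P.map π).index := fun h => hPi (h.trans (Subgroup.index_map_dvd P hπ))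
    have hPbarn : (P.map π).Normal := ih _ hQcard (G ⧸ N) rfl (isPSolvable_quotient hp N hsolv)
      (degPrime_quotient N hD) _ hPbar hPbari
    have hW : (P.map π).comap π = P ⊔ N := by
      rw [Subgroup.comap_map_eq, QuotientGroup.ker_mk']
    have hWn : (P ⊔ N).Normal := by
      rw [← hW]
      exact Subgroup.Normal.comap hPbarn π
    rcases hgood with ⟨m, hm⟩ | hcop
    · -- `N` is a `p`-group
      have hNp : IsPGroup p N := IsPGroup.of_card hm
      have hle : P ⊔ N ≤ P := le_of_isPGroup_of_le hp le_sup_left
        (hP.to_sup_of_normal_right hNp) hPi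
      have : P ⊔ N = P := le_antisymm hle le_sup_left
      rwa [this] at hWn
    · -- `N` is a `p'`-group
      by_cases hWtop : P ⊔ N = ⊤
      · -- `G = P N`
        have hQp : IsPGroup p (G ⧸ N) := by
          intro q
          obtain ⟨g, rfl⟩ := hπ q
          have hg : π g ∈ P.map π := by
            have : g ∈ (P.map π).comap π := by
              rw [hW, hWtop]
              trivial
            exact this
          obtain ⟨k, hk⟩ := hPbar ⟨π g, hg⟩
          refine ⟨k, ?_⟩
          have := congrArg Subtype.val hk
          simpa using this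
        obtain ⟨k, hk⟩ := hQp.exists_card_eq
        have hNidx : N.index = p ^ k := hk
        -- every irreducible character of `N` is invariant
        have hinv : ∀ (lam : IrrCharacter N) (g : G) (n : N),
            (lam : N → ℂ) ⟨g * n * g⁻¹, hNn.conj_mem (n : G) n.2 g⟩ = (lam : N → ℂ) n := by
          intro lam g n
          let T : Subgroup G := inertiaOf N (lam : N → ℂ)
          letI : Fintype T := Fintype.ofFinite _
          have hT : ∀ g : G, g ∈ T ↔ ∀ n : N,
              (lam : N → ℂ) ⟨g * n * g⁻¹, hNn.conj_mem (n : G) n.2 g⟩ = (lam : N → ℂ) n :=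
            fun g => mem_inertiaOf N _ g
          have hlamcl := isClassFunction_of_isCharacter (isCharacter_of_isIrrCharacter lam.2)
          have hNT : N ≤ T := by
            intro h hh
            refine (hT h).mpr (fun m => ?_)
            exact hlamcl m ⟨h, hh⟩
          obtain ⟨χ, hχ, hne⟩ := exists_irr_over N lam.2
          have hdeg := apply_one_eq N (lam : N → ℂ) T lam.2 hT hχ hne
          obtain ⟨e, he⟩ := exists_nat_classInner_of_isCharacter
            (isCharacter_restrict (isCharacter_of_isIrrCharacter hχ) N)
            (isCharacter_of_isIrrCharacter lam.2)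
          obtain ⟨d, hd⟩ := exists_degree_of_isCharacter (isCharacter_of_isIrrCharacter lam.2)
          rw [he, hd] at hdeg
          have hc : Cfsg.charDegree χ = e * (T.index * d) := by
            apply Cfsg.Agent.Lib.Char.Values.IsCharacter.charDegree_eq
              (isCharacter_of_isIrrCharacter hχ)
            rw [hdeg]
            push_cast
            ring
          have hTi : ¬ p ∣ T.index := by
            intro h
            apply hD ⟨χ, hχ⟩
            change p ∣ Cfsg.charDegree χ
            rw [hc]
            exact Dvd.dvd.mul_left (Dvd.dvd.mul_right h _) _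
          have hTdvd : T.index ∣ p ^ k := hNidx ▸ Subgroup.index_dvd_of_le hNT
          obtain ⟨j, -, hj⟩ := (Nat.dvd_prime_pow hp).mp hTdvd
          have hj0 : j = 0 := by
            by_contra h0
            apply hTi
            rw [hj]
            exact dvd_pow_self p h0
          rw [hj0, pow_zero, Subgroup.index_eq_one] at hj
          exact (hT g).mp (hj ▸ Subgroup.mem_top g) n
        -- conjugation by `G` preserves the classes of `N`
        have hconj : ∀ (g : G) (n : N), IsConj (⟨g * n * g⁻¹, hNn.conj_mem (n : G) n.2 g⟩ : N) n :=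
          fun g n => Cfsg.Agent.Lib.Char.CompleteCor.isConj_of_forall_irr (fun lam => hinv lam g n)
        -- a fixed point in every class
        have hfix : ∀ n : N, ∃ m : N, IsConj m n ∧ ∀ x ∈ P, x * (m : G) * x⁻¹ = m := by
          intro n
          let α := MulAction.orbit (ConjAct N) n
          have hmem : ∀ (x : G) (m : α),
              (⟨x * ((m : N) : G) * x⁻¹, hNn.conj_mem _ (m : N).2 x⟩ : N) ∈
                MulAction.orbit (ConjAct N) n := by
            intro x m
            rw [ConjAct.mem_orbit_conjAct]
            exact (hconj x m).trans (ConjAct.mem_orbit_conjAct.mp m.2)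
          letI : MulAction P α :=
            { smul := fun x m => ⟨⟨(x : G) * ((m : N) : G) * (x : G)⁻¹, _⟩, hmem x m⟩
              one_smul := by
                intro m
                apply Subtype.ext
                apply Subtype.ext
                change (((1 : P) : G)) * ((m : N) : G) * ((1 : P) : G)⁻¹ = _
                simp
              mul_smul := by
                intro a b m
                apply Subtype.ext
                apply Subtype.ext
                change (((a * b : P) : G)) * ((m : N) : G) * ((a * b : P) : G)⁻¹ =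
                  (a : G) * ((b : G) * ((m : N) : G) * (b : G)⁻¹) * (a : G)⁻¹
                push_cast
                group }
          have hcard : ¬ p ∣ Nat.card α := by
            intro h
            have h1 : Nat.card α = (MulAction.stabilizer (ConjAct N) n).index :=
              (MulAction.index_stabilizer (ConjAct N) n).symm
            have h2 : (MulAction.stabilizer (ConjAct N) n).index ∣ Nat.card (ConjAct N) :=
              Subgroup.index_dvd_card _
            have h3 : Nat.card (ConjAct N) = Nat.card N := Nat.card_congr ConjAct.ofConjAct.toEquiv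
            rw [h1] at h
            rw [h3] at h2
            have h4 := h.trans h2
            exact hp.one_lt.ne' (Nat.eq_one_of_dvd_coprimes hcop h4 (dvd_refl p))
          obtain ⟨m, hm⟩ := hP.nonempty_fixed_point_of_prime_not_dvd_card α hcard
          refine ⟨m, ConjAct.mem_orbit_conjAct.mp m.2, fun x hx => ?_⟩
          have h1 := hm ⟨x, hx⟩
          exact congrArg (fun y : α => ((y : N) : G)) h1
        -- `P` centralizes `N`
        let T₁ : Subgroup N := (Subgroup.centralizer (P : Set G)).comap N.subtype
        have hT₁ : T₁ = ⊤ := by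
          apply Cfsg.Agent.Lib.Basic.JordanCover.eq_top_of_forall_conj_mem
          intro n
          obtain ⟨m, hmn, hmfix⟩ := hfix n
          obtain ⟨c, hc⟩ := isConj_iff.mp hmn.symm
          refine ⟨c, ?_⟩
          rw [hc]
          rw [Subgroup.mem_comap, Subgroup.mem_centralizer_iff]
          intro x hx
          have := hmfix x hx
          show x * ((m : N) : G) = ((m : N) : G) * x
          calc x * ((m : N) : G) = (x * ((m : N) : G) * x⁻¹) * x := by group
            _ = ((m : N) : G) * x := by rw [this]
        have hcomm : ∀ n ∈ N, ∀ x ∈ P, x * n = n * x := by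
          intro n hn' x hx
          have h1 : (⟨n, hn'⟩ : N) ∈ T₁ := hT₁ ▸ Subgroup.mem_top _
          exact (Subgroup.mem_centralizer_iff.mp h1) x hx
        constructor
        intro y hy g
        have hg : g ∈ ((P ⊔ N : Subgroup G) : Set G) := by
          rw [hWtop]
          trivial
        rw [Subgroup.mul_normal] at hg
        obtain ⟨x, hx, n, hn', rfl⟩ := Set.mem_mul.mp hg
        have h1 : x * n * y * (x * n)⁻¹ = x * (n * y * n⁻¹) * x⁻¹ := by group
        have h2 : n * y * n⁻¹ = y := by
          rw [← hcomm n hn' y hy]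
          group
        rw [h1, h2]
        exact P.mul_mem (P.mul_mem hx hy) (P.inv_mem hx)
      · -- induction on `P N`
        set W := P ⊔ N with hWdef
        haveI := hWn
        letI : Fintype W := Fintype.ofFinite _
        have hWcard : Nat.card W < n := hn ▸ card_lt_of_ne_top hWtop
        have hPW : P ≤ W := le_sup_left
        have hP' : IsPGroup p (P.subgroupOf W) := hP.comap_of_injective W.subtype W.subtype_injective
        have hP'i : ¬ p ∣ (P.subgroupOf W).index := by
          intro h
          apply hPi
          rw [← Subgroup.relIndex_mul_index hPW]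
          exact Dvd.dvd.mul_right h _
        have hP'n : (P.subgroupOf W).Normal := ih _ hWcard W rfl
          (isPSolvable_subgroup hp W hsolv) (degPrime_normal W hD) _ hP' hP'i
        constructor
        intro y hy g
        have hyW : g * y * g⁻¹ ∈ W := hWn.conj_mem y (hPW hy) g
        -- the conjugate of `P` is a `p`-subgroup of `W`
        let R : Subgroup W := (P.map (MulAut.conj g).toMonoidHom).subgroupOf W
        have hRp : IsPGroup p R :=
          (hP.map (MulAut.conj g).toMonoidHom).comap_of_injective W.subtype W.subtype_injective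
        have hRle := le_of_isPGroup_of_normal hp hP' hP'i hRp
        have hmem : (⟨g * y * g⁻¹, hyW⟩ : W) ∈ R := by
          rw [Subgroup.mem_subgroupOf]
          exact ⟨y, hy, rfl⟩
        exact Subgroup.mem_subgroupOf.mp (hRle hmem)

/-- A normal `p`-subgroup of index prime to `p` in a group with all degrees prime to `p` is
abelian. -/
theorem mul_comm_of_degPrime {p : ℕ} (hp : p.Prime) {G : Type u} [Group G] [Finite G]
    (hD : DegPrime p G) {P : Subgroup G} [P.Normal] (hP : IsPGroup p P) (a b : P) : a * b = b * a := by
  classical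
  cases nonempty_fintype G
  apply mul_comm_of_forall_degree_one
  intro β
  have h1 := degPrime_normal P hD β
  obtain ⟨m, ρ, hρ, hβ⟩ := β.2
  haveI := hρ
  have h2 := Cfsg.Agent.Lib.Char.Integrality.finrank_dvd_card ρ
  haveI : Fact p.Prime := ⟨hp⟩
  obtain ⟨k, hk⟩ := hP.exists_card_eq
  rw [hk] at h2
  obtain ⟨j, -, hj⟩ := (Nat.dvd_prime_pow hp).mp h2
  have hdeg : (β : P → ℂ) 1 = ((p ^ j : ℕ) : ℂ) := by
    rw [← hβ, ρ.char_one, hj]
  have hc := Cfsg.Agent.Lib.Char.Values.IsCharacter.charDegree_eq
    (isCharacter_of_isIrrCharacter β.2) hdeg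
  have hj0 : j = 0 := by
    by_contra h0
    apply h1
    rw [hc]
    exact dvd_pow_self p h0
  rw [hdeg, hj0]
  simp

end Cfsg.Agent.Lib.Char.ItoMichler
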