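import Mathlib

/-!
# Abelian Hall subgroups: conjugacy

Group theoretic preparation for Blichfeldt's theorem on abelian Hall subgroups of linear groups.
-/

set_option autoImplicit false
set_option linter.unusedSectionVars false
set_option linter.style.haveILetI false

namespace Cfsg.Agent.Lib.Char.LinearHall

/-- `A` is a Hall subgroup for the set of primes greater than `N`. -/
def IsHallAbove (N : ℕ) {G : Type*} [Group G] (A : Subgroup G) : Prop :=
  (∀ q : ℕ, q.Prime → q ∣ Nat.card A → N < q) ∧ ∀ q : ℕ, q.Prime → q ∣ A.index → q ≤ N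

section Conj

variable {C : Type*} [Group C] [Finite C]

/-- A `p`-element lies in a conjugate of a subgroup of index prime to `p`. -/
theorem exists_conj_mem (H : Subgroup C) {p : ℕ} (hp : p.Prime) (x : C) {k : ℕ}
    (hx : x ^ p ^ k = 1) (hpH : ¬ p ∣ H.index) : ∃ c : C, c⁻¹ * x * c ∈ H := by
  haveI : Fact p.Prime := ⟨hp⟩
  have hP : IsPGroup p (Subgroup.zpowers x) := by
    have h1 : orderOf x ∣ p ^ k := orderOf_dvd_of_pow_eq_one hx
    obtain ⟨j, -, hj⟩ := (Nat.dvd_prime_pow hp).1 h1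
    rw [IsPGroup.iff_card]
    exact ⟨j, by rw [Nat.card_zpowers, hj]⟩
  obtain ⟨q, hq⟩ := hP.nonempty_fixed_point_of_prime_not_dvd_card (C ⧸ H) hpH
  obtain ⟨c, rfl⟩ := QuotientGroup.mk_surjective q
  refine ⟨c, ?_⟩
  have h1 := hq ⟨x, Subgroup.mem_zpowers x⟩
  have h2 : ((x * c : C) : C ⧸ H) = (c : C ⧸ H) := h1
  have h3 := QuotientGroup.eq.1 h2.symm
  rwa [← mul_assoc] at h3

/-- An element outside a subgroup has a power of prime power order outside the subgroup. -/
theorem exists_prime_power_not_mem (Y : Subgroup C) :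
    ∀ (m : ℕ) (x : C), orderOf x = m → x ∉ Y →
      ∃ y ∈ Subgroup.zpowers x, y ∉ Y ∧ ∃ p k : ℕ, p.Prime ∧ orderOf y = p ^ k := by
  intro m
  induction m using Nat.recOnPosPrimePosCoprime with
  | prime_pow p n hp hn =>
    intro x hx hxY
    exact ⟨x, Subgroup.mem_zpowers x, hxY, p, n, hp, hx⟩
  | zero =>
    intro x hx _
    exact absurd hx (orderOf_pos x).ne'
  | one =>
    intro x hx hxY
    rw [orderOf_eq_one_iff] at hx
    exact absurd (hx ▸ Y.one_mem) hxY
  | coprime a b ha hb hab iha ihb =>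
    intro x hx hxY
    have ha0 : a ≠ 0 := by omega
    have hb0 : b ≠ 0 := by omega
    -- `x` is a product of powers of `x ^ a` and `x ^ b`
    have hor : x ^ a ∉ Y ∨ x ^ b ∉ Y := by
      by_contra hcon
      push Not at hcon
      obtain ⟨h1, h2⟩ := hcon
      apply hxY
      have hg : (Nat.gcd a b : ℤ) = a * Nat.gcdA a b + b * Nat.gcdB a b := Nat.gcd_eq_gcd_ab a b
      rw [hab.gcd_eq_one] at hg
      have : x = (x ^ a) ^ (Nat.gcdA a b) * (x ^ b) ^ (Nat.gcdB a b) := by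
        rw [← zpow_natCast, ← zpow_natCast, ← zpow_mul, ← zpow_mul, ← zpow_add, ← hg]
        simp
      rw [this]
      exact Y.mul_mem (Y.zpow_mem h1 _) (Y.zpow_mem h2 _)
    rcases hor with h | h
    · have hord : orderOf (x ^ a) = b := by
        rw [orderOf_pow_of_dvd ha0 (hx ▸ Dvd.intro _ rfl), hx, Nat.mul_div_cancel_left _ (by omega)]
      obtain ⟨y, hy, hyY, hp⟩ := ihb (x ^ a) hord h
      refine ⟨y, ?_, hyY, hp⟩
      exact (Subgroup.zpowers_le.2 (Subgroup.npow_mem_zpowers x a)) hy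
    · have hord : orderOf (x ^ b) = a := by
        rw [orderOf_pow_of_dvd hb0 (hx ▸ Dvd.intro_left _ rfl), hx,
          Nat.mul_div_cancel _ (by omega)]
      obtain ⟨y, hy, hyY, hp⟩ := iha (x ^ b) hord h
      refine ⟨y, ?_, hyY, hp⟩
      exact (Subgroup.zpowers_le.2 (Subgroup.npow_mem_zpowers x b)) hy

/-- One step of the conjugacy argument. -/
theorem conj_step (B : Subgroup C) (hB : ∀ x ∈ B, ∀ y ∈ B, x * y = y * x) (T : Set C) (hT : T ⊆ B)
    {y : C} (hy : ∀ u ∈ T, u * y = y * u) {p k : ℕ} (hp : p.Prime) (hyp : y ^ p ^ k = 1)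
    (hpB : ¬ p ∣ B.index) :
    ∃ c : C, (∀ u ∈ T, c⁻¹ * u * c = u) ∧ c⁻¹ * y * c ∈ B := by
  set Z := Subgroup.centralizer T with hZ
  have hBZ : B ≤ Z := by
    intro b hb
    rw [hZ, Subgroup.mem_centralizer_iff]
    intro u hu
    exact hB u (hT hu) b hb
  have hyZ : y ∈ Z := by
    rw [hZ, Subgroup.mem_centralizer_iff]
    exact hy
  have hidx : ¬ p ∣ (B.subgroupOf Z).index := by
    intro h
    apply hpB
    rw [← Subgroup.relIndex_mul_index hBZ]
    exact Dvd.dvd.mul_right h _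
  obtain ⟨c, hc⟩ := exists_conj_mem (B.subgroupOf Z) hp (⟨y, hyZ⟩ : Z)
    (Subtype.ext (by simpa using hyp)) hidx
  refine ⟨c, fun u hu => ?_, ?_⟩
  · have h1 := (Subgroup.mem_centralizer_iff.1 c.2) u hu
    rw [mul_assoc, h1]
    group
  · have := Subgroup.mem_subgroupOf.1 hc
    simpa using this

/-- Conjugacy of abelian Hall subgroups (Wielandt, abelian case): an abelian subgroup whose order
only involves primes above `N` lies in a conjugate of an abelian Hall subgroup. -/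
theorem exists_conj_le {N : ℕ} (B X : Subgroup C) (hB : ∀ x ∈ B, ∀ y ∈ B, x * y = y * x)
    (hBH : IsHallAbove N B) (hX : ∀ x ∈ X, ∀ y ∈ X, x * y = y * x)
    (hXpi : ∀ q : ℕ, q.Prime → q ∣ Nat.card X → N < q) :
    ∃ c : C, ∀ x ∈ X, c⁻¹ * x * c ∈ B := by
  classical
  let S : Set (Subgroup C) := {Y | Y ≤ X ∧ ∃ c : C, ∀ u ∈ Y, c⁻¹ * u * c ∈ B}
  have hS : (⊥ : Subgroup C) ∈ S := by
    refine ⟨bot_le, 1, fun u hu => ?_⟩
    rw [Subgroup.mem_bot] at hu
    simp [hu, B.one_mem]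
  obtain ⟨Y, -, hYmax⟩ := (Set.toFinite S).exists_le_maximal hS
  obtain ⟨⟨hYX, c, hc⟩, hY2⟩ := hYmax
  by_cases hYe : X ≤ Y
  · exact ⟨c, fun x hx => hc x (hYe hx)⟩
  exfalso
  obtain ⟨x, hxX, hxY⟩ := SetLike.not_le_iff_exists.1 hYe
  obtain ⟨y, hy, hyY, p, k, hp, hyo⟩ := exists_prime_power_not_mem Y _ x rfl hxY
  have hyX : y ∈ X := (Subgroup.zpowers_le.2 hxX) hy
  -- `p` is above `N`
  have hpN : N < p := by
    apply hXpi p hp
    have hk : k ≠ 0 := by
      rintro rfl
      rw [pow_zero, orderOf_eq_one_iff] at hyo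
      exact hyY (hyo ▸ Y.one_mem)
    have h1 : p ∣ orderOf y := by
      rw [hyo]; exact dvd_pow_self p hk
    have h2 : orderOf y ∣ Nat.card X := by
      have := Subgroup.orderOf_dvd_natCard X hyX
      exact this
    exact h1.trans h2
  have hpB : ¬ p ∣ B.index := fun h => absurd (hBH.2 p hp h) (not_le.2 hpN)
  -- conjugate everything into `B`
  let T : Set C := {v | ∃ u ∈ Y, v = c⁻¹ * u * c}
  have hTB : T ⊆ B := by
    rintro v ⟨u, hu, rfl⟩
    exact hc u hu
  have hyT : ∀ v ∈ T, v * (c⁻¹ * y * c) = (c⁻¹ * y * c) * v := by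
    rintro v ⟨u, hu, rfl⟩
    have := hX u (hYX hu) y hyX
    calc c⁻¹ * u * c * (c⁻¹ * y * c) = c⁻¹ * (u * y) * c := by group
      _ = c⁻¹ * (y * u) * c := by rw [this]
      _ = _ := by group
  have hyp : (c⁻¹ * y * c) ^ p ^ k = 1 := by
    have h1 : y ^ p ^ k = 1 := by rw [← hyo]; exact pow_orderOf_eq_one y
    have h2 : (c⁻¹ * y * c) = (MulAut.conj c⁻¹) y := by simp
    rw [h2, ← map_pow, h1, map_one]
  obtain ⟨c₀, h1, h2⟩ := conj_step B hB T hTB hyT hp hyp hpB
  -- the larger subgroup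
  let Y' : Subgroup C := Y ⊔ Subgroup.zpowers y
  have hY'X : Y' ≤ X := sup_le hYX (Subgroup.zpowers_le.2 hyX)
  let c' := c * c₀
  have hmem : ∀ v ∈ Y', c'⁻¹ * v * c' ∈ B := by
    let W : Subgroup C := B.map (MulAut.conj c').toMonoidHom
    have hWmem : ∀ v, v ∈ W ↔ c'⁻¹ * v * c' ∈ B := by
      intro v
      have := Subgroup.mem_map_equiv (f := MulAut.conj c') (K := B) (x := v)
      rw [MulAut.conj_symm_apply] at this
      exact this
    have hle : Y' ≤ W := by
      refine sup_le (fun u hu => ?_) (Subgroup.zpowers_le.2 ?_)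
      · rw [hWmem]
        have e1 := h1 _ ⟨u, hu, rfl⟩
        have e2 : c'⁻¹ * u * c' = c₀⁻¹ * (c⁻¹ * u * c) * c₀ := by
          simp only [c']; group
        rw [e2, e1]
        exact hc u hu
      · rw [hWmem]
        have e2 : c'⁻¹ * y * c' = c₀⁻¹ * (c⁻¹ * y * c) * c₀ := by
          simp only [c']; group
        rw [e2]
        exact h2
    exact fun v hv => (hWmem v).1 (hle hv)
  have hY'S : Y' ∈ S := ⟨hY'X, c', hmem⟩
  have hle : Y ≤ Y' := le_sup_left
  have := hY2 hY'S hle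
  exact hyY (this (Subgroup.mem_sup_right (Subgroup.mem_zpowers y)))

end Conj

end Cfsg.Agent.Lib.Char.LinearHall
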