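import Mathlib
import Cfsg.Prelude.Def_Characters
import Cfsg.Agent.Lib.Char.LinearHall
import Cfsg.Agent.Lib.Char.SmallDeg
import Cfsg.Agent.Lib.Char.Galois
import Cfsg.Agent.Lib.Char.QuotRep
import Cfsg.Agent.Lib.Char.Codegree
import Cfsg.Agent.Lib.Char.Basic
import Cfsg.Agent.Lib.Char.Ortho
import Cfsg.Agent.Lib.Char.Integrality

/-!
# Blichfeldt's theorem: a finite linear group of degree `n` has an abelian Hall subgroup for the
primes greater than `n + 1`

The key point is the following trick.  If `χ` is irreducible and `σ`, `τ` are Galois automorphisms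
moving only the `p`-power roots of unity, resp. the `q`-power roots of unity, with `χ^σ ≠ χ` and
`χ^τ ≠ χ`, then `χ - χ^σ` vanishes on `p`-regular elements and `χ - χ^τ` on `q`-regular elements,
while their inner product is at least one; hence some element has order divisible by `pq`.
-/

set_option autoImplicit false
set_option linter.unusedSectionVars false
set_option linter.style.haveILetI false

namespace Cfsg.Agent.Lib.Char.LinearHall

open Cfsg Module
open Cfsg.Agent.Lib.Char.Codegree Cfsg.Agent.Lib.Char.QuotRep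

universe u v

section Basic

variable {G : Type u} [Group G] [Finite G] {V : Type v} [AddCommGroup V] [Module ℂ V]
  [FiniteDimensional ℂ V]

theorem comm_of_pi (ρ : Representation ℂ G V) (hinj : Function.Injective ρ) {N : ℕ}
    (hN : finrank ℂ V + 1 ≤ N) (K : Subgroup G)
    (hK : ∀ q : ℕ, q.Prime → q ∣ Nat.card K → N < q) :
    ∀ x ∈ K, ∀ y ∈ K, x * y = y * x := by
  intro x hx y hy
  have hinj' : Function.Injective (ρ.comp K.subtype : Representation ℂ K V) := by
    intro a b hab
    exact Subtype.ext (hinj hab)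
  have := Cfsg.Agent.Lib.Char.SmallDeg.mul_comm_of_faithful_of_finrank_lt
    (ρ.comp K.subtype : Representation ℂ K V) hinj'
    (fun p hp hpd => by have := hK p hp hpd; omega) ⟨x, hx⟩ ⟨y, hy⟩
  exact congrArg Subtype.val this

theorem hall_map {N : ℕ} (U : Subgroup G) (A : Subgroup U) (hA : IsHallAbove N A)
    (hU : ∀ q : ℕ, q.Prime → q ∣ U.index → q ≤ N) : IsHallAbove N (A.map U.subtype) := by
  refine ⟨fun q hq hqd => ?_, fun q hq hqd => ?_⟩
  · rw [Subgroup.card_map_of_injective U.subtype_injective] at hqd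
    exact hA.1 q hq hqd
  · rw [Subgroup.index_map_subtype] at hqd
    rcases (Nat.Prime.dvd_mul hq).1 hqd with h | h
    · exact hA.2 q hq h
    · exact hU q hq h

theorem hall_comap {N : ℕ} (K : Subgroup G) [K.Normal]
    (hK : ∀ q : ℕ, q.Prime → q ∣ Nat.card K → N < q) (A : Subgroup (G ⧸ K)) (hA : IsHallAbove N A) :
    IsHallAbove N (A.comap (QuotientGroup.mk' K)) := by
  have hidx : (A.comap (QuotientGroup.mk' K)).index = A.index :=
    Subgroup.index_comap_of_surjective A (QuotientGroup.mk'_surjective K)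
  refine ⟨fun q hq hqd => ?_, fun q hq hqd => ?_⟩
  · -- the order of the preimage
    have h1 := Subgroup.card_mul_index (A.comap (QuotientGroup.mk' K))
    have h2 := Subgroup.card_mul_index A
    have h3 := Subgroup.card_eq_card_quotient_mul_card_subgroup K
    have hpos : 0 < A.index := Nat.pos_of_ne_zero (Subgroup.index_ne_zero_of_finite)
    have h4 : Nat.card (A.comap (QuotientGroup.mk' K)) = Nat.card A * Nat.card K := by
      rw [hidx] at h1
      apply Nat.eq_of_mul_eq_mul_right hpos
      rw [h1, h3, ← h2]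
      ring
    rw [h4] at hqd
    rcases (Nat.Prime.dvd_mul hq).1 hqd with h | h
    · exact hA.1 q hq h
    · exact hK q hq h
  · rw [hidx] at hqd
    exact hA.2 q hq hqd

end Basic

section Twist

variable {G : Type*} [Group G] [Finite G] {V : Type*} [AddCommGroup V] [Module ℂ V]
  [FiniteDimensional ℂ V]

theorem geom_root (w : ℂ) {N : ℕ} (hw : w ^ N = 1) (h1 : w ≠ 1) :
    ∑ k ∈ Finset.range N, w ^ k = 0 := by
  have := mul_neg_geom_sum w N
  rw [hw, sub_self] at this
  rcases mul_eq_zero.1 this with h | h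
  · exact absurd (sub_eq_zero.1 h).symm h1
  · exact h

/-- If `r > n + 1` and `u` has order `r`, then the character values `χ (u ^ i)` are not all equal. -/
theorem exists_pow_value_ne (ρ : Representation ℂ G V) (hinj : Function.Injective ρ) {r : ℕ}
    (hr : r.Prime) (u : G) (hu : orderOf u = r) (hd : finrank ℂ V + 1 < r) :
    ∃ i : ℕ, 0 < i ∧ i < r ∧ ρ.character (u ^ i) ≠ ρ.character u := by
  classical
  by_contra hcon
  push Not at hcon
  have hr0 : 0 < r := hr.pos
  have hur : u ^ r = 1 := by rw [← hu]; exact pow_orderOf_eq_one u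
  obtain ⟨ι, hι, z, hz1, hz2⟩ := Cfsg.Agent.Lib.Char.Galois.character_eigen ρ u hr0 hur
  have hcard : (Fintype.card ι : ℂ) = finrank ℂ V := by
    have := hz2 0
    simp only [pow_zero, Finset.sum_const, Finset.card_univ, nsmul_eq_mul, mul_one,
      Representation.char_one] at this
    exact this.symm
  have hcardN : Fintype.card ι = finrank ℂ V := by exact_mod_cast hcard
  -- a primitive root of unity which is not an eigenvalue
  haveI : NeZero r := ⟨hr0.ne'⟩
  have hprim := Complex.isPrimitiveRoot_exp r hr0.ne'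
  have hcardP : (primitiveRoots r ℂ).card = r - 1 := by
    rw [hprim.card_primitiveRoots, Nat.totient_prime hr]
  have hlt : (Finset.univ.image z).card < (primitiveRoots r ℂ).card := by
    calc (Finset.univ.image z).card ≤ Fintype.card ι := Finset.card_image_le
      _ = finrank ℂ V := hcardN
      _ < r - 1 := by omega
      _ = _ := hcardP.symm
  obtain ⟨a, haP, haz⟩ := Finset.exists_mem_notMem_of_card_lt_card hlt
  have haprim : IsPrimitiveRoot a r := (mem_primitiveRoots hr0).1 haP
  have har : a ^ r = 1 := haprim.pow_eq_one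
  have ha0 : a ≠ 0 := by
    rintro rfl
    rw [zero_pow hr0.ne'] at har
    exact zero_ne_one har
  have ha1 : a ≠ 1 := haprim.ne_one hr.one_lt
  have hzne : ∀ j, a⁻¹ * z j ≠ 1 := by
    intro j h
    apply haz
    rw [Finset.mem_image]
    refine ⟨j, Finset.mem_univ j, ?_⟩
    field_simp at h
    exact h
  have hzero : ∑ i ∈ Finset.range r, (a⁻¹) ^ i * ρ.character (u ^ i) = 0 := by
    simp_rw [hz2, Finset.mul_sum]
    rw [Finset.sum_comm]
    refine Finset.sum_eq_zero fun j _ => ?_
    have : ∀ k, (a⁻¹) ^ k * z j ^ k = (a⁻¹ * z j) ^ k := fun k => (mul_pow _ _ _).symm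
    simp_rw [this]
    refine geom_root _ ?_ (hzne j)
    rw [mul_pow, inv_pow, har, hz1 j]
    simp
  have hainv : (a⁻¹) ^ r = 1 := by rw [inv_pow, har, inv_one]
  have hainv1 : a⁻¹ ≠ 1 := fun h => ha1 (by rw [← inv_inv a, h, inv_one])
  have hgeom := geom_root a⁻¹ hainv hainv1
  obtain ⟨r', rfl⟩ : ∃ r', r = r' + 1 := ⟨r - 1, by omega⟩
  rw [Finset.sum_range_succ'] at hzero hgeom
  have hval : ∀ i ∈ Finset.range r', (a⁻¹) ^ (i + 1) * ρ.character (u ^ (i + 1))
      = (a⁻¹) ^ (i + 1) * ρ.character u := by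
    intro i hi
    rw [hcon (i + 1) (Nat.succ_pos i) (by simpa using hi)]
  rw [Finset.sum_congr rfl hval, ← Finset.sum_mul] at hzero
  simp only [pow_zero, one_mul, Representation.char_one] at hzero hgeom
  have h1 : ∑ i ∈ Finset.range r', (a⁻¹) ^ (i + 1) = -1 := eq_neg_of_add_eq_zero_left hgeom
  rw [h1] at hzero
  have h2 : ρ.character u = ρ.character 1 := by
    rw [Representation.char_one]
    linear_combination -hzero
  have h3 := (character_eq_one_iff ρ u).1 h2
  have h4 : u = 1 := hinj (by rw [map_one]; exact h3)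
  rw [h4, orderOf_one] at hu
  omega

/-- Choice of the power map. -/
theorem exists_twist (ρ : Representation ℂ G V) (hinj : Function.Injective ρ) {r : ℕ}
    (hr : r.Prime) (u : G) (hu : orderOf u = r) (hd : finrank ℂ V + 1 < r) :
    ∃ k : ℕ, k.Coprime (Nat.card G) ∧ (∀ g : G, ¬ r ∣ orderOf g → g ^ k = g) ∧
      ∃ g : G, ρ.character (g ^ k) ≠ ρ.character g := by
  classical
  obtain ⟨i, hi0, hir, hi⟩ := exists_pow_value_ne ρ hinj hr u hu hd
  have hcardG : Nat.card G ≠ 0 := Nat.card_pos.ne'
  obtain ⟨e, m, hm, hG⟩ := Nat.exists_eq_pow_mul_and_not_dvd hcardG r hr.ne_one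
  have hrG : r ∣ Nat.card G := hu ▸ orderOf_dvd_natCard u
  have he : e ≠ 0 := by
    rintro rfl
    rw [pow_zero, one_mul] at hG
    exact hm (hG ▸ hrG)
  have hcop : Nat.Coprime (r ^ e) m := Nat.Coprime.pow_left e ((Nat.Prime.coprime_iff_not_dvd hr).2 hm)
  let K := Nat.chineseRemainder hcop i 1
  have hk1 : (K : ℕ) ≡ i [MOD r ^ e] := K.2.1
  have hk2 : (K : ℕ) ≡ 1 [MOD m] := K.2.2
  have hkr : (K : ℕ) ≡ i [MOD r] := hk1.of_dvd (dvd_pow_self r he)
  have hicop : Nat.Coprime i r :=
    Nat.Coprime.symm ((Nat.Prime.coprime_iff_not_dvd hr).2 (Nat.not_dvd_of_pos_of_lt hi0 hir))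
  have hKr : Nat.Coprime (K : ℕ) r := by
    unfold Nat.Coprime
    rw [hkr.gcd_eq]
    exact hicop
  have hKm : Nat.Coprime (K : ℕ) m := by
    unfold Nat.Coprime
    rw [hk2.gcd_eq]
    simp
  refine ⟨K, ?_, fun g hg => ?_, u, ?_⟩
  · rw [hG]
    exact Nat.Coprime.mul_right (Nat.Coprime.pow_right e hKr) hKm
  · have h1 : orderOf g ∣ r ^ e * m := hG ▸ orderOf_dvd_natCard g
    have h2 : Nat.Coprime (orderOf g) (r ^ e) :=
      Nat.Coprime.pow_right e (Nat.Coprime.symm ((Nat.Prime.coprime_iff_not_dvd hr).2 hg))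
    have h3 : orderOf g ∣ m := h2.dvd_of_dvd_mul_left h1
    have h4 : (K : ℕ) ≡ 1 [MOD orderOf g] := hk2.of_dvd h3
    have h5 := Cfsg.Agent.Lib.Char.Galois.pow_congr_of_modEq (pow_orderOf_eq_one g) h4
    rw [h5, pow_one]
  · have h4 : (K : ℕ) ≡ i [MOD orderOf u] := hu ▸ hkr
    have h5 := Cfsg.Agent.Lib.Char.Galois.pow_congr_of_modEq (pow_orderOf_eq_one u) h4
    rw [h5]
    exact hi

/-- **The Galois trick**: an irreducible faithful representation of degree `n` and two different
primes above `n + 1` dividing the order: some element has order divisible by both primes. -/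
theorem exists_mixed (ρ : Representation ℂ G V) [hirr : ρ.IsIrreducible]
    (hinj : Function.Injective ρ) {p q : ℕ} (hp : p.Prime) (hq : q.Prime) (x y : G)
    (hx : orderOf x = p) (hy : orderOf y = q) (hdp : finrank ℂ V + 1 < p)
    (hdq : finrank ℂ V + 1 < q) : ∃ g : G, p ∣ orderOf g ∧ q ∣ orderOf g := by
  classical
  haveI := Fintype.ofFinite G
  by_contra hcon
  push Not at hcon
  obtain ⟨k, hk1, hk2, g₁, hg₁⟩ := exists_twist ρ hinj hp x hx hdp
  obtain ⟨l, hl1, hl2, g₂, hg₂⟩ := exists_twist ρ hinj hq y hy hdq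
  set χ := ρ.character with hχ
  have hirrχ : IsIrrCharacter G χ := Cfsg.Agent.Lib.Char.Basic.isIrrCharacter_of_rep ρ
  let χk : G → ℂ := fun g => χ (g ^ k)
  let χl : G → ℂ := fun g => χ (g ^ l)
  have hk : IsIrrCharacter G χk :=
    Cfsg.Agent.Lib.Char.Galois.isIrrCharacter_pow_of_coprime hirrχ hk1
  have hl : IsIrrCharacter G χl :=
    Cfsg.Agent.Lib.Char.Galois.isIrrCharacter_pow_of_coprime hirrχ hl1
  have hne1 : χ ≠ χk := fun h => hg₁ (congrFun h g₁).symm
  have hne2 : χ ≠ χl := fun h => hg₂ (congrFun h g₂).symm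
  have hzero : classInner (χ - χk) (χ - χl) = 0 := by
    unfold classInner
    rw [Finset.sum_eq_zero, mul_zero]
    intro g _
    by_cases hpg : p ∣ orderOf g
    · have hqg : ¬ q ∣ orderOf g := hcon g hpg
      have : χl g = χ g := by
        show χ (g ^ l) = χ g
        rw [hl2 g hqg]
      simp [this]
    · have : χk g = χ g := by
        show χ (g ^ k) = χ g
        rw [hk2 g hpg]
      simp [this]
  rw [Ortho.classInner_sub_left, Ortho.classInner_sub_right, Ortho.classInner_sub_right,
    Ortho.classInner_irr_self hirrχ, Ortho.classInner_irr_of_ne hirrχ hl hne2,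
    Ortho.classInner_irr_of_ne hk hirrχ hne1.symm, Ortho.classInner_irr hk hl] at hzero
  split_ifs at hzero <;> norm_num at hzero

end Twist

end Cfsg.Agent.Lib.Char.LinearHall
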