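import Mathlib
import Cfsg.Prelude.Def_Characters
import Cfsg.Agent.Lib.Char.LinearHall2
import Cfsg.Agent.Lib.Char.Monomial

/-!
# Blichfeldt's theorem: the induction
-/

set_option autoImplicit false
set_option linter.unusedSectionVars false
set_option linter.style.haveILetI false

namespace Cfsg.Agent.Lib.Char.LinearHall

open Cfsg Module
open Cfsg.Agent.Lib.Char.Codegree Cfsg.Agent.Lib.Char.QuotRep

universe u v

/-- The inductive hypothesis. -/
def HallIH (N m : ℕ) : Prop :=
  ∀ m' < m, ∀ (G : Type u) [Group G] [Finite G] (V : Type v) [AddCommGroup V] [Module ℂ V]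
    [FiniteDimensional ℂ V] (ρ : Representation ℂ G V), Function.Injective ρ →
    finrank ℂ V + 1 ≤ N → Nat.card G + finrank ℂ V = m' → ∃ A : Subgroup G, IsHallAbove N A

variable {N m : ℕ} {G : Type u} [Group G] [Finite G] {V : Type v} [AddCommGroup V] [Module ℂ V]
  [FiniteDimensional ℂ V]

theorem card_lt_of_ne_top' {U : Subgroup G} (hU : U ≠ ⊤) : Nat.card U < Nat.card G :=
  Cfsg.Agent.Lib.Char.Monomial.card_lt_of_ne_top hU

theorem comp_subtype_injective (ρ : Representation ℂ G V) (hinj : Function.Injective ρ)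
    (U : Subgroup G) : Function.Injective (ρ.comp U.subtype : Representation ℂ U V) := by
  intro a b hab
  exact Subtype.ext (hinj hab)

/-- The subgroup case of the induction. -/
theorem hall_of_subgroup (IH : HallIH.{u, v} N m) (ρ : Representation ℂ G V)
    (hinj : Function.Injective ρ) (hN : finrank ℂ V + 1 ≤ N) (hm : Nat.card G + finrank ℂ V = m)
    (U : Subgroup G) (hU : U ≠ ⊤) (hidx : ∀ q : ℕ, q.Prime → q ∣ U.index → q ≤ N) :
    ∃ A : Subgroup G, IsHallAbove N A := by
  have hlt := card_lt_of_ne_top' hU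
  obtain ⟨A, hA⟩ := IH _ (by omega) U V (ρ.comp U.subtype) (comp_subtype_injective ρ hinj U) hN rfl
  exact ⟨A.map U.subtype, hall_map U A hA hidx⟩

theorem quot_injective (ρ : Representation ℂ G V) :
    Function.Injective (quotRep ρ (repKer ρ) (fun g hg => (mem_repKer ρ g).1 hg)) := by
  rw [injective_iff_map_eq_one]
  intro q hq
  obtain ⟨g, rfl⟩ := QuotientGroup.mk_surjective q
  rw [quotRep_mk] at hq
  exact (QuotientGroup.eq_one_iff g).2 ((mem_repKer ρ g).2 hq)

theorem card_quot_le (K : Subgroup G) [K.Normal] : Nat.card (G ⧸ K) ≤ Nat.card G :=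
  Nat.le_of_dvd Nat.card_pos (Subgroup.card_quotient_dvd_card K)

/-- Hall subgroups through a quotient by the kernel of a constituent. -/
theorem hall_of_constituent (IH : HallIH.{u, v} N m) (ρ : Representation ℂ G V)
    (hinj : Function.Injective ρ) (hN : finrank ℂ V + 1 ≤ N) (hm : Nat.card G + finrank ℂ V = m)
    {W : Type v} [AddCommGroup W] [Module ℂ W] [FiniteDimensional ℂ W]
    (σ : Representation ℂ G W) (hW : finrank ℂ W < finrank ℂ V) :
    (∃ A : Subgroup G, IsHallAbove N A) ∨
      ∀ q : ℕ, q.Prime → q ∣ Nat.card (G ⧸ repKer σ) → N < q := by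
  have hle := card_quot_le (repKer σ)
  obtain ⟨Ā, hĀ⟩ := IH _ (by omega) (G ⧸ repKer σ) W (quotRep σ (repKer σ) (fun g hg => (mem_repKer σ g).1 hg))
    (quot_injective σ) (by omega) rfl
  set U := Ā.comap (QuotientGroup.mk' (repKer σ)) with hU
  have hidx : U.index = Ā.index :=
    Subgroup.index_comap_of_surjective Ā (QuotientGroup.mk'_surjective _)
  by_cases hUtop : U = ⊤
  · right
    have hĀtop : Ā = ⊤ := by
      rw [eq_top_iff]
      intro q _
      obtain ⟨g, rfl⟩ := QuotientGroup.mk_surjective q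
      have : g ∈ U := by rw [hUtop]; trivial
      exact this
    intro q hq hqd
    apply hĀ.1 q hq
    rw [hĀtop, Subgroup.card_top]
    exact hqd
  · left
    exact hall_of_subgroup IH ρ hinj hN hm U hUtop (fun q hq hqd => hĀ.2 q hq (hidx ▸ hqd))

/-- The reducible case. -/
theorem reducible_case (IH : HallIH.{u, v} N m) (ρ : Representation ℂ G V)
    (hinj : Function.Injective ρ) (hN : finrank ℂ V + 1 ≤ N) (hm : Nat.card G + finrank ℂ V = m)
    (S T : Subrepresentation ρ) (hST : IsCompl S T) (hS0 : S ≠ ⊥) (hT0 : T ≠ ⊥) :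
    ∃ A : Subgroup G, IsHallAbove N A := by
  have hSs : S.toSubmodule ≠ ⊥ := fun h => hS0 (Subrepresentation.toSubmodule_injective h)
  have hTs : T.toSubmodule ≠ ⊥ := fun h => hT0 (Subrepresentation.toSubmodule_injective h)
  have hc : IsCompl S.toSubmodule T.toSubmodule := by
    constructor
    · rw [disjoint_iff]
      exact congrArg Subrepresentation.toSubmodule hST.inf_eq_bot
    · rw [codisjoint_iff]
      exact congrArg Subrepresentation.toSubmodule hST.sup_eq_top
  have hdim := Submodule.finrank_add_eq_of_isCompl hc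
  have h1 : 1 ≤ finrank ℂ S.toSubmodule := Submodule.one_le_finrank_iff.mpr hSs
  have h2 : 1 ≤ finrank ℂ T.toSubmodule := Submodule.one_le_finrank_iff.mpr hTs
  rcases hall_of_constituent IH ρ hinj hN hm S.toRepresentation (by omega) with h | hS
  · exact h
  rcases hall_of_constituent IH ρ hinj hN hm T.toRepresentation (by omega) with h | hT
  · exact h
  -- the two kernels intersect trivially
  have hker : ∀ g ∈ repKer S.toRepresentation, g ∈ repKer T.toRepresentation → g = 1 := by
    intro g hg1 hg2
    apply hinj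
    rw [map_one]
    apply LinearMap.ext
    intro v
    have hv : v ∈ S.toSubmodule ⊔ T.toSubmodule := by rw [hc.sup_eq_top]; trivial
    obtain ⟨a, ha, b, hb, rfl⟩ := Submodule.mem_sup.1 hv
    have e1 : ρ g a = a := by
      have := LinearMap.congr_fun hg1 ⟨a, ha⟩
      exact congrArg Subtype.val this
    have e2 : ρ g b = b := by
      have := LinearMap.congr_fun hg2 ⟨b, hb⟩
      exact congrArg Subtype.val this
    rw [map_add, e1, e2]
    rfl
  refine ⟨⊤, fun q hq hqd => ?_, fun q hq hqd => ?_⟩
  · rw [Subgroup.card_top] at hqd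
    rw [Subgroup.card_eq_card_quotient_mul_card_subgroup (repKer S.toRepresentation)] at hqd
    rcases (Nat.Prime.dvd_mul hq).1 hqd with h | h
    · exact hS q hq h
    · apply hT q hq
      -- the kernel of `S` embeds in the quotient by the kernel of `T`
      let f : repKer S.toRepresentation →* G ⧸ repKer T.toRepresentation :=
        (QuotientGroup.mk' (repKer T.toRepresentation)).comp (repKer S.toRepresentation).subtype
      have hf : Function.Injective f := by
        rw [injective_iff_map_eq_one]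
        intro a ha
        have : (a : G) ∈ repKer T.toRepresentation := (QuotientGroup.eq_one_iff (a : G)).1 ha
        exact Subtype.ext (hker a a.2 this)
      exact h.trans (Subgroup.card_dvd_of_injective f hf)
  · rw [Subgroup.index_top] at hqd
    exact absurd (Nat.le_of_dvd one_pos hqd) (not_le.2 hq.one_lt)

/-- Twist of a representation by a power of its determinant. -/
noncomputable def detTwist (ρ : Representation ℂ G V) (w : ℕ) : Representation ℂ G V where
  toFun g := (LinearMap.det (ρ g)) ^ w • ρ g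
  map_one' := by simp
  map_mul' a b := by
    rw [map_mul, map_mul, mul_pow, smul_mul_smul_comm]

theorem detTwist_apply (ρ : Representation ℂ G V) (w : ℕ) (g : G) :
    detTwist ρ w g = (LinearMap.det (ρ g)) ^ w • ρ g := rfl

theorem rep_pow_of_scalar (ρ : Representation ℂ G V) {g : G} {c : ℂ}
    (hc : ρ g = c • LinearMap.id) (k : ℕ) : ρ (g ^ k) = c ^ k • LinearMap.id := by
  induction k with
  | zero => simp; rfl
  | succ k ih =>
      rw [pow_succ, map_mul, ih, hc, smul_mul_smul_comm, pow_succ]
      rfl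

theorem eq_one_of_smul_id [Nontrivial V] {c : ℂ} (h : c • (LinearMap.id : V →ₗ[ℂ] V) = 1) :
    c = 1 := by
  obtain ⟨v, hv⟩ := exists_ne (0 : V)
  have h1 := LinearMap.congr_fun h v
  simp only [LinearMap.smul_apply, LinearMap.id_apply, Module.End.one_apply] at h1
  have h2 : (c - 1) • v = 0 := by rw [sub_smul, h1, one_smul, sub_self]
  rcases smul_eq_zero.1 h2 with h3 | h3
  · exact sub_eq_zero.1 h3
  · exact absurd h3 hv

/-- The central case: central elements of prime order above `N` can be removed. -/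
theorem central_case (IH : HallIH.{u, v} N m) (ρ : Representation ℂ G V) [hirr : ρ.IsIrreducible]
    (hinj : Function.Injective ρ) (hN : finrank ℂ V + 1 ≤ N) (hm : Nat.card G + finrank ℂ V = m)
    (z : G) (hz : ∀ g, g * z = z * g) {p : ℕ} (hp : p.Prime) (hzp : orderOf z = p) (hpN : N < p) :
    ∃ A : Subgroup G, IsHallAbove N A := by
  classical
  haveI hnt : Nontrivial V := Cfsg.Agent.Lib.Char.Integrality.nontrivial_of_isIrreducible ρ
  set d := finrank ℂ V with hd
  have hd0 : 0 < d := finrank_pos
  have hcardG : Nat.card G ≠ 0 := Nat.card_pos.ne'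
  obtain ⟨e, m', hm', hG⟩ := Nat.exists_eq_pow_mul_and_not_dvd hcardG p hp.ne_one
  have hcop : Nat.Coprime (d * m') p := by
    apply Nat.Coprime.symm
    rw [Nat.Prime.coprime_iff_not_dvd hp]
    intro h
    rcases (Nat.Prime.dvd_mul hp).1 h with h1 | h1
    · have := Nat.le_of_dvd hd0 h1
      omega
    · exact hm' h1
  obtain ⟨t₀, ht₀⟩ := Nat.exists_mul_mod_eq_one_of_coprime hcop hp.one_lt
  set w := m' * ((p - 1) * t₀) with hw
  set D := 1 + d * w with hD
  have hpD : p ∣ D := by
    obtain ⟨p', rfl⟩ : ∃ p', p = p' + 1 := ⟨p - 1, by have := hp.pos; omega⟩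
    have hX := Nat.div_add_mod (d * m' * t₀) (p' + 1)
    rw [ht₀.2] at hX
    refine ⟨1 + p' * (d * m' * t₀ / (p' + 1)), ?_⟩
    have h2 : d * w = p' * (d * m' * t₀) := by
      rw [hw]
      simp only [Nat.add_sub_cancel]
      ring
    rw [hD, h2]
    conv_lhs => rw [← hX]
    ring
  have hDm : Nat.Coprime D m' := by
    have h2 : D = 1 + m' * (d * ((p - 1) * t₀)) := by rw [hD, hw]; ring
    rw [h2]
    simp
  set σ := detTwist ρ w with hσ
  set K := repKer σ with hK
  -- `z` lies in the kernel
  have hzK : z ∈ K := by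
    rw [hK, mem_repKer, hσ, detTwist_apply]
    obtain ⟨a, ha⟩ := Cfsg.Agent.Lib.Char.Integrality.exists_smul_id_of_commute ρ (ρ z)
      (fun g => by
        show ρ z * ρ g = ρ g * ρ z
        rw [← map_mul, ← map_mul, hz])
    have hap : a ^ p = 1 := by
      have h1 := rep_pow_of_scalar ρ ha p
      rw [← hzp, pow_orderOf_eq_one, map_one, hzp] at h1
      exact eq_one_of_smul_id h1.symm
    rw [ha, LinearMap.det_smul, LinearMap.det_id, mul_one, smul_smul, ← pow_mul, ← hd]
    have haD : a ^ D = 1 := by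
      obtain ⟨k, hk⟩ := hpD
      rw [hk, pow_mul, hap, one_pow]
    have : a ^ (d * w) * a = a ^ D := by rw [hD, pow_add, pow_one, mul_comm]
    rw [this, haD, one_smul]
    rfl
  -- the kernel is a `p`-group
  have hKp : ∀ g ∈ K, g ^ p ^ e = 1 := by
    intro g hg
    rw [hK, mem_repKer, hσ, detTwist_apply] at hg
    set δ := LinearMap.det (ρ g) with hδ
    have hδw : δ ^ w ≠ 0 := by
      intro h0
      rw [h0, zero_smul] at hg
      exact zero_ne_one hg
    set c := (δ ^ w)⁻¹ with hc
    have hcρ : ρ g = c • LinearMap.id := by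
      have h1 : ρ g = c • ((δ ^ w) • ρ g) := by
        rw [smul_smul, hc, inv_mul_cancel₀ hδw, one_smul]
      rw [h1, hg]
      rfl
    have hδc : δ = c ^ d := by
      rw [hδ, hcρ, LinearMap.det_smul, LinearMap.det_id, mul_one]
    have hcD : c ^ D = 1 := by
      have h1 : (δ ^ w) * c = 1 := mul_inv_cancel₀ hδw
      rw [hδc, ← pow_mul] at h1
      rw [hD, pow_add, pow_one, mul_comm]
      exact h1
    have hcG : c ^ Nat.card G = 1 := by
      have h1 := rep_pow_of_scalar ρ hcρ (Nat.card G)
      rw [pow_card_eq_one', map_one] at h1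
      exact eq_one_of_smul_id h1.symm
    set y := c ^ p ^ e with hy
    have hy1 : y ^ m' = 1 := by
      rw [hy, ← pow_mul, ← hG]
      exact hcG
    have hy2 : y ^ D = 1 := by
      rw [hy, ← pow_mul, mul_comm, pow_mul, hcD, one_pow]
    have hy3 : y = 1 := by
      have : y ^ Nat.gcd D m' = 1 := pow_gcd_eq_one.2 ⟨hy2, hy1⟩
      rw [hDm.gcd_eq_one, pow_one] at this
      exact this
    apply hinj
    rw [rep_pow_of_scalar ρ hcρ, ← hy, hy3, one_smul, map_one]
    rfl
  have hKpg : IsPGroup p K := by
    intro g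
    refine ⟨e, Subtype.ext ?_⟩
    simpa using hKp g g.2
  have hKpi : ∀ q : ℕ, q.Prime → q ∣ Nat.card K → N < q := by
    intro q hq hqd
    haveI : Fact p.Prime := ⟨hp⟩
    obtain ⟨j, hj⟩ := IsPGroup.iff_card.1 hKpg
    rw [hj] at hqd
    have := (Nat.prime_dvd_prime_iff_eq hq hp).1 (hq.dvd_of_dvd_pow hqd)
    omega
  -- pass to the quotient
  have hcardK : 1 < Nat.card K := by
    have hz1 : z ≠ 1 := by
      rintro rfl
      rw [orderOf_one] at hzp
      exact hp.one_lt.ne hzp
    haveI : Nontrivial K := ⟨⟨⟨z, hzK⟩, 1, fun h => hz1 (congrArg Subtype.val h)⟩⟩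
    exact Finite.one_lt_card
  have hlt : Nat.card (G ⧸ K) < Nat.card G := by
    rw [Subgroup.card_eq_card_quotient_mul_card_subgroup K]
    exact lt_mul_of_one_lt_right Nat.card_pos hcardK
  obtain ⟨Ā, hĀ⟩ := IH _ (by omega) (G ⧸ K) V (quotRep σ K (fun g hg => (mem_repKer σ g).1 hg))
    (quot_injective σ) hN rfl
  exact ⟨_, hall_comap K hKpi Ā hĀ⟩

/-- The main case: irreducible, no central elements of prime order above `N`. -/
theorem main_case (IH : HallIH.{u, v} N m) (ρ : Representation ℂ G V) [hirr : ρ.IsIrreducible]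
    (hinj : Function.Injective ρ) (hN : finrank ℂ V + 1 ≤ N) (hm : Nat.card G + finrank ℂ V = m)
    (hno : ∀ z : G, (∀ g, g * z = z * g) → ∀ p : ℕ, p.Prime → orderOf z = p → p ≤ N) :
    ∃ A : Subgroup G, IsHallAbove N A := by
  classical
  let S : Set (Subgroup G) := {Y | ∀ q : ℕ, q.Prime → q ∣ Nat.card Y → N < q}
  have hS : (⊥ : Subgroup G) ∈ S := by
    intro q hq hqd
    rw [Subgroup.card_bot] at hqd
    exact absurd (Nat.le_of_dvd one_pos hqd) (not_le.2 hq.one_lt)
  obtain ⟨H, -, hHmax⟩ := (Set.toFinite S).exists_le_maximal hS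
  have hHpi : ∀ q : ℕ, q.Prime → q ∣ Nat.card H → N < q := hHmax.1
  have hmax : ∀ Y : Subgroup G, (∀ q : ℕ, q.Prime → q ∣ Nat.card Y → N < q) → H ≤ Y → Y ≤ H :=
    fun Y hY hle => hHmax.2 hY hle
  have hHc := comm_of_pi ρ hinj hN H hHpi
  -- the centralizer of a nontrivial element of `H`
  have hA1 : ∀ x ∈ H, x ≠ 1 → ∀ q : ℕ, q.Prime → N < q →
      ¬ q ∣ (H.subgroupOf (Subgroup.centralizer ({x} : Set G))).index := by
    intro x hxH hx1 q hq hqN hqd
    set C := Subgroup.centralizer ({x} : Set G) with hC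
    have hHC : H ≤ C := by
      intro h hh
      rw [hC, Subgroup.mem_centralizer_iff]
      intro u hu
      rw [Set.mem_singleton_iff] at hu
      rw [hu]
      exact hHc x hxH h hh
    have hCtop : C ≠ ⊤ := by
      intro htop
      -- then `x` is central; a suitable power is central of prime order
      have hxc : ∀ g, g * x = x * g := by
        intro g
        have : g ∈ C := by rw [htop]; trivial
        rw [hC, Subgroup.mem_centralizer_iff] at this
        exact (this x rfl).symm
      have hord1 : orderOf x ≠ 1 := fun h => hx1 (orderOf_eq_one_iff.1 h)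
      obtain ⟨r, hr, hrd⟩ := Nat.exists_prime_and_dvd hord1
      have hz : orderOf (x ^ (orderOf x / r)) = r := orderOf_pow_orderOf_div (orderOf_pos x).ne' hrd
      have hrN : N < r := hHpi r hr (hrd.trans (Subgroup.orderOf_dvd_natCard H hxH))
      have := hno (x ^ (orderOf x / r)) (fun g => (Commute.pow_right (hxc g) _).eq) r hr hz
      omega
    have hlt := card_lt_of_ne_top' hCtop
    obtain ⟨B, hB⟩ := IH _ (by omega) C V (ρ.comp C.subtype) (comp_subtype_injective ρ hinj C) hN rfl
    have hBc := comm_of_pi (ρ.comp C.subtype : Representation ℂ C V)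
      (comp_subtype_injective ρ hinj C) hN B hB.1
    set H₁ := H.subgroupOf C with hH₁
    have hH₁c : ∀ a ∈ H₁, ∀ b ∈ H₁, a * b = b * a := by
      intro a ha b hb
      exact Subtype.ext (hHc a (Subgroup.mem_subgroupOf.1 ha) b (Subgroup.mem_subgroupOf.1 hb))
    have hcardH₁ : Nat.card H₁ = Nat.card H :=
      Nat.card_congr (Subgroup.subgroupOfEquivOfLe hHC).toEquiv
    obtain ⟨c, hc⟩ := exists_conj_le B H₁ hBc hB hH₁c (fun r hr hrd => hHpi r hr (hcardH₁ ▸ hrd))
    -- the conjugate of `B`
    set M : Subgroup C := B.map (MulAut.conj c).toMonoidHom with hM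
    have hMmem : ∀ v : C, v ∈ M ↔ c⁻¹ * v * c ∈ B := by
      intro v
      have := Subgroup.mem_map_equiv (f := MulAut.conj c) (K := B) (x := v)
      rw [MulAut.conj_symm_apply] at this
      exact this
    have hH₁M : H₁ ≤ M := fun v hv => (hMmem v).2 (hc v hv)
    have hMidx : M.index = B.index := Subgroup.index_map_equiv B (MulAut.conj c)
    have hMcard : Nat.card M = Nat.card B :=
      Subgroup.card_map_of_injective (MulAut.conj c).injective
    set MG : Subgroup G := M.map C.subtype with hMG
    have hMGcard : Nat.card MG = Nat.card B := by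
      rw [hMG, Subgroup.card_map_of_injective C.subtype_injective, hMcard]
    have hMGpi : ∀ r : ℕ, r.Prime → r ∣ Nat.card MG → N < r := fun r hr hrd =>
      hB.1 r hr (hMGcard ▸ hrd)
    have hHMG : H ≤ MG := by
      intro h hh
      exact ⟨⟨h, hHC hh⟩, hH₁M (Subgroup.mem_subgroupOf.2 hh), rfl⟩
    have hMGH := hmax MG hMGpi hHMG
    have hMH₁ : M ≤ H₁ := by
      intro v hv
      exact Subgroup.mem_subgroupOf.2 (hMGH ⟨v, hv, rfl⟩)
    have heq : H₁ = M := le_antisymm hH₁M hMH₁
    rw [heq, hMidx] at hqd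
    have := hB.2 q hq hqd
    omega
  -- an element of prime order in `H` gives a Sylow subgroup of `H`
  have hA2 : ∀ x ∈ H, ∀ r : ℕ, r.Prime → orderOf x = r → ¬ r ∣ H.index := by
    intro x hxH r hr hxr hrd
    haveI : Fact r.Prime := ⟨hr⟩
    have hrN : N < r := hHpi r hr (hxr ▸ Subgroup.orderOf_dvd_natCard H hxH)
    have hx1 : x ≠ 1 := by
      rintro rfl
      rw [orderOf_one] at hxr
      exact hr.one_lt.ne hxr
    have hP : IsPGroup r (Subgroup.zpowers x) := by
      rw [IsPGroup.iff_card]
      exact ⟨1, by rw [Nat.card_zpowers, hxr, pow_one]⟩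
    obtain ⟨Q, hQ⟩ := hP.exists_le_sylow
    have hxQ : x ∈ (Q : Subgroup G) := hQ (Subgroup.mem_zpowers x)
    have hQpi : ∀ q : ℕ, q.Prime → q ∣ Nat.card (Q : Subgroup G) → N < q := by
      intro q hq hqd
      obtain ⟨j, hj⟩ := IsPGroup.iff_card.1 Q.isPGroup'
      rw [hj] at hqd
      have := (Nat.prime_dvd_prime_iff_eq hq hr).1 (hq.dvd_of_dvd_pow hqd)
      omega
    have hQc := comm_of_pi ρ hinj hN (Q : Subgroup G) hQpi
    set C := Subgroup.centralizer ({x} : Set G) with hC
    have hQC : (Q : Subgroup G) ≤ C := by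
      intro h hh
      rw [hC, Subgroup.mem_centralizer_iff]
      intro u hu
      rw [Set.mem_singleton_iff] at hu
      rw [hu]
      exact hQc x hxQ h hh
    have hHC : H ≤ C := by
      intro h hh
      rw [hC, Subgroup.mem_centralizer_iff]
      intro u hu
      rw [Set.mem_singleton_iff] at hu
      rw [hu]
      exact hHc x hxH h hh
    have h1 : ¬ r ∣ C.index := fun h =>
      Q.not_dvd_index (h.trans (Subgroup.index_dvd_of_le hQC))
    rw [← Subgroup.relIndex_mul_index hHC] at hrd
    rcases (Nat.Prime.dvd_mul hr).1 hrd with h | h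
    · exact hA1 x hxH hx1 r hr hrN h
    · exact h1 h
  refine ⟨H, hHpi, fun q hq hqd => ?_⟩
  by_contra hqN
  push Not at hqN
  haveI : Fact q.Prime := ⟨hq⟩
  -- `q` does not divide the order of `H`
  have hq1 : ¬ q ∣ Nat.card H := by
    intro h
    obtain ⟨x, hx⟩ := exists_prime_orderOf_dvd_card' q h
    exact hA2 x x.2 q hq (by rw [Subgroup.orderOf_coe]; exact hx) hqd
  have hqG : q ∣ Nat.card G := by
    rw [← Subgroup.card_mul_index H]
    exact Dvd.dvd.mul_left hqd _
  obtain ⟨y, hy⟩ := exists_prime_orderOf_dvd_card' q hqG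
  have hHcard : Nat.card H ≠ 1 := by
    intro h1
    have hbot : H = ⊥ := Subgroup.card_eq_one.1 h1
    have hzp : (∀ r : ℕ, r.Prime → r ∣ Nat.card (Subgroup.zpowers y) → N < r) := by
      intro r hr hrd
      rw [Nat.card_zpowers, hy] at hrd
      have := (Nat.prime_dvd_prime_iff_eq hr hq).1 hrd
      omega
    have h2 := hmax _ hzp (by rw [hbot]; exact bot_le)
    have h3 : y ∈ H := h2 (Subgroup.mem_zpowers y)
    rw [hbot, Subgroup.mem_bot] at h3
    rw [h3, orderOf_one] at hy
    exact hq.one_lt.ne hy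
  obtain ⟨p, hp, hpd⟩ := Nat.exists_prime_and_dvd hHcard
  haveI : Fact p.Prime := ⟨hp⟩
  have hpN := hHpi p hp hpd
  obtain ⟨x₀, hx₀⟩ := exists_prime_orderOf_dvd_card' p hpd
  have hpidx : ¬ p ∣ H.index :=
    hA2 x₀ x₀.2 p hp (by rw [Subgroup.orderOf_coe]; exact hx₀)
  obtain ⟨g, hgp, hgq⟩ := exists_mixed ρ hinj hp hq (x₀ : G) y
    (by rw [Subgroup.orderOf_coe]; exact hx₀) hy (by omega) (by omega)
  -- the `p`-part and the `q`-part
  have hg0 : orderOf g ≠ 0 := (orderOf_pos g).ne'
  set u := g ^ (orderOf g / p) with hu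
  set v := g ^ (orderOf g / q) with hv
  have huo : orderOf u = p := orderOf_pow_orderOf_div hg0 hgp
  have hvo : orderOf v = q := orderOf_pow_orderOf_div hg0 hgq
  have huv : u * v = v * u := ((Commute.refl g).pow_pow _ _).eq
  have hup : u ^ p ^ 1 = 1 := by rw [pow_one, ← huo]; exact pow_orderOf_eq_one u
  obtain ⟨a, ha⟩ := exists_conj_mem H hp u hup hpidx
  set u' := a⁻¹ * u * a with hu'
  set v' := a⁻¹ * v * a with hv'
  have hu'1 : u' ≠ 1 := by
    intro h
    have h2 : u = 1 := by
      have : u = a * u' * a⁻¹ := by rw [hu']; group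
      rw [this, h]; group
    rw [h2, orderOf_one] at huo
    exact hp.one_lt.ne huo
  have hv'o : orderOf v' = q := by
    have h2 : v' = (MulAut.conj a⁻¹) v := by simp [hv']
    rw [h2, MulEquiv.orderOf_eq, hvo]
  have hcomm' : u' * v' = v' * u' := by
    calc u' * v' = a⁻¹ * (u * v) * a := by rw [hu', hv']; group
      _ = a⁻¹ * (v * u) * a := by rw [huv]
      _ = v' * u' := by rw [hu', hv']; group
  set C := Subgroup.centralizer ({u'} : Set G) with hC
  have hv'C : v' ∈ C := by
    rw [hC, Subgroup.mem_centralizer_iff]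
    intro w hw
    rw [Set.mem_singleton_iff] at hw
    rw [hw]
    exact hcomm'
  have hHC : H ≤ C := by
    intro h hh
    rw [hC, Subgroup.mem_centralizer_iff]
    intro w hw
    rw [Set.mem_singleton_iff] at hw
    rw [hw]
    exact hHc u' ha h hh
  have hqC : q ∣ Nat.card C := hv'o ▸ Subgroup.orderOf_dvd_natCard C hv'C
  have hnot := hA1 u' ha hu'1 q hq hqN
  rw [← Subgroup.card_mul_index (H.subgroupOf C)] at hqC
  rcases (Nat.Prime.dvd_mul hq).1 hqC with h | h
  · have hcardH₁ : Nat.card (H.subgroupOf C) = Nat.card H :=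
      Nat.card_congr (Subgroup.subgroupOfEquivOfLe hHC).toEquiv
    exact hq1 (hcardH₁ ▸ h)
  · exact hnot h

/-- **Blichfeldt's theorem.**  Hall subgroups of faithful linear groups for large primes. -/
theorem exists_hall (N : ℕ) : ∀ (m : ℕ) (G : Type u) [Group G] [Finite G] (V : Type v)
    [AddCommGroup V] [Module ℂ V] [FiniteDimensional ℂ V] (ρ : Representation ℂ G V),
    Function.Injective ρ → finrank ℂ V + 1 ≤ N → Nat.card G + finrank ℂ V = m →
    ∃ A : Subgroup G, IsHallAbove N A := by
  intro m
  induction m using Nat.strong_induction_on with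
  | _ m ih =>
    intro G _ _ V _ _ _ ρ hinj hN hm
    have IH : HallIH.{u, v} N m := fun m' hm' G _ _ V _ _ _ ρ hinj hN h => ih m' hm' G V ρ hinj hN h
    by_cases hirr : ρ.IsIrreducible
    · by_cases hno : ∀ z : G, (∀ g, g * z = z * g) → ∀ p : ℕ, p.Prime → orderOf z = p → p ≤ N
      · exact main_case IH ρ hinj hN hm hno
      · push Not at hno
        obtain ⟨z, hz, p, hp, hzp, hpN⟩ := hno
        exact central_case IH ρ hinj hN hm z hz hp hzp hpN
    · by_cases hV : Nontrivial V
      · -- a proper subrepresentation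
        have hnt : Nontrivial (Subrepresentation ρ) := by
          refine ⟨⟨⊥, ⊤, fun h => ?_⟩⟩
          have h2 : (⊥ : Submodule ℂ V) = ⊤ := congrArg Subrepresentation.toSubmodule h
          exact bot_ne_top h2
        obtain ⟨S, hS0, hS1⟩ : ∃ S : Subrepresentation ρ, S ≠ ⊥ ∧ S ≠ ⊤ := by
          by_contra hcon
          push Not at hcon
          apply hirr
          exact { eq_bot_or_eq_top := fun a => by
                    by_cases h : a = ⊥
                    · exact Or.inl h
                    · exact Or.inr (hcon a h) }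
        obtain ⟨T, hT⟩ := Cfsg.Agent.Lib.Char.Basic.exists_isCompl ρ S
        have hT0 : T ≠ ⊥ := by
          rintro rfl
          exact hS1 (by simpa using hT.sup_eq_top)
        exact reducible_case IH ρ hinj hN hm S T hT hS0 hT0
      · -- the trivial group
        rw [not_nontrivial_iff_subsingleton] at hV
        have hG : ∀ g : G, g = 1 := by
          intro g
          apply hinj
          apply LinearMap.ext
          intro v
          exact Subsingleton.elim _ _
        refine ⟨⊤, fun q hq hqd => ?_, fun q hq hqd => ?_⟩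
        · haveI : Subsingleton G := ⟨fun a b => by rw [hG a, hG b]⟩
          rw [Subgroup.card_top, Nat.card_of_subsingleton (1 : G)] at hqd
          exact absurd (Nat.le_of_dvd one_pos hqd) (not_le.2 hq.one_lt)
        · rw [Subgroup.index_top] at hqd
          exact absurd (Nat.le_of_dvd one_pos hqd) (not_le.2 hq.one_lt)

end Cfsg.Agent.Lib.Char.LinearHall
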