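import Mathlib
import Cfsg.Prelude.Def_Characters
import Cfsg.Agent.Lib.Char.Virtual
import Cfsg.Agent.Lib.Char.CompleteCor
import Cfsg.Agent.Lib.Char.Burnside2

/-!
# Coherence of exceptional characters: the abstract part

`T i` are generalized characters of degree `0` with `⟨T i, T j⟩ = e + δ_ij`. If there are at least
three of them, the differences `T i - T j` are `ε (X i - X j)` with distinct irreducible `X i`.
-/

set_option autoImplicit false

namespace Cfsg.Agent.Lib.Char.BrauerSC

open Cfsg Cfsg.Agent.Lib.Char.Virtual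
open scoped ComplexConjugate

variable {G : Type*} [Group G] [Fintype G]

/-- The inner product of irreducible characters, in terms of `IrrCharacter`. -/
theorem inner_irr (a b : IrrCharacter G) :
    classInner (a : G → ℂ) (b : G → ℂ) = if a = b then 1 else 0 := by
  classical
  by_cases h : a = b
  · subst h
    rw [if_pos rfl, classInner_irr_self a.2]
  · rw [if_neg h, classInner_irr_of_ne a.2 b.2 (fun e => h (Subtype.ext e))]

/-- Pattern of equalities when `(a - b, c - d) = 1`. -/
theorem pair_cases (a b c d : IrrCharacter G) (hab : a ≠ b) (hcd : c ≠ d)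
    (h : classInner ((a : G → ℂ) - (b : G → ℂ)) ((c : G → ℂ) - (d : G → ℂ)) = 1) : (a = c ∧ b ≠ d) ∨ (a ≠ c ∧ b = d) := by
  classical
  rw [classInner_sub_left, classInner_sub_right, classInner_sub_right] at h
  simp only [inner_irr] at h
  by_cases h1 : a = c
  · subst h1
    left
    refine ⟨rfl, ?_⟩
    intro h2
    subst h2
    simp [hab, hcd, hcd.symm, hab.symm] at h
  · by_cases h2 : b = d
    · subst h2
      exact Or.inr ⟨h1, rfl⟩
    · exfalso
      rw [if_neg h1, if_neg h2] at h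
      split_ifs at h <;> norm_num at h

variable {I : Type*} [Fintype I] [DecidableEq I]

/-- The coherence argument. -/
theorem exists_coherent (T : I → G → ℂ) (e : ℕ) (hgen : ∀ i, IsGeneralizedCharacter G (T i))
    (h1 : ∀ i, T i 1 = 0) (hin : ∀ i j, classInner (T i) (T j) = if i = j then (e : ℂ) + 1 else (e : ℂ))
    (hI : 3 ≤ Fintype.card I) :
    ∃ (ε : ℤ) (X : I → IrrCharacter G), (ε = 1 ∨ ε = -1) ∧ Function.Injective X ∧
      ∀ i j, T i - T j = (ε : ℂ) • ((X i : G → ℂ) - (X j : G → ℂ)) := by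
  classical
  have hne : Nonempty I := Fintype.card_pos_iff.mp (by omega)
  obtain ⟨i₀⟩ := hne
  -- the norm 2 differences
  have hΔ : ∀ j : {j : I // j ≠ i₀}, ∃ a b : IrrCharacter G, a ≠ b ∧ T i₀ - T j = (a : G → ℂ) - (b : G → ℂ) := by
    rintro ⟨j, hj⟩
    have hg : IsGeneralizedCharacter G (T i₀ - T j) := isGeneralized_sub (hgen _) (hgen _)
    have hn : classInner (T i₀ - T j) (T i₀ - T j) = 2 := by
      rw [classInner_sub_left, classInner_sub_right, classInner_sub_right]
      simp only [hin, if_true, if_neg hj, if_neg hj.symm]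
      ring
    have h0 : (T i₀ - T j) 1 = 0 := by simp [h1]
    obtain ⟨a, b, ha, hb, hab, h⟩ := exists_of_norm_two_of_one hg hn h0
    exact ⟨⟨a, ha⟩, ⟨b, hb⟩, fun h' => hab (congrArg Subtype.val h'), h⟩
  choose A B hAB hAB' using hΔ
  -- the pattern for two distinct indices
  have hpat : ∀ j k : {j : I // j ≠ i₀}, j ≠ k → (A j = A k ∧ B j ≠ B k) ∨ (A j ≠ A k ∧ B j = B k) := by
    intro j k hjk
    apply pair_cases _ _ _ _ (hAB j) (hAB k)
    rw [← hAB' j, ← hAB' k, classInner_sub_left, classInner_sub_right, classInner_sub_right]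
    have h2 : (j : I) ≠ k := fun h => hjk (Subtype.ext h)
    simp only [hin, if_true, if_neg j.2, if_neg k.2, if_neg j.2.symm, if_neg k.2.symm, if_neg h2]
    ring
  -- `J` has at least two elements
  have hJ : 2 ≤ Fintype.card {j : I // j ≠ i₀} := by
    rw [Fintype.card_subtype_compl, Fintype.card_subtype_eq]
    omega
  obtain ⟨j₀, j₀', hj₀⟩ := Fintype.exists_pair_of_one_lt_card (by omega : 1 < Fintype.card {j : I // j ≠ i₀})
  -- the common constituent
  have hmain : ∃ (ε : ℤ) (X₀ : IrrCharacter G) (Y : {j : I // j ≠ i₀} → IrrCharacter G),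
      (ε = 1 ∨ ε = -1) ∧ Function.Injective Y ∧ (∀ j, Y j ≠ X₀) ∧
      ∀ j : {j : I // j ≠ i₀}, T i₀ - T j = (ε : ℂ) • ((X₀ : G → ℂ) - (Y j : G → ℂ)) := by
    by_cases hall : ∀ j k, A j = A k
    · refine ⟨1, A j₀, B, Or.inl rfl, ?_, ?_, ?_⟩
      · intro j k hjk
        by_contra hne
        rcases hpat j k hne with h | h
        · exact h.2 hjk
        · exact h.1 (hall j k)
      · intro j h
        exact hAB j ((hall j j₀).trans h.symm)
      · intro j
        rw [hAB' j, hall j j₀]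
        simp
    · push Not at hall
      obtain ⟨j₁, j₂, h12⟩ := hall
      have hj12 : j₁ ≠ j₂ := fun h => h12 (by rw [h])
      have hb12 : B j₁ = B j₂ := by
        rcases hpat j₁ j₂ hj12 with h | h
        · exact absurd h.1 h12
        · exact h.2
      have hBall : ∀ k, B k = B j₁ := by
        intro k
        by_cases hk1 : k = j₁
        · rw [hk1]
        by_cases hk2 : k = j₂
        · rw [hk2, hb12]
        rcases hpat k j₁ hk1 with h | h
        · rcases hpat k j₂ hk2 with h' | h'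
          · exact absurd (h.1.symm.trans h'.1) h12
          · rw [h'.2, hb12]
        · exact h.2
      refine ⟨-1, B j₁, A, Or.inr rfl, ?_, ?_, ?_⟩
      · intro j k hjk
        by_contra hne
        rcases hpat j k hne with h | h
        · exact h.2 ((hBall j).trans (hBall k).symm)
        · exact h.1 hjk
      · intro j h
        exact hAB j (h.trans (hBall j).symm)
      · intro j
        rw [hAB' j, hBall j]
        simp
  obtain ⟨ε, X₀, Y, hε, hY, hYX, hT⟩ := hmain
  let X : I → IrrCharacter G := fun i => if h : i = i₀ then X₀ else Y ⟨i, h⟩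
  have hX0 : X i₀ = X₀ := by simp [X]
  have hXj : ∀ j : {j : I // j ≠ i₀}, X j = Y j := by
    intro j
    simp only [X]
    rw [dif_neg j.2]
  refine ⟨ε, X, hε, ?_, ?_⟩
  · intro i j hij
    by_cases hi : i = i₀
    · by_cases hj : j = i₀
      · rw [hi, hj]
      · exfalso
        rw [hi, hX0] at hij
        have := hXj ⟨j, hj⟩
        simp only at this
        rw [this] at hij
        exact hYX _ hij.symm
    · by_cases hj : j = i₀
      · exfalso
        rw [hj, hX0] at hij
        have := hXj ⟨i, hi⟩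
        simp only at this
        rw [this] at hij
        exact hYX _ hij
      · have h1' := hXj ⟨i, hi⟩
        have h2' := hXj ⟨j, hj⟩
        simp only at h1' h2'
        rw [h1', h2'] at hij
        exact congrArg Subtype.val (hY hij)
  · -- all differences
    have hT' : ∀ j, T i₀ - T j = (ε : ℂ) • ((X i₀ : G → ℂ) - (X j : G → ℂ)) := by
      intro j
      by_cases hj : j = i₀
      · subst hj
        simp
      · have h1' := hXj ⟨j, hj⟩
        simp only at h1'
        rw [hX0, h1']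
        exact hT ⟨j, hj⟩
    intro i j
    have e1 : T i - T j = (T i₀ - T j) - (T i₀ - T i) := by abel
    rw [e1, hT' i, hT' j, ← smul_sub]
    congr 1
    abel

/-- The trivial irreducible character. -/
noncomputable def oneIrr (G : Type*) [Group G] [Finite G] : IrrCharacter G :=
  ⟨fun _ => 1, Cfsg.Agent.Lib.Char.Burnside2.isIrrCharacter_one⟩

@[simp] theorem oneIrr_apply (x : G) : ((oneIrr G : IrrCharacter G) : G → ℂ) x = 1 := rfl

/-- The structure of the `T i`: `T i = ε X i + R - 1` with `R` orthogonal to `1` and the `X i`. -/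
theorem exists_structure (T : I → G → ℂ) (e : ℕ) (hgen : ∀ i, IsGeneralizedCharacter G (T i))
    (hin : ∀ i j, classInner (T i) (T j) = if i = j then (e : ℂ) + 1 else (e : ℂ))
    (h1' : ∀ i, classInner (T i) (oneIrr G : G → ℂ) = -1) (hm : e + 2 < Fintype.card I)
    (ε : ℤ) (X : I → IrrCharacter G) (hε : ε = 1 ∨ ε = -1) (hX : Function.Injective X)
    (hTX : ∀ i j, T i - T j = (ε : ℂ) • ((X i : G → ℂ) - (X j : G → ℂ))) :
    ∃ c : IrrCharacter G →₀ ℤ,
      (∀ i, T i = (ε : ℂ) • (X i : G → ℂ) + zComb c - (oneIrr G : G → ℂ)) ∧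
      c (oneIrr G) = 0 ∧ (∀ i, c (X i) = 0) ∧ (∀ i, X i ≠ oneIrr G) ∧
      ∑ χ ∈ c.support, (c χ) ^ 2 = (e : ℤ) - 1 := by
  classical
  have hne : Nonempty I := Fintype.card_pos_iff.mp (by omega)
  obtain ⟨i₀⟩ := hne
  have hε2 : ε ^ 2 = 1 := by rcases hε with rfl | rfl <;> norm_num
  have hε0 : ε ≠ 0 := by rcases hε with rfl | rfl <;> norm_num
  set W : G → ℂ := T i₀ - (ε : ℂ) • (X i₀ : G → ℂ) with hWdef
  have hW : ∀ i, T i = (ε : ℂ) • (X i : G → ℂ) + W := by
    intro i
    have := hTX i i₀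
    rw [smul_sub] at this
    rw [hWdef, ← sub_eq_zero]
    rw [← sub_eq_zero] at this
    rw [← this]
    abel
  have hWgen : IsGeneralizedCharacter G W :=
    isGeneralized_sub (hgen i₀) (isGeneralized_intCast_smul (isGeneralized_of_isIrr (X i₀).2) ε)
  obtain ⟨d, hd⟩ := exists_zComb_of_isGeneralized hWgen
  set h : ℤ := ∑ χ ∈ d.support, (d χ) ^ 2 with hh
  have hWW : classInner W W = (h : ℂ) := by rw [hd, classInner_zComb_self]
  have hWX : ∀ χ : IrrCharacter G, classInner W (χ : G → ℂ) = (d χ : ℂ) := by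
    intro χ; rw [hd, classInner_zComb_left]
  have hXW : ∀ χ : IrrCharacter G, classInner (χ : G → ℂ) W = (d χ : ℂ) := by
    intro χ; rw [hd, classInner_zComb_right]
  -- norm equation
  have hnorm : ∀ i, (e : ℤ) = 2 * (ε * d (X i)) + h := by
    intro i
    have h2 := hin i i
    rw [if_pos rfl, hW i] at h2
    simp only [classInner_add_left, classInner_add_right, classInner_smul_left, classInner_smul_right,
      classInner_irr_self (X i).2, hWX, hXW, hWW, map_intCast] at h2
    have h3 : ((ε : ℂ) * ((ε : ℂ) * 1 + (d (X i) : ℂ)) + ((ε : ℂ) * (d (X i) : ℂ) + (h : ℂ))) =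
        (((ε ^ 2 + 2 * (ε * d (X i)) + h : ℤ)) : ℂ) := by
      push_cast; ring
    rw [h3] at h2
    have h4 : ((ε ^ 2 + 2 * (ε * d (X i)) + h : ℤ)) = (e : ℤ) + 1 := by exact_mod_cast h2
    rw [hε2] at h4
    omega
  set c₀ : ℤ := ε * d (X i₀) with hc₀
  have hconst : ∀ i, ε * d (X i) = c₀ := by
    intro i
    have h3 := hnorm i
    have h4 := hnorm i₀
    omega
  have hsq : ∀ i, (d (X i)) ^ 2 = c₀ ^ 2 := by
    intro i
    rw [← hconst i, mul_pow, hε2, one_mul]
  -- Bessel
  have hbes : (Fintype.card I : ℤ) * c₀ ^ 2 ≤ h := by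
    have h2 : ∑ i, (d (X i)) ^ 2 = ∑ χ ∈ Finset.univ.image X, (d χ) ^ 2 := by
      rw [Finset.sum_image (fun a _ b _ hab => hX hab)]
    have h3 : ∑ χ ∈ Finset.univ.image X, (d χ) ^ 2 ≤ ∑ χ ∈ Finset.univ.image X ∪ d.support, (d χ) ^ 2 :=
      Finset.sum_le_sum_of_subset_of_nonneg Finset.subset_union_left (fun _ _ _ => sq_nonneg _)
    have h4 : ∑ χ ∈ d.support, (d χ) ^ 2 = ∑ χ ∈ Finset.univ.image X ∪ d.support, (d χ) ^ 2 := by
      apply Finset.sum_subset Finset.subset_union_right
      intro χ _ hχ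
      rw [Finsupp.notMem_support_iff.mp hχ]; simp
    calc (Fintype.card I : ℤ) * c₀ ^ 2 = ∑ _i : I, c₀ ^ 2 := by
          simp [Finset.card_univ]
      _ = ∑ i, (d (X i)) ^ 2 := by simp only [hsq]
      _ ≤ h := by rw [h2, hh, h4]; exact h3
  have hc0 : c₀ = 0 := by
    by_contra hne
    have h2 := hnorm i₀
    rw [← hc₀] at h2
    have h3 : (1 : ℤ) ≤ c₀ ^ 2 := by
      have := sq_nonneg c₀
      have h5 : c₀ ^ 2 ≠ 0 := pow_ne_zero 2 hne
      omega
    have h4 : -(c₀ ^ 2) ≤ c₀ := by nlinarith [sq_nonneg (c₀ + 1)]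
    have hm' : (e : ℤ) + 2 < (Fintype.card I : ℤ) := by exact_mod_cast hm
    nlinarith
  have hdX : ∀ i, d (X i) = 0 := by
    intro i
    have := hconst i
    rw [hc0] at this
    exact (mul_eq_zero.mp this).resolve_left hε0
  have hhe : h = (e : ℤ) := by
    have := hnorm i₀
    rw [← hc₀, hc0] at this
    omega
  -- the trivial character
  have hd1 : ∀ i, (d (oneIrr G) : ℂ) = -1 - (ε : ℂ) * (if X i = oneIrr G then 1 else 0) := by
    intro i
    have h2 := h1' i
    rw [hW i, classInner_add_left, classInner_smul_left, inner_irr, hWX] at h2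
    rw [eq_sub_iff_add_eq, add_comm, h2]
  have hX1 : ∀ i, X i ≠ oneIrr G := by
    intro i hi
    obtain ⟨i', hi'⟩ : ∃ i', i' ≠ i := by
      have : Nontrivial I := Fintype.one_lt_card_iff_nontrivial.mp (by omega)
      exact exists_ne i
    have h3 := hd1 i'
    have h4 : X i' ≠ oneIrr G := fun h => hi' (hX (h.trans hi.symm))
    rw [if_neg h4] at h3
    have h5 : d (oneIrr G) = 0 := by rw [← hi]; exact hdX i
    rw [h5] at h3
    norm_num at h3
  have hd1' : d (oneIrr G) = -1 := by
    have h3 := hd1 i₀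
    rw [if_neg (hX1 i₀)] at h3
    have : (d (oneIrr G) : ℂ) = ((-1 : ℤ) : ℂ) := by rw [h3]; norm_num
    exact_mod_cast this
  refine ⟨d + Finsupp.single (oneIrr G) 1, ?_, ?_, ?_, hX1, ?_⟩
  · intro i
    rw [zComb_add, zComb_single, hW i, ← hd]
    simp only [Int.cast_one, one_smul]
    abel
  · simp [hd1']
  · intro i
    simp [hdX i, Finsupp.single_apply, (hX1 i).symm]
  · have h2 := classInner_zComb_self (d + Finsupp.single (oneIrr G) 1)
    generalize hS : (∑ χ ∈ (d + Finsupp.single (oneIrr G) 1 : IrrCharacter G →₀ ℤ).support,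
        ((d + Finsupp.single (oneIrr G) 1 : IrrCharacter G →₀ ℤ) χ) ^ 2 : ℤ) = S at h2
    rw [zComb_add, zComb_single, ← hd] at h2
    simp only [Int.cast_one, one_smul, classInner_add_left, classInner_add_right, hWW, hWX, hXW,
      classInner_irr_self (oneIrr G).2, hd1', hhe] at h2
    have h3 : ((((e : ℤ) - 1 : ℤ)) : ℂ) = (S : ℂ) := by
      rw [← h2]
      push_cast
      ring
    exact_mod_cast h3.symm

/-- The values of the constituents. -/
theorem values_of_structure (T : I → G → ℂ) (e : ℕ) (ε : ℤ) (X : I → IrrCharacter G)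
    (c : IrrCharacter G →₀ ℤ) (hε : ε = 1 ∨ ε = -1) (hX : Function.Injective X)
    (hT : ∀ i, T i = (ε : ℂ) • (X i : G → ℂ) + zComb c - (oneIrr G : G → ℂ))
    (hc1 : c (oneIrr G) = 0) (hcX : ∀ i, c (X i) = 0) (hX1 : ∀ i, X i ≠ oneIrr G)
    (hsq : ∑ χ ∈ c.support, (c χ) ^ 2 = (e : ℤ) - 1) (hI : 0 < Fintype.card I)
    (x : G) (p : ℕ) (hC : Nat.card (Subgroup.centralizer ({x} : Set G)) = p) (ψ : I → ℂ)
    (hTx : ∀ i, T i x = ψ i - e) (hsum : ∑ i, ψ i = -1)
    (hnorm : ∑ i, Complex.normSq (ψ i) = (p : ℝ) - e) :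
    (∀ Y ∈ c.support, (Y : G → ℂ) x = -(c Y : ℂ)) ∧
      (∀ χ : IrrCharacter G, χ ≠ oneIrr G → (∀ i, χ ≠ X i) → χ ∉ c.support → (χ : G → ℂ) x = 0) ∧
      (∀ i, (X i : G → ℂ) x = (ε : ℂ) * ψ i) := by
  classical
  haveI : Fintype (IrrCharacter G) := Fintype.ofFinite _
  have hε2 : (ε : ℂ) * ε = 1 := by rcases hε with rfl | rfl <;> norm_num
  set r : ℂ := zComb c x with hr
  set s : ℂ := (e : ℂ) - 1 + r with hs
  have hXval : ∀ i, (ε : ℂ) * (X i : G → ℂ) x = ψ i - s := by
    intro i
    have h2 := hTx i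
    rw [hT i] at h2
    simp only [Pi.sub_apply, Pi.add_apply, Pi.smul_apply, smul_eq_mul, oneIrr_apply] at h2
    rw [hs, hr]
    linear_combination h2
  have hεsq : Complex.normSq (ε : ℂ) = 1 := by
    rcases hε with rfl | rfl <;> norm_num [Complex.normSq_apply]
  have hXnorm : ∀ i, Complex.normSq ((X i : G → ℂ) x) = Complex.normSq (ψ i - s) := by
    intro i
    rw [← hXval i, map_mul, hεsq, one_mul]
  -- column orthogonality
  have hcol : ∑ χ : IrrCharacter G, Complex.normSq ((χ : G → ℂ) x) = (p : ℝ) := by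
    have h2 := Cfsg.Agent.Lib.Char.CompleteCor.column_orth_conj (G := G) (IsConj.refl x)
    rw [hC] at h2
    have h3 : ((∑ χ : IrrCharacter G, Complex.normSq ((χ : G → ℂ) x) : ℝ) : ℂ) = (p : ℂ) := by
      rw [← h2]
      push_cast
      refine Finset.sum_congr rfl fun χ _ => ?_
      rw [Complex.mul_conj]
    exact_mod_cast h3
  -- splitting the sum
  set f : IrrCharacter G → ℝ := fun χ => Complex.normSq ((χ : G → ℂ) x) with hf
  set A : Finset (IrrCharacter G) := Finset.univ.image X with hA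
  set U : Finset (IrrCharacter G) := insert (oneIrr G) (A ∪ c.support) with hU
  have hdisj1 : Disjoint A c.support := by
    rw [Finset.disjoint_left]
    intro χ hχ hχ'
    obtain ⟨i, -, rfl⟩ := Finset.mem_image.mp hχ
    exact (Finsupp.mem_support_iff.mp hχ') (hcX i)
  have hnot1 : oneIrr G ∉ A ∪ c.support := by
    intro h
    rcases Finset.mem_union.mp h with h | h
    · obtain ⟨i, -, hi⟩ := Finset.mem_image.mp h
      exact hX1 i hi
    · exact (Finsupp.mem_support_iff.mp h) hc1
  have hsplit : ∑ χ, f χ = f (oneIrr G) + (∑ χ ∈ A, f χ + ∑ χ ∈ c.support, f χ) +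
      ∑ χ ∈ Finset.univ \ U, f χ := by
    rw [← Finset.sum_sdiff (Finset.subset_univ U), add_comm, hU, Finset.sum_insert hnot1,
      Finset.sum_union hdisj1]
  have hf1 : f (oneIrr G) = 1 := by simp [hf]
  have hfA : ∑ χ ∈ A, f χ = ∑ i, Complex.normSq (ψ i - s) := by
    rw [hA, Finset.sum_image (fun a _ b _ hab => hX hab)]
    exact Finset.sum_congr rfl fun i _ => hXnorm i
  have hexp : ∑ i, Complex.normSq (ψ i - s) = ((p : ℝ) - e) + (Fintype.card I : ℝ) * Complex.normSq s + 2 * s.re := by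
    have h2 : ∀ i, Complex.normSq (ψ i - s) = Complex.normSq (ψ i) + Complex.normSq s -
        2 * (ψ i * (starRingEnd ℂ) s).re := fun i => Complex.normSq_sub _ _
    simp only [h2, Finset.sum_sub_distrib, Finset.sum_add_distrib, hnorm, Finset.sum_const, Finset.card_univ,
      nsmul_eq_mul, ← Finset.mul_sum]
    have h3 : ∑ i, (ψ i * (starRingEnd ℂ) s).re = -s.re := by
      rw [← Complex.re_sum, ← Finset.sum_mul, hsum]
      simp
    rw [h3]
    ring
  -- the sum of squares
  have hcast : ∀ Y : IrrCharacter G, Complex.normSq ((Y : G → ℂ) x + (c Y : ℂ)) =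
      f Y + ((c Y : ℤ) : ℝ) ^ 2 + 2 * ((c Y : ℤ) : ℝ) * ((Y : G → ℂ) x).re := by
    intro Y
    rw [Complex.normSq_add]
    have h2 : Complex.normSq ((c Y : ℤ) : ℂ) = ((c Y : ℤ) : ℝ) ^ 2 := by
      rw [Complex.normSq_intCast]; ring
    rw [h2, map_intCast]
    have h3 : ((Y : G → ℂ) x * ((c Y : ℤ) : ℂ)).re = ((Y : G → ℂ) x).re * ((c Y : ℤ) : ℝ) := by
      simp
    rw [h3]
    ring
  have hrre : r.re = ∑ Y ∈ c.support, ((c Y : ℤ) : ℝ) * ((Y : G → ℂ) x).re := by
    rw [hr, zComb_apply_sum, Finset.sum_apply, Complex.re_sum]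
    refine Finset.sum_congr rfl fun Y _ => ?_
    simp
  have hsre : s.re = (e : ℝ) - 1 + r.re := by
    rw [hs]; simp
  have hsq' : ∑ Y ∈ c.support, ((c Y : ℤ) : ℝ) ^ 2 = (e : ℝ) - 1 := by
    have : ((∑ Y ∈ c.support, (c Y) ^ 2 : ℤ) : ℝ) = (((e : ℤ) - 1 : ℤ) : ℝ) := by rw [hsq]
    push_cast at this
    exact this
  set D : ℝ := ∑ Y ∈ c.support, Complex.normSq ((Y : G → ℂ) x + (c Y : ℂ)) with hD
  have hDexp : D = ∑ Y ∈ c.support, f Y + ((e : ℝ) - 1) + 2 * r.re := by
    rw [hD]
    simp only [hcast]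
    rw [Finset.sum_add_distrib, Finset.sum_add_distrib, hsq', hrre, Finset.mul_sum]
    congr 1
    refine Finset.sum_congr rfl fun Y _ => ?_
    ring
  have hrest : ∑ χ ∈ Finset.univ \ U, f χ = ∑ χ ∈ Finset.univ \ U, f χ := rfl
  have hzero : (Fintype.card I : ℝ) * Complex.normSq s + D + ∑ χ ∈ Finset.univ \ U, f χ = 0 := by
    rw [hcol, hf1, hfA, hexp] at hsplit
    rw [hDexp]
    rw [hsre] at hsplit
    linarith
  have hnn1 : 0 ≤ (Fintype.card I : ℝ) * Complex.normSq s := mul_nonneg (by positivity) (Complex.normSq_nonneg _)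
  have hnn2 : 0 ≤ D := Finset.sum_nonneg fun _ _ => Complex.normSq_nonneg _
  have hnn3 : 0 ≤ ∑ χ ∈ Finset.univ \ U, f χ := Finset.sum_nonneg fun _ _ => Complex.normSq_nonneg _
  have h1z : (Fintype.card I : ℝ) * Complex.normSq s = 0 := by linarith
  have h2z : D = 0 := by linarith
  have h3z : ∑ χ ∈ Finset.univ \ U, f χ = 0 := by linarith
  have hs0 : s = 0 := by
    have hpos : (0 : ℝ) < Fintype.card I := by exact_mod_cast hI
    have := (mul_eq_zero.mp h1z).resolve_left hpos.ne'
    exact Complex.normSq_eq_zero.mp this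
  refine ⟨?_, ?_, ?_⟩
  · intro Y hY
    have h2 := (Finset.sum_eq_zero_iff_of_nonneg (fun _ _ => Complex.normSq_nonneg _)).mp h2z Y hY
    have h3 := Complex.normSq_eq_zero.mp h2
    linear_combination h3
  · intro χ h1 h2 h3
    have hmem : χ ∈ Finset.univ \ U := by
      rw [Finset.mem_sdiff]
      refine ⟨Finset.mem_univ _, ?_⟩
      intro h
      rcases Finset.mem_insert.mp h with h | h
      · exact h1 h
      · rcases Finset.mem_union.mp h with h | h
        · obtain ⟨i, -, hi⟩ := Finset.mem_image.mp h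
          exact h2 i hi.symm
        · exact h3 h
    have h4 := (Finset.sum_eq_zero_iff_of_nonneg (fun _ _ => Complex.normSq_nonneg _)).mp h3z χ hmem
    exact Complex.normSq_eq_zero.mp h4
  · intro i
    have h2 := hXval i
    rw [hs0, sub_zero] at h2
    calc (X i : G → ℂ) x = (ε : ℂ) * ε * (X i : G → ℂ) x := by rw [hε2, one_mul]
      _ = (ε : ℂ) * ((ε : ℂ) * (X i : G → ℂ) x) := by ring
      _ = (ε : ℂ) * ψ i := by rw [h2]

end Cfsg.Agent.Lib.Char.BrauerSC
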