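import Mathlib
import Cfsg.Prelude.Def_Characters
import Cfsg.Agent.Lib.Char.BrauerSC
import Cfsg.Agent.Lib.Char.Induced
import Cfsg.Agent.Lib.Char.IndRep
import Cfsg.Agent.Lib.Char.LinearChars
import Cfsg.Agent.Lib.Char.CyclicTI

/-!
# Brauer's theorem for a self-centralizing subgroup of prime order: construction of the `T i`

`P` of prime order `p` with `C_G(w) ≤ P` for `w ∈ P#`. With `N = N_G(P)`, `|N| = e p`, the functions
`T λ = (λ - 1)^G` over representatives of the `N`-orbits on the nontrivial linear characters of `P`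
satisfy the hypotheses of the abstract lemmas in `BrauerSC`.
-/

set_option autoImplicit false

namespace Cfsg.Agent.Lib.Char.BrauerSCD

open Cfsg Cfsg.Agent.Lib.Char Cfsg.Agent.Lib.Char.Virtual Cfsg.Agent.Lib.Char.BrauerSC Subgroup
open scoped ComplexConjugate

universe u
variable {G : Type u} [Group G] [Fintype G] (P : Subgroup G)

/-- The normalizer as a subgroup. -/
abbrev NN : Subgroup G := normalizer (P : Set G)

theorem inv_conj_mem (x : NN P) {y : G} (hy : y ∈ P) : (x : G)⁻¹ * y * x ∈ P := by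
  have h := (mem_set_normalizer_iff.1 (inv_mem x.2) y).1 hy
  simpa using h

/-- Conjugation `y ↦ x⁻¹ y x` on `P`. -/
def cc (x : NN P) : P →* P where
  toFun y := ⟨(x : G)⁻¹ * y * x, inv_conj_mem P x y.2⟩
  map_one' := by ext; simp
  map_mul' a b := by
    ext
    simp only [Subgroup.coe_mul]
    group

@[simp] theorem cc_coe (x : NN P) (y : P) : ((cc P x y : P) : G) = (x : G)⁻¹ * y * x := rfl

theorem cc_mul (x x' : NN P) (y : P) : cc P x' (cc P x y) = cc P (x * x') y := by
  ext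
  simp only [cc_coe, Subgroup.coe_mul]
  group

theorem cc_one (y : P) : cc P 1 y = y := by
  ext
  simp

/-- The twist of a linear character of `P` by `x`. -/
def tw (x : NN P) (μ : P →* ℂˣ) : P →* ℂˣ := μ.comp (cc P x)

@[simp] theorem tw_apply (x : NN P) (μ : P →* ℂˣ) (y : P) : tw P x μ y = μ (cc P x y) := rfl

theorem tw_tw (x x' : NN P) (μ : P →* ℂˣ) : tw P x (tw P x' μ) = tw P (x * x') μ := by
  ext y
  simp [cc_mul]

theorem tw_one (μ : P →* ℂˣ) : tw P 1 μ = μ := by
  ext y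
  simp [cc_one]

theorem tw_eq_one_iff (x : NN P) (μ : P →* ℂˣ) : tw P x μ = 1 ↔ μ = 1 := by
  constructor
  · intro h
    have h2 := congrArg (tw P x⁻¹) h
    rw [tw_tw, inv_mul_cancel, tw_one] at h2
    rw [h2]
    ext y
    simp
  · rintro rfl
    ext y
    simp

/-- The function `λ - 1` on `P`. -/
noncomputable def alpha (μ : P →* ℂˣ) : P → ℂ := fun y => ((μ y : ℂˣ) : ℂ) - 1

@[simp] theorem alpha_one (μ : P →* ℂˣ) : alpha P μ 1 = 0 := by
  simp [alpha]

theorem alpha_cc (x : NN P) (μ : P →* ℂˣ) (y : P) : alpha P μ (cc P x y) = alpha P (tw P x μ) y := rfl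

/-- The generalized character `T λ`. -/
noncomputable def TT (μ : P →* ℂˣ) : G → ℂ := indFun P (alpha P μ)

theorem isGeneralized_TT (μ : P →* ℂˣ) : IsGeneralizedCharacter G (TT P μ) := by
  refine ⟨indFun P (fun y => ((μ y : ℂˣ) : ℂ)), indFun P (fun _ => (1 : ℂ)),
    IndRep.isCharacter_indFun P (Basic.isCharacter_of_isIrrCharacter (LinearChars.isIrr_of_hom μ)),
    IndRep.isCharacter_indFun P (Basic.isCharacter_one), ?_⟩
  ext g
  simp only [TT, Pi.sub_apply, Induced.indFun_apply]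
  rw [← mul_sub, ← Finset.sum_sub_distrib]
  congr 1
  refine Finset.sum_congr rfl fun x _ => ?_
  by_cases h : x⁻¹ * g * x ∈ P
  · rw [Induced.extendByZero_of_mem P _ h, Induced.extendByZero_of_mem P _ h,
      Induced.extendByZero_of_mem P _ h]
    rfl
  · rw [Induced.extendByZero_of_notMem P _ h, Induced.extendByZero_of_notMem P _ h,
      Induced.extendByZero_of_notMem P _ h, sub_zero]

theorem TT_one (μ : P →* ℂˣ) : TT P μ 1 = 0 := by
  rw [TT, Induced.indFun_one, alpha_one, mul_zero]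


/-! ### Linear characters of a cyclic group -/

section Cyc

variable {W : Type*} [Group W] [Finite W] [IsCyclic W]

theorem nonempty_equiv_hom : Nonempty ((W →* ℂˣ) ≃ W) := by
  letI : CommGroup W := IsCyclic.commGroup
  have hexp : NeZero ((Monoid.exponent W : ℕ) : ℂ) :=
    ⟨Nat.cast_ne_zero.2 Monoid.exponent_ne_zero_of_finite⟩
  have hroots : HasEnoughRootsOfUnity ℂ (Monoid.exponent W) := inferInstance
  obtain ⟨e⟩ := CommGroup.monoidHom_mulEquiv_of_hasEnoughRootsOfUnity W ℂ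
  exact ⟨e.toEquiv⟩

theorem finite_hom : Finite (W →* ℂˣ) := by
  obtain ⟨e⟩ := nonempty_equiv_hom (W := W)
  exact Finite.of_equiv _ e.symm

theorem card_hom : Nat.card (W →* ℂˣ) = Nat.card W := by
  obtain ⟨e⟩ := nonempty_equiv_hom (W := W)
  exact Nat.card_congr e

theorem exists_hom_ne {w : W} (hw : w ≠ 1) : ∃ φ : W →* ℂˣ, φ w ≠ 1 := by
  letI : CommGroup W := IsCyclic.commGroup
  have hexp : NeZero ((Monoid.exponent W : ℕ) : ℂ) :=
    ⟨Nat.cast_ne_zero.2 Monoid.exponent_ne_zero_of_finite⟩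
  have hroots : HasEnoughRootsOfUnity ℂ (Monoid.exponent W) := inferInstance
  exact CommGroup.exists_apply_ne_one_of_hasEnoughRootsOfUnity W ℂ hw

theorem sum_hom_apply [Fintype (W →* ℂˣ)] {w : W} (hw : w ≠ 1) :
    ∑ φ : W →* ℂˣ, ((φ w : ℂˣ) : ℂ) = 0 := by
  obtain ⟨φ₀, h0⟩ := exists_hom_ne hw
  have hmul : ((φ₀ w : ℂˣ) : ℂ) * ∑ φ : W →* ℂˣ, ((φ w : ℂˣ) : ℂ) = ∑ φ : W →* ℂˣ, ((φ w : ℂˣ) : ℂ) := by
    rw [Finset.mul_sum]
    refine Equiv.sum_comp (Equiv.mulLeft φ₀) (fun φ : W →* ℂˣ => ((φ w : ℂˣ) : ℂ)) |>.symm ▸ ?_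
    refine Finset.sum_congr rfl fun φ _ => ?_
    simp
  have h2 : (((φ₀ w : ℂˣ) : ℂ) - 1) * ∑ φ : W →* ℂˣ, ((φ w : ℂˣ) : ℂ) = 0 := by
    rw [sub_mul, one_mul, hmul, sub_self]
  have h3 : ((φ₀ w : ℂˣ) : ℂ) - 1 ≠ 0 := by
    rw [sub_ne_zero]
    intro h
    exact h0 (Units.ext h)
  exact (mul_eq_zero.1 h2).resolve_left h3

end Cyc

/-! ### The main set-up -/

section Main

variable {P} [Fintype P] [Fintype (NN P)] {p : ℕ} [hpf : Fact p.Prime] (hcard : Nat.card P = p)

include hcard in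
theorem isCyclic_P : IsCyclic P := isCyclic_of_prime_card hcard

include hcard in
theorem P_comm (a b : P) : a * b = b * a := by
  haveI := isCyclic_P hcard
  exact (IsCyclic.commGroup (α := P)).mul_comm a b

include hcard in
theorem ker_trivial {μ : P →* ℂˣ} (hμ : μ ≠ 1) {y : P} (hy : μ y = 1) : y = 1 := by
  have : Fact (Nat.card P).Prime := ⟨by rw [hcard]; exact hpf.out⟩
  rcases Subgroup.eq_bot_or_eq_top_of_prime_card (μ.ker) with h | h
  · have : y ∈ μ.ker := hy
    rw [h] at this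
    simpa using this
  · exfalso
    apply hμ
    ext a
    have : a ∈ μ.ker := by rw [h]; exact mem_top _
    have h2 : μ a = 1 := this
    simp [h2]

include hcard in
theorem inj_of_ne {μ : P →* ℂˣ} (hμ : μ ≠ 1) {a b : P} (h : μ a = μ b) : a = b := by
  have h1 : μ (a * b⁻¹) = 1 := by simp [h]
  have h2 := ker_trivial hcard hμ h1
  exact mul_inv_eq_one.1 h2

include hcard in
theorem zpowers_eq {y : G} (hy : y ∈ P) (hy1 : y ≠ 1) : Subgroup.zpowers y = P := by
  have hp := hpf.out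
  have hle : Subgroup.zpowers y ≤ P := by
    rw [Subgroup.zpowers_le]
    exact hy
  refine eq_of_le_of_card_ge hle ?_
  rw [Nat.card_zpowers, hcard]
  have h1 : orderOf y ∣ Nat.card P := by
    have h2 := Subgroup.orderOf_dvd_natCard P hy
    exact h2
  rw [hcard] at h1
  rcases (Nat.dvd_prime hp).1 h1 with h | h
  · exact absurd (orderOf_eq_one_iff.1 h) hy1
  · rw [h]

include hcard in
/-- TI: a conjugate of a nontrivial element of `P` lying in `P` comes from the normalizer. -/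
theorem mem_NN_of_conj_mem {y x : G} (hy : y ∈ P) (hy1 : y ≠ 1) (hx : x⁻¹ * y * x ∈ P) : x ∈ NN P := by
  have h1 := zpowers_eq hcard hy hy1
  have h2 : x⁻¹ * y * x ≠ 1 := by
    intro h
    apply hy1
    have : y = x * (x⁻¹ * y * x) * x⁻¹ := by group
    rw [this, h]
    group
  have h3 := zpowers_eq hcard hx h2
  rw [mem_set_normalizer_iff]
  intro g
  rw [SetLike.mem_coe, SetLike.mem_coe]
  constructor
  · intro hg
    rw [← h3] at hg
    obtain ⟨k, rfl⟩ := Subgroup.mem_zpowers_iff.1 hg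
    have e : x * (x⁻¹ * y * x) ^ k * x⁻¹ = y ^ k := by
      have e2 : x⁻¹ * y * x = x⁻¹ * y * x⁻¹⁻¹ := by simp
      rw [e2, conj_zpow]
      group
    rw [e]
    exact zpow_mem hy k
  · intro hg
    rw [← h1] at hg
    obtain ⟨k, hk⟩ := Subgroup.mem_zpowers_iff.1 hg
    have e : g = (x⁻¹ * y * x) ^ k := by
      have e2 : x⁻¹ * y * x = x⁻¹ * y * x⁻¹⁻¹ := by simp
      rw [e2, conj_zpow, hk]
      group
    rw [e]
    exact zpow_mem hx k

include hcard in
/-- The induced function restricted to `P`. -/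
theorem ind_on_P (β : P → ℂ) (hβ : β 1 = 0) (y : P) :
    indFun P β (y : G) = (Nat.card P : ℂ)⁻¹ * ∑ x : NN P, β (cc P x y) := by
  classical
  rw [Induced.indFun_apply]
  congr 1
  by_cases hy : y = 1
  · subst hy
    have h1 : ∀ x : G, extendByZero P β (x⁻¹ * ((1 : P) : G) * x) = 0 := by
      intro x
      have e : x⁻¹ * ((1 : P) : G) * x = ((1 : P) : G) := by simp
      rw [e, Induced.extendByZero_coe, hβ]
    have h2 : ∀ x : NN P, β (cc P x 1) = 0 := by
      intro x
      rw [map_one, hβ]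
    rw [Finset.sum_eq_zero (fun x _ => h1 x), Finset.sum_eq_zero (fun x _ => h2 x)]
  · have hy1 : (y : G) ≠ 1 := fun h => hy (Subtype.ext h)
    symm
    refine Fintype.sum_of_injective (fun x : NN P => (x : G)) Subtype.val_injective _ _ ?_ ?_
    · intro i hi
      refine Induced.extendByZero_of_notMem P β ?_
      intro hmem
      exact hi ⟨⟨i, mem_NN_of_conj_mem hcard y.2 hy1 hmem⟩, rfl⟩
    · intro x
      have e : (x : G)⁻¹ * y * x = (cc P x y : P) := rfl
      rw [e, Induced.extendByZero_coe]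

variable (hC : ∀ w ∈ P, w ≠ 1 → ∀ x : G, x * w = w * x → x ∈ P)

/-- `P` inside its normalizer. -/
def toNN (u : P) : NN P := ⟨u, le_normalizer u.2⟩

include hcard in
theorem cc_toNN (u y : P) : cc P (toNN u) y = y := by
  ext
  have h := congrArg Subtype.val (P_comm hcard u y)
  simp only [Subgroup.coe_mul] at h
  show (u : G)⁻¹ * y * u = y
  rw [mul_assoc, ← h]
  group

include hcard in
theorem tw_toNN (u : P) (μ : P →* ℂˣ) : tw P (toNN u) μ = μ := by
  ext y
  simp [cc_toNN hcard]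

include hC in
theorem mem_P_of_conj_eq {x x₀ : NN P} {y : P} (hy : y ≠ 1) (h : cc P x y = cc P x₀ y) :
    (x : G) * (x₀ : G)⁻¹ ∈ P := by
  have h1 : (x : G)⁻¹ * y * x = (x₀ : G)⁻¹ * y * x₀ := congrArg Subtype.val h
  refine hC y y.2 (fun h' => hy (Subtype.ext h')) _ ?_
  have e : (y : G) * ((x : G) * (x₀ : G)⁻¹) = (x : G) * ((x : G)⁻¹ * y * x) * (x₀ : G)⁻¹ := by group
  rw [e, h1]
  group

include hcard hC in
/-- The fibres of `x ↦ cc x y`, `y ≠ 1`, have size `|P|`. -/
theorem card_cc_eq {y : P} (hy : y ≠ 1) (x₀ : NN P) [DecidableEq P] :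
    (Finset.univ.filter (fun x : NN P => cc P x y = cc P x₀ y)).card = Nat.card P := by
  classical
  rw [Nat.card_eq_fintype_card, ← Finset.card_univ]
  symm
  refine Finset.card_bij (fun u _ => toNN u * x₀) ?_ ?_ ?_
  · intro u _
    rw [Finset.mem_filter]
    refine ⟨Finset.mem_univ _, ?_⟩
    rw [← cc_mul, cc_toNN hcard]
  · intro u _ v _ h
    have h2 := mul_right_cancel h
    exact Subtype.ext (congrArg (fun a : NN P => (a : G)) h2)
  · intro x hx
    have h1 := (Finset.mem_filter.1 hx).2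
    have h2 := mem_P_of_conj_eq hC hy h1
    refine ⟨⟨_, h2⟩, Finset.mem_univ _, ?_⟩
    ext
    simp [toNN]

include hcard hC in
/-- The fibres of `x ↦ tw x μ`, `μ ≠ 1`, have size `|P|`. -/
theorem card_tw_eq {μ : P →* ℂˣ} (hμ : μ ≠ 1) (x₀ : NN P) [DecidableEq (P →* ℂˣ)] :
    (Finset.univ.filter (fun x : NN P => tw P x μ = tw P x₀ μ)).card = Nat.card P := by
  classical
  rw [Nat.card_eq_fintype_card, ← Finset.card_univ]
  symm
  refine Finset.card_bij (fun u _ => toNN u * x₀) ?_ ?_ ?_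
  · intro u _
    rw [Finset.mem_filter]
    refine ⟨Finset.mem_univ _, ?_⟩
    rw [← tw_tw, tw_toNN hcard]
  · intro u _ v _ h
    have h2 := mul_right_cancel h
    exact Subtype.ext (congrArg (fun a : NN P => (a : G)) h2)
  · intro x hx
    have h1 := (Finset.mem_filter.1 hx).2
    have hp := hpf.out
    obtain ⟨y, hy⟩ : ∃ y : P, y ≠ 1 := by
      have : Nontrivial P := by
        refine Finite.one_lt_card_iff_nontrivial.1 ?_
        rw [hcard]
        exact hp.one_lt
      exact exists_ne 1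
    have h3 : cc P x y = cc P x₀ y := by
      apply inj_of_ne hcard hμ
      have := DFunLike.congr_fun h1 y
      simpa using this
    have h2 := mem_P_of_conj_eq hC hy h3
    refine ⟨⟨_, h2⟩, Finset.mem_univ _, ?_⟩
    ext
    simp [toNN]

/-! ### Orbits on the nontrivial characters -/

variable (P) in
/-- The nontrivial linear characters of `P`. -/
abbrev SS : Type u := {μ : P →* ℂˣ // μ ≠ 1}

/-- The twist on nontrivial characters. -/
def twS (x : NN P) (a : SS P) : SS P :=
  ⟨tw P x a.1, fun h => a.2 ((tw_eq_one_iff P x a.1).1 h)⟩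

variable (P) in
/-- The orbit relation. -/
def rr : Setoid (SS P) where
  r a b := ∃ x : NN P, tw P x b.1 = a.1
  iseqv := by
    refine ⟨fun a => ⟨1, tw_one P _⟩, ?_, ?_⟩
    · rintro a b ⟨x, h⟩
      refine ⟨x⁻¹, ?_⟩
      rw [← h, tw_tw, inv_mul_cancel, tw_one]
    · rintro a b c ⟨x, h⟩ ⟨y, h'⟩
      refine ⟨x * y, ?_⟩
      rw [← tw_tw, h', h]

variable (P) in
/-- The orbits. -/
abbrev II : Type u := Quotient (rr P)

/-- The chosen representative. -/
noncomputable def rp (i : II P) : SS P := Quotient.out i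

theorem rp_rel (i j : II P) : (∃ x : NN P, tw P x (rp j).1 = (rp i).1) ↔ i = j := by
  have := @Quotient.out_equiv_out _ (rr P) i j
  exact this

theorem rp_mk_rel (a : SS P) : ∃ x : NN P, tw P x (rp (Quotient.mk (rr P) a)).1 = a.1 := by
  have h : (rr P).r (Quotient.out (Quotient.mk (rr P) a)) a := Quotient.mk_out (s := rr P) a
  obtain ⟨x, hx⟩ := (rr P).symm h
  exact ⟨x, hx⟩

variable [Fintype (SS P)] [Fintype (II P)]

include hcard hC in
theorem sum_orbits (f : SS P → ℂ) :
    ∑ i : II P, ∑ x : NN P, f (twS x (rp i)) = (Nat.card P : ℂ) * ∑ a : SS P, f a := by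
  classical
  have h1 : ∀ i : II P, ∀ x : NN P, f (twS x (rp i)) = ∑ a : SS P, if twS x (rp i) = a then f a else 0 := by
    intro i x
    rw [Finset.sum_ite_eq]
    simp
  simp_rw [h1]
  rw [Finset.mul_sum]
  calc ∑ i : II P, ∑ x : NN P, ∑ a : SS P, (if twS x (rp i) = a then f a else 0)
      = ∑ i : II P, ∑ a : SS P, ∑ x : NN P, (if twS x (rp i) = a then f a else 0) :=
        Finset.sum_congr rfl fun i _ => Finset.sum_comm
    _ = ∑ a : SS P, ∑ i : II P, ∑ x : NN P, (if twS x (rp i) = a then f a else 0) :=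
        Finset.sum_comm
    _ = _ := by
        refine Finset.sum_congr rfl fun a _ => ?_
        rw [Finset.sum_eq_single (Quotient.mk (rr P) a)]
        · obtain ⟨x₀, hx₀⟩ := rp_mk_rel a
          have h2 : ∀ x : NN P, twS x (rp (Quotient.mk (rr P) a)) = a ↔
              tw P x (rp (Quotient.mk (rr P) a)).1 = tw P x₀ (rp (Quotient.mk (rr P) a)).1 := by
            intro x
            rw [hx₀]
            exact Subtype.ext_iff
          simp_rw [h2]
          rw [Finset.sum_ite, Finset.sum_const_zero, add_zero, Finset.sum_const, nsmul_eq_mul,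
            card_tw_eq hcard hC (rp _).2 x₀]
        · intro i _ hi
          refine Finset.sum_eq_zero fun x _ => ?_
          rw [if_neg]
          intro h
          apply hi
          obtain ⟨x₀, hx₀⟩ := rp_mk_rel a
          have h3 : tw P x (rp i).1 = a.1 := congrArg Subtype.val h
          refine ((rp_rel (Quotient.mk (rr P) a) i).1 ⟨x₀⁻¹ * x, ?_⟩).symm
          rw [← tw_tw, h3, ← hx₀, tw_tw, inv_mul_cancel, tw_one]
        · intro h
          exact absurd (Finset.mem_univ _) h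

/-! ### The inner products -/

/-- The linear character as a function. -/
noncomputable def uc (μ : P →* ℂˣ) : P → ℂ := fun y => ((μ y : ℂˣ) : ℂ)

theorem alpha_eq (μ : P →* ℂˣ) : alpha P μ = uc μ - uc (1 : P →* ℂˣ) := by
  ext y
  simp [alpha, uc]

theorem inner_uc (μ ν : P →* ℂˣ) : classInner (uc μ) (uc ν) = @ite ℂ (μ = ν) (Classical.propDecidable _) 1 0 :=
  CyclicTI.classInner_unit μ ν

theorem inner_alpha {μ ν : P →* ℂˣ} (hμ : μ ≠ 1) (hν : ν ≠ 1) :
    classInner (alpha P μ) (alpha P ν) = (@ite ℂ (μ = ν) (Classical.propDecidable _) 1 0) + 1 := by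
  rw [alpha_eq, alpha_eq, classInner_sub_left, classInner_sub_right, classInner_sub_right, inner_uc,
    inner_uc, inner_uc, inner_uc, if_neg hμ, if_neg hν.symm, if_pos rfl]
  ring

include hcard in
theorem inner_TT {μ ν : P →* ℂˣ} (hμ : μ ≠ 1) (hν : ν ≠ 1) :
    classInner (TT P μ) (TT P ν) = (Nat.card P : ℂ)⁻¹ * ((Nat.card (NN P) : ℂ) +
      ∑ x : NN P, @ite ℂ (μ = tw P x ν) (Classical.propDecidable _) 1 0) := by
  classical
  have hcf : IsClassFunction G (TT P ν) := Induced.indFun_isClassFunction P _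
  rw [TT, Induced.frobenius_reciprocity P _ _ hcf]
  have h1 : (fun h : P => TT P ν (h : G)) = (Nat.card P : ℂ)⁻¹ • ∑ x : NN P, alpha P (tw P x ν) := by
    ext y
    rw [TT, ind_on_P hcard _ (alpha_one P ν) y]
    simp only [Pi.smul_apply, Finset.sum_apply, smul_eq_mul, alpha_cc]
  rw [h1, classInner_smul_right, classInner_finset_sum_right]
  have h2 : conj ((Nat.card P : ℂ)⁻¹) = (Nat.card P : ℂ)⁻¹ := by
    simp
  rw [h2]
  congr 1
  have h3 : ∀ x : NN P, classInner (alpha P μ) (alpha P (tw P x ν)) =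
      (@ite ℂ (μ = tw P x ν) (Classical.propDecidable _) 1 0) + 1 := by
    intro x
    exact inner_alpha hμ (fun h => hν ((tw_eq_one_iff P x ν).1 h))
  simp_rw [h3]
  rw [Finset.sum_add_distrib, add_comm]
  congr 1
  rw [Finset.sum_const, nsmul_eq_mul, mul_one, Finset.card_univ, Nat.card_eq_fintype_card]

variable (e : ℕ) (he : Nat.card (NN P) = e * p)

include hcard hC he in
theorem inner_T [DecidableEq (II P)] (i j : II P) :
    classInner (TT P (rp i).1) (TT P (rp j).1) = if i = j then (e : ℂ) + 1 else (e : ℂ) := by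
  classical
  have hp0 : (p : ℂ) ≠ 0 := by
    exact_mod_cast hpf.out.ne_zero
  rw [inner_TT hcard (rp i).2 (rp j).2, hcard, he]
  split_ifs with hij
  · subst hij
    have h1 : ∀ x : NN P, @ite ℂ ((rp i).1 = tw P x (rp i).1) (Classical.propDecidable _) 1 0 =
        if tw P x (rp i).1 = tw P 1 (rp i).1 then 1 else 0 := by
      intro x
      rw [tw_one]
      by_cases h : (rp i).1 = tw P x (rp i).1
      · rw [if_pos h, if_pos h.symm]
      · rw [if_neg h, if_neg (fun h' => h h'.symm)]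
    simp_rw [h1]
    rw [Finset.sum_ite, Finset.sum_const_zero, add_zero, Finset.sum_const, nsmul_eq_mul, mul_one,
      card_tw_eq hcard hC (rp i).2 1, hcard]
    push_cast
    field_simp
  · have h1 : ∀ x : NN P, @ite ℂ ((rp i).1 = tw P x (rp j).1) (Classical.propDecidable _) 1 0 = 0 := by
      intro x
      rw [if_neg]
      intro h
      exact hij ((rp_rel i j).1 ⟨x, h.symm⟩)
    simp_rw [h1]
    rw [Finset.sum_const_zero, add_zero]
    push_cast
    field_simp

theorem inner_one {μ : P →* ℂˣ} (hμ : μ ≠ 1) :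
    classInner (TT P μ) (oneIrr G : G → ℂ) = -1 := by
  classical
  rw [TT, Induced.frobenius_reciprocity P _ _ (CompleteCor.isIrr_classFunction (oneIrr G).2)]
  have h1 : (fun h : P => ((oneIrr G : IrrCharacter G) : G → ℂ) h) = uc (1 : P →* ℂˣ) := by
    ext y
    simp [uc]
  rw [h1, alpha_eq, classInner_sub_left, inner_uc, inner_uc, if_neg hμ, if_pos rfl]
  ring

/-- The value `ψ`. -/
noncomputable def psi (μ : P →* ℂˣ) (w : P) : ℂ :=
  (Nat.card P : ℂ)⁻¹ * ∑ x : NN P, ((μ (cc P x w) : ℂˣ) : ℂ)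

include hcard he in
theorem TT_value (μ : P →* ℂˣ) (w : P) : TT P μ (w : G) = psi μ w - e := by
  have hp0 : (p : ℂ) ≠ 0 := by
    exact_mod_cast hpf.out.ne_zero
  rw [TT, ind_on_P hcard _ (alpha_one P μ) w, psi]
  simp only [alpha]
  rw [Finset.sum_sub_distrib, mul_sub]
  congr 1
  rw [Finset.sum_const, nsmul_eq_mul, mul_one, Finset.card_univ, ← Nat.card_eq_fintype_card, he, hcard]
  push_cast
  field_simp

theorem psi_tw (μ : P →* ℂˣ) (w : P) (x' : NN P) : psi (tw P x' μ) w = psi μ w := by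
  rw [psi, psi]
  congr 1
  rw [← Equiv.sum_comp (Equiv.mulRight x') (fun x : NN P => ((μ (cc P x w) : ℂˣ) : ℂ))]
  refine Finset.sum_congr rfl fun x _ => ?_
  simp only [Equiv.coe_mulRight, tw_apply]
  rw [cc_mul]

/-! ### Sums over the nontrivial characters -/

variable [Fintype (P →* ℂˣ)]

theorem sum_SS (F : (P →* ℂˣ) → ℂ) : ∑ a : SS P, F a.1 = ∑ μ, F μ - F 1 := by
  classical
  have h1 : ∑ μ ∈ (Finset.univ.erase (1 : P →* ℂˣ)), F μ = ∑ a : SS P, F a.1 :=
    Finset.sum_subtype _ (by simp) F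
  rw [← h1, Finset.sum_erase_eq_sub (Finset.mem_univ _)]

include hcard in
theorem sum_chars (v : P) : ∑ a : SS P, ((a.1 v : ℂˣ) : ℂ) =
    @ite ℂ (v = 1) (Classical.propDecidable _) (p : ℂ) 0 - 1 := by
  classical
  haveI := isCyclic_P hcard
  rw [sum_SS (fun μ => ((μ v : ℂˣ) : ℂ))]
  simp only [MonoidHom.one_apply, Units.val_one]
  congr 1
  split_ifs with hv
  · subst hv
    simp only [map_one, Units.val_one, Finset.sum_const, Finset.card_univ, nsmul_eq_mul, mul_one]
    rw [← Nat.card_eq_fintype_card, card_hom, hcard]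
  · exact sum_hom_apply hv

include hcard hC in
theorem sum_psi {w : P} (hw : w ≠ 1) : ∑ i : II P, psi (rp i).1 w = -1 := by
  have hp0 : (Nat.card P : ℂ) ≠ 0 := by
    rw [hcard]
    exact_mod_cast hpf.out.ne_zero
  have h1 := sum_orbits hcard hC (fun a : SS P => ((a.1 w : ℂˣ) : ℂ))
  have h2 : ∀ i : II P, psi (rp i).1 w = (Nat.card P : ℂ)⁻¹ * ∑ x : NN P, (fun a : SS P => ((a.1 w : ℂˣ) : ℂ)) (twS x (rp i)) := by
    intro i
    rfl
  simp_rw [h2]
  rw [← Finset.mul_sum, h1, ← mul_assoc, inv_mul_cancel₀ hp0, one_mul, sum_chars hcard, if_neg hw]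
  ring

include hcard hC he in
theorem sum_normSq {w : P} (hw : w ≠ 1) :
    ∑ i : II P, psi (rp i).1 w * conj (psi (rp i).1 w) = (p : ℂ) - e := by
  classical
  have hp0 : (p : ℂ) ≠ 0 := by
    exact_mod_cast hpf.out.ne_zero
  have he0 : (e : ℂ) ≠ 0 := by
    have h1 : 0 < Nat.card (NN P) := Nat.card_pos
    rw [he] at h1
    have : e ≠ 0 := by
      rintro rfl
      simp at h1
    exact_mod_cast this
  have hNc : ((Nat.card (NN P) : ℕ) : ℂ) = (e : ℂ) * p := by
    rw [he]
    push_cast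
    ring
  have hPc : ((Nat.card P : ℕ) : ℂ) = p := by rw [hcard]
  set g : SS P → ℂ := fun a => psi a.1 w * conj (psi a.1 w) with hg
  have hinv : ∀ (x : NN P) (a : SS P), g (twS x a) = g a := by
    intro x a
    simp only [hg, twS, psi_tw]
  have h1 := sum_orbits hcard hC g
  simp_rw [hinv] at h1
  simp only [Finset.sum_const, nsmul_eq_mul, Finset.card_univ] at h1
  rw [← Nat.card_eq_fintype_card, hNc, hPc, ← Finset.mul_sum] at h1
  -- the sum over all nontrivial characters
  have h2 : ∑ a : SS P, g a = (e : ℂ) * p - (e : ℂ) ^ 2 := by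
    have h3 : ∀ a : SS P, g a = ((p : ℂ)⁻¹) ^ 2 * ∑ x : NN P, ∑ x' : NN P,
        ((a.1 (cc P x w * (cc P x' w)⁻¹) : ℂˣ) : ℂ) := by
      intro a
      have h4 : ∀ x x' : NN P, ((a.1 (cc P x w * (cc P x' w)⁻¹) : ℂˣ) : ℂ) =
          ((a.1 (cc P x w) : ℂˣ) : ℂ) * conj ((a.1 (cc P x' w) : ℂˣ) : ℂ) := by
        intro x x'
        rw [CyclicTI.unit_conj, ← Units.val_mul, ← map_mul]
      simp_rw [h4]
      simp only [hg, psi, hPc, map_mul, map_inv₀, Complex.conj_natCast, map_sum]
      rw [sq]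
      simp only [Finset.sum_mul, Finset.mul_sum]
      rw [Finset.sum_comm]
      refine Finset.sum_congr rfl fun x _ => Finset.sum_congr rfl fun x' _ => ?_
      ring
    simp_rw [h3]
    rw [← Finset.mul_sum]
    have h5 : ∑ a : SS P, ∑ x : NN P, ∑ x' : NN P, ((a.1 (cc P x w * (cc P x' w)⁻¹) : ℂˣ) : ℂ) =
        ∑ x' : NN P, ∑ x : NN P, ((if cc P x w = cc P x' w then (p : ℂ) else 0) - 1) := by
      rw [Finset.sum_comm]
      simp_rw [Finset.sum_comm (s := (Finset.univ : Finset (SS P)))]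
      rw [Finset.sum_comm]
      refine Finset.sum_congr rfl fun x' _ => Finset.sum_congr rfl fun x _ => ?_
      rw [sum_chars hcard]
      congr 1
      by_cases h6 : cc P x w = cc P x' w
      · rw [if_pos h6, if_pos (by rw [h6]; simp)]
      · rw [if_neg h6, if_neg (fun h7 => h6 (mul_inv_eq_one.1 h7))]
    rw [h5]
    have h6 : ∀ x' : NN P, ∑ x : NN P, ((if cc P x w = cc P x' w then (p : ℂ) else 0) - 1) =
        (p : ℂ) * p - (e : ℂ) * p := by
      intro x'
      rw [Finset.sum_sub_distrib, Finset.sum_ite, Finset.sum_const_zero, add_zero, Finset.sum_const,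
        nsmul_eq_mul, card_cc_eq hcard hC hw x', Finset.sum_const, nsmul_eq_mul, mul_one,
        Finset.card_univ, ← Nat.card_eq_fintype_card, hNc, hcard]
    simp_rw [h6]
    rw [Finset.sum_const, nsmul_eq_mul, Finset.card_univ, ← Nat.card_eq_fintype_card, hNc]
    field_simp
  rw [h2] at h1
  have h7 : (e : ℂ) * p * ∑ i : II P, g (rp i) = (e : ℂ) * p * ((p : ℂ) - e) := by
    rw [h1]
    ring
  have h8 := mul_left_cancel₀ (mul_ne_zero he0 hp0) h7
  exact h8

include hcard hC he in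
theorem card_II : Fintype.card (II P) * e = p - 1 := by
  classical
  have hp := hpf.out
  have hp0 : (p : ℂ) ≠ 0 := by
    exact_mod_cast hp.ne_zero
  have h1 := sum_orbits hcard hC (fun _ : SS P => (1 : ℂ))
  simp only [Finset.sum_const, nsmul_eq_mul, mul_one, Finset.card_univ] at h1
  rw [← Nat.card_eq_fintype_card (α := NN P), he, hcard] at h1
  have h2 : Fintype.card (SS P) = p - 1 := by
    haveI := isCyclic_P hcard
    have h3 : Fintype.card (SS P) = Fintype.card (P →* ℂˣ) - 1 := by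
      rw [Fintype.card_subtype_compl, Fintype.card_subtype_eq]
    rw [h3, ← Nat.card_eq_fintype_card, card_hom, hcard]
  rw [h2] at h1
  have h4 : ((Fintype.card (II P) * e : ℕ) : ℂ) * p = ((p - 1 : ℕ) : ℂ) * p := by
    push_cast at h1 ⊢
    rw [mul_comm ((p - 1 : ℕ) : ℂ)]
    rw [← h1]
    ring
  have h5 := mul_right_cancel₀ hp0 h4
  exact_mod_cast h5

include hcard in
theorem centralizer_eq {w : G} (hwP : w ∈ P) (hw : w ≠ 1) (hC : ∀ w ∈ P, w ≠ 1 → ∀ x : G, x * w = w * x → x ∈ P) :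
    Subgroup.centralizer ({w} : Set G) = P := by
  apply le_antisymm
  · intro x hx
    have h1 := Subgroup.mem_centralizer_singleton_iff.1 hx
    exact hC w hwP hw x h1
  · intro x hx
    rw [Subgroup.mem_centralizer_singleton_iff]
    have h := congrArg Subtype.val (P_comm hcard ⟨x, hx⟩ ⟨w, hwP⟩)
    exact h

include hcard hC he in
/-- **Brauer's theorem for a self-centralizing subgroup of prime order.** -/
theorem main [DecidableEq (II P)] (hm : e + 2 < Fintype.card (II P)) :
    ∃ (ε : ℤ) (X : II P → IrrCharacter G) (c : IrrCharacter G →₀ ℤ),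
      (ε = 1 ∨ ε = -1) ∧ Function.Injective X ∧ c (oneIrr G) = 0 ∧ (∀ i, c (X i) = 0) ∧
      (∀ i, X i ≠ oneIrr G) ∧ (∑ χ ∈ c.support, (c χ) ^ 2 = (e : ℤ) - 1) ∧
      (∀ i, (ε : ℂ) * (X i : G → ℂ) 1 + ∑ Y ∈ c.support, (c Y : ℂ) * (Y : G → ℂ) 1 - 1 = 0) ∧
      ∀ w (hw : w ∈ P), w ≠ 1 → (∀ Y ∈ c.support, (Y : G → ℂ) w = -(c Y : ℂ)) ∧
        (∀ χ : IrrCharacter G, χ ≠ oneIrr G → (∀ i, χ ≠ X i) → χ ∉ c.support → (χ : G → ℂ) w = 0) ∧
        (∀ i, (X i : G → ℂ) w = (ε : ℂ) * psi (rp i).1 (⟨w, hw⟩ : P)) := by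
  classical
  set T : II P → G → ℂ := fun i => TT P (rp i).1 with hT
  have hgen : ∀ i, IsGeneralizedCharacter G (T i) := fun i => isGeneralized_TT P _
  have h1 : ∀ i, T i 1 = 0 := fun i => TT_one P _
  have hin : ∀ i j, classInner (T i) (T j) = if i = j then (e : ℂ) + 1 else (e : ℂ) :=
    inner_T hcard hC e he
  have hone : ∀ i, classInner (T i) (oneIrr G : G → ℂ) = -1 := fun i => inner_one (rp i).2
  have hI : 3 ≤ Fintype.card (II P) := by
    have he1 : e ≠ 0 := by
      rintro rfl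
      have h2 := card_II hcard hC 0 he
      have h3 := hpf.out.two_le
      omega
    omega
  obtain ⟨ε, X, hε, hX, hTX⟩ := exists_coherent T e hgen h1 hin hI
  obtain ⟨c, hTc, hc1, hcX, hX1, hsq⟩ := exists_structure T e hgen hin hone hm ε X hε hX hTX
  refine ⟨ε, X, c, hε, hX, hc1, hcX, hX1, hsq, ?_, ?_⟩
  · intro i
    have h2 := h1 i
    rw [hTc i] at h2
    simp only [Pi.sub_apply, Pi.add_apply, Pi.smul_apply, smul_eq_mul, oneIrr_apply] at h2
    rw [zComb_apply_sum] at h2
    simp only [Finset.sum_apply, Pi.smul_apply, smul_eq_mul] at h2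
    exact h2
  · intro w hw hw1
    have hC' : Nat.card (Subgroup.centralizer ({w} : Set G)) = p := by
      rw [centralizer_eq hcard hw hw1 hC, hcard]
    have hw' : (⟨w, hw⟩ : P) ≠ 1 := fun h => hw1 (congrArg Subtype.val h)
    have hsum := sum_psi hcard hC hw'
    have hnorm := sum_normSq hcard hC e he hw'
    have hTx : ∀ i, T i w = psi (rp i).1 (⟨w, hw⟩ : P) - e := fun i =>
      TT_value hcard e he (rp i).1 ⟨w, hw⟩
    have hnorm' : ∑ i, Complex.normSq (psi (rp i).1 (⟨w, hw⟩ : P)) = (p : ℝ) - e := by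
      have h3 : ((∑ i, Complex.normSq (psi (rp i).1 (⟨w, hw⟩ : P)) : ℝ) : ℂ) = (((p : ℝ) - e : ℝ) : ℂ) := by
        push_cast
        rw [← hnorm]
        refine Finset.sum_congr rfl fun i _ => ?_
        rw [Complex.mul_conj]
      exact_mod_cast h3
    have hIpos : 0 < Fintype.card (II P) := by omega
    exact values_of_structure T e ε X c hε hX hTc hc1 hcX hX1 hsq hIpos w p hC' _ hTx hsum hnorm'

end Main

end Cfsg.Agent.Lib.Char.BrauerSCD
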