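import Mathlib
import Cfsg.Prelude.Def_Characters
import Cfsg.Agent.Lib.Char.BrauerSCD
import Cfsg.Agent.Lib.Char.Integrality
import Cfsg.Agent.Lib.Char.Ortho
import Cfsg.Agent.Lib.Basic.SmallSimple

/-!
# Brauer's theorem for a self-centralizing subgroup of prime order: numerical form
-/

set_option autoImplicit false

namespace Cfsg.Agent.Lib.Char.BrauerSCNum

open Cfsg Cfsg.Agent.Lib.Char Cfsg.Agent.Lib.Char.Virtual Cfsg.Agent.Lib.Char.BrauerSC
open Cfsg.Agent.Lib.Char.BrauerSCD Subgroup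
open Cfsg.Agent.Lib.Char.Integrality
open Cfsg.Agent.Lib.Basic
open scoped ComplexConjugate commutatorElement

universe u
variable {G : Type u} [Group G] [Finite G]

/-- A nontrivial irreducible character of a perfect group has degree greater than `1`. -/
theorem one_lt_degree [Fintype G] (hperf : commutator G = ⊤) (Y : IrrCharacter G) (hY : Y ≠ oneIrr G) (d : ℕ)
    (hd : (Y : G → ℂ) 1 = d) : 1 < d := by
  obtain ⟨n, hn, h1⟩ := Ortho.irr_degree_pos Y.2
  have hdn : d = n := by
    rw [hd] at h1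
    exact_mod_cast h1
  by_contra hcon
  have hd1 : d = 1 := by omega
  subst hdn
  have h1' : (Y : G → ℂ) 1 = 1 := by rw [hd, hd1]; simp
  obtain ⟨φ, hφ⟩ := LinearChars.exists_hom_of_isCharacter_one (Basic.isCharacter_of_isIrrCharacter Y.2) h1'
  apply hY
  have hφ1 : φ = 1 := by
    ext g
    have hg : g ∈ commutator G := by rw [hperf]; exact mem_top _
    have hle : commutator G ≤ φ.ker := by
      rw [commutator_def, commutator_le]
      intro a _ b _
      rw [MonoidHom.mem_ker, map_commutatorElement, commutatorElement_eq_one_iff_mul_comm.2 (mul_comm _ _)]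
    have : φ g = 1 := hle hg
    simp [this]
  apply Subtype.ext
  funext g
  have := congrFun hφ g
  simpa [hφ1] using this

/-- The value on `P#` is congruent to the degree. -/
theorem congr_of_values [Fintype G] (P : Subgroup G) [Fintype P] {p : ℕ} (hp : p.Prime) (hcard : Nat.card P = p)
    (Y : IrrCharacter G) (a : ℤ) (hY : ∀ w ∈ P, w ≠ 1 → (Y : G → ℂ) w = a) (d : ℕ)
    (hd : (Y : G → ℂ) 1 = d) : (p : ℤ) ∣ (d : ℤ) - a := by
  classical
  have hp0 : (p : ℂ) ≠ 0 := by
    exact_mod_cast hp.ne_zero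
  obtain ⟨n, hn⟩ := Ortho.exists_nat_classInner_of_isCharacter
    (Basic.isCharacter_restrict (Basic.isCharacter_of_isIrrCharacter Y.2) P) (Basic.isCharacter_one (G := P))
  have h1 : ∀ h : P, (Y : G → ℂ) (h : G) = (a : ℂ) + (if h = 1 then ((d : ℂ) - a) else 0) := by
    intro h
    split_ifs with hh
    · subst hh
      simp [hd]
    · rw [hY h h.2 (fun e => hh (Subtype.ext e))]
      simp
  have h2 : ∑ h : P, (Y : G → ℂ) (h : G) = (p : ℂ) * a + ((d : ℂ) - a) := by
    simp_rw [h1]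
    rw [Finset.sum_add_distrib, Finset.sum_const, nsmul_eq_mul, Finset.card_univ,
      ← Nat.card_eq_fintype_card, hcard, Finset.sum_ite_eq']
    simp
  have h3 : classInner (fun h : P => (Y : G → ℂ) (h : G)) (1 : P → ℂ) = (p : ℂ)⁻¹ * ((p : ℂ) * a + ((d : ℂ) - a)) := by
    rw [classInner, hcard]
    simp only [Pi.one_apply, map_one, mul_one]
    rw [h2]
  rw [h3] at hn
  have h4 : (p : ℂ) * a + ((d : ℂ) - a) = (p : ℂ) * n := by
    field_simp at hn
    linear_combination hn
  have h5 : (d : ℤ) - a = (p : ℤ) * ((n : ℤ) - a) := by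
    have : ((d : ℤ) - a : ℂ) = ((p : ℤ) * ((n : ℤ) - a) : ℂ) := by
      push_cast
      linear_combination h4
    exact_mod_cast this
  exact ⟨_, h5⟩

/-- Integrality: the degree divides the class size times the (integer) value. -/
theorem dvd_of_value [Fintype G] (Y : IrrCharacter G) (w : G) (a : ℤ) (ha : (Y : G → ℂ) w = a) (d : ℕ)
    (hd : (Y : G → ℂ) 1 = d) (hd0 : d ≠ 0) : d ∣ (centralizer ({w} : Set G)).index * a.natAbs := by
  obtain ⟨χ, n, ρ, hρ, hχ⟩ := Y
  subst hχ
  have hdn : d = n := by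
    have h1 : (ρ.character 1 : ℂ) = d := hd
    rw [Representation.char_one] at h1
    simp only [Module.finrank_fin_fun] at h1
    exact_mod_cast h1.symm
  subst hdn
  have hirr : ρ.IsIrreducible := hρ
  have h1 := isIntegral_classSize_mul_character_div_finrank ρ w
  have ha' : ρ.character w = a := ha
  rw [ha'] at h1
  simp only [Module.finrank_fin_fun] at h1
  refine natCast_dvd_of_isIntegral_div hd0 ?_
  rcases Int.natAbs_eq a with h | h
  · have e : (((centralizer ({w} : Set G)).index * a.natAbs : ℕ) : ℂ) / (d : ℂ) =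
        ((centralizer ({w} : Set G)).index : ℂ) * (a : ℂ) / (d : ℂ) := by
      have hc : (a : ℂ) = (a.natAbs : ℂ) := by
        have := congrArg (Int.cast : ℤ → ℂ) h
        simpa only [Int.cast_natCast] using this
      rw [Nat.cast_mul, hc]
    rw [e]
    exact h1
  · have e : (((centralizer ({w} : Set G)).index * a.natAbs : ℕ) : ℂ) / (d : ℂ) =
        -(((centralizer ({w} : Set G)).index : ℂ) * (a : ℂ) / (d : ℂ)) := by
      have hc : (a : ℂ) = -(a.natAbs : ℂ) := by
        have := congrArg (Int.cast : ℤ → ℂ) h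
        simpa only [Int.cast_neg, Int.cast_natCast] using this
      rw [Nat.cast_mul, hc]
      ring
    rw [e]
    exact h1.neg

theorem degree_dvd [Fintype G] (Y : IrrCharacter G) (D : ℕ) (hD : (Y : G → ℂ) 1 = D) : D ∣ Nat.card G := by
  obtain ⟨χ, n, ρ, hρ, hχ⟩ := Y
  subst hχ
  have hirr : ρ.IsIrreducible := hρ
  have h1 := finrank_dvd_card ρ
  have h2 : (ρ.character 1 : ℂ) = D := hD
  rw [Representation.char_one] at h2
  have h3 : Module.finrank ℂ (Fin n → ℂ) = D := by exact_mod_cast h2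
  rwa [h3] at h1

/-- **Numerical form of Brauer's theorem.** -/
theorem numeric {p : ℕ} [hpf : Fact p.Prime] (P : Subgroup G) (hcard : Nat.card P = p)
    (hC : ∀ w ∈ P, w ≠ 1 → ∀ x : G, x * w = w * x → x ∈ P) (e : ℕ)
    (he : Nat.card (normalizer (P : Set G)) = e * p) (hm : e + 2 < (p - 1) / e) (hperf : commutator G = ⊤) :
    ∃ (ε : ℤ) (D : ℕ) (s : Finset (IrrCharacter G)) (c : IrrCharacter G → ℤ) (d : IrrCharacter G → ℕ),
      (ε = 1 ∨ ε = -1) ∧ 0 < D ∧ D ∣ Nat.card G ∧ (ε * D + ∑ Y ∈ s, c Y * d Y = 1) ∧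
      (∑ Y ∈ s, (c Y) ^ 2 = (e : ℤ) - 1) ∧
      ∀ Y ∈ s, c Y ≠ 0 ∧ 1 < d Y ∧ d Y ∣ (Nat.card G / p) * (c Y).natAbs ∧ (p : ℤ) ∣ (d Y : ℤ) + c Y := by
  classical
  cases nonempty_fintype G
  have hcyc := isCyclic_P hcard
  have hfin : Finite (P →* ℂˣ) := finite_hom
  letI : Fintype P := Fintype.ofFinite _
  letI : Fintype (NN P) := Fintype.ofFinite _
  letI : Fintype (P →* ℂˣ) := Fintype.ofFinite _
  letI : Fintype (SS P) := Fintype.ofFinite _
  letI : Fintype (II P) := Fintype.ofFinite _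
  have hp := hpf.out
  have he0 : 0 < e := by
    rcases Nat.eq_zero_or_pos e with h | h
    · subst h
      simp at hm
    · exact h
  have hcardI : Fintype.card (II P) = (p - 1) / e := by
    have h1 := card_II hcard hC e he
    rw [← h1, Nat.mul_div_cancel _ he0]
  have hm' : e + 2 < Fintype.card (II P) := by rw [hcardI]; exact hm
  obtain ⟨ε, X, c, hε, hX, hc1, hcX, hX1, hsq, hdeg, hval⟩ := main hcard hC e he hm'
  have hne : Nonempty (II P) := Fintype.card_pos_iff.mp (by omega)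
  obtain ⟨i₀⟩ := hne
  obtain ⟨D, hD0, hD⟩ := Ortho.irr_degree_pos (X i₀).2
  choose d hd0 hd using fun Y : IrrCharacter G => Ortho.irr_degree_pos Y.2
  refine ⟨ε, D, c.support, fun Y => c Y, d, hε, hD0, ?_, ?_, hsq, ?_⟩
  · exact degree_dvd (X i₀) D hD
  · have h1 := hdeg i₀
    rw [hD] at h1
    simp_rw [hd] at h1
    have h2 : (((ε * D + ∑ Y ∈ c.support, c Y * d Y : ℤ)) : ℂ) = ((1 : ℤ) : ℂ) := by
      push_cast
      linear_combination h1
    exact_mod_cast h2
  · intro Y hY
    have hcY : c Y ≠ 0 := Finsupp.mem_support_iff.1 hY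
    have hY1 : Y ≠ oneIrr G := by
      rintro rfl
      exact hcY hc1
    obtain ⟨w, hwP, hw1⟩ : ∃ w ∈ P, w ≠ 1 := by
      have hn : Nontrivial P := by
        refine Finite.one_lt_card_iff_nontrivial.1 ?_
        rw [hcard]
        exact hp.one_lt
      obtain ⟨y, hy⟩ := exists_ne (1 : P)
      exact ⟨y, y.2, fun h => hy (Subtype.ext h)⟩
    refine ⟨hcY, one_lt_degree hperf Y hY1 _ (hd Y), ?_, ?_⟩
    · have h1 := (hval w hwP hw1).1 Y hY
      have h2 : (Y : G → ℂ) w = ((-c Y : ℤ) : ℂ) := by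
        rw [h1]
        push_cast
        rfl
      have h3 := dvd_of_value Y w (-c Y) h2 (d Y) (hd Y) (hd0 Y).ne'
      rw [Int.natAbs_neg, centralizer_eq hcard hwP hw1 hC] at h3
      have h4 : P.index = Nat.card G / p := by
        have := Subgroup.card_mul_index P
        rw [hcard] at this
        rw [← this, Nat.mul_div_cancel_left _ hp.pos]
      rwa [h4] at h3
    · have h1 : ∀ w ∈ P, w ≠ 1 → (Y : G → ℂ) w = ((-c Y : ℤ) : ℂ) := by
        intro w hwP hw1
        rw [(hval w hwP hw1).1 Y hY]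
        push_cast
        rfl
      have h2 := congr_of_values P hp hcard Y (-c Y) h1 (d Y) (hd Y)
      simpa using h2

section Simple

variable [IsSimpleGroup G]

/-- The set-up for a simple group with a Sylow `p`-subgroup of order `p` whose normalizer has index `N₀` and
`|N_G(P):P| = e` prime. -/
theorem simple_numeric (p m N₀ e : ℕ) (hp : p.Prime) (hN : Nat.card G = p * m) (hpm : ¬ p ∣ m) (hm : 1 < m)
    (he : e.Prime) (hep : e ≠ p) (hN₀ : N₀ * e = m) (hsyl : ∀ d ∈ m.divisors, d % p = 1 % p → d = 1 ∨ d = N₀)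
    (ht : e + 2 < (p - 1) / e) :
    ∃ (s : Finset (IrrCharacter G)) (c : IrrCharacter G → ℤ) (d : IrrCharacter G → ℕ),
      (1 - ∑ Y ∈ s, c Y * d Y).natAbs ∣ p * m ∧ (∑ Y ∈ s, (c Y) ^ 2 = (e : ℤ) - 1) ∧
      ∀ Y ∈ s, c Y ≠ 0 ∧ 1 < d Y ∧ d Y ∣ m * (c Y).natAbs ∧ (p : ℤ) ∣ (d Y : ℤ) + c Y := by
  classical
  cases nonempty_fintype G
  haveI : Fact p.Prime := ⟨hp⟩
  obtain ⟨P⟩ : Nonempty (Sylow p G) := inferInstance
  letI : Fintype (P : Subgroup G) := Fintype.ofFinite _
  letI : Fintype (NN (P : Subgroup G)) := Fintype.ofFinite _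
  have hcard := SmallSimple.card_sylow_eq_of_card_eq hp hN hpm P
  have hidx := Subgroup.card_mul_index (P : Subgroup G)
  have hpidx : (P : Subgroup G).index = m := by
    rw [hcard, hN] at hidx
    exact Nat.eq_of_mul_eq_mul_left hp.pos hidx
  have h1 : Nat.card (Sylow p G) % p = 1 % p := card_sylow_modEq_one p G
  have h2 : Nat.card (Sylow p G) ∣ m := hpidx ▸ P.card_dvd_index
  have hmem : Nat.card (Sylow p G) ∈ m.divisors := Nat.mem_divisors.mpr ⟨h2, by omega⟩
  have hnidx : (normalizer ((P : Subgroup G) : Set G)).index = Nat.card (Sylow p G) :=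
    (Sylow.card_eq_index_normalizer P).symm
  have hNlt : p < Nat.card G := by
    rw [hN]
    nlinarith [hp.pos]
  have hnotnormal : Nat.card (Sylow p G) ≠ 1 := by
    intro h3
    rw [h3, Subgroup.index_eq_one] at hnidx
    haveI hnormal : (P : Subgroup G).Normal := Subgroup.normalizer_eq_top_iff.mp hnidx
    rcases hnormal.eq_bot_or_eq_top with h | h
    · rw [h, Subgroup.card_bot] at hcard
      exact hp.one_lt.ne hcard
    · rw [h, Subgroup.card_top] at hcard
      omega
  have hnp : Nat.card (Sylow p G) = N₀ := (hsyl _ hmem h1).resolve_left hnotnormal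
  have hNcard : Nat.card (normalizer ((P : Subgroup G) : Set G)) = e * p := by
    have h3 := Subgroup.card_mul_index (normalizer ((P : Subgroup G) : Set G))
    rw [hnidx, hnp, hN, ← hN₀] at h3
    have hN0pos : 0 < N₀ := by
      rcases Nat.eq_zero_or_pos N₀ with h | h
      · subst h
        omega
      · exact h
    apply Nat.eq_of_mul_eq_mul_right hN0pos
    rw [h3]
    ring
  -- the centralizer
  have hPcomm : ∀ a ∈ (P : Subgroup G), ∀ b ∈ (P : Subgroup G), a * b = b * a := by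
    intro a ha b hb
    have := congrArg Subtype.val (P_comm hcard ⟨a, ha⟩ ⟨b, hb⟩)
    exact this
  have hCle : centralizer ((P : Subgroup G) : Set G) ≤ normalizer ((P : Subgroup G) : Set G) :=
    centralizer_le_normalizer _
  have hPC : (P : Subgroup G) ≤ centralizer ((P : Subgroup G) : Set G) := by
    intro a ha
    rw [mem_centralizer_iff]
    intro b hb
    exact hPcomm b hb a ha
  have hCP : centralizer ((P : Subgroup G) : Set G) = P := by
    have h3 : Nat.card (P : Subgroup G) ∣ Nat.card (centralizer ((P : Subgroup G) : Set G)) :=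
      Subgroup.card_dvd_of_le hPC
    have h4 : Nat.card (centralizer ((P : Subgroup G) : Set G)) ∣ e * p := by
      rw [← hNcard]
      exact Subgroup.card_dvd_of_le hCle
    rw [hcard] at h3
    obtain ⟨k, hk⟩ := h3
    rw [hk, mul_comm] at h4
    have hk2 : k ∣ e := Nat.dvd_of_mul_dvd_mul_right hp.pos h4
    rcases (Nat.dvd_prime he).1 hk2 with h5 | h5
    · symm
      apply eq_of_le_of_card_ge hPC
      rw [hk, h5, hcard]
      simp
    · exfalso
      have h6 : centralizer ((P : Subgroup G) : Set G) = normalizer ((P : Subgroup G) : Set G) := by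
        apply eq_of_le_of_card_ge hCle
        rw [hNcard, hk, h5, mul_comm]
      have hle : normalizer ((P : Subgroup G) : Set G) ≤ centralizer ((P : Subgroup G) : Set G) := h6.ge
      have hdvd : p ∣ Nat.card G := by rw [hN]; exact dvd_mul_right _ _
      have h7 := SmallSimple.card_eq_of_le_centralizer hdvd P hle
      rw [hcard] at h7
      omega
  have hC : ∀ w ∈ (P : Subgroup G), w ≠ 1 → ∀ x : G, x * w = w * x → x ∈ (P : Subgroup G) := by
    intro w hw hw1 x hx
    have hz := zpowers_eq hcard hw hw1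
    rw [← hCP, mem_centralizer_iff]
    intro g hg
    have hg' : g ∈ zpowers w := by rw [hz]; exact hg
    obtain ⟨k, rfl⟩ := mem_zpowers_iff.1 hg'
    exact ((Commute.zpow_right (show Commute x w from hx) k)).symm.eq
  have hperf : commutator G = ⊤ := by
    rcases (commutator_normal (⊤ : Subgroup G) ⊤).eq_bot_or_eq_top with h | h
    · exfalso
      have hc : ∀ a b : G, a * b = b * a := by
        intro a b
        have h3 : ⁅a, b⁆ ∈ commutator G := Subgroup.commutator_mem_commutator (mem_top a) (mem_top b)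
        rw [_root_.commutator_def, h, mem_bot] at h3
        exact commutatorElement_eq_one_iff_mul_comm.1 h3
      haveI : IsMulCommutative G := ⟨⟨hc⟩⟩
      have h4 : (Nat.card G).Prime := Group.is_simple_iff_prime_card.mp inferInstance
      rw [hN] at h4
      have := Nat.not_prime_mul hp.ne_one (by omega : m ≠ 1)
      exact this h4
    · exact h
  obtain ⟨ε, D, s, c, d, hε, hD0, hDd, heq, hsq, hY⟩ := numeric (P : Subgroup G) hcard hC e hNcard ht hperf
  refine ⟨s, c, d, ?_, hsq, ?_⟩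
  · have h3 : 1 - ∑ Y ∈ s, c Y * d Y = ε * D := by linarith
    rw [h3, hN.symm]
    rcases hε with rfl | rfl
    · simpa using hDd
    · simpa using hDd
  · intro Y hYs
    obtain ⟨h3, h4, h5, h6⟩ := hY Y hYs
    refine ⟨h3, h4, ?_, h6⟩
    rwa [hN, Nat.mul_div_cancel_left _ hp.pos] at h5

end Simple

theorem form_e2 {α : Type*} (s : Finset α) (c : α → ℤ) (h : ∑ Y ∈ s, (c Y) ^ 2 = 1) (h0 : ∀ Y ∈ s, c Y ≠ 0) :
    ∃ Y, s = {Y} ∧ (c Y = 1 ∨ c Y = -1) := by
  classical
  have hne : s.Nonempty := by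
    by_contra hs
    rw [Finset.not_nonempty_iff_eq_empty] at hs
    subst hs
    simp at h
  obtain ⟨Y, hY⟩ := hne
  have h1 : (c Y) ^ 2 + ∑ Z ∈ s.erase Y, (c Z) ^ 2 = 1 := by
    rw [Finset.add_sum_erase s (fun Z => (c Z) ^ 2) hY, h]
  have h2 : 0 ≤ ∑ Z ∈ s.erase Y, (c Z) ^ 2 := Finset.sum_nonneg fun _ _ => sq_nonneg _
  have h3 : 1 ≤ (c Y) ^ 2 := by
    have := h0 Y hY
    have h4 : 0 < (c Y) ^ 2 := by positivity
    omega
  have h5 : ∑ Z ∈ s.erase Y, (c Z) ^ 2 = 0 := by omega
  have h6 : (c Y) ^ 2 = 1 := by omega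
  refine ⟨Y, ?_, ?_⟩
  · ext Z
    simp only [Finset.mem_singleton]
    constructor
    · intro hZ
      by_contra hne
      have hmem : Z ∈ s.erase Y := Finset.mem_erase.2 ⟨hne, hZ⟩
      have h7 := (Finset.sum_eq_zero_iff_of_nonneg (fun _ _ => sq_nonneg _)).1 h5 Z hmem
      exact h0 Z hZ (by simpa using h7)
    · rintro rfl
      exact hY
  · exact sq_eq_sq_iff_eq_or_eq_neg.1 (h6.trans (one_pow 2).symm)

theorem form_e3 {α : Type*} [DecidableEq α] (s : Finset α) (c : α → ℤ) (h : ∑ Y ∈ s, (c Y) ^ 2 = 2) (h0 : ∀ Y ∈ s, c Y ≠ 0) :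
    ∃ Y Z, Y ≠ Z ∧ s = {Y, Z} ∧ (c Y = 1 ∨ c Y = -1) ∧ (c Z = 1 ∨ c Z = -1) := by
  have hne : s.Nonempty := by
    by_contra hs
    rw [Finset.not_nonempty_iff_eq_empty] at hs
    subst hs
    simp at h
  obtain ⟨Y, hY⟩ := hne
  have h1 : (c Y) ^ 2 + ∑ Z ∈ s.erase Y, (c Z) ^ 2 = 2 := by
    rw [Finset.add_sum_erase s (fun Z => (c Z) ^ 2) hY, h]
  have h2 : 0 ≤ ∑ Z ∈ s.erase Y, (c Z) ^ 2 := Finset.sum_nonneg fun _ _ => sq_nonneg _
  have h3 : 1 ≤ (c Y) ^ 2 := by
    have := h0 Y hY
    have h4 : 0 < (c Y) ^ 2 := by positivity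
    omega
  have h6 : (c Y) ^ 2 = 1 := by
    have h7 : (c Y) ^ 2 ≤ 2 := by omega
    have h8 : -2 < c Y := by nlinarith
    have h9 : c Y < 2 := by nlinarith
    have := h0 Y hY
    interval_cases (c Y) <;> simp_all
  have h5 : ∑ Z ∈ s.erase Y, (c Z) ^ 2 = 1 := by omega
  obtain ⟨Z, hZ, hcZ⟩ := form_e2 (s.erase Y) c h5 (fun W hW => h0 W (Finset.mem_of_mem_erase hW))
  refine ⟨Y, Z, ?_, ?_, sq_eq_sq_iff_eq_or_eq_neg.1 (h6.trans (one_pow 2).symm), hcZ⟩
  · intro e
    have : Z ∈ s.erase Y := by rw [hZ]; exact Finset.mem_singleton_self Z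
    exact (Finset.mem_erase.1 this).1 e.symm
  · rw [← hZ, Finset.insert_erase hY]

end Cfsg.Agent.Lib.Char.BrauerSCNum
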