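import Mathlib
import Cfsg.Agent.S4836
import Cfsg.Agent.S0199
import Cfsg.Agent.Lib.Char.Kazarin
import Cfsg.Agent.Lib.Char.CompleteCor
import Cfsg.Agent.Lib.Char.Values
import Cfsg.Agent.Lib.Char.Ortho
import Cfsg.Agent.Lib.Char.FrobeniusKernel
import Cfsg.Agent.Lib.Char.LinearChars
import Cfsg.Agent.Lib.Char.SmallDeg
import Cfsg.Agent.Lib.Char.Burnside2
import Cfsg.Agent.Lib.Basic.PCore
import Cfsg.Prelude.Def_Transfer

set_option autoImplicit false

/-!
# Gagola: characters nonzero on exactly two classes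

If `χ ∈ Irr(G)` is nonzero on exactly two classes (and `|G| > 2`) then its support `N` is a normal
subgroup, and all the other irreducible characters have `N` in their kernel.  Elementary
consequences: every element outside `N` is conjugate to all of its `N`-translates, `N` is the unique
minimal normal subgroup and it is elementary abelian; the centralizers of the nonidentity elements
of `N` and the inertia groups of nonprincipal characters of `N` are the Sylow subgroups; etc.
-/

namespace Cfsg.Agent.Lib.Char.Gagola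

open Cfsg Cfsg.Agent.Lib.Char.CompleteCor Cfsg.Agent.Lib.Char.LinearChars
open scoped ComplexConjugate

universe u

variable {G : Type u} [Group G]

omit [Group G] in
/-- The index of a subgroup is the size of the target, when a surjective function has the cosets
as fibers. -/
lemma index_eq_card_of_fibers {A B : Type*} [Group A] (H : Subgroup A) (F : A → B)
    (hF : ∀ a a', F a = F a' ↔ a⁻¹ * a' ∈ H) (hs : Function.Surjective F) :
    H.index = Nat.card B := by
  let e : A ⧸ H → B := Quotient.lift F (fun a a' h => (hF a a').mpr (QuotientGroup.leftRel_apply.mp h))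
  have he : Function.Bijective e := by
    constructor
    · intro a b
      induction a using QuotientGroup.induction_on with
      | H a =>
      induction b using QuotientGroup.induction_on with
      | H b =>
      intro h
      exact QuotientGroup.eq.mpr ((hF a b).mp h)
    · intro b
      obtain ⟨a, rfl⟩ := hs b
      exact ⟨(a : A ⧸ H), rfl⟩
  exact Nat.card_congr (Equiv.ofBijective e he)

omit [Group G] in
/-- The index of a subgroup is at most the size of the target, when a function has the cosets as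
fibers. -/
lemma index_le_card_of_fibers {A B : Type*} [Group A] [Finite B] (H : Subgroup A) (F : A → B)
    (hF : ∀ a a', F a = F a' ↔ a⁻¹ * a' ∈ H) :
    H.index ≤ Nat.card B := by
  let e : A ⧸ H → B := Quotient.lift F (fun a a' h => (hF a a').mpr (QuotientGroup.leftRel_apply.mp h))
  have he : Function.Injective e := by
    intro a b
    induction a using QuotientGroup.induction_on with
    | H a =>
    induction b using QuotientGroup.induction_on with
    | H b =>
    intro h
    exact QuotientGroup.eq.mpr ((hF a b).mp h)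
  exact Nat.card_le_card_of_injective e he

/-- Elements in the kernel of an irreducible character act trivially. -/
lemma irr_mul_of_eq_one {ψ : G → ℂ} [Finite G] (hψ : IsIrrCharacter G ψ) {g n : G} (hn : ψ n = ψ 1) :
    ψ (g * n) = ψ g := by
  obtain ⟨m, ρ, -, rfl⟩ := hψ
  have h1 : ρ n = LinearMap.id := by
    rw [← Cfsg.Agent.Lib.Char.Values.character_eq_finrank_iff, hn, Representation.char_one]
  have h2 : ρ (g * n) = ρ g := by
    rw [map_mul, h1]
    rfl
  simp only [Representation.character, h2]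

variable [Finite G]

/-- The data of a character nonzero on exactly two classes. -/
structure TwoClass (χ : IrrCharacter G) (N : Subgroup G) : Prop where
  normal : N.Normal
  ne_bot : N ≠ ⊥
  mem_iff : ∀ g, g ∈ N ↔ (χ : G → ℂ) g ≠ 0
  ker : ∀ ψ : IrrCharacter G, ψ ≠ χ → ∀ n ∈ N, (ψ : G → ℂ) n = (ψ : G → ℂ) 1
  all_conj : ∀ x ∈ N, ∀ y ∈ N, x ≠ 1 → y ≠ 1 → IsConj x y

/-- The common kernel of all irreducible characters but one. -/
def comKer (χ : IrrCharacter G) : Subgroup G where
  carrier := {g | ∀ ψ : IrrCharacter G, ψ ≠ χ → (ψ : G → ℂ) g = (ψ : G → ℂ) 1}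
  mul_mem' := by
    intro a b ha hb ψ hψ
    rw [irr_mul_of_eq_one ψ.2 (hb ψ hψ), ha ψ hψ]
  one_mem' := fun _ _ => rfl
  inv_mem' := by
    intro a ha ψ hψ
    have := irr_mul_of_eq_one ψ.2 (g := a⁻¹) (ha ψ hψ)
    rw [inv_mul_cancel] at this
    exact this.symm

lemma mem_comKer {χ : IrrCharacter G} {g : G} :
    g ∈ comKer χ ↔ ∀ ψ : IrrCharacter G, ψ ≠ χ → (ψ : G → ℂ) g = (ψ : G → ℂ) 1 := Iff.rfl

lemma comKer_normal (χ : IrrCharacter G) : (comKer χ).Normal := by
  constructor
  intro n hn g ψ hψ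
  rw [isIrr_classFunction ψ.2 n g]
  exact hn ψ hψ

/-- The trivial character as an element of `IrrCharacter G`. -/
noncomputable def oneIrr (G : Type u) [Group G] [Finite G] : IrrCharacter G :=
  ⟨fun _ => 1, Cfsg.Agent.Lib.Char.Burnside2.isIrrCharacter_one⟩

theorem exists_twoClass (hG : 2 < Nat.card G) (χ : IrrCharacter G)
    (hχ : Nat.card {C : ConjClasses G // ∃ g ∈ C.carrier, (χ : G → ℂ) g ≠ 0} = 2) :
    ∃ N : Subgroup G, TwoClass χ N := by
  classical
  obtain ⟨c, hc1, hc0, hsupp⟩ := Cfsg.Agent.S4836.exists_class χ hχ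
  obtain ⟨c₁, hc₁1, hfaith, hother⟩ := Cfsg.Agent.S4836.key hG χ hχ
  have hd : (χ : G → ℂ) 1 ≠ 0 := Cfsg.Agent.Lib.Char.Ortho.irr_apply_one_ne_zero χ.2
  have hone : oneIrr G ≠ χ := by
    intro h
    apply hc₁1
    apply hfaith
    rw [← h]
    rfl
  -- elements of the common kernel are in the support
  have L1 : ∀ g ∈ comKer χ, g ≠ 1 → (χ : G → ℂ) g ≠ 0 := by
    intro g hg hg1 h0
    cases nonempty_fintype G
    cases nonempty_fintype (IrrCharacter G)
    have hnc : ¬ IsConj (1 : G) g := fun h => hg1 (isConj_one_right.mp h)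
    have h1 := column_orth_not_conj hnc
    rw [← Finset.add_sum_erase _ _ (Finset.mem_univ χ), h0, map_zero, mul_zero, zero_add] at h1
    have h2 : ∀ ψ ∈ Finset.univ.erase χ, (ψ : G → ℂ) 1 * conj ((ψ : G → ℂ) g) =
        ((Complex.normSq ((ψ : G → ℂ) 1) : ℝ) : ℂ) := by
      intro ψ hψ
      rw [hg ψ (Finset.ne_of_mem_erase hψ), Complex.mul_conj]
    rw [Finset.sum_congr rfl h2, ← Complex.ofReal_sum] at h1
    have h3 : ∑ ψ ∈ Finset.univ.erase χ, Complex.normSq ((ψ : G → ℂ) 1) = 0 := by
      exact_mod_cast h1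
    have h4 := (Finset.sum_eq_zero_iff_of_nonneg (fun ψ _ => Complex.normSq_nonneg _)).mp h3
      (oneIrr G) (Finset.mem_erase.mpr ⟨hone, Finset.mem_univ _⟩)
    simp [oneIrr] at h4
  have hc₁K : c₁ ∈ comKer χ := hother
  have hconj : IsConj c c₁ := (hsupp c₁ (L1 c₁ hc₁K hc₁1)).resolve_left hc₁1
  have hnormal := comKer_normal χ
  have hcK : c ∈ comKer χ := by
    obtain ⟨k, hk⟩ := isConj_iff.mp hconj
    have := hnormal.conj_mem c₁ hc₁K k⁻¹
    rw [← hk] at this
    convert this using 1
    group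
  have hmem : ∀ g, g ∈ comKer χ ↔ (χ : G → ℂ) g ≠ 0 := by
    intro g
    constructor
    · intro hg
      by_cases hg1 : g = 1
      · rw [hg1]; exact hd
      · exact L1 g hg hg1
    · intro hg
      rcases hsupp g hg with h | h
      · rw [h]; exact one_mem _
      · obtain ⟨k, rfl⟩ := isConj_iff.mp h
        exact hnormal.conj_mem c hcK k
  refine ⟨comKer χ, hnormal, ?_, hmem, fun ψ hψ n hn => hn ψ hψ, ?_⟩
  · intro h
    apply hc₁1
    rw [h] at hc₁K
    exact hc₁K
  · intro x hx y hy hx1 hy1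
    have h1 := (hsupp x ((hmem x).mp hx)).resolve_left hx1
    have h2 := (hsupp y ((hmem y).mp hy)).resolve_left hy1
    exact h1.symm.trans h2

namespace TwoClass

variable {χ : IrrCharacter G} {N : Subgroup G}

/-- **Key fact**: elements outside the support are conjugate to their `N`-translates. -/
theorem isConj_mul (h : TwoClass χ N) {z n : G} (hz : z ∉ N) (hn : n ∈ N) : IsConj z (z * n) := by
  cases nonempty_fintype G
  apply isConj_of_forall_irr
  intro ψ
  by_cases hψ : ψ = χ
  · subst hψ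
    have h1 : (ψ : G → ℂ) z = 0 := by
      by_contra h0
      exact hz ((h.mem_iff z).mpr h0)
    have h2 : (ψ : G → ℂ) (z * n) = 0 := by
      by_contra h0
      have := (h.mem_iff (z * n)).mpr h0
      apply hz
      have h3 := N.mul_mem this (N.inv_mem hn)
      simpa using h3
    rw [h1, h2]
  · exact (irr_mul_of_eq_one ψ.2 (h.ker ψ hψ n hn)).symm

theorem exists_ne_one (h : TwoClass χ N) : ∃ x ∈ N, x ≠ 1 := by
  have := (Subgroup.ne_bot_iff_exists_ne_one.mp h.ne_bot)
  obtain ⟨⟨x, hx⟩, hx1⟩ := this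
  exact ⟨x, hx, fun h => hx1 (Subtype.ext h)⟩

/-- The support is elementary abelian for some prime. -/
theorem exists_prime (h : TwoClass χ N) : ∃ p : ℕ, p.Prime ∧ ∀ a ∈ N, a ^ p = 1 := by
  have hne : Nat.card N ≠ 1 := by
    intro h1
    apply h.ne_bot
    exact Subgroup.card_eq_one.mp h1
  obtain ⟨p, hp, hd⟩ := Nat.exists_prime_and_dvd hne
  refine ⟨p, hp, ?_⟩
  haveI : Fact p.Prime := ⟨hp⟩
  obtain ⟨⟨x, hx⟩, hxo⟩ := exists_prime_orderOf_dvd_card' p hd
  have hxo' : orderOf x = p := by
    rw [← hxo]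
    exact (Subgroup.orderOf_mk x hx).symm
  have hx1 : x ≠ 1 := by
    rintro rfl
    rw [orderOf_one] at hxo'
    exact hp.one_lt.ne hxo'
  intro a ha
  by_cases ha1 : a = 1
  · rw [ha1, one_pow]
  · obtain ⟨k, rfl⟩ := isConj_iff.mp (h.all_conj x hx a ha hx1 ha1)
    rw [conj_pow, ← hxo', pow_orderOf_eq_one]
    group

theorem isPGroup_of_exists (h : TwoClass χ N) {p : ℕ} (hp : ∀ a ∈ N, a ^ p = 1) : IsPGroup p N := by
  rintro ⟨a, ha⟩
  refine ⟨1, ?_⟩
  apply Subtype.ext
  simp [hp a ha]

/-- The support is commutative. -/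
theorem comm (h : TwoClass χ N) : ∀ a ∈ N, ∀ b ∈ N, a * b = b * a := by
  obtain ⟨p, hp, hpow⟩ := h.exists_prime
  haveI : Fact p.Prime := ⟨hp⟩
  haveI := h.normal
  have hpg := h.isPGroup_of_exists hpow
  obtain ⟨x₀, hx₀, hx₀1⟩ := h.exists_ne_one
  haveI : Nontrivial N := ⟨⟨⟨x₀, hx₀⟩, 1, fun h => hx₀1 (congrArg Subtype.val h)⟩⟩
  haveI : Nontrivial (Subgroup.center N) := hpg.center_nontrivial
  obtain ⟨⟨⟨c, hcN⟩, hc⟩, hc1⟩ := exists_ne (1 : Subgroup.center N)
  have hc1' : c ≠ 1 := fun h => hc1 (Subtype.ext (Subtype.ext h))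
  have hcc : ∀ w ∈ N, c * w = w * c := by
    intro w hw
    have := (Subgroup.mem_center_iff.mp hc) ⟨w, hw⟩
    exact (congrArg Subtype.val this).symm
  have key : ∀ a ∈ N, ∀ b ∈ N, a * b = b * a := by
    intro a ha b hb
    by_cases ha1 : a = 1
    · simp [ha1]
    · obtain ⟨k, hk⟩ := isConj_iff.mp (h.all_conj c hcN a ha hc1' ha1)
      have hb' : k⁻¹ * b * k ∈ N := by
        have := h.normal.conj_mem b hb k⁻¹
        simpa using this
      have := hcc _ hb'
      rw [← hk]
      calc k * c * k⁻¹ * b = k * (c * (k⁻¹ * b * k)) * k⁻¹ := by group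
        _ = k * ((k⁻¹ * b * k) * c) * k⁻¹ := by rw [this]
        _ = b * (k * c * k⁻¹) := by group
  exact key

/-- The support is elementary abelian. -/
theorem isElementaryAbelian (h : TwoClass χ N) : ∃ p : ℕ, p.Prime ∧ IsElementaryAbelian p N := by
  obtain ⟨p, hp, hpow⟩ := h.exists_prime
  refine ⟨p, hp, ⟨⟨?_⟩⟩, hpow⟩
  intro a b
  exact Subtype.ext (h.comm a a.2 b b.2)

/-- The support lies in every nontrivial normal subgroup. -/
theorem le_of_normal (h : TwoClass χ N) {K : Subgroup G} (hK : K.Normal) (hK1 : K ≠ ⊥) : N ≤ K := by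
  by_cases hle : K ≤ N
  · obtain ⟨⟨k, hk⟩, hk1⟩ := Subgroup.ne_bot_iff_exists_ne_one.mp hK1
    have hk1' : k ≠ 1 := fun h => hk1 (Subtype.ext h)
    intro x hx
    by_cases hx1 : x = 1
    · rw [hx1]; exact one_mem _
    · obtain ⟨g, rfl⟩ := isConj_iff.mp (h.all_conj k (hle hk) x hx hk1' hx1)
      exact hK.conj_mem k hk g
  · obtain ⟨k, hk, hkN⟩ := SetLike.not_le_iff_exists.mp hle
    intro x hx
    obtain ⟨g, hg⟩ := isConj_iff.mp (h.isConj_mul hkN hx)
    have h1 : k * x ∈ K := by
      rw [← hg]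
      exact hK.conj_mem k hk g
    have h2 := K.mul_mem (K.inv_mem hk) h1
    simpa using h2

/-- A subgroup with the support of `χ` as underlying set is the same as the one of the setup. -/
theorem eq_of_mem_iff (h : TwoClass χ N) {N' : Subgroup G} (hN' : ∀ g : G, g ∈ N' ↔ (χ : G → ℂ) g ≠ 0) :
    N' = N := by
  ext g
  rw [hN', h.mem_iff]

section withPrime

variable {p : ℕ} [hp : Fact p.Prime]

theorem card_eq (h : TwoClass χ N) (hNp : IsPGroup p N) : ∃ k, k ≠ 0 ∧ Nat.card N = p ^ k := by
  obtain ⟨k, hk⟩ := IsPGroup.iff_card.mp hNp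
  refine ⟨k, ?_, hk⟩
  rintro rfl
  apply h.ne_bot
  rw [pow_zero] at hk
  exact Subgroup.card_eq_one.mp hk

omit [Finite G] in
theorem mem_pow_eq_one {N : Subgroup G} (hNp : IsPGroup p N) {n : G} (hn : n ∈ N) :
    ∃ k, n ^ p ^ k = 1 := by
  obtain ⟨k, hk⟩ := hNp ⟨n, hn⟩
  exact ⟨k, by simpa using congrArg Subtype.val hk⟩

/-- The class of a nonidentity element of the support is the support minus the identity. -/
theorem index_centralizer (h : TwoClass χ N) {x : G} (hx : x ∈ N) (hx1 : x ≠ 1) :
    (Subgroup.centralizer ({x} : Set G)).index = Nat.card N - 1 := by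
  classical
  rw [Cfsg.Agent.Lib.Char.Kazarin.index_centralizer_eq_ncard]
  have h1 : (ConjClasses.mk x).carrier = (N : Set G) \ {1} := by
    ext y
    rw [ConjClasses.mem_carrier_iff_mk_eq, ConjClasses.mk_eq_mk_iff_isConj]
    constructor
    · intro hc
      haveI := h.normal
      obtain ⟨g, rfl⟩ := isConj_iff.mp hc.symm
      constructor
      · exact h.normal.conj_mem x hx g
      · simp only [Set.mem_singleton_iff]
        intro h2
        apply hx1
        have : g⁻¹ * (g * x * g⁻¹) * g = g⁻¹ * 1 * g := by rw [h2]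
        simpa [mul_assoc] using this
    · rintro ⟨hy, hy1⟩
      exact h.all_conj y hy x hx hy1 hx1
  rw [h1, Set.ncard_sdiff_singleton_of_mem (by exact (one_mem N : (1 : G) ∈ (N : Set G))),
    ← Nat.card_coe_set_eq]
  rfl

theorem not_dvd_index_centralizer (h : TwoClass χ N) (hNp : IsPGroup p N) {x : G} (hx : x ∈ N)
    (hx1 : x ≠ 1) : ¬ p ∣ (Subgroup.centralizer ({x} : Set G)).index := by
  rw [h.index_centralizer hx hx1]
  obtain ⟨k, hk0, hk⟩ := h.card_eq hNp
  rw [hk]
  intro hd
  have hp' : p.Prime := hp.out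
  have h1 : p ∣ p ^ k := dvd_pow_self p hk0
  have h2 : 1 ≤ p ^ k := Nat.one_le_pow _ _ hp'.pos
  have h3 : p ∣ 1 := by
    have := Nat.dvd_sub h1 hd
    rwa [Nat.sub_sub_self h2] at this
  exact hp'.one_lt.ne' (Nat.dvd_one.mp h3)

/-- The centralizers of the nonidentity elements of the support are `p`-groups. -/
theorem isPGroup_centralizer (h : TwoClass χ N) (hNp : IsPGroup p N) {x : G} (hx : x ∈ N)
    (hx1 : x ≠ 1) : IsPGroup p (Subgroup.centralizer ({x} : Set G)) := by
  have hp' : p.Prime := hp.out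
  rintro ⟨y, hy⟩
  have hord : orderOf y ≠ 0 := (orderOf_pos y).ne'
  obtain ⟨a, m, hm, hfac⟩ := Nat.exists_eq_pow_mul_and_not_dvd hord p hp'.ne_one
  set y' := y ^ p ^ a with hy'
  have hm0 : m ≠ 0 := by
    rintro rfl
    exact hm (dvd_zero p)
  have hy'o : orderOf y' = m := by
    have := orderOf_pow_orderOf_div hord (n := m) (Dvd.intro_left _ hfac.symm)
    have h2 : orderOf y / m = p ^ a := by
      rw [hfac]
      exact Nat.mul_div_cancel _ (Nat.pos_of_ne_zero hm0)
    rwa [h2] at this
  have hy'1 : y' = 1 := by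
    by_contra hne
    have hm1 : m ≠ 1 := by
      intro hm1
      rw [hm1] at hy'o
      exact hne (orderOf_eq_one_iff.mp hy'o)
    have hnotN : y' ∉ N := by
      intro hin
      obtain ⟨k, hk⟩ := mem_pow_eq_one hNp hin
      have h3 : m ∣ p ^ k := hy'o ▸ orderOf_dvd_of_pow_eq_one hk
      obtain ⟨j, -, hj⟩ := (Nat.dvd_prime_pow hp').mp h3
      rcases Nat.eq_zero_or_pos j with rfl | hj0
      · simp at hj
        exact hm1 hj
      · exact hm (hj ▸ dvd_pow_self p hj0.ne')
    have hconj := h.isConj_mul hnotN hx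
    have hcomm : Commute y' x := by
      have h4 : y * x = x * y := Subgroup.mem_centralizer_singleton_iff.mp hy
      have h5 : Commute y x := h4
      exact h5.pow_left _
    obtain ⟨k, hk⟩ := mem_pow_eq_one hNp hx
    have hxo : orderOf x ∣ p ^ k := orderOf_dvd_of_pow_eq_one hk
    have hcop : (orderOf y').Coprime (orderOf x) := by
      rw [hy'o]
      exact Nat.Coprime.coprime_dvd_right hxo
        (Nat.Coprime.pow_right k ((Nat.Prime.coprime_iff_not_dvd hp').mpr hm).symm)
    have h6 := hcomm.orderOf_mul_eq_mul_orderOf_of_coprime hcop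
    have h7 : orderOf (y' * x) = orderOf y' := by
      obtain ⟨g, hg⟩ := isConj_iff.mp hconj
      rw [← hg]
      exact (MulAut.conj g).orderOf_eq y'
    rw [h7, hy'o] at h6
    have h8 : orderOf x = 1 := by
      have : m * 1 = m * orderOf x := by simpa using h6
      exact (Nat.eq_of_mul_eq_mul_left (Nat.pos_of_ne_zero hm0) this).symm
    exact hx1 (orderOf_eq_one_iff.mp h8)
  refine ⟨a, ?_⟩
  apply Subtype.ext
  simpa using hy'1

/-- The centralizer of a nonidentity element of the support, as a Sylow subgroup. -/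
theorem exists_sylow_centralizer (h : TwoClass χ N) (hNp : IsPGroup p N) {x : G} (hx : x ∈ N)
    (hx1 : x ≠ 1) : ∃ P : Sylow p G, Subgroup.centralizer ({x} : Set G) = P :=
  ⟨(h.isPGroup_centralizer hNp hx hx1).toSylow (h.not_dvd_index_centralizer hNp hx hx1), by simp⟩

/-- A nontrivial element of order prime to `p` fixes no nonidentity element of the support. -/
theorem fix_eq_one (h : TwoClass χ N) (hNp : IsPGroup p N) {y : G} (hy : ¬ p ∣ orderOf y)
    (hy1 : y ≠ 1) {n : G} (hn : n ∈ N) (hc : y * n = n * y) : n = 1 := by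
  by_contra hn1
  have hp' : p.Prime := hp.out
  have hm := h.isPGroup_centralizer hNp hn hn1
  have hy' : y ∈ Subgroup.centralizer ({n} : Set G) := Subgroup.mem_centralizer_singleton_iff.mpr hc
  obtain ⟨k, hk⟩ := mem_pow_eq_one hm hy'
  have h3 : orderOf y ∣ p ^ k := orderOf_dvd_of_pow_eq_one hk
  obtain ⟨j, -, hj⟩ := (Nat.dvd_prime_pow hp').mp h3
  rcases Nat.eq_zero_or_pos j with rfl | hj0
  · simp at hj
    exact hy1 hj
  · exact hy (hj ▸ dvd_pow_self p hj0.ne')

omit [Finite G] hp in
/-- Every element has a power of order prime to `p` with `p`-power cofactor. -/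
theorem exists_pow_coprime [Finite G] (hp' : p.Prime) (y : G) :
    ∃ a : ℕ, ¬ p ∣ orderOf (y ^ p ^ a) := by
  have hord : orderOf y ≠ 0 := (orderOf_pos y).ne'
  obtain ⟨a, m, hm, hfac⟩ := Nat.exists_eq_pow_mul_and_not_dvd hord p hp'.ne_one
  refine ⟨a, ?_⟩
  have hm0 : m ≠ 0 := by
    rintro rfl
    exact hm (dvd_zero p)
  have hy'o : orderOf (y ^ p ^ a) = m := by
    have := orderOf_pow_orderOf_div hord (n := m) (Dvd.intro_left _ hfac.symm)
    have h2 : orderOf y / m = p ^ a := by
      rw [hfac]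
      exact Nat.mul_div_cancel _ (Nat.pos_of_ne_zero hm0)
    rwa [h2] at this
  rwa [hy'o]

/-- Irreducible characters of the commutative support are linear. -/
theorem exists_hom (h : TwoClass χ N) (μ : IrrCharacter N) :
    ∃ φ : N →* ℂˣ, (μ : N → ℂ) = fun g => ((φ g : ℂˣ) : ℂ) := by
  have hμ : (μ : N → ℂ) 1 = 1 := by
    obtain ⟨m, ρ, hρ, hc⟩ := μ.2
    haveI : ρ.IsIrreducible := hρ
    have h1 := Cfsg.Agent.Lib.Char.SmallDeg.finrank_le_index_of_abelian ρ ⊤
      (fun a _ b _ => Subtype.ext (h.comm a a.2 b b.2))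
    rw [Subgroup.index_top, Module.finrank_fin_fun] at h1
    have h2 : m ≠ 0 := by
      rintro rfl
      have := Cfsg.Agent.Lib.Char.Ortho.irr_apply_one_ne_zero μ.2
      rw [← hc, Representation.char_one] at this
      simp at this
    have h3 : m = 1 := by omega
    subst h3
    rw [← hc, Representation.char_one]
    simp
  exact exists_hom_of_isCharacter_one
    (by obtain ⟨m, ρ, -, hc⟩ := μ.2; exact ⟨m, ρ, hc⟩) hμ

theorem card_hom (h : TwoClass χ N) : Nat.card (N →* ℂˣ) = Nat.card N := by
  have h1 : commutator N = ⊥ := by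
    rw [commutator_def, Subgroup.commutator_eq_bot_iff_le_centralizer]
    intro a _ b _
    exact Subtype.ext (h.comm b b.2 a a.2)
  rw [← Nat.card_congr (linearEquivHom (G := N)), card_linear_chars, h1, Subgroup.index_bot]

/-- The stabilizer in `G` of a linear character of the support. -/
def stab (h : TwoClass χ N) (φ : N →* ℂˣ) : Subgroup G :=
  haveI := h.normal
  { carrier := {g | ∀ n : N, φ (MulAut.conjNormal g n) = φ n}
    mul_mem' := by
      intro a b ha hb n
      rw [map_mul, MulAut.mul_apply, ha, hb]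
    one_mem' := by
      intro n
      simp
    inv_mem' := by
      intro a ha n
      have := ha (MulAut.conjNormal a⁻¹ n)
      rw [← MulAut.mul_apply, ← map_mul, mul_inv_cancel, map_one, MulAut.one_apply] at this
      exact this.symm }

theorem mem_stab (h : TwoClass χ N) {φ : N →* ℂˣ} {g : G} :
    g ∈ h.stab φ ↔ (haveI := h.normal; ∀ n : N, φ (MulAut.conjNormal g n) = φ n) := Iff.rfl

/-- The inertia group of a nonprincipal character of the support is a `p`-group. -/
theorem isPGroup_stab (h : TwoClass χ N) (hNp : IsPGroup p N) {φ : N →* ℂˣ} (hφ : φ ≠ 1) :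
    IsPGroup p (h.stab φ) := by
  haveI := h.normal
  have hp' : p.Prime := hp.out
  rintro ⟨y, hy⟩
  obtain ⟨a, ha⟩ := exists_pow_coprime hp' y
  refine ⟨a, ?_⟩
  apply Subtype.ext
  simp only [Subgroup.coe_pow, Subgroup.coe_one]
  by_contra hne
  set z := y ^ p ^ a with hz
  have hzS : z ∈ h.stab φ := (h.stab φ).pow_mem hy _
  -- the commutator map is an injective endomorphism of the support
  let F : N → N := fun n => MulAut.conjNormal z n * n⁻¹
  have hcN : ∀ a b : N, a * b = b * a := fun a b => Subtype.ext (h.comm a a.2 b b.2)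
  have hFinj : Function.Injective F := by
    intro m n hmn
    have hmn' : MulAut.conjNormal z m * m⁻¹ = MulAut.conjNormal z n * n⁻¹ := hmn
    set k : N := m * n⁻¹ with hk
    have hkfix : MulAut.conjNormal z k = k := by
      have h1 : MulAut.conjNormal z k = MulAut.conjNormal z m * (MulAut.conjNormal z n)⁻¹ := by
        rw [hk, map_mul, map_inv]
      rw [h1, hk]
      have h2 : MulAut.conjNormal z m = MulAut.conjNormal z n * n⁻¹ * m := by
        rw [← hmn']
        group
      rw [h2]
      calc MulAut.conjNormal z n * n⁻¹ * m * (MulAut.conjNormal z n)⁻¹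
          = m * (MulAut.conjNormal z n * n⁻¹) * (MulAut.conjNormal z n)⁻¹ := by
            rw [hcN (MulAut.conjNormal z n * n⁻¹) m]
        _ = m * (n⁻¹ * MulAut.conjNormal z n) * (MulAut.conjNormal z n)⁻¹ := by
            rw [hcN (MulAut.conjNormal z n) n⁻¹]
        _ = m * n⁻¹ := by group
    have h3 : z * (k : G) = (k : G) * z := by
      have h4 : z * (k : G) * z⁻¹ = k := by
        have := congrArg Subtype.val hkfix
        simpa [MulAut.conjNormal_apply] using this
      calc z * (k : G) = (z * (k : G) * z⁻¹) * z := by group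
        _ = (k : G) * z := by rw [h4]
    have h5 := h.fix_eq_one hNp ha hne k.2 h3
    have h6 : k = 1 := Subtype.ext h5
    rw [hk] at h6
    exact mul_inv_eq_one.mp h6
  have hFsurj : Function.Surjective F := Finite.surjective_of_injective hFinj
  apply hφ
  ext n
  obtain ⟨m, hm⟩ := hFsurj n
  rw [← hm]
  simp only [F, map_mul, map_inv, MonoidHom.one_apply]
  rw [hzS m]
  simp

/-- The index of the inertia group is at most the number of nonprincipal characters. -/
theorem index_stab_le (h : TwoClass χ N) {φ : N →* ℂˣ} (hφ : φ ≠ 1) :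
    (h.stab φ).index ≤ Nat.card N - 1 := by
  classical
  haveI := h.normal
  haveI : Finite (N →* ℂˣ) := by
    have : Nat.card (N →* ℂˣ) ≠ 0 := by
      rw [h.card_hom]
      exact Nat.card_pos.ne'
    exact Nat.finite_of_card_ne_zero this
  let F : G → {ψ : N →* ℂˣ // ψ ≠ 1} := fun g => ⟨φ.comp (MulAut.conjNormal g⁻¹).toMonoidHom, by
    intro h1
    apply hφ
    apply MonoidHom.ext
    intro n
    have h2 := DFunLike.congr_fun h1 (MulAut.conjNormal g n)
    simp only [MonoidHom.comp_apply, MulEquiv.coe_toMonoidHom, MonoidHom.one_apply] at h2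
    rw [← MulAut.mul_apply, ← map_mul, inv_mul_cancel, map_one, MulAut.one_apply] at h2
    simpa using h2⟩
  have hF : ∀ a a', F a = F a' ↔ a⁻¹ * a' ∈ h.stab φ := by
    intro a a'
    rw [h.mem_stab]
    constructor
    · intro he
      have h5 : a'⁻¹ * a ∈ h.stab φ := by
        intro n
        have h1 := congrArg (fun ψ : {ψ : N →* ℂˣ // ψ ≠ 1} => ψ.1 (MulAut.conjNormal a n)) he
        simp only [F, MonoidHom.comp_apply, MulEquiv.coe_toMonoidHom] at h1
        rw [← MulAut.mul_apply, ← MulAut.mul_apply, ← map_mul, ← map_mul, inv_mul_cancel, map_one,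
          MulAut.one_apply] at h1
        exact h1.symm
      have h2 : a⁻¹ * a' = (a'⁻¹ * a)⁻¹ := by group
      have := (h.stab φ).inv_mem h5
      rw [← h2] at this
      exact this
    · intro hs
      apply Subtype.ext
      ext n
      simp only [F, MonoidHom.comp_apply, MulEquiv.coe_toMonoidHom]
      have h1 := hs (MulAut.conjNormal a'⁻¹ n)
      rw [← MulAut.mul_apply, ← map_mul] at h1
      have h2 : a⁻¹ * a' * a'⁻¹ = a⁻¹ := by group
      rw [h2] at h1
      rw [h1]
  have h1 := index_le_card_of_fibers (h.stab φ) F hF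
  have h2 : Nat.card {ψ : N →* ℂˣ // ψ ≠ 1} = Nat.card N - 1 := by
    rw [← h.card_hom]
    have := Fintype.ofFinite (N →* ℂˣ)
    rw [Nat.card_eq_fintype_card, Nat.card_eq_fintype_card, Fintype.card_subtype_compl]
    simp
  rwa [h2] at h1

/-- The inertia group of a nonprincipal character of the support is a Sylow subgroup. -/
theorem exists_sylow_stab (h : TwoClass χ N) (hNp : IsPGroup p N) {φ : N →* ℂˣ} (hφ : φ ≠ 1) :
    ∃ P : Sylow p G, (P : Subgroup G) = h.stab φ := by
  obtain ⟨x, hx, hx1⟩ := h.exists_ne_one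
  obtain ⟨P₀, hP₀⟩ := h.exists_sylow_centralizer hNp hx hx1
  have hpg := h.isPGroup_stab hNp hφ
  obtain ⟨Q, hQ⟩ := hpg.exists_le_sylow
  refine ⟨Q, le_antisymm ?_ hQ⟩
  have hidx : (Q : Subgroup G).index = Nat.card N - 1 := by
    rw [← h.index_centralizer hx hx1, hP₀]
    have h1 := (Q : Subgroup G).card_mul_index
    have h2 := (P₀ : Subgroup G).card_mul_index
    rw [Sylow.card_eq_multiplicity] at h1 h2
    have h3 : 0 < p ^ (Nat.card G).factorization p := pow_pos hp.out.pos _
    exact Nat.eq_of_mul_eq_mul_left h3 (h1.trans h2.symm)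
  have h1 := Subgroup.relIndex_mul_index hQ
  have h2 := h.index_stab_le hφ
  have hpos : 0 < (Q : Subgroup G).index := Nat.pos_of_ne_zero Subgroup.index_ne_zero_of_finite
  have h3 : (h.stab φ).relIndex Q = 1 := by
    have h5 : (h.stab φ).index ≠ 0 := Subgroup.index_ne_zero_of_finite
    have h4 : 0 < (h.stab φ).relIndex Q := by
      apply Nat.pos_of_ne_zero
      intro h0
      rw [h0, zero_mul] at h1
      exact h5 h1.symm
    rw [hidx] at h1
    rw [hidx] at hpos
    nlinarith
  exact Subgroup.relIndex_eq_one.mp h3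

/-- The centralizers in `G` and in `G / N` of an element outside `N` have the same order. -/
theorem card_centralizer_quotient (h : TwoClass χ N) {x : G} (hx : x ∉ N) :
    haveI := h.normal
    Nat.card (Subgroup.centralizer ({x} : Set G)) =
      Nat.card (Subgroup.centralizer ({(x : G ⧸ N)} : Set (G ⧸ N))) := by
  haveI := h.normal
  set f : G →* G ⧸ N := QuotientGroup.mk' N with hf
  have hfs : Function.Surjective f := QuotientGroup.mk'_surjective _
  set C₀ : Subgroup (G ⧸ N) := Subgroup.centralizer ({(x : G ⧸ N)} : Set (G ⧸ N)) with hC₀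
  set T : Subgroup G := C₀.comap f with hT
  set C : Subgroup G := Subgroup.centralizer ({x} : Set G) with hC
  have hle : C ≤ T := by
    intro g hg
    rw [hT, Subgroup.mem_comap, hC₀, Subgroup.mem_centralizer_singleton_iff]
    have h1 : g * x = x * g := Subgroup.mem_centralizer_singleton_iff.mp hg
    exact congrArg f h1
  have hmemT : ∀ g : G, g ∈ T ↔ x⁻¹ * g * x * g⁻¹ ∈ N := by
    intro g
    rw [hT, Subgroup.mem_comap, hC₀, Subgroup.mem_centralizer_singleton_iff]
    have key : x⁻¹ * g * x * g⁻¹ ∈ N ↔ f (x⁻¹ * g * x * g⁻¹) = 1 :=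
      (QuotientGroup.eq_one_iff _).symm
    rw [key]
    simp only [map_mul, map_inv]
    change f g * f x = f x * f g ↔ _
    constructor
    · intro h1
      rw [mul_assoc (f x)⁻¹, h1]
      group
    · intro h1
      have h2 := congrArg (fun w => f x * w * f g) h1
      simp only [mul_one] at h2
      have h3 : f x * ((f x)⁻¹ * f g * f x * (f g)⁻¹) * f g = f g * f x := by group
      rw [h3] at h2
      exact h2
  -- the relative index of `C` in `T` is the order of `N`
  have hrel : C.relIndex T = Nat.card N := by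
    let F : T → N := fun t => ⟨x⁻¹ * t * x * (t : G)⁻¹, (hmemT t).mp t.2⟩
    refine index_eq_card_of_fibers (C.subgroupOf T) F ?_ ?_
    · intro a b
      rw [Subgroup.mem_subgroupOf, hC, Subgroup.mem_centralizer_singleton_iff]
      rw [Subtype.ext_iff]
      change x⁻¹ * a * x * (a : G)⁻¹ = x⁻¹ * b * x * (b : G)⁻¹ ↔ _
      constructor
      · intro h1
        have h2 : (a : G) * x * (a : G)⁻¹ = (b : G) * x * (b : G)⁻¹ := by
          have h3 : x * (x⁻¹ * a * x * (a : G)⁻¹) = x * (x⁻¹ * b * x * (b : G)⁻¹) := by rw [h1]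
          simpa [mul_assoc] using h3
        simp only [Subgroup.coe_mul, Subgroup.coe_inv]
        calc (a : G)⁻¹ * b * x = (a : G)⁻¹ * ((b : G) * x * (b : G)⁻¹) * b := by group
          _ = (a : G)⁻¹ * ((a : G) * x * (a : G)⁻¹) * b := by rw [h2]
          _ = x * ((a : G)⁻¹ * b) := by group
      · intro h1
        simp only [Subgroup.coe_mul, Subgroup.coe_inv] at h1
        have h2 : (a : G) * x * (a : G)⁻¹ = (b : G) * x * (b : G)⁻¹ := by
          calc (a : G) * x * (a : G)⁻¹ = (a : G) * (x * ((a : G)⁻¹ * b)) * (b : G)⁻¹ := by group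
            _ = (a : G) * ((a : G)⁻¹ * b * x) * (b : G)⁻¹ := by rw [h1]
            _ = (b : G) * x * (b : G)⁻¹ := by group
        calc x⁻¹ * a * x * (a : G)⁻¹ = x⁻¹ * ((a : G) * x * (a : G)⁻¹) := by group
          _ = x⁻¹ * ((b : G) * x * (b : G)⁻¹) := by rw [h2]
          _ = x⁻¹ * b * x * (b : G)⁻¹ := by group
    · rintro ⟨n, hn⟩
      obtain ⟨g, hg⟩ := isConj_iff.mp (h.isConj_mul hx hn)
      have hgT : g ∈ T := by
        rw [hmemT]
        have : x⁻¹ * g * x * g⁻¹ = n := by
          calc x⁻¹ * g * x * g⁻¹ = x⁻¹ * (g * x * g⁻¹) := by group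
            _ = n := by rw [hg]; group
        rw [this]
        exact hn
      refine ⟨⟨g, hgT⟩, Subtype.ext ?_⟩
      simp only [F]
      calc x⁻¹ * g * x * g⁻¹ = x⁻¹ * (g * x * g⁻¹) := by group
        _ = n := by rw [hg]; group
  have h1 : Nat.card C * Nat.card N = Nat.card T := by
    have := Subgroup.relIndex_mul_relIndex (⊥ : Subgroup G) C T bot_le hle
    rwa [Subgroup.relIndex_bot_left, Subgroup.relIndex_bot_left, hrel] at this
  have h2 : T.index = C₀.index := Subgroup.index_comap_of_surjective _ hfs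
  have h3 : Nat.card T * T.index = Nat.card G := T.card_mul_index
  have h4 : Nat.card C₀ * C₀.index = Nat.card (G ⧸ N) := C₀.card_mul_index
  have h5 : Nat.card G = Nat.card (G ⧸ N) * Nat.card N :=
    Subgroup.card_eq_card_quotient_mul_card_subgroup N
  have hipos : 0 < C₀.index := Nat.pos_of_ne_zero Subgroup.index_ne_zero_of_finite
  have hNpos : 0 < Nat.card N := Nat.card_pos
  have h6 : Nat.card C * C₀.index * Nat.card N = Nat.card C₀ * C₀.index * Nat.card N := by
    calc Nat.card C * C₀.index * Nat.card N = (Nat.card C * Nat.card N) * C₀.index := by ring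
      _ = Nat.card G := by rw [h1, ← h2, h3]
      _ = Nat.card C₀ * C₀.index * Nat.card N := by rw [h5, h4]
  exact Nat.eq_of_mul_eq_mul_right hipos (Nat.eq_of_mul_eq_mul_right hNpos h6)

/-- A `p`-subgroup centralizing an element outside `N` has order at most `|P| / |N|`. -/
theorem card_mul_card_le (h : TwoClass χ N) (hNp : IsPGroup p N) {z : G} (hz : z ∉ N) (R : Subgroup G)
    (hR : IsPGroup p R) (hRz : R ≤ Subgroup.centralizer ({z} : Set G)) (P : Sylow p G) :
    Nat.card R * Nat.card N ∣ Nat.card P := by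
  haveI := h.normal
  have h1 : Nat.card R ∣ Nat.card (Subgroup.centralizer ({z} : Set G)) := Subgroup.card_dvd_of_le hRz
  rw [h.card_centralizer_quotient hz] at h1
  have h2 : Nat.card R ∣ Nat.card (G ⧸ N) := h1.trans (Subgroup.card_subgroup_dvd_card _)
  have h3 : Nat.card R * Nat.card N ∣ Nat.card G := by
    rw [Subgroup.card_eq_card_quotient_mul_card_subgroup N]
    exact Nat.mul_dvd_mul_right h2 _
  obtain ⟨a, ha⟩ := IsPGroup.iff_card.mp hR
  obtain ⟨b, hb⟩ := IsPGroup.iff_card.mp hNp
  rw [ha, hb, ← pow_add] at h3 ⊢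
  exact Sylow.pow_dvd_card_of_pow_dvd_card P h3

theorem le_sylow (hNp : IsPGroup p N) (h : TwoClass χ N) (P : Sylow p G) : N ≤ P :=
  (Cfsg.Agent.Lib.Basic.PCore.le_pCore h.normal hNp).trans (Cfsg.Agent.Lib.Basic.PCore.pCore_le_sylow P)

/-- `Z(P) ≤ N`, in an element form. -/
theorem mem_of_forall_commute (h : TwoClass χ N) (hNp : IsPGroup p N) (P : Sylow p G) {z : G}
    (hzc : ∀ w ∈ (P : Subgroup G), w * z = z * w) : z ∈ N := by
  by_contra hz
  have hle : (P : Subgroup G) ≤ Subgroup.centralizer ({z} : Set G) := by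
    intro w hw
    exact Subgroup.mem_centralizer_singleton_iff.mpr (hzc w hw)
  have h1 := h.card_mul_card_le hNp hz P P.2 hle P
  have h2 : 0 < Nat.card (P : Subgroup G) := Nat.card_pos
  have h3 : Nat.card N = 1 := by
    have h4 := Nat.le_of_dvd h2 h1
    have h5 : 1 ≤ Nat.card N := Nat.card_pos
    have h6 : Nat.card N ≤ 1 := by
      by_contra hc
      rw [not_le] at hc
      nlinarith
    omega
  exact h.ne_bot (Subgroup.card_eq_one.mp h3)

theorem center_map_le (h : TwoClass χ N) (hNp : IsPGroup p N) (P : Sylow p G) :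
    (Subgroup.center ↥(P : Subgroup G)).map (P : Subgroup G).subtype ≤ N := by
  rintro _ ⟨⟨z, hzP⟩, hz, rfl⟩
  apply h.mem_of_forall_commute hNp P
  intro w hw
  have := Subgroup.mem_center_iff.mp hz ⟨w, hw⟩
  exact congrArg Subtype.val this

/-- A Sylow subgroup has a nonidentity central element, which must lie in the support. -/
theorem exists_central (h : TwoClass χ N) (hNp : IsPGroup p N) (P : Sylow p G) :
    ∃ x ∈ N, x ≠ 1 ∧ ∀ w ∈ (P : Subgroup G), w * x = x * w := by
  have hle := h.le_sylow hNp P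
  obtain ⟨x₀, hx₀, hx₀1⟩ := h.exists_ne_one
  haveI : Nontrivial (P : Subgroup G) :=
    ⟨⟨⟨x₀, hle hx₀⟩, 1, fun h => hx₀1 (congrArg Subtype.val h)⟩⟩
  haveI : Nontrivial (Subgroup.center (P : Subgroup G)) := (P.2 : IsPGroup p _).center_nontrivial
  obtain ⟨⟨⟨c, hcP⟩, hc⟩, hc1⟩ := exists_ne (1 : Subgroup.center (P : Subgroup G))
  have hc1' : c ≠ 1 := fun h => hc1 (Subtype.ext (Subtype.ext h))
  have hcc : ∀ w ∈ (P : Subgroup G), w * c = c * w := by
    intro w hw
    have := (Subgroup.mem_center_iff.mp hc) ⟨w, hw⟩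
    exact congrArg Subtype.val this
  exact ⟨c, h.mem_of_forall_commute hNp P hcc, hc1', hcc⟩

/-- If the centre of `P` contains `x ∈ N^#` then `P` is the centralizer of `x`. -/
theorem sylow_eq_centralizer (h : TwoClass χ N) (hNp : IsPGroup p N) (P : Sylow p G) {x : G}
    (hx : x ∈ N) (hx1 : x ≠ 1) (hc : ∀ w ∈ (P : Subgroup G), w * x = x * w) :
    (P : Subgroup G) = Subgroup.centralizer ({x} : Set G) := by
  have hle : (P : Subgroup G) ≤ Subgroup.centralizer ({x} : Set G) := by
    intro w hw
    exact Subgroup.mem_centralizer_singleton_iff.mpr (hc w hw)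
  exact (P.3 (h.isPGroup_centralizer hNp hx hx1) hle).symm

/-- `Z(P) = N` iff `P` is normal. -/
theorem center_eq_iff (h : TwoClass χ N) (hNp : IsPGroup p N) (P : Sylow p G) :
    (Subgroup.center ↥(P : Subgroup G)).map (P : Subgroup G).subtype = N ↔
      (P : Subgroup G).Normal := by
  have hle := h.le_sylow hNp P
  constructor
  · intro heq
    have hcen : ∀ x ∈ N, ∀ w ∈ (P : Subgroup G), w * x = x * w := by
      intro x hx w hw
      rw [← heq] at hx
      obtain ⟨⟨z, hzP⟩, hz, rfl⟩ := hx
      have := Subgroup.mem_center_iff.mp hz ⟨w, hw⟩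
      exact congrArg Subtype.val this
    obtain ⟨x, hx, hx1⟩ := h.exists_ne_one
    constructor
    intro w hw g
    have h1 := h.sylow_eq_centralizer hNp P hx hx1 (hcen x hx)
    have hx' : g * x * g⁻¹ ∈ N := h.normal.conj_mem x hx g
    have hx1' : g * x * g⁻¹ ≠ 1 := by
      intro h2
      apply hx1
      have : g⁻¹ * (g * x * g⁻¹) * g = g⁻¹ * 1 * g := by rw [h2]
      simpa [mul_assoc] using this
    have h2 := h.sylow_eq_centralizer hNp P hx' hx1' (hcen _ hx')
    rw [h2, Subgroup.mem_centralizer_singleton_iff]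
    rw [h1, Subgroup.mem_centralizer_singleton_iff] at hw
    calc g * w * g⁻¹ * (g * x * g⁻¹) = g * (w * x) * g⁻¹ := by group
      _ = g * (x * w) * g⁻¹ := by rw [hw]
      _ = g * x * g⁻¹ * (g * w * g⁻¹) := by group
  · intro hnorm
    refine le_antisymm (h.center_map_le hNp P) ?_
    apply h.le_of_normal
    · constructor
      rintro _ ⟨⟨z, hzP⟩, hz, rfl⟩ g
      have hzg : g * z * g⁻¹ ∈ (P : Subgroup G) := hnorm.conj_mem z hzP g
      refine ⟨⟨_, hzg⟩, Subgroup.mem_center_iff.mpr ?_, rfl⟩
      rintro ⟨w, hw⟩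
      apply Subtype.ext
      have hw' : g⁻¹ * w * g ∈ (P : Subgroup G) := by
        have := hnorm.conj_mem w hw g⁻¹
        simpa using this
      have h1 := congrArg Subtype.val (Subgroup.mem_center_iff.mp hz ⟨_, hw'⟩)
      have h2 : (g⁻¹ * w * g) * z = z * (g⁻¹ * w * g) := h1
      show w * (g * z * g⁻¹) = g * z * g⁻¹ * w
      calc w * (g * z * g⁻¹) = g * ((g⁻¹ * w * g) * z) * g⁻¹ := by group
        _ = g * (z * (g⁻¹ * w * g)) * g⁻¹ := by rw [h2]
        _ = g * z * g⁻¹ * w := by group
    · obtain ⟨x, hx, hx1, hc⟩ := h.exists_central hNp P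
      intro hbot
      have hxm : x ∈ (Subgroup.center ↥(P : Subgroup G)).map (P : Subgroup G).subtype := by
        refine ⟨⟨x, hle hx⟩, Subgroup.mem_center_iff.mpr ?_, rfl⟩
        rintro ⟨w, hw⟩
        exact Subtype.ext (hc w hw)
      rw [hbot] at hxm
      exact hx1 hxm

/-- The size of the class in `P` of an element of `P` outside `N` is at least `|N|`. -/
theorem card_le_of_not_mem (h : TwoClass χ N) (hNp : IsPGroup p N) (P : Sylow p G)
    {z : G} (hz : z ∉ N) {K : Subgroup G} (hK : ∀ w ∈ (P : Subgroup G), w * z * w⁻¹ * z⁻¹ ∈ K) :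
    Nat.card N ≤ Nat.card K := by
  -- the centralizer of `z` in `P`
  set R : Subgroup G := (P : Subgroup G) ⊓ Subgroup.centralizer ({z} : Set G) with hR
  have hRp : IsPGroup p R := (P.2 : IsPGroup p (P : Subgroup G)).to_le inf_le_left
  have h1 := h.card_mul_card_le hNp hz R hRp inf_le_right P
  have h2 : (R.subgroupOf (P : Subgroup G)).index ≤ Nat.card K := by
    let F : ↥(P : Subgroup G) → K := fun w => ⟨(w : G) * z * (w : G)⁻¹ * z⁻¹, hK w w.2⟩
    refine index_le_card_of_fibers _ F ?_
    intro a b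
    rw [Subtype.ext_iff, Subgroup.mem_subgroupOf, hR]
    change (a : G) * z * (a : G)⁻¹ * z⁻¹ = (b : G) * z * (b : G)⁻¹ * z⁻¹ ↔ _
    simp only [Subgroup.coe_mul, Subgroup.coe_inv, Subgroup.mem_inf,
      Subgroup.mem_centralizer_singleton_iff]
    constructor
    · intro h3
      refine ⟨(P : Subgroup G).mul_mem ((P : Subgroup G).inv_mem a.2) b.2, ?_⟩
      have h4 : (a : G) * z * (a : G)⁻¹ = (b : G) * z * (b : G)⁻¹ := mul_right_cancel h3
      calc (a : G)⁻¹ * b * z = (a : G)⁻¹ * ((b : G) * z * (b : G)⁻¹) * b := by group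
        _ = (a : G)⁻¹ * ((a : G) * z * (a : G)⁻¹) * b := by rw [h4]
        _ = z * ((a : G)⁻¹ * b) := by group
    · rintro ⟨-, h3⟩
      have h4 : (a : G) * z * (a : G)⁻¹ = (b : G) * z * (b : G)⁻¹ := by
        calc (a : G) * z * (a : G)⁻¹ = (a : G) * (z * ((a : G)⁻¹ * b)) * (b : G)⁻¹ := by group
          _ = (a : G) * ((a : G)⁻¹ * b * z) * (b : G)⁻¹ := by rw [h3]
          _ = (b : G) * z * (b : G)⁻¹ := by group
      rw [h4]
  have h3 : Nat.card R * (R.subgroupOf (P : Subgroup G)).index = Nat.card (P : Subgroup G) := by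
    have h4 := Subgroup.relIndex_mul_relIndex (⊥ : Subgroup G) R P bot_le inf_le_left
    rwa [Subgroup.relIndex_bot_left, Subgroup.relIndex_bot_left] at h4
  have hRpos : 0 < Nat.card R := Nat.card_pos
  have h4 : Nat.card R * Nat.card N ≤ Nat.card (P : Subgroup G) :=
    Nat.le_of_dvd Nat.card_pos h1
  rw [← h3] at h4
  have h5 : Nat.card N ≤ (R.subgroupOf (P : Subgroup G)).index := Nat.le_of_mul_le_mul_left h4 hRpos
  exact h5.trans h2

/-- `N` is a term of the upper central series of `P`. -/
theorem exists_upperCentralSeries (h : TwoClass χ N) (hNp : IsPGroup p N) (P : Sylow p G) :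
    ∃ i : ℕ, Subgroup.upperCentralSeries ↥(P : Subgroup G) i = N.subgroupOf (P : Subgroup G) := by
  classical
  have hle := h.le_sylow hNp P
  set N' := N.subgroupOf (P : Subgroup G) with hN'
  have hcard : Nat.card N' = Nat.card N := by
    rw [hN']
    exact Nat.card_congr (Subgroup.subgroupOfEquivOfLe hle).toEquiv
  -- the key step
  have hstep : ∀ i, Subgroup.upperCentralSeries ↥(P : Subgroup G) i ≤ N' →
      ¬ N' ≤ Subgroup.upperCentralSeries ↥(P : Subgroup G) i →
      Subgroup.upperCentralSeries ↥(P : Subgroup G) (i + 1) ≤ N' := by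
    intro i hi hni ⟨z, hzP⟩ hz
    by_contra hzN
    have hzN' : z ∉ N := fun h1 => hzN h1
    set Z := Subgroup.upperCentralSeries ↥(P : Subgroup G) i with hZ
    -- the image of `Z` in `G`
    have hK : ∀ w ∈ (P : Subgroup G), w * z * w⁻¹ * z⁻¹ ∈ Z.map (P : Subgroup G).subtype := by
      intro w hw
      have h1 := Subgroup.mem_upperCentralSeries_succ_iff.mp hz ⟨w, hw⟩
      have h2 := Z.inv_mem h1
      refine ⟨_, h2, ?_⟩
      simp [commutatorElement_def]
      group
    have h3 := h.card_le_of_not_mem hNp P hzN' hK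
    have h4 : Nat.card (Z.map (P : Subgroup G).subtype) = Nat.card Z :=
      Nat.card_congr (Subgroup.equivMapOfInjective Z _ (Subgroup.subtype_injective _)).symm.toEquiv
    rw [h4] at h3
    have h5 : Z < N' := lt_of_le_not_ge hi hni
    have h6 : Nat.card Z < Nat.card N' := by
      haveI : Finite N' := inferInstance
      exact Set.ncard_lt_ncard (SetLike.coe_ssubset_coe.mpr h5) (Set.toFinite _)
    rw [hcard] at h6
    omega
  have hind : ∀ i, ¬ N' ≤ Subgroup.upperCentralSeries ↥(P : Subgroup G) i →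
      Subgroup.upperCentralSeries ↥(P : Subgroup G) i ≤ N' := by
    intro i
    induction i with
    | zero =>
      intro _
      simp [Subgroup.upperCentralSeries_zero]
    | succ i ih =>
      intro hi
      have hmono : Subgroup.upperCentralSeries ↥(P : Subgroup G) i ≤
          Subgroup.upperCentralSeries ↥(P : Subgroup G) (i + 1) :=
        (Subgroup.upperCentralSeries_mono _ (Nat.le_succ i))
      have hi' : ¬ N' ≤ Subgroup.upperCentralSeries ↥(P : Subgroup G) i :=
        fun h1 => hi (h1.trans hmono)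
      exact hstep i (ih hi') hi'
  haveI : Group.IsNilpotent ↥(P : Subgroup G) := (P.2 : IsPGroup p (P : Subgroup G)).isNilpotent
  obtain ⟨n, hn⟩ := Group.IsNilpotent.nilpotent (↥(P : Subgroup G))
  have hex : ∃ i, N' ≤ Subgroup.upperCentralSeries ↥(P : Subgroup G) i :=
    ⟨n, by rw [hn]; exact le_top⟩
  let i := Nat.find hex
  have hi : N' ≤ Subgroup.upperCentralSeries ↥(P : Subgroup G) i := Nat.find_spec hex
  have hi0 : i ≠ 0 := by
    intro h0
    rw [h0, Subgroup.upperCentralSeries_zero, le_bot_iff] at hi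
    rw [hi] at hcard
    have h1 : Nat.card (⊥ : Subgroup ↥(P : Subgroup G)) = 1 := Subgroup.card_bot
    rw [h1] at hcard
    exact h.ne_bot (Subgroup.card_eq_one.mp hcard.symm)
  obtain ⟨j, hj⟩ := Nat.exists_eq_succ_of_ne_zero hi0
  have hnj : ¬ N' ≤ Subgroup.upperCentralSeries ↥(P : Subgroup G) j := by
    apply Nat.find_min hex
    show j < i
    omega
  refine ⟨j + 1, le_antisymm (hstep j (hind j hnj) hnj) ?_⟩
  have : j + 1 = i := hj.symm
  rw [this]
  exact hi

end withPrime

end TwoClass

theorem twoClass_of (hG : 2 < Nat.card G) {χ : IrrCharacter G}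
    (hχ : Nat.card {C : ConjClasses G // ∃ g ∈ C.carrier, (χ : G → ℂ) g ≠ 0} = 2) {N : Subgroup G}
    (hN : ∀ g : G, g ∈ N ↔ (χ : G → ℂ) g ≠ 0) : TwoClass χ N := by
  obtain ⟨N', hN'⟩ := exists_twoClass hG χ hχ
  rw [hN'.eq_of_mem_iff hN]
  exact hN'

end Cfsg.Agent.Lib.Char.Gagola
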