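import Mathlib
import Cfsg.Prelude.Def_Characters
import Cfsg.Prelude.Def_Blocks
import Cfsg.Agent.Lib.Char.Integrality
import Cfsg.Agent.Lib.Char.CompleteCor
import Cfsg.Agent.Lib.Char.LinearChars
import Cfsg.Agent.Lib.Char.GlaubCyclic
import Cfsg.Agent.Lib.Char.Basic
import Cfsg.Agent.Lib.Char.Values
import Cfsg.Agent.Lib.Char.AbelianQuot
import Cfsg.Agent.Lib.PGroup.Basic

/-!
# Central behaviour of irreducible characters

Central scalars, vanishing off the centre via commutators, the bound `χ(1)² ≤ [G : Z(G)]`,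
linear characters separating the points modulo `G'`, and the sum of squares of the degrees of
the characters with a given central subgroup in the kernel.
-/

set_option autoImplicit false

namespace Cfsg.Agent.Lib.Char.PDerived

open Cfsg
open scoped ComplexConjugate

variable {G : Type*} [Group G]

/-- An irreducible character has a central scalar at each central element. -/
theorem exists_central_scalar [Finite G] {χ : G → ℂ} (hχ : IsIrrCharacter G χ) {z : G}
    (hz : z ∈ Subgroup.center G) : ∃ c : ℂ, (∀ g, χ (z * g) = c * χ g) ∧ ‖c‖ = 1 := by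
  classical
  obtain ⟨n, ρ, hirr, rfl⟩ := hχ
  haveI := hirr
  obtain ⟨a, ha⟩ := Integrality.exists_smul_id_of_commute ρ (ρ z) (by
    intro g
    have : z * g = g * z := (Subgroup.mem_center_iff.1 hz g).symm
    rw [← Module.End.mul_eq_comp, ← Module.End.mul_eq_comp, ← map_mul, ← map_mul, this])
  refine ⟨a, fun g => ?_, ?_⟩
  · unfold Representation.character
    rw [map_mul, ha]
    have : (a • (LinearMap.id : (Fin n → ℂ) →ₗ[ℂ] (Fin n → ℂ))) * ρ g = a • ρ g := by
      ext v i
      simp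
    rw [this, map_smul]
    rfl
  · have hnt := Integrality.nontrivial_of_isIrreducible ρ
    have hord : ρ (z ^ orderOf z) = 1 := by
      rw [pow_orderOf_eq_one, map_one]
    have h2 : ρ (z ^ orderOf z) = a ^ orderOf z • (LinearMap.id : (Fin n → ℂ) →ₗ[ℂ] (Fin n → ℂ)) := by
      rw [map_pow, ha]
      ext v i
      simp [smul_pow]
    rw [hord] at h2
    have h3 : a ^ orderOf z = 1 := by
      obtain ⟨v, hv⟩ := exists_ne (0 : Fin n → ℂ)
      have h4 := congrArg (fun F : (Fin n → ℂ) →ₗ[ℂ] (Fin n → ℂ) => F v) h2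
      simp only [Module.End.one_apply, LinearMap.smul_apply, LinearMap.id_coe, id_eq] at h4
      have h5 : (1 - a ^ orderOf z) • v = 0 := by
        rw [sub_smul, one_smul, ← h4, sub_self]
      rcases smul_eq_zero.1 h5 with h6 | h6
      · exact (sub_eq_zero.1 h6).symm
      · exact absurd h6 hv
    exact Complex.norm_eq_one_of_pow_eq_one h3 (orderOf_pos z).ne'

/-- The central scalar is the normalized value. -/
theorem central_mul_eq [Finite G] {χ : G → ℂ} (hχ : IsIrrCharacter G χ) {z : G}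
    (hz : z ∈ Subgroup.center G) (g : G) : χ (z * g) * χ 1 = χ z * χ g := by
  obtain ⟨c, hc, -⟩ := exists_central_scalar hχ hz
  have h1 := hc 1
  rw [mul_one] at h1
  rw [hc g, h1]
  ring

/-- A conjugate differing by a central element outside the kernel forces vanishing. -/
theorem eq_zero_of_conj_eq_central_mul [Finite G] {χ : G → ℂ} (hχ : IsIrrCharacter G χ) {z x y : G}
    (hz : z ∈ Subgroup.center G) (hxy : y * x * y⁻¹ = z * x) (hne : χ z ≠ χ 1) : χ x = 0 := by
  obtain ⟨c, hc, -⟩ := exists_central_scalar hχ hz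
  have h1 := hc 1
  rw [mul_one] at h1
  have h2 := CompleteCor.isIrr_classFunction hχ x y
  rw [hxy, hc x] at h2
  have hc1 : c ≠ 1 := by
    rintro rfl
    apply hne
    rw [h1, one_mul]
  have h3 : (c - 1) * χ x = 0 := by
    rw [sub_mul, h2]
    ring
  rcases mul_eq_zero.1 h3 with h4 | h4
  · exact absurd (sub_eq_zero.1 h4) hc1
  · exact h4

/-- Values at central elements have the full norm. -/
theorem norm_central_eq [Finite G] {χ : G → ℂ} (hχ : IsIrrCharacter G χ) {z : G}
    (hz : z ∈ Subgroup.center G) : ‖χ z‖ = ‖χ 1‖ := by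
  obtain ⟨c, hc, hn⟩ := exists_central_scalar hχ hz
  have h1 := hc 1
  rw [mul_one] at h1
  rw [h1, norm_mul, hn, one_mul]

/-- The bound `χ(1)² · |Z(G)| ≤ |G|`. -/
theorem deg_sq_mul_card_center_le [Fintype G] {χ : G → ℂ} (hχ : IsIrrCharacter G χ) :
    ‖χ 1‖ ^ 2 * (Nat.card (Subgroup.center G) : ℝ) ≤ (Nat.card G : ℝ) := by
  classical
  have hself := Ortho.classInner_irr_self hχ
  simp only [classInner] at hself
  have hG : (Nat.card G : ℂ) ≠ 0 := by exact_mod_cast Nat.card_pos.ne'
  have h1 : ∑ g : G, χ g * conj (χ g) = (Nat.card G : ℂ) := by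
    field_simp at hself
    rw [hself]
  have h2 : ∑ g : G, ‖χ g‖ ^ 2 = (Nat.card G : ℝ) := by
    have h3 : ((∑ g : G, ‖χ g‖ ^ 2 : ℝ) : ℂ) = (Nat.card G : ℂ) := by
      rw [← h1]
      push_cast
      refine Finset.sum_congr rfl fun g _ => ?_
      rw [Complex.mul_conj, Complex.normSq_eq_norm_sq]
      push_cast
      rfl
    exact_mod_cast h3
  rw [← h2]
  have h3 : ∑ z : Subgroup.center G, ‖χ 1‖ ^ 2 ≤ ∑ g : G, ‖χ g‖ ^ 2 := by
    have h4 : ∑ z : Subgroup.center G, ‖χ 1‖ ^ 2 = ∑ z : Subgroup.center G, ‖χ (z : G)‖ ^ 2 := by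
      refine Finset.sum_congr rfl fun z _ => ?_
      rw [norm_central_eq hχ z.2]
    rw [h4, ← Finset.sum_subtype (Finset.univ.filter (· ∈ Subgroup.center G)) (by simp) (fun g => ‖χ g‖ ^ 2)]
    exact Finset.sum_le_sum_of_subset_of_nonneg (Finset.subset_univ _) (fun _ _ _ => by positivity)
  have h5 : ∑ z : Subgroup.center G, ‖χ 1‖ ^ 2 = ‖χ 1‖ ^ 2 * (Nat.card (Subgroup.center G) : ℝ) := by
    rw [Finset.sum_const, Finset.card_univ, nsmul_eq_mul, mul_comm, Nat.card_eq_fintype_card]
  rw [← h5]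
  exact h3

/-- Linear characters separate points modulo the commutator subgroup. -/
theorem exists_lin_ne_one [Finite G] {z : G} (hz : z ∉ commutator G) :
    ∃ l : G →* ℂˣ, l z ≠ 1 := by
  classical
  have : Finite (Abelianization G) := inferInstanceAs (Finite (G ⧸ commutator G))
  have hexp : NeZero ((Monoid.exponent (Abelianization G) : ℕ) : ℂ) :=
    ⟨Nat.cast_ne_zero.2 Monoid.exponent_ne_zero_of_finite⟩
  have hroots : HasEnoughRootsOfUnity ℂ (Monoid.exponent (Abelianization G)) := inferInstance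
  have hne : (Abelianization.of z : Abelianization G) ≠ 1 := by
    intro h
    exact hz ((QuotientGroup.eq_one_iff z).1 h)
  obtain ⟨ρ, hρ⟩ := CommGroup.exists_apply_ne_one_of_hasEnoughRootsOfUnity (Abelianization G) ℂ hne
  exact ⟨ρ.comp Abelianization.of, hρ⟩

/-- An irreducible character trivial on the commutator subgroup is linear. -/
theorem one_eq_one_of_commutator_le_ker [Finite G] {χ : G → ℂ} (hχ : IsIrrCharacter G χ)
    (h : ∀ c ∈ commutator G, χ c = χ 1) : χ 1 = 1 := by
  obtain ⟨n, ρ, hirr, rfl⟩ := hχ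
  haveI := hirr
  have hker : ∀ c ∈ commutator G, ρ c = LinearMap.id := by
    intro c hc
    apply (Values.character_eq_finrank_iff ρ c).1
    rw [h c hc]
    simp
  have hcomm : ∀ x y : G, ρ x ∘ₗ ρ y = ρ y ∘ₗ ρ x := by
    intro x y
    have hmem : x * y * x⁻¹ * y⁻¹ ∈ commutator G := by
      rw [commutator_def]
      exact Subgroup.commutator_mem_commutator (Subgroup.mem_top x) (Subgroup.mem_top y)
    have h1 := hker _ hmem
    have h2 : x * y = (x * y * x⁻¹ * y⁻¹) * (y * x) := by group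
    rw [← Module.End.mul_eq_comp, ← Module.End.mul_eq_comp, ← map_mul, ← map_mul, h2, map_mul, h1]
    rfl
  have hf := AbelianQuot.finrank_eq_one_of_commuting ρ hcomm
  rw [ρ.char_one, hf]
  simp

/-- The kernel of an irreducible character is closed under powers. -/
theorem apply_pow_eq_one_of_ker [Finite G] {χ : G → ℂ} (hχ : IsIrrCharacter G χ) {z : G}
    (hz : χ z = χ 1) (k : ℕ) : χ (z ^ k) = χ 1 := by
  obtain ⟨n, ρ, -, rfl⟩ := hχ
  have h1 : ρ z = LinearMap.id := by
    apply (Values.character_eq_finrank_iff ρ z).1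
    rw [hz]
    simp
  have h2 : ρ (z ^ k) = 1 := by
    rw [map_pow, show ρ z = 1 from h1, one_pow]
  have h3 : ρ 1 = 1 := map_one ρ
  simp only [Representation.character, h2, h3]

/-- The sum of squares of the degrees of the characters having a central subgroup `N` in the kernel. -/
theorem sum_sq_ker_central [Fintype G] [Fintype (IrrCharacter G)] (N : Subgroup G)
    (hN : N ≤ Subgroup.center G) (S : Finset (IrrCharacter G))
    (hS : ∀ χ : IrrCharacter G, χ ∈ S ↔ ∀ n ∈ N, (χ : G → ℂ) n = (χ : G → ℂ) 1) :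
    (∑ χ ∈ S, (χ : G → ℂ) 1 ^ 2) * (Nat.card N : ℂ) = (Nat.card G : ℂ) := by
  classical
  have hcol : ∑ n : N, ∑ χ : IrrCharacter G, (χ : G → ℂ) (n : G) * conj ((χ : G → ℂ) 1) = (Nat.card G : ℂ) := by
    rw [Finset.sum_eq_single (1 : N)]
    · have h := CompleteCor.column_orth_conj (IsConj.refl (1 : G))
      have h1 : Nat.card (Subgroup.centralizer ({1} : Set G)) = Nat.card G := by
        have : Subgroup.centralizer ({1} : Set G) = ⊤ := by
          ext x
          simp [Subgroup.mem_centralizer_singleton_iff]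
        rw [this]
        exact Nat.card_congr Subgroup.topEquiv.toEquiv
      rw [h1] at h
      exact h
    · intro n _ hn
      have hc : ¬ IsConj (n : G) 1 := by
        exact fun h => hn (Subtype.ext (isConj_one_right.1 h.symm))
      exact CompleteCor.column_orth_not_conj hc
    · intro h
      exact absurd (Finset.mem_univ _) h
  rw [Finset.sum_comm] at hcol
  have hzero : ∀ χ : IrrCharacter G, χ ∉ S → ∑ n : N, (χ : G → ℂ) (n : G) * conj ((χ : G → ℂ) 1) = 0 := by
    intro χ hχ
    have h : ¬ ∀ n ∈ N, (χ : G → ℂ) n = (χ : G → ℂ) 1 := fun h => hχ ((hS χ).2 h)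
    push Not at h
    obtain ⟨n₀, hn₀, hne⟩ := h
    have hS' : ∑ n : N, (χ : G → ℂ) (n : G) = 0 := by
      have hshift : ∑ n : N, (χ : G → ℂ) ((⟨n₀, hn₀⟩ * n : N) : G) = ∑ n : N, (χ : G → ℂ) (n : G) :=
        Equiv.sum_comp (Equiv.mulLeft (⟨n₀, hn₀⟩ : N)) (fun n : N => (χ : G → ℂ) (n : G))
      obtain ⟨c, hc, -⟩ := exists_central_scalar χ.2 (hN hn₀)
      have h2 : ∀ n : N, (χ : G → ℂ) ((⟨n₀, hn₀⟩ * n : N) : G) = c * (χ : G → ℂ) (n : G) := by
        intro n
        exact hc n
      simp only [h2, ← Finset.mul_sum] at hshift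
      have hc1 : c ≠ 1 := by
        rintro rfl
        apply hne
        have := hc 1
        rw [mul_one, one_mul] at this
        exact this
      have h3 : (c - 1) * ∑ n : N, (χ : G → ℂ) (n : G) = 0 := by
        rw [sub_mul, hshift]; ring
      rcases mul_eq_zero.1 h3 with h4 | h4
      · exact absurd (sub_eq_zero.1 h4) hc1
      · exact h4
    rw [← Finset.sum_mul, hS', zero_mul]
  rw [← hcol, ← Finset.sum_subset (Finset.subset_univ S) (fun χ _ hχ => hzero χ hχ), Finset.sum_mul]
  refine Finset.sum_congr rfl fun χ hχ => ?_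
  have hconj : conj ((χ : G → ℂ) 1) = (χ : G → ℂ) 1 := CompleteCor.conj_apply_one χ.2
  rw [hconj]
  have h := (hS χ).1 hχ
  have : ∀ n : N, (χ : G → ℂ) (n : G) * (χ : G → ℂ) 1 = (χ : G → ℂ) 1 ^ 2 := by
    intro n
    rw [h n n.2, pow_two]
  simp only [this, Finset.sum_const, Finset.card_univ, nsmul_eq_mul]
  rw [Nat.card_eq_fintype_card]
  ring

/-- The norm-square sum of an irreducible character. -/
theorem sum_norm_sq [Fintype G] {χ : G → ℂ} (hχ : IsIrrCharacter G χ) :
    ∑ g : G, ‖χ g‖ ^ 2 = (Nat.card G : ℝ) := by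
  have hself := Ortho.classInner_irr_self hχ
  simp only [classInner] at hself
  have hG : (Nat.card G : ℂ) ≠ 0 := by exact_mod_cast Nat.card_pos.ne'
  have h1 : ∑ g : G, χ g * conj (χ g) = (Nat.card G : ℂ) := by
    field_simp at hself
    rw [hself]
  have h3 : ((∑ g : G, ‖χ g‖ ^ 2 : ℝ) : ℂ) = (Nat.card G : ℂ) := by
    rw [← h1]
    push_cast
    refine Finset.sum_congr rfl fun g _ => ?_
    rw [Complex.mul_conj, Complex.normSq_eq_norm_sq]
    push_cast
    rfl
  exact_mod_cast h3

/-- If an irreducible character vanishes off the centre then `χ(1)² · |Z(G)| = |G|`. -/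
theorem deg_sq_mul_card_center_eq [Fintype G] {χ : G → ℂ} (hχ : IsIrrCharacter G χ)
    (hv : ∀ x, x ∉ Subgroup.center G → χ x = 0) :
    ‖χ 1‖ ^ 2 * (Nat.card (Subgroup.center G) : ℝ) = (Nat.card G : ℝ) := by
  classical
  rw [← sum_norm_sq hχ]
  have h4 : ∑ z : Subgroup.center G, ‖χ 1‖ ^ 2 = ∑ z : Subgroup.center G, ‖χ (z : G)‖ ^ 2 := by
    refine Finset.sum_congr rfl fun z _ => ?_
    rw [norm_central_eq hχ z.2]
  have h5 : ∑ z : Subgroup.center G, ‖χ 1‖ ^ 2 = ‖χ 1‖ ^ 2 * (Nat.card (Subgroup.center G) : ℝ) := by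
    rw [Finset.sum_const, Finset.card_univ, nsmul_eq_mul, mul_comm, Nat.card_eq_fintype_card]
  rw [← h5, h4, ← Finset.sum_subtype (Finset.univ.filter (· ∈ Subgroup.center G)) (by simp) (fun g => ‖χ g‖ ^ 2)]
  refine Finset.sum_subset (Finset.subset_univ _) fun x _ hx => ?_
  have hx' : x ∉ Subgroup.center G := by simpa using hx
  rw [hv x hx']
  simp

section PrimeDerived

variable {p : ℕ} [hp : Fact p.Prime]

theorem eq_zpowers_of_card_prime (S : Subgroup G) [Finite G] (hS : Nat.card S = p) {z : G} (hz : z ∈ S)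
    (hz1 : z ≠ 1) : S = Subgroup.zpowers z := by
  symm
  refine Subgroup.eq_of_le_of_card_ge (by simpa using hz) ?_
  rw [hS, Nat.card_zpowers]
  have h1 : orderOf z ∣ p := by
    rw [← hS]
    have := orderOf_dvd_natCard (⟨z, hz⟩ : S)
    simpa using this
  rcases (Nat.dvd_prime hp.out).1 h1 with h2 | h2
  · exact absurd (orderOf_eq_one_iff.1 h2) hz1
  · omega

/-- A normal subgroup of prime order of a `p`-group is central. -/
theorem le_center_of_card_prime [Finite G] (hG : IsPGroup p G) (N : Subgroup G) [N.Normal]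
    (hN : Nat.card N = p) : N ≤ Subgroup.center G := by
  have hne : N ≠ ⊥ := by
    rintro rfl
    simp at hN
    exact hp.out.one_lt.ne hN
  have h := Cfsg.Agent.Lib.PGroup.Basic.inf_center_ne_bot hG hne
  obtain ⟨⟨z, hz⟩, hz1⟩ := Subgroup.ne_bot_iff_exists_ne_one.1 h
  have hz1' : z ≠ 1 := by
    intro h
    exact hz1 (Subtype.ext h)
  rw [eq_zpowers_of_card_prime N hN hz.1 hz1']
  exact (Subgroup.zpowers_le).2 hz.2

/-- If `G'` has prime order, a character not trivial on `G'` vanishes off the centre. -/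
theorem eq_zero_of_not_mem_center [Finite G] (hG : IsPGroup p G) (hc : Nat.card (commutator G) = p)
    {χ : G → ℂ} (hχ : IsIrrCharacter G χ) (h1 : χ 1 ≠ 1) {x : G} (hx : x ∉ Subgroup.center G) :
    χ x = 0 := by
  have hZ := le_center_of_card_prime hG (commutator G) hc
  rw [Subgroup.mem_center_iff] at hx
  push Not at hx
  obtain ⟨y, hy⟩ := hx
  set c := y * x * y⁻¹ * x⁻¹ with hcdef
  have hcm : c ∈ commutator G := by
    rw [commutator_def]
    exact Subgroup.commutator_mem_commutator (Subgroup.mem_top y) (Subgroup.mem_top x)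
  have hc1 : c ≠ 1 := by
    intro h
    apply hy
    rw [hcdef, mul_inv_eq_one, mul_inv_eq_iff_eq_mul] at h
    exact h
  have hS := eq_zpowers_of_card_prime (commutator G) hc hcm hc1
  refine eq_zero_of_conj_eq_central_mul hχ (y := y) (hZ hcm) (by rw [hcdef]; group) ?_
  intro hk
  apply h1
  apply one_eq_one_of_commutator_le_ker hχ
  intro a ha
  rw [hS] at ha
  obtain ⟨i, rfl⟩ := Subgroup.mem_zpowers_iff.1 ha
  have h2 := apply_pow_eq_one_of_ker hχ hk (i.natAbs)
  rcases Int.natAbs_eq i with h3 | h3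
  · rw [h3, zpow_natCast]; exact h2
  · rw [h3, zpow_neg, zpow_natCast]
    have := hχ
    obtain ⟨n, ρ, -, rfl⟩ := hχ
    have h4 : ρ (c ^ i.natAbs) = LinearMap.id := by
      apply (Values.character_eq_finrank_iff ρ _).1
      rw [h2]
      simp
    have h5 : ρ (c ^ i.natAbs)⁻¹ = 1 := by
      have h6 : ρ (c ^ i.natAbs)⁻¹ * ρ (c ^ i.natAbs) = 1 := by
        rw [← map_mul, inv_mul_cancel, map_one]
      rw [show ρ (c ^ i.natAbs) = 1 from h4, mul_one] at h6
      exact h6
    have h3 : ρ 1 = 1 := map_one ρ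
    simp only [Representation.character, h5, h3]

/-- If `G'` has prime order and `χ` is nonlinear then `χ(1)² · |Z(G)| = |G|`. -/
theorem deg_sq_eq_of_card_commutator [Fintype G] (hG : IsPGroup p G) (hc : Nat.card (commutator G) = p)
    {χ : G → ℂ} (hχ : IsIrrCharacter G χ) (h1 : χ 1 ≠ 1) :
    ‖χ 1‖ ^ 2 * (Nat.card (Subgroup.center G) : ℝ) = (Nat.card G : ℝ) :=
  deg_sq_mul_card_center_eq hχ fun _ hx => eq_zero_of_not_mem_center hG hc hχ h1 hx

end PrimeDerived


section Lift

/-- Lifting an irreducible character from a quotient. -/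
noncomputable def liftIrr (N : Subgroup G) [N.Normal] (χ : IrrCharacter (G ⧸ N)) : IrrCharacter G :=
  ⟨fun g => (χ : G ⧸ N → ℂ) (g : G ⧸ N),
    Basic.isIrrCharacter_comp_surjective χ.2 (QuotientGroup.mk' N) (QuotientGroup.mk'_surjective N)⟩

@[simp] theorem liftIrr_apply (N : Subgroup G) [N.Normal] (χ : IrrCharacter (G ⧸ N)) (g : G) :
    (liftIrr N χ : G → ℂ) g = (χ : G ⧸ N → ℂ) (g : G ⧸ N) := rfl

theorem charDegree_liftIrr (N : Subgroup G) [N.Normal] (χ : IrrCharacter (G ⧸ N)) :
    charDegree (liftIrr N χ : G → ℂ) = charDegree (χ : G ⧸ N → ℂ) := by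
  unfold charDegree
  rw [liftIrr_apply, QuotientGroup.mk_one]

end Lift

end Cfsg.Agent.Lib.Char.PDerived
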