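import Mathlib
import Cfsg.Prelude.Def_Blocks
import Cfsg.Agent.Lib.Blocks.Regular
import Cfsg.Agent.Lib.Blocks.Covering
import Cfsg.Agent.Lib.Blocks.SecondMain
import Cfsg.Agent.Lib.Char.GlaubCyclic

/-!
# The Alperin–Dade theorem: principal blocks and normal subgroups of `p'`-index

The sums `cT p N x` of the `p`-regular elements in a coset `x` of a normal subgroup `N` commute with `N`.
When `G = N C_G(P)` with `N` of `p'`-index all these sums act invertibly on modules over the principal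
block of `N`, and they act as scalars on modules in the principal block of `G` (Nakayama).
Consequently restriction is a bijection between the principal blocks.
-/

set_option autoImplicit false
set_option linter.style.haveILetI false
set_option linter.unusedSectionVars false
set_option linter.unusedVariables false

namespace Cfsg.Agent.Lib.Char.AlpDade

open Cfsg Cfsg.Agent.Lib.Blocks.Local Cfsg.Agent.Lib.Blocks.Central Cfsg.Agent.Lib.Blocks.Regular
  Cfsg.Agent.Lib.Blocks.Principal Cfsg.Agent.Lib.Blocks.Covering Cfsg.Agent.Lib.Blocks.Osima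
  Cfsg.Agent.Lib.Blocks.BlockHom
open scoped ComplexConjugate

universe u

section Alg

variable {G : Type u} [Group G] [Fintype G] (p : ℕ) (N : Subgroup G) [hN : N.Normal]

open Classical in
/-- The sum of the `p`-regular elements in a coset of `N`. -/
noncomputable def cT (x : G ⧸ N) : MonoidAlgebra ℂ G :=
  ofFun (fun y => if (y : G ⧸ N) = x then reg p (fun _ => (1 : ℂ)) y else 0)

open Classical in
lemma coeff_cT (x : G ⧸ N) (y : G) :
    (cT p N x).coeff y = if (y : G ⧸ N) = x then reg p (fun _ => (1 : ℂ)) y else 0 :=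
  coeff_ofFun _ _

/-- Support in a coset. -/
def Deg (x : G ⧸ N) (a : MonoidAlgebra ℂ G) : Prop := ∀ g : G, (g : G ⧸ N) ≠ x → a.coeff g = 0

lemma deg_cT (x : G ⧸ N) : Deg N x (cT p N x) := by
  classical
  intro g hg
  rw [coeff_cT, if_neg hg]

lemma Deg.mul {N : Subgroup G} [hN : N.Normal] {x z : G ⧸ N} {a b : MonoidAlgebra ℂ G} (ha : Deg N x a)
    (hb : Deg N z b) : Deg N (x * z) (a * b) := by
  intro g hg
  rw [coeff_mul_eq_sum]
  refine Finset.sum_eq_zero fun h _ => ?_
  by_cases h1 : (h : G ⧸ N) = x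
  · rw [hb (h⁻¹ * g), mul_zero]
    intro h2
    apply hg
    rw [QuotientGroup.mk_mul, QuotientGroup.mk_inv, h1] at h2
    rw [← h2, mul_inv_cancel_left]
  · rw [ha h h1, zero_mul]

/-- Invariance under conjugation by `N`. -/
def NInv (a : MonoidAlgebra ℂ G) : Prop :=
  ∀ (n : N) (g : G), a.coeff ((n : G) * g * (n : G)⁻¹) = a.coeff g

lemma ninv_cT (x : G ⧸ N) : NInv N (cT p N x) := by
  classical
  intro n g
  have h1 := isClassFunction_reg (p := p) (f := fun _ : G => (1 : ℂ)) (fun _ _ => rfl) g (n : G)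
  have h2 : (((n : G) * g * (n : G)⁻¹ : G) : G ⧸ N) = (g : G ⧸ N) := by
    have h3 : (((n : G) : G) : G ⧸ N) = 1 := (QuotientGroup.eq_one_iff _).2 n.2
    rw [QuotientGroup.mk_mul, QuotientGroup.mk_mul, QuotientGroup.mk_inv, h3]
    simp
  rw [coeff_cT, coeff_cT, h2, h1]

lemma NInv.mul {N : Subgroup G} [hN : N.Normal] {a b : MonoidAlgebra ℂ G} (ha : NInv N a) (hb : NInv N b) :
    NInv N (a * b) := by
  intro n g
  rw [coeff_mul_eq_sum, coeff_mul_eq_sum]
  rw [← Equiv.sum_comp (MulAut.conj (n : G)).toEquiv]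
  refine Finset.sum_congr rfl fun h _ => ?_
  have h1 : (MulAut.conj (n : G)).toEquiv h = (n : G) * h * (n : G)⁻¹ := rfl
  rw [h1, ha n h]
  congr 1
  rw [← hb n (h⁻¹ * g)]
  congr 1
  group

lemma single_mul_of_ninv {a : MonoidAlgebra ℂ G} (ha : NInv N a) (n : N) (c : ℂ) :
    MonoidAlgebra.single (n : G) c * a = a * MonoidAlgebra.single (n : G) c := by
  ext g
  rw [MonoidAlgebra.coeff_single_mul_apply, MonoidAlgebra.coeff_mul_single_apply, mul_comm]
  congr 1
  have h1 := ha n ((n : G)⁻¹ * g)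
  have h2 : (n : G) * ((n : G)⁻¹ * g) * (n : G)⁻¹ = g * (n : G)⁻¹ := by group
  rw [h2] at h1
  exact h1.symm

variable [Fintype N]

lemma push_mul_of_ninv {a : MonoidAlgebra ℂ G} (ha : NInv N a) (b : MonoidAlgebra ℂ N) :
    push N b * a = a * push N b := by
  conv_lhs => rw [eq_sum_single b]
  conv_rhs => rw [eq_sum_single b]
  simp only [push, map_sum, Finset.sum_mul, Finset.mul_sum]
  refine Finset.sum_congr rfl fun n _ => ?_
  have h1 : (MonoidAlgebra.mapDomainRingHom ℂ N.subtype) (MonoidAlgebra.single n (b.coeff n)) =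
      MonoidAlgebra.single (n : G) (b.coeff n) := by
    simp [MonoidAlgebra.mapDomainRingHom]
  rw [h1]
  exact single_mul_of_ninv N ha n _

/-- The augmentation. -/
noncomputable def aug (a : MonoidAlgebra ℂ G) : ℂ := ∑ g, a.coeff g

lemma aug_mul (a b : MonoidAlgebra ℂ G) : aug (a * b) = aug a * aug b := by
  simp only [aug, coeff_mul_eq_sum]
  rw [Finset.sum_comm, Finset.sum_mul]
  refine Finset.sum_congr rfl fun h _ => ?_
  rw [← Finset.mul_sum]
  congr 1
  exact Equiv.sum_comp (Equiv.mulLeft h⁻¹) _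

/-- The number of `p`-regular elements in a coset. -/
noncomputable def cnt (x : G ⧸ N) : ℕ := Nat.card {y : G // (y : G ⧸ N) = x ∧ ¬ p ∣ orderOf y}

lemma aug_cT (x : G ⧸ N) : aug (cT p N x) = (cnt p N x : ℂ) := by
  classical
  simp only [aug, coeff_cT, cnt]
  have h1 : ∀ y : G, (if (y : G ⧸ N) = x then reg p (fun _ => (1 : ℂ)) y else 0) =
      if ((y : G ⧸ N) = x ∧ ¬ p ∣ orderOf y) then 1 else 0 := by
    intro y
    by_cases hy : (y : G ⧸ N) = x
    · by_cases hd : p ∣ orderOf y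
      · simp [hy, hd, reg_of_dvd _ hd]
      · simp [hy, hd, reg_of_not_dvd _ hd]
    · simp [hy]
  simp only [h1]
  rw [Finset.sum_boole, Nat.card_eq_fintype_card, Fintype.card_subtype]

lemma sum_cT [Fintype (G ⧸ N)] : ∑ x : G ⧸ N, cT p N x = regT p G := by
  classical
  apply ext_coeff
  intro y
  rw [MonoidAlgebra.coeff_sum, Finsupp.finsetSum_apply]
  simp only [coeff_cT]
  rw [Finset.sum_ite_eq]
  simp [regT]

/-- Elements of degree one with `N`-invariant coefficients are central elements of `ℂ[N]`. -/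
lemma class_res {a : MonoidAlgebra ℂ G} (hn : NInv N a) : IsClassFunction N (res N a).coeff := by
  intro n y
  rw [coeff_res, coeff_res]
  exact hn y n

lemma push_res_of_deg {a : MonoidAlgebra ℂ G} (ha : Deg N 1 a) : push N (res N a) = a := by
  refine push_res N fun x hx => ha x ?_
  intro h
  exact hx ((QuotientGroup.eq_one_iff x).1 h)

lemma aug_res {a : MonoidAlgebra ℂ G} (ha : Deg N 1 a) : aug (res N a) = aug a := by
  simp only [aug]
  refine Fintype.sum_of_injective (fun n : N => (n : G)) Subtype.val_injective _ _ ?_ ?_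
  · intro g hg
    refine ha g fun h => hg ?_
    exact ⟨⟨g, (QuotientGroup.eq_one_iff g).1 h⟩, rfl⟩
  · intro n
    rw [coeff_res]

lemma omega_triv_eq_aug {X : Type*} [Group X] [Fintype X] (a : MonoidAlgebra ℂ X) :
    omega (fun _ : X => (1 : ℂ)) a = aug a := by
  simp [omega, aug]

end Alg

section Irr

variable {G : Type u} [Group G] [Fintype G] {p : ℕ} [hp : Fact p.Prime] {M : Ideal AlgInt}
  [hMp : M.IsPrime] {N : Subgroup G} [hN : N.Normal] [Fintype N]

/-- Local coefficients. -/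
def Loc (M : Ideal AlgInt) (a : MonoidAlgebra ℂ G) : Prop := ∀ g : G, MemLocalRing M (a.coeff g)

lemma loc_cT (x : G ⧸ N) : Loc M (cT p N x) := by
  classical
  intro g
  rw [coeff_cT]
  by_cases hg : (g : G ⧸ N) = x
  · rw [if_pos hg]
    by_cases hd : p ∣ orderOf g
    · rw [reg_of_dvd _ hd]
      exact memLocalRing_zero
    · rw [reg_of_not_dvd _ hd]
      exact memLocalRing_one
  · rw [if_neg hg]
    exact memLocalRing_zero

lemma Loc.mul {a b : MonoidAlgebra ℂ G} (ha : Loc M a) (hb : Loc M b) : Loc M (a * b) := by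
  intro g
  rw [coeff_mul_eq_sum]
  exact memLocalRing_sum _ _ fun h _ => memLocalRing_mul (ha h) (hb _)

lemma scal_congr (θ : IrrCharacter N) (hθ : θ ∈ principalBlock M N) {a : MonoidAlgebra ℂ G}
    (hd : Deg N 1 a) (hn : NInv N a) (hl : Loc M a) :
    MemLocalIdeal M (omega (θ : N → ℂ) (res N a) - aug a) := by
  have hal : res N a ∈ localCenter N M :=
    ⟨class_res N hn, fun n => by rw [coeff_res]; exact hl _⟩
  have h1 := memLocalIdeal_omega_sub θ.2 (trivChar N).2 (sameBlock_symm hθ) hal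
  have h2 : omega ((trivChar N : IrrCharacter N) : N → ℂ) (res N a) = aug a := by
    rw [coe_trivChar, omega_triv_eq_aug, aug_res N hd]
  rwa [h2] at h1

lemma memLocalIdeal_of_modEq (hM : IsPModular p M) {a b : ℕ} (h : a ≡ b [MOD p]) :
    MemLocalIdeal M ((a : ℂ) - (b : ℂ)) := by
  have h1 : (p : ℤ) ∣ (a : ℤ) - (b : ℤ) := (Nat.modEq_iff_dvd.1 h.symm)
  have h2 := (memLocalIdeal_intCast_iff hM (n := (a : ℤ) - (b : ℤ))).2 h1
  simpa using h2

/-- The idempotent of `θ` in `ℂ[G]`. -/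
noncomputable abbrev eP (θ : IrrCharacter N) : MonoidAlgebra ℂ G :=
  push N (blockElt ({θ} : Set (IrrCharacter N)))

lemma blockCoeff_singleton (θ : IrrCharacter N) (n : N) :
    blockCoeff ({θ} : Set (IrrCharacter N)) n =
      (Nat.card N : ℂ)⁻¹ * ((θ : N → ℂ) 1 * conj ((θ : N → ℂ) n)) := by
  rw [blockCoeff_eq_sum]
  congr 1
  apply Finset.sum_eq_single θ
  · intro b hb hne
    exact absurd (by simpa using hb) hne
  · intro hθ
    exact absurd (by simp) hθ

lemma single_mul_eP (y : G) (θ : IrrCharacter N) :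
    MonoidAlgebra.single y (1 : ℂ) * eP θ = eP (conjIrr y⁻¹ θ) * MonoidAlgebra.single y (1 : ℂ) := by
  ext h
  rw [MonoidAlgebra.coeff_single_mul_apply, MonoidAlgebra.coeff_mul_single_apply, one_mul, mul_one]
  by_cases hm : y⁻¹ * h ∈ N
  · have hm' : h * y⁻¹ ∈ N := by
      have := hN.conj_mem _ hm y
      simpa [mul_assoc] using this
    have h1 := coeff_push_coe N (blockElt ({θ} : Set (IrrCharacter N))) ⟨y⁻¹ * h, hm⟩
    have h2 := coeff_push_coe N (blockElt ({conjIrr y⁻¹ θ} : Set (IrrCharacter N))) ⟨h * y⁻¹, hm'⟩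
    simp only at h1 h2
    rw [h1, h2, coeff_blockElt, coeff_blockElt, blockCoeff_singleton, blockCoeff_singleton,
      conjIrr_apply_one, conjIrr_apply]
    congr 3
    refine congrArg _ (Subtype.ext ?_)
    show y⁻¹ * h = y⁻¹ * (h * y⁻¹) * y⁻¹⁻¹
    group
  · have hm' : h * y⁻¹ ∉ N := by
      intro h3
      apply hm
      have := hN.conj_mem _ h3 y⁻¹
      simpa [mul_assoc] using this
    rw [coeff_push_of_notMem N _ hm, coeff_push_of_notMem N _ hm']

lemma conjIrr_of_mem (ξ : IrrCharacter N) (n : N) : conjIrr (n : G) ξ = ξ := by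
  apply Subtype.ext
  funext m
  rw [conjIrr_apply]
  exact isClassFunction_of_irr ξ.2 m n

lemma conjIrr_inv_congr (θ : IrrCharacter N) {y g : G} (h : (y : G ⧸ N) = (g : G ⧸ N)) :
    conjIrr y⁻¹ θ = conjIrr g⁻¹ θ := by
  have h1 : g⁻¹ * y ∈ N := QuotientGroup.eq.1 h.symm
  have h2 : y⁻¹ = (⟨g⁻¹ * y, h1⟩ : N)⁻¹.1 * g⁻¹ := by
    show y⁻¹ = (g⁻¹ * y)⁻¹ * g⁻¹
    group
  rw [h2, ← conjIrr_conjIrr, conjIrr_of_mem]

lemma cT_mul_eP (g : G) (θ : IrrCharacter N) :
    cT p N (g : G ⧸ N) * eP θ = eP (conjIrr g⁻¹ θ) * cT p N (g : G ⧸ N) := by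
  classical
  conv_lhs => rw [eq_sum_single (cT p N (g : G ⧸ N))]
  conv_rhs => rw [eq_sum_single (cT p N (g : G ⧸ N))]
  rw [Finset.sum_mul, Finset.mul_sum]
  refine Finset.sum_congr rfl fun y _ => ?_
  by_cases hy : (y : G ⧸ N) = (g : G ⧸ N)
  · have h1 : ∀ c : ℂ, MonoidAlgebra.single y c = c • MonoidAlgebra.single y (1 : ℂ) := fun c => by
      simp
    rw [h1, smul_mul_assoc, mul_smul_comm, single_mul_eP, conjIrr_inv_congr θ hy]
  · have h0 : (cT p N (g : G ⧸ N)).coeff y = 0 := deg_cT p N _ y hy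
    rw [h0]
    simp

lemma blockElt_mul_class (θ : IrrCharacter N) {a : MonoidAlgebra ℂ N} (ha : IsClassFunction N a.coeff) :
    blockElt ({θ} : Set (IrrCharacter N)) * a =
      omega (θ : N → ℂ) a • blockElt ({θ} : Set (IrrCharacter N)) := by
  classical
  refine eq_of_omega_eq' (isClassFunction_mul (isClassFunction_blockElt _) ha) ?_ fun ψ => ?_
  · intro g h
    simp only [MonoidAlgebra.coeff_smul_apply]
    rw [isClassFunction_blockElt _ g h]
  · rw [omega_mul ψ.2 (isClassFunction_blockElt _), omega_smul]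
    by_cases hψ : ψ = θ
    · rw [hψ, omega_blockElt_of_mem (Set.mem_singleton θ), one_mul, mul_one]
    · rw [omega_blockElt_of_notMem (by simpa using hψ), zero_mul, mul_zero]

lemma push_smul (c : ℂ) (b : MonoidAlgebra ℂ N) : push N (c • b) = c • push N b := by
  ext x
  by_cases hx : x ∈ N
  · have h1 := coeff_push_coe N (c • b) ⟨x, hx⟩
    have h2 := coeff_push_coe N b ⟨x, hx⟩
    simp only at h1 h2
    rw [h1, MonoidAlgebra.coeff_smul_apply, MonoidAlgebra.coeff_smul_apply, h2]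
  · rw [coeff_push_of_notMem N _ hx, MonoidAlgebra.coeff_smul_apply, coeff_push_of_notMem N _ hx, smul_zero]

lemma eP_mul_of_deg (θ : IrrCharacter N) {a : MonoidAlgebra ℂ G} (hd : Deg N 1 a) (hn : NInv N a) :
    eP θ * a = omega (θ : N → ℂ) (res N a) • eP θ := by
  conv_lhs => rw [← push_res_of_deg N hd]
  rw [eP, ← push_mul, blockElt_mul_class θ (class_res N hn), push_smul]

lemma eP_mul_self (θ : IrrCharacter N) : (eP θ : MonoidAlgebra ℂ G) * eP θ = eP θ := by
  rw [eP, ← push_mul, blockElt_mul_self]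

lemma eP_mul_of_ne {θ θ' : IrrCharacter N} (h : θ ≠ θ') : (eP θ : MonoidAlgebra ℂ G) * eP θ' = 0 := by
  have h1 : ({θ} : Set (IrrCharacter N)) ∩ {θ'} = ∅ := by
    ext x
    simp only [Set.mem_inter_iff, Set.mem_singleton_iff, Set.mem_empty_iff_false, iff_false, not_and]
    rintro rfl
    exact h
  have h2 : blockElt (∅ : Set (IrrCharacter N)) = 0 := by
    apply ext_coeff
    intro g
    rw [coeff_blockElt, blockCoeff_eq_sum]
    simp
  rw [eP, ← push_mul, blockElt_mul, h1, h2]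
  simp [push]

lemma eP_ne_zero (θ : IrrCharacter N) : (eP θ : MonoidAlgebra ℂ G) ≠ 0 := by
  intro h
  have h1 := congrArg (res N) h
  rw [eP, res_push] at h1
  have h2 := omega_blockElt_of_mem (Set.mem_singleton θ)
  have h0 : res N (0 : MonoidAlgebra ℂ G) = 0 := by
    ext n
    simp
  rw [h1, h0, omega_zero] at h2
  exact zero_ne_one h2

/-- **Invariance**: if all the coset sums have augmentation prime to `p`, every character in the
principal block of `N` is invariant in `G`. -/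
theorem conjIrr_eq (hM : IsPModular p M) (hcnt : ∀ x : G ⧸ N, ¬ p ∣ cnt p N x)
    (θ : IrrCharacter N) (hθ : θ ∈ principalBlock M N) (g : G) : conjIrr g⁻¹ θ = θ := by
  by_contra hne
  set x : G ⧸ N := (g : G ⧸ N) with hx
  have h1 : (eP θ : MonoidAlgebra ℂ G) * cT p N x = eP (conjIrr g⁻¹ θ) * cT p N x := by
    rw [← cT_mul_eP g θ]
    exact push_mul_of_ninv N (ninv_cT p N x) _
  have h2 : (eP θ : MonoidAlgebra ℂ G) * cT p N x = 0 := by
    calc (eP θ : MonoidAlgebra ℂ G) * cT p N x = eP θ * eP θ * cT p N x := by rw [eP_mul_self]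
      _ = eP θ * (eP θ * cT p N x) := by rw [mul_assoc]
      _ = eP θ * (eP (conjIrr g⁻¹ θ) * cT p N x) := by rw [h1]
      _ = (eP θ * eP (conjIrr g⁻¹ θ)) * cT p N x := by rw [mul_assoc]
      _ = 0 := by rw [eP_mul_of_ne (Ne.symm hne), zero_mul]
  set a := cT p N x * cT p N x⁻¹ with ha
  have hd : Deg N 1 a := by
    have := (deg_cT p N x).mul (deg_cT p N x⁻¹)
    rwa [mul_inv_cancel] at this
  have hn : NInv N a := (ninv_cT p N x).mul (ninv_cT p N x⁻¹)
  have hl : Loc M a := (loc_cT x).mul (loc_cT x⁻¹)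
  have h3 : omega (θ : N → ℂ) (res N a) • (eP θ : MonoidAlgebra ℂ G) = 0 := by
    rw [← eP_mul_of_deg θ hd hn, ha, ← mul_assoc, h2, zero_mul]
  have h4 : omega (θ : N → ℂ) (res N a) = 0 := (smul_eq_zero.1 h3).resolve_right (eP_ne_zero θ)
  have h5 := scal_congr θ hθ hd hn hl
  rw [h4, zero_sub, ha, aug_mul, aug_cT, aug_cT] at h5
  have h6 := memLocalIdeal_neg h5
  rw [neg_neg] at h6
  have h7 : MemLocalIdeal M (((cnt p N x * cnt p N x⁻¹ : ℕ)) : ℂ) := by
    push_cast
    exact h6
  rw [memLocalIdeal_natCast_iff hM] at h7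
  rcases (Fact.out : p.Prime).dvd_mul.1 h7 with h8 | h8
  · exact hcnt _ h8
  · exact hcnt _ h8

/-- On a module over `G` lying over an invariant `θ`, elements of degree one act as scalars. -/
theorem rho_scal {d : ℕ} (ρ : Representation ℂ G (Fin d → ℂ)) [hρ : ρ.IsIrreducible] (θ : IrrCharacter N)
    (hinv : ∀ g : G, conjIrr g θ = θ) (hcon : classInner (fun n : N => ρ.character n) (θ : N → ℂ) ≠ 0)
    {a : MonoidAlgebra ℂ G} (hd : Deg N 1 a) (hn : NInv N a) :
    ρ.asAlgebraHom a = omega (θ : N → ℂ) (res N a) • (1 : Module.End ℂ (Fin d → ℂ)) := by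
  have hA : IsConjStable (G := G) ({θ} : Set (IrrCharacter N)) := by
    intro g ξ hξ
    have hξ' : ξ = θ := hξ
    rw [hξ', hinv]
    exact Set.mem_singleton θ
  have hχ : IsIrrCharacter G ρ.character := ⟨d, ρ, hρ, rfl⟩
  have h1 := asAlgebraHom_eq_omega_smul ρ (isClassFunction_pushBlock hA)
  rw [omega_pushBlock_of_mem hA hχ hcon (Set.mem_singleton θ), one_smul] at h1
  have h2 := congrArg ρ.asAlgebraHom (eP_mul_of_deg θ hd hn)
  rw [map_mul, map_smul] at h2
  have h3 : ρ.asAlgebraHom (eP θ) = 1 := h1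
  rw [h3, one_mul] at h2
  exact h2

end Irr

section Nak

variable {G : Type u} [Group G] [Fintype G] {p : ℕ} [hp : Fact p.Prime] {M : Ideal AlgInt}
  [hMp : M.IsPrime] {N : Subgroup G} [hN : N.Normal] [Fintype N]
  {d : ℕ} (ρ : Representation ℂ G (Fin d → ℂ)) [hρ : ρ.IsIrreducible]

/-- The product of two coset sums acts as a multiple of the sum of the product coset. -/
theorem tau_mul (hM : IsPModular p M) {c : ℕ} (hc : ∀ x : G ⧸ N, cnt p N x ≡ c [MOD p]) (hc0 : ¬ p ∣ c)
    (θ : IrrCharacter N) (hθ : θ ∈ principalBlock M N) (hinv : ∀ g : G, conjIrr g θ = θ)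
    (hcon : classInner (fun n : N => ρ.character n) (θ : N → ℂ) ≠ 0) (z x : G ⧸ N) :
    ∃ r : ℂ, MemLocalRing M r ∧ MemLocalIdeal M (r - c) ∧
      ρ.asAlgebraHom (cT p N z) * ρ.asAlgebraHom (cT p N x) = r • ρ.asAlgebraHom (cT p N (z * x)) := by
  set w := z * x with hw
  set A₁ := cT p N z * cT p N x * cT p N w⁻¹ with hA₁
  set A₂ := cT p N w⁻¹ * cT p N w with hA₂
  have hd₁ : Deg N 1 A₁ := by
    have := ((deg_cT p N z).mul (deg_cT p N x)).mul (deg_cT p N w⁻¹)
    rwa [← hw, mul_inv_cancel] at this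
  have hd₂ : Deg N 1 A₂ := by
    have := (deg_cT p N w⁻¹).mul (deg_cT p N w)
    rwa [inv_mul_cancel] at this
  have hn₁ : NInv N A₁ := ((ninv_cT p N z).mul (ninv_cT p N x)).mul (ninv_cT p N w⁻¹)
  have hn₂ : NInv N A₂ := (ninv_cT p N w⁻¹).mul (ninv_cT p N w)
  have hl₁ : Loc M A₁ := ((loc_cT z).mul (loc_cT x)).mul (loc_cT w⁻¹)
  have hl₂ : Loc M A₂ := (loc_cT w⁻¹).mul (loc_cT w)
  set s₁ := omega (θ : N → ℂ) (res N A₁) with hs₁
  set s₂ := omega (θ : N → ℂ) (res N A₂) with hs₂
  have h1 := rho_scal ρ θ hinv hcon hd₁ hn₁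
  have h2 := rho_scal ρ θ hinv hcon hd₂ hn₂
  have h3 : MemLocalIdeal M (s₁ - (c ^ 3 : ℕ)) := by
    have h4 := scal_congr θ hθ hd₁ hn₁ hl₁
    have h5 : aug A₁ = ((cnt p N z * cnt p N x * cnt p N w⁻¹ : ℕ) : ℂ) := by
      rw [hA₁, aug_mul, aug_mul, aug_cT, aug_cT, aug_cT]
      push_cast
      ring
    rw [h5] at h4
    have h6 : cnt p N z * cnt p N x * cnt p N w⁻¹ ≡ c ^ 3 [MOD p] := by
      have := ((hc z).mul (hc x)).mul (hc w⁻¹)
      rwa [show c * c * c = c ^ 3 by ring] at this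
    have h7 := memLocalIdeal_add h4 (memLocalIdeal_of_modEq (M := M) hM h6)
    simpa using h7
  have h8 : MemLocalIdeal M (s₂ - (c ^ 2 : ℕ)) := by
    have h4 := scal_congr θ hθ hd₂ hn₂ hl₂
    have h5 : aug A₂ = ((cnt p N w⁻¹ * cnt p N w : ℕ) : ℂ) := by
      rw [hA₂, aug_mul, aug_cT, aug_cT]
      push_cast
      ring
    rw [h5] at h4
    have h6 : cnt p N w⁻¹ * cnt p N w ≡ c ^ 2 [MOD p] := by
      have := (hc w⁻¹).mul (hc w)
      rwa [show c * c = c ^ 2 by ring] at this
    have h7 := memLocalIdeal_add h4 (memLocalIdeal_of_modEq (M := M) hM h6)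
    simpa using h7
  have hs₁l : MemLocalRing M s₁ := by
    have := memLocalRing_add (memLocalRing_of_memLocalIdeal h3) (memLocalRing_natCast (c ^ 3))
    simpa using this
  have hs₂l : MemLocalRing M s₂ := by
    have := memLocalRing_add (memLocalRing_of_memLocalIdeal h8) (memLocalRing_natCast (c ^ 2))
    simpa using this
  have hs₂u : ¬ MemLocalIdeal M s₂ := by
    intro h9
    have h10 := memLocalIdeal_sub h9 h8
    rw [sub_sub_cancel, memLocalIdeal_natCast_iff hM] at h10
    exact hc0 ((Fact.out : p.Prime).dvd_of_dvd_pow h10)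
  have hs₂0 : s₂ ≠ 0 := ne_zero_of_not_memLocalIdeal hs₂u
  have hinvl := memLocalRing_inv_of_not_memLocalIdeal hs₂l hs₂u
  refine ⟨s₁ * s₂⁻¹, memLocalRing_mul hs₁l hinvl, ?_, ?_⟩
  · have h11 : s₁ * s₂⁻¹ - c = (s₁ - (c ^ 3 : ℕ) - c * (s₂ - (c ^ 2 : ℕ))) * s₂⁻¹ := by
      push_cast
      field_simp
      ring
    rw [h11]
    refine memLocalIdeal_mul_right (memLocalIdeal_sub h3 (memLocalIdeal_mul_left (memLocalRing_natCast c) h8))
      hinvl
  · have h12 : s₂ • (ρ.asAlgebraHom (cT p N z) * ρ.asAlgebraHom (cT p N x)) =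
        s₁ • ρ.asAlgebraHom (cT p N w) := by
      have h13 : ρ.asAlgebraHom (cT p N z) * ρ.asAlgebraHom (cT p N x) * ρ.asAlgebraHom A₂ =
          ρ.asAlgebraHom A₁ * ρ.asAlgebraHom (cT p N w) := by
        rw [hA₁, hA₂, map_mul, map_mul, map_mul]
        simp only [mul_assoc]
      rw [h1, h2] at h13
      rw [mul_smul_comm, mul_one, smul_mul_assoc, one_mul] at h13
      exact h13
    have h14 := congrArg (fun f => s₂⁻¹ • f) h12
    simp only [smul_smul, inv_mul_cancel₀ hs₂0, one_smul] at h14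
    rw [h14, mul_comm]

/-- **Nakayama**: on a module in the principal block of `G` the coset sums act as scalars. -/
theorem tau_scalar [Fintype (G ⧸ N)] (hM : IsPModular p M) {c : ℕ} (hc : ∀ x : G ⧸ N, cnt p N x ≡ c [MOD p])
    (hc0 : ¬ p ∣ c) (θ : IrrCharacter N) (hθ : θ ∈ principalBlock M N) (hinv : ∀ g : G, conjIrr g θ = θ)
    (hcon : classInner (fun n : N => ρ.character n) (θ : N → ℂ) ≠ 0)
    (hω : ¬ MemLocalIdeal M (omega ρ.character (regT p G))) (z : G ⧸ N) :
    ∃ s : ℂ, ρ.asAlgebraHom (cT p N z) = s • (1 : Module.End ℂ (Fin d → ℂ)) := by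
  classical
  set τ : G ⧸ N → Module.End ℂ (Fin d → ℂ) := fun x => ρ.asAlgebraHom (cT p N x) with hτ
  set ω := omega ρ.character (regT p G) with hωdef
  have hΩ : ∑ x, τ x = ω • (1 : Module.End ℂ (Fin d → ℂ)) := by
    have h1 := asAlgebraHom_eq_omega_smul ρ (isClassFunction_regT (p := p))
    rw [← sum_cT p N, map_sum] at h1
    simp only [sum_cT p N] at h1
    exact h1
  have hχ : IsIrrCharacter G ρ.character := ⟨d, ρ, hρ, rfl⟩
  have hωl : MemLocalRing M ω := memLocalRing_omega hχ regT_mem_localCenter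
  have hωinv := memLocalRing_inv_of_not_memLocalIdeal hωl hω
  have hω0 : ω ≠ 0 := ne_zero_of_not_memLocalIdeal hω
  choose r hr1 hr2 hr3 using tau_mul ρ hM hc hc0 θ hθ hinv hcon
  set S : Submodule (localRing M) (Module.End ℂ (Fin d → ℂ)) := Submodule.span (localRing M) (Set.range τ) with hS
  set N₀ : Submodule (localRing M) (Module.End ℂ (Fin d → ℂ)) :=
    Submodule.span (localRing M) {(1 : Module.End ℂ (Fin d → ℂ))} with hN₀
  have hfg : S.FG := Submodule.fg_span (Set.finite_range τ)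
  have hI : localIdeal M ≤ Ideal.jacobson ⊥ := by
    rw [localIdeal_eq_maximalIdeal, IsLocalRing.jacobson_eq_maximalIdeal ⊥ bot_ne_top]
  -- the key congruence
  have hkey : ∀ z, τ z - (c : ℂ) • (1 : Module.End ℂ (Fin d → ℂ)) ∈ localIdeal M • S := by
    intro z
    have h1 : ω • τ z = τ z * ∑ x, τ x := by
      rw [hΩ, mul_smul_comm, mul_one]
    have h2 : τ z * ∑ x, τ x = ∑ x, r z x • τ (z * x) := by
      rw [Finset.mul_sum]
      exact Finset.sum_congr rfl fun x _ => hr3 z x
    have h3 : ∑ x, r z x • τ (z * x) = ∑ x, (r z x - c) • τ (z * x) + (c : ℂ) • ∑ x, τ (z * x) := by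
      rw [Finset.smul_sum, ← Finset.sum_add_distrib]
      refine Finset.sum_congr rfl fun x _ => ?_
      rw [← add_smul, sub_add_cancel]
    have h4 : ∑ x, τ (z * x) = ∑ x, τ x := Equiv.sum_comp (Equiv.mulLeft z) τ
    have h5 : ω • (τ z - (c : ℂ) • (1 : Module.End ℂ (Fin d → ℂ))) = ∑ x, (r z x - c) • τ (z * x) := by
      rw [smul_sub, h1, h2, h3, h4, hΩ, smul_comm ω (c : ℂ) 1]
      abel
    have h6 : ∑ x, (r z x - c) • τ (z * x) ∈ localIdeal M • S := by
      refine Submodule.sum_mem _ fun x _ => ?_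
      have hl : MemLocalRing M (r z x - c) := memLocalRing_of_memLocalIdeal (hr2 z x)
      have hi : (⟨r z x - c, hl⟩ : localRing M) ∈ localIdeal M := mem_localIdeal.2 (hr2 z x)
      exact Submodule.smul_mem_smul hi (Submodule.subset_span ⟨z * x, rfl⟩)
    have h7 := Submodule.smul_mem (localIdeal M • S) (⟨ω⁻¹, hωinv⟩ : localRing M) h6
    have h8 : (⟨ω⁻¹, hωinv⟩ : localRing M) • ∑ x, (r z x - c) • τ (z * x) =
        τ z - (c : ℂ) • (1 : Module.End ℂ (Fin d → ℂ)) := by
      rw [← h5]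
      have h9 : (⟨ω⁻¹, hωinv⟩ : localRing M) • (ω • (τ z - (c : ℂ) • (1 : Module.End ℂ (Fin d → ℂ)))) =
          ω⁻¹ • (ω • (τ z - (c : ℂ) • (1 : Module.End ℂ (Fin d → ℂ)))) := rfl
      rw [h9, smul_smul, inv_mul_cancel₀ hω0, one_smul]
    rwa [h8] at h7
  have hle : S ≤ N₀ ⊔ localIdeal M • S := by
    rw [hS, Submodule.span_le]
    rintro _ ⟨z, rfl⟩
    have h1 : τ z = (c : ℂ) • (1 : Module.End ℂ (Fin d → ℂ)) + (τ z - (c : ℂ) • (1 : Module.End ℂ (Fin d → ℂ))) := by
      abel
    rw [h1]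
    refine Submodule.add_mem_sup ?_ (hkey z)
    have h2 : (c : ℂ) • (1 : Module.End ℂ (Fin d → ℂ)) =
        (⟨(c : ℂ), memLocalRing_natCast c⟩ : localRing M) • (1 : Module.End ℂ (Fin d → ℂ)) := rfl
    rw [h2]
    exact Submodule.smul_mem _ _ (Submodule.subset_span rfl)
  have hnak := Submodule.smul_le_of_le_smul_of_le_jacobson_bot hfg hI hle
  have hfin : S ≤ N₀ := hle.trans (sup_le le_rfl hnak)
  have hz : τ z ∈ N₀ := hfin (Submodule.subset_span ⟨z, rfl⟩)
  obtain ⟨a, ha⟩ := Submodule.mem_span_singleton.1 hz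
  exact ⟨(a : ℂ), ha.symm⟩

/-- If `ρ` restricted to `N` has all coset sums acting as nonzero scalars, it stays irreducible. -/
theorem isIrreducible_comp (hs : ∀ z : G ⧸ N, ∃ s : ℂ, s ≠ 0 ∧
    ρ.asAlgebraHom (cT p N z) = s • (1 : Module.End ℂ (Fin d → ℂ))) :
    Representation.IsIrreducible (ρ.comp N.subtype) := by
  classical
  have hsub : ∀ S : Subrepresentation (ρ.comp N.subtype), S = ⊥ ∨ S = ⊤ := by
    intro S
    let S' : Subrepresentation ρ :=
      { toSubmodule := S.toSubmodule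
        apply_mem_toSubmodule := by
          intro g v hv
          obtain ⟨s, hs0, hsz⟩ := hs ((g⁻¹ : G) : G ⧸ N)
          have h1 : (ρ.asAlgebraHom (cT p N ((g⁻¹ : G) : G ⧸ N))) (ρ g v) = s • ρ g v := by
            rw [hsz]
            rfl
          rw [asAlgebraHom_eq_sum] at h1
          have h2 : s • ρ g v ∈ S.toSubmodule := by
            rw [← h1]
            rw [LinearMap.sum_apply]
            refine Submodule.sum_mem _ fun y _ => ?_
            rw [LinearMap.smul_apply]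
            by_cases hy : (y : G ⧸ N) = ((g⁻¹ : G) : G ⧸ N)
            · refine Submodule.smul_mem _ _ ?_
              have hyg : y * g ∈ N := by
                rw [← QuotientGroup.eq_one_iff, QuotientGroup.mk_mul, hy, QuotientGroup.mk_inv]
                simp
              have h3 := S.apply_mem_toSubmodule ⟨y * g, hyg⟩ hv
              have h4 : (ρ.comp N.subtype) ⟨y * g, hyg⟩ v = ρ y (ρ g v) := by
                show ρ (y * g) v = _
                rw [map_mul]
                rfl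
              rwa [h4] at h3
            · rw [deg_cT p N _ y hy, zero_smul]
              exact Submodule.zero_mem _
          have h5 := Submodule.smul_mem _ s⁻¹ h2
          rwa [smul_smul, inv_mul_cancel₀ hs0, one_smul] at h5 }
    rcases eq_bot_or_eq_top S' with h | h
    · left
      have h5 : S'.toSubmodule = ⊥ := congrArg Subrepresentation.toSubmodule h
      exact Subrepresentation.toSubmodule_injective h5
    · right
      have h5 : S'.toSubmodule = ⊤ := congrArg Subrepresentation.toSubmodule h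
      exact Subrepresentation.toSubmodule_injective h5
  refine { eq_bot_or_eq_top := hsub, exists_pair_ne := ⟨⊥, ⊤, ?_⟩ }
  intro h
  have h2 := congrArg Subrepresentation.toSubmodule h
  have h3 : (⊥ : Submodule ℂ (Fin d → ℂ)) = ⊤ := h2
  obtain ⟨S, T, hST⟩ := hρ.exists_pair_ne
  apply hST
  apply Subrepresentation.toSubmodule_injective
  have h4 : ∀ P : Submodule ℂ (Fin d → ℂ), P = ⊥ := by
    intro P
    rw [eq_bot_iff, h3]
    exact le_top
  rw [h4 S.toSubmodule, h4 T.toSubmodule]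

end Nak

section Count

variable {G : Type u} [Group G] [Fintype G] {p : ℕ} [hp : Fact p.Prime] {N : Subgroup G} [hN : N.Normal]

lemma sylow_le (P : Sylow p G) (hidx : ¬ p ∣ N.index) : (P : Subgroup G) ≤ N := by
  intro u hu
  obtain ⟨k, hk⟩ := exists_orderOf_eq_of_mem P.isPGroup' hu
  have h1 : u ^ N.index ∈ N := Subgroup.pow_index_mem N u
  have hcop : Nat.Coprime N.index (orderOf u) := by
    rw [hk]
    exact Nat.Coprime.pow_right k ((Nat.Prime.coprime_iff_not_dvd Fact.out).2 hidx).symm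
  obtain ⟨m, hm⟩ := exists_pow_eq_self_of_coprime hcop
  rw [← hm]
  exact pow_mem h1 m

/-- The regular elements in a coset. -/
abbrev WW (p : ℕ) (N : Subgroup G) (x : G ⧸ N) := {y : G // (y : G ⧸ N) = x ∧ ¬ p ∣ orderOf y}

/-- The regular elements in a coset commuting with `P`. -/
abbrev FF (p : ℕ) (N : Subgroup G) (P : Subgroup G) (x : G ⧸ N) :=
  {y : G // (y : G ⧸ N) = x ∧ ¬ p ∣ orderOf y ∧ y ∈ Subgroup.centralizer (P : Set G)}

/-- The elements in a coset commuting with `P`. -/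
abbrev CC (N : Subgroup G) (P : Subgroup G) (x : G ⧸ N) :=
  {y : G // y ∈ Subgroup.centralizer (P : Set G) ∧ (y : G ⧸ N) = x}

/-- Conjugation by `P` on the regular elements in a coset. -/
@[instance_reducible] def wAct (P : Subgroup G) (hPN : P ≤ N) (x : G ⧸ N) : MulAction P (WW p N x) where
  smul g y := ⟨(g : G) * y * (g : G)⁻¹, by
    have h3 : (((g : G) : G) : G ⧸ N) = 1 := (QuotientGroup.eq_one_iff _).2 (hPN g.2)
    rw [QuotientGroup.mk_mul, QuotientGroup.mk_mul, QuotientGroup.mk_inv, h3, inv_one, one_mul, mul_one]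
    exact y.2.1, by rw [orderOf_conj']; exact y.2.2⟩
  one_smul y := Subtype.ext (by
    show ((1 : P) : G) * (y : G) * ((1 : P) : G)⁻¹ = y
    simp)
  mul_smul a b y := Subtype.ext (by
    show ((a * b : P) : G) * (y : G) * ((a * b : P) : G)⁻¹ =
      (a : G) * ((b : G) * (y : G) * (b : G)⁻¹) * (a : G)⁻¹
    simp only [Subgroup.coe_mul]
    group)

lemma cnt_modEq_FF (P : Sylow p G) (hPN : (P : Subgroup G) ≤ N) (x : G ⧸ N) :
    cnt p N x ≡ Nat.card (FF p N (P : Subgroup G) x) [MOD p] := by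
  classical
  letI := wAct (p := p) (P : Subgroup G) hPN x
  have hmod := P.isPGroup'.card_modEq_card_fixedPoints (WW p N x)
  have hfix : ∀ y : WW p N x, y ∈ MulAction.fixedPoints (P : Subgroup G) (WW p N x) ↔
      ∀ u ∈ (P : Subgroup G), u * (y : G) = y * u := by
    intro y
    constructor
    · intro h u hu
      have h1 := congrArg Subtype.val (h ⟨u, hu⟩)
      have h2 : u * (y : G) * u⁻¹ = y := h1
      rw [mul_inv_eq_iff_eq_mul] at h2
      exact h2
    · intro h u
      refine Subtype.ext ?_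
      show (u : G) * (y : G) * (u : G)⁻¹ = y
      rw [mul_inv_eq_iff_eq_mul]
      exact h u u.2
  have he : MulAction.fixedPoints (P : Subgroup G) (WW p N x) ≃ FF p N (P : Subgroup G) x :=
    { toFun := fun y => ⟨y.1.1, y.1.2.1, y.1.2.2,
        Subgroup.mem_centralizer_iff.2 ((hfix y.1).1 y.2)⟩
      invFun := fun y => ⟨⟨y.1, y.2.1, y.2.2.1⟩, (hfix _).2 (Subgroup.mem_centralizer_iff.1 y.2.2.2)⟩
      left_inv := fun y => rfl
      right_inv := fun y => rfl }
  rw [Nat.card_congr he] at hmod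
  exact hmod

lemma card_CC (P : Sylow p G) (hPN : (P : Subgroup G) ≤ N) (x : G ⧸ N) :
    Nat.card (CC N (P : Subgroup G) x) =
      Nat.card (FF p N (P : Subgroup G) x) *
        Nat.card ((P : Subgroup G) ⊓ Subgroup.centralizer ((P : Subgroup G) : Set G) : Subgroup G) := by
  classical
  set C := Subgroup.centralizer ((P : Subgroup G) : Set G) with hC
  set Z := (P : Subgroup G) ⊓ C with hZ
  have hmemC : ∀ {c : G}, c ∈ C ↔ ∀ u ∈ (P : Subgroup G), u * c = c * u := by
    intro c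
    rw [hC, Subgroup.mem_centralizer_iff]
    rfl
  let f : FF p N (P : Subgroup G) x × Z → CC N (P : Subgroup G) x := fun w =>
    ⟨(w.1 : G) * (w.2 : G), C.mul_mem w.1.2.2.2 w.2.2.2, by
      have h3 : (((w.2 : G) : G) : G ⧸ N) = 1 := (QuotientGroup.eq_one_iff _).2 (hPN w.2.2.1)
      rw [QuotientGroup.mk_mul, h3, mul_one]
      exact w.1.2.1⟩
  have hcomm : ∀ w : FF p N (P : Subgroup G) x × Z, Commute ((w.2 : G)) ((w.1 : G)) := by
    intro w
    exact hmemC.1 w.1.2.2.2 _ w.2.2.1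
  have hpart : ∀ w : FF p N (P : Subgroup G) x × Z, IsPPart p (f w : G) (w.2 : G) := by
    intro w
    refine ⟨(w.1 : G), ?_, hcomm w, exists_orderOf_eq_of_mem P.isPGroup' w.2.2.1, w.1.2.2.1⟩
    exact (hcomm w).eq
  have hinj : Function.Injective f := by
    intro a b hab
    have h1 : (a.2 : G) = (b.2 : G) := by
      have h2 := hpart a
      have h3 := hpart b
      rw [hab] at h2
      exact Cfsg.Agent.Lib.Blocks.Sections.isPPart_unique h2 h3
    have h2 : a.2 = b.2 := Subtype.ext h1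
    have h3 : (a.1 : G) = (b.1 : G) := by
      have h4 : (a.1 : G) * (a.2 : G) = (b.1 : G) * (b.2 : G) := congrArg Subtype.val hab
      rw [h1] at h4
      exact mul_right_cancel h4
    exact Prod.ext (Subtype.ext h3) h2
  have hsurj : Function.Surjective f := by
    intro c
    obtain ⟨z, y, hzy, hcz, hk, hy⟩ := Cfsg.Agent.Lib.Blocks.SecondMain.exists_isPPart p (c : G)
    obtain ⟨s, hs⟩ := Cfsg.Agent.Lib.Blocks.Sections.isPPart_exists_pow_eq ⟨y, hzy, hcz, hk, hy⟩
    have hzC : z ∈ C := by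
      rw [← hs]
      exact C.pow_mem c.2.1 s
    have hyC : y ∈ C := by
      have : y = z⁻¹ * c := by rw [← hzy]; group
      rw [this]
      exact C.mul_mem (C.inv_mem hzC) c.2.1
    have hzP : z ∈ (P : Subgroup G) :=
      Cfsg.Agent.Lib.Blocks.Regular.mem_sylow_of_commute P hk fun u hu => (hmemC.1 hzC u hu).symm
    have hyx : (y : G ⧸ N) = x := by
      have h3 : ((z : G) : G ⧸ N) = 1 := (QuotientGroup.eq_one_iff _).2 (hPN hzP)
      have h4 : ((c : G) : G ⧸ N) = x := c.2.2
      rw [← hzy, QuotientGroup.mk_mul, h3, one_mul] at h4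
      exact h4
    refine ⟨(⟨y, hyx, hy, hyC⟩, ⟨z, hzP, hzC⟩), ?_⟩
    apply Subtype.ext
    show y * z = c
    rw [← hzy, hcz.eq]
  rw [← Nat.card_prod]
  exact (Nat.card_congr (Equiv.ofBijective f ⟨hinj, hsurj⟩)).symm

lemma card_CC_eq (P : Sylow p G) (hsup : N ⊔ Subgroup.centralizer ((P : Subgroup G) : Set G) = ⊤)
    (x : G ⧸ N) : Nat.card (CC N (P : Subgroup G) x) = Nat.card (CC N (P : Subgroup G) 1) := by
  obtain ⟨g, rfl⟩ := QuotientGroup.mk_surjective x
  have hg : g ∈ N ⊔ Subgroup.centralizer ((P : Subgroup G) : Set G) := by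
    rw [hsup]
    exact Subgroup.mem_top g
  obtain ⟨n, hn, r, hr, rfl⟩ := Subgroup.mem_sup_of_normal_left.1 hg
  have hx : ((n * r : G) : G ⧸ N) = (r : G ⧸ N) := by
    rw [QuotientGroup.mk_mul, (QuotientGroup.eq_one_iff n).2 hn, one_mul]
  rw [hx]
  symm
  refine Nat.card_congr
    { toFun := fun c => ⟨r * c, Subgroup.mul_mem _ hr c.2.1, ?_⟩
      invFun := fun c => ⟨r⁻¹ * c, Subgroup.mul_mem _ (Subgroup.inv_mem _ hr) c.2.1, ?_⟩
      left_inv := fun c => Subtype.ext (by simp)
      right_inv := fun c => Subtype.ext (by simp) }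
  · rw [QuotientGroup.mk_mul, c.2.2, mul_one]
  · rw [QuotientGroup.mk_mul, c.2.2, QuotientGroup.mk_inv, inv_mul_cancel]

lemma card_regular_eq_sum [Fintype (G ⧸ N)] (p : ℕ) :
    Nat.card {y : G // ¬ p ∣ orderOf y} = ∑ x : G ⧸ N, cnt p N x := by
  classical
  have he : {y : G // ¬ p ∣ orderOf y} ≃ Σ x : G ⧸ N, WW p N x :=
    { toFun := fun y => ⟨(y.1 : G ⧸ N), y.1, rfl, y.2⟩
      invFun := fun w => ⟨w.2.1, w.2.2.2⟩
      left_inv := fun y => rfl
      right_inv := by
        rintro ⟨x, y, rfl, hy⟩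
        rfl }
  rw [Nat.card_congr he, Nat.card_sigma]
  rfl

/-- The counting lemma. -/
theorem exists_cnt [Fintype (G ⧸ N)] (P : Sylow p G) (hidx : ¬ p ∣ N.index)
    (hsup : N ⊔ Subgroup.centralizer ((P : Subgroup G) : Set G) = ⊤) :
    ∃ c : ℕ, ¬ p ∣ c ∧ (∀ x : G ⧸ N, cnt p N x ≡ c [MOD p]) ∧
      ∀ x : G ⧸ N, Nat.card (FF p N (P : Subgroup G) x) = c := by
  have hPN := sylow_le P hidx
  have hZ : 0 < Nat.card ((P : Subgroup G) ⊓ Subgroup.centralizer ((P : Subgroup G) : Set G) : Subgroup G) :=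
    Nat.card_pos
  have hF : ∀ x : G ⧸ N, Nat.card (FF p N (P : Subgroup G) x) = Nat.card (FF p N (P : Subgroup G) 1) := by
    intro x
    have h1 := card_CC P hPN x
    rw [card_CC_eq P hsup x, card_CC P hPN 1] at h1
    exact (Nat.eq_of_mul_eq_mul_right hZ h1).symm
  refine ⟨Nat.card (FF p N (P : Subgroup G) 1), ?_, fun x => ?_, hF⟩
  · intro hd
    apply Cfsg.Agent.Lib.Blocks.Regular.not_dvd_card_regular (G := G) p
    rw [card_regular_eq_sum (N := N) p]
    refine Finset.dvd_sum fun x _ => ?_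
    have h2 := cnt_modEq_FF P hPN x
    rw [hF x] at h2
    exact (Nat.modEq_zero_iff_dvd.1 (h2.trans (Nat.modEq_zero_iff_dvd.2 hd)))
  · have h2 := cnt_modEq_FF P hPN x
    rwa [hF x] at h2

end Count

section Main

variable {G : Type u} [Group G] [Fintype G] {p : ℕ} [hp : Fact p.Prime] {M : Ideal AlgInt}
  [hMp : M.IsPrime] {N : Subgroup G} [hN : N.Normal] [Fintype N]

lemma class_push_regT : IsClassFunction G (push N (regT p N)).coeff := by
  refine isClassFunction_push fun g n => ?_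
  simp only [regT, coeff_regElt, reg]
  have h1 : orderOf (⟨g * n * g⁻¹, hN.conj_mem n n.2 g⟩ : N) = orderOf n := by
    rw [Subgroup.orderOf_mk, ← Subgroup.orderOf_coe n]
    exact orderOf_injective (MulAut.conj g).toMonoidHom (MulEquiv.injective _) (n : G)
  rw [h1]

/-- Constituents over characters of the principal block are in the principal block. -/
theorem mem_principal_of_constituent (hM : IsPModular p M) {χ : IrrCharacter G}
    (hχ : χ ∈ principalBlock M G) {θ : IrrCharacter N}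
    (hcon : classInner (fun n : N => (χ : G → ℂ) n) (θ : N → ℂ) ≠ 0) : θ ∈ principalBlock M N := by
  have hloc : push N (regT p N) ∈ localCenter G M :=
    push_mem_localCenter class_push_regT fun n => regT_mem_localCenter.2 n
  have h1 := memLocalIdeal_omega_sub (trivChar G).2 χ.2 hχ hloc
  rw [omega_push_eq_of_constituent χ.2 θ.2 hcon class_push_regT] at h1
  have h2 : omega ((trivChar G : IrrCharacter G) : G → ℂ) (push N (regT p N)) =
      (Nat.card {y : N // ¬ p ∣ orderOf y} : ℂ) := by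
    rw [← omega_regT_trivChar (G := N), omega_push]
    simp [omega]
  rw [h2] at h1
  refine mem_principalBlock_of_not_memLocalIdeal hM fun h3 => ?_
  have h4 := memLocalIdeal_add h1 h3
  rw [sub_add_cancel, memLocalIdeal_natCast_iff hM] at h4
  exact not_dvd_card_regular (G := N) p h4

/-- **Alperin–Dade, part 1**: members of the principal block of `G` restrict irreducibly to `N`. -/
theorem isIrr_res [Fintype (G ⧸ N)] (hM : IsPModular p M) (P : Sylow p G) (hidx : ¬ p ∣ N.index)
    (hsup : N ⊔ Subgroup.centralizer ((P : Subgroup G) : Set G) = ⊤) {χ : IrrCharacter G}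
    (hχ : χ ∈ principalBlock M G) : IsIrrCharacter N (fun n : N => (χ : G → ℂ) n) := by
  classical
  obtain ⟨c, hc0, hc, -⟩ := exists_cnt (N := N) P hidx hsup
  have hcnt : ∀ x : G ⧸ N, ¬ p ∣ cnt p N x := fun x h =>
    hc0 (Nat.modEq_zero_iff_dvd.1 ((hc x).symm.trans (Nat.modEq_zero_iff_dvd.2 h)))
  obtain ⟨θ, hcon⟩ := exists_constituent (N := N) χ.2
  have hθ := mem_principal_of_constituent hM hχ hcon
  have hinv : ∀ g : G, conjIrr g θ = θ := fun g => by
    have := conjIrr_eq hM hcnt θ hθ g⁻¹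
    rwa [inv_inv] at this
  have hω := not_memLocalIdeal_omega_regT (p := p) hM hχ
  obtain ⟨d, ρ, hρ, hρχ⟩ := χ.2
  have hχ1 : (χ : G → ℂ) = ρ.character := hρχ.symm
  rw [hχ1] at hcon hω ⊢
  have hne1 : (1 : Module.End ℂ (Fin d → ℂ)) ≠ 0 := by
    intro h
    have h1 : ρ.character 1 = 0 := by
      show LinearMap.trace ℂ _ (ρ 1) = 0
      rw [map_one, h, map_zero]
    have h2 := Cfsg.Agent.Lib.Char.Ortho.irr_apply_one_ne_zero (χ := ρ.character) ⟨d, ρ, hρ, rfl⟩
    exact h2 h1
  have hs : ∀ z : G ⧸ N, ∃ s : ℂ, s ≠ 0 ∧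
      ρ.asAlgebraHom (cT p N z) = s • (1 : Module.End ℂ (Fin d → ℂ)) := by
    intro z
    obtain ⟨s, hs⟩ := tau_scalar ρ hM hc hc0 θ hθ hinv hcon hω z
    refine ⟨s, ?_, hs⟩
    rintro rfl
    have hd : Deg N 1 (cT p N z * cT p N z⁻¹) := by
      have := (deg_cT p N z).mul (deg_cT p N z⁻¹)
      rwa [mul_inv_cancel] at this
    have hn : NInv N (cT p N z * cT p N z⁻¹) := (ninv_cT p N z).mul (ninv_cT p N z⁻¹)
    have hl : Loc M (cT p N z * cT p N z⁻¹) := (loc_cT z).mul (loc_cT z⁻¹)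
    have h1 := rho_scal ρ θ hinv hcon hd hn
    rw [map_mul, hs, zero_smul, zero_mul] at h1
    have h2 : omega (θ : N → ℂ) (res N (cT p N z * cT p N z⁻¹)) = 0 :=
      (smul_eq_zero.1 h1.symm).resolve_right hne1
    have h3 := scal_congr θ hθ hd hn hl
    rw [h2, zero_sub, aug_mul, aug_cT, aug_cT] at h3
    have h6 := memLocalIdeal_neg h3
    rw [neg_neg] at h6
    have h7 : MemLocalIdeal M (((cnt p N z * cnt p N z⁻¹ : ℕ)) : ℂ) := by
      push_cast
      exact h6
    rw [memLocalIdeal_natCast_iff hM] at h7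
    rcases (Fact.out : p.Prime).dvd_mul.1 h7 with h8 | h8
    · exact hcnt _ h8
    · exact hcnt _ h8
  exact ⟨d, ρ.comp N.subtype, isIrreducible_comp ρ hs, rfl⟩

/-- A general form of Frobenius reciprocity for the regular sum. -/
theorem index_mul_sum (K : Subgroup G) [Fintype K] (η : IrrCharacter K) {c : IrrCharacter G → ℕ}
    (hc : ∀ χ : IrrCharacter G, classInner (fun h : K => (χ : G → ℂ) h) (η : K → ℂ) = c χ) :
    (K.index : ℂ) * ∑ h : K, reg p (fun _ : G => (1 : ℂ)) h * (η : K → ℂ) h =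
      ∑ χ : IrrCharacter G, (∑ y : G, reg p (fun _ : G => (1 : ℂ)) y * (χ : G → ℂ) y) * (c χ : ℂ) := by
  classical
  set f : G → ℂ := reg p (fun _ => 1) with hf
  have hfreal : ∀ y, conj (f y) = f y := by
    intro y
    by_cases hy : p ∣ orderOf y
    · simp [hf, reg_of_dvd _ hy]
    · simp [hf, reg_of_not_dvd _ hy]
  have hfclass : IsClassFunction G f := isClassFunction_reg (fun _ _ => rfl)
  have hcard : (K.index : ℂ) * (Nat.card K : ℂ) = (Nat.card G : ℂ) := by
    exact_mod_cast Subgroup.index_mul_card K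
  have hG0 : (Nat.card G : ℂ) ≠ 0 := Nat.cast_ne_zero.2 Nat.card_pos.ne'
  have hK0 : (Nat.card K : ℂ) ≠ 0 := Nat.cast_ne_zero.2 Nat.card_pos.ne'
  have hI0 : (K.index : ℂ) ≠ 0 := left_ne_zero_of_mul (hcard.symm ▸ hG0)
  have hexp : ∀ y, f y = ∑ χ : IrrCharacter G, classInner f (χ : G → ℂ) * (χ : G → ℂ) y := by
    intro y
    have := congrFun (Cfsg.Agent.Lib.Char.Complete.eq_sum_classInner f hfclass) y
    rw [this]
    simp [Finset.sum_apply]
  have hA2 : (∑ h : K, f h * conj ((η : K → ℂ) h)) =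
      ∑ χ : IrrCharacter G, classInner f (χ : G → ℂ) * ((Nat.card K : ℂ) * (c χ : ℂ)) := by
    have h1 : ∀ χ : IrrCharacter G, (Nat.card K : ℂ) * (c χ : ℂ) =
        ∑ h : K, (χ : G → ℂ) h * conj ((η : K → ℂ) h) := by
      intro χ
      rw [← hc χ, classInner, mul_inv_cancel_left₀ hK0]
    simp only [h1, Finset.mul_sum]
    rw [Finset.sum_comm]
    refine Finset.sum_congr rfl fun h _ => ?_
    rw [hexp (h : G), Finset.sum_mul]
    refine Finset.sum_congr rfl fun χ _ => ?_
    ring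
  have hconj : ∀ χ : IrrCharacter G, conj (classInner f (χ : G → ℂ)) =
      (Nat.card G : ℂ)⁻¹ * ∑ y : G, f y * (χ : G → ℂ) y := by
    intro χ
    rw [classInner, map_mul, map_inv₀, Complex.conj_natCast, map_sum]
    congr 1
    refine Finset.sum_congr rfl fun y _ => ?_
    rw [map_mul, hfreal, Complex.conj_conj]
  have hA3 : (∑ h : K, f h * (η : K → ℂ) h) = conj (∑ h : K, f h * conj ((η : K → ℂ) h)) := by
    rw [map_sum]
    refine Finset.sum_congr rfl fun n _ => ?_
    rw [map_mul, hfreal, Complex.conj_conj]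
  rw [hA3, hA2, map_sum, Finset.mul_sum]
  refine Finset.sum_congr rfl fun χ _ => ?_
  rw [map_mul, map_mul, hconj, Complex.conj_natCast, Complex.conj_natCast]
  rw [← hcard]
  field_simp

lemma eq_one_of_root (hM : IsPModular p M) {ζ : ℂ} {o : ℕ} (ho : ¬ p ∣ o) (h : ζ ^ o = 1)
    (h1 : MemLocalIdeal M (ζ - 1)) : ζ = 1 := by
  classical
  by_contra hne
  have hchar : CharP (localRing M ⧸ localIdeal M) p := charP_residue hM
  have hl : MemLocalRing M ζ := by
    have := memLocalRing_add (memLocalRing_of_memLocalIdeal h1) memLocalRing_one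
    simpa using this
  have h2 : ∑ i ∈ Finset.range o, ζ ^ i = 0 := by
    have := geom_sum_mul ζ o
    rw [h, sub_self] at this
    exact (mul_eq_zero.1 this).resolve_right (sub_ne_zero.2 hne)
  have h3 : MemLocalIdeal M (∑ i ∈ Finset.range o, (ζ ^ i - 1)) := by
    refine memLocalIdeal_sum _ _ fun i _ => ?_
    have h4 := geom_sum_mul ζ i
    rw [← h4]
    exact memLocalIdeal_mul_left (memLocalRing_sum _ _ fun j _ => memLocalRing_pow hl j) h1
  rw [Finset.sum_sub_distrib, h2] at h3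
  simp only [Finset.sum_const, Finset.card_range, nsmul_eq_mul, mul_one, zero_sub] at h3
  have h5 := memLocalIdeal_neg h3
  rw [neg_neg, memLocalIdeal_natCast_iff hM] at h5
  exact ho h5

/-- Uniqueness: two members of the principal block of `G` with the same restriction to `N` coincide. -/
theorem eq_of_res_eq [Fintype (G ⧸ N)] (hM : IsPModular p M) (P : Sylow p G) (hidx : ¬ p ∣ N.index)
    (hsup : N ⊔ Subgroup.centralizer ((P : Subgroup G) : Set G) = ⊤) {χ χ' : IrrCharacter G}
    (hχ : χ ∈ principalBlock M G) (hχ' : χ' ∈ principalBlock M G)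
    (hres : ∀ n : N, (χ : G → ℂ) n = (χ' : G → ℂ) n) : χ = χ' := by
  classical
  have hirr := isIrr_res hM P hidx hsup hχ
  obtain ⟨l, hlN, hl⟩ := Cfsg.Agent.Lib.Char.GlaubCyclic.exists_lin_of_ext N χ.2 χ'.2 hres hirr
  obtain ⟨c, hc0, -, hF⟩ := exists_cnt (N := N) P hidx hsup
  have hne : ∀ x : G ⧸ N, Nonempty (FF p N (P : Subgroup G) x) := by
    intro x
    by_contra h
    rw [not_nonempty_iff] at h
    have h1 := hF x
    rw [Nat.card_of_isEmpty] at h1
    exact hc0 (h1 ▸ dvd_zero p)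
  have hly : ∀ y : G, ¬ p ∣ orderOf y → y ∈ Subgroup.centralizer ((P : Subgroup G) : Set G) →
      ((l y : ℂˣ) : ℂ) = 1 := by
    intro y hy1 hy2
    have hle : (P : Subgroup G) ≤ Subgroup.centralizer ({y} : Set G) := by
      intro u hu
      rw [Subgroup.mem_centralizer_iff]
      intro v hv
      rw [Set.mem_singleton_iff] at hv
      subst hv
      exact ((Subgroup.mem_centralizer_iff.1 hy2) u hu).symm
    have hI : ¬ p ∣ (Subgroup.centralizer ({y} : Set G)).index := fun h =>
      P.not_dvd_index (h.trans (Subgroup.index_dvd_of_le hle))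
    have h1 := hχ y
    have h2 := hχ' y
    rw [centralChar_trivChar] at h1 h2
    have hcc : centralChar (χ' : G → ℂ) y = ((l y : ℂˣ) : ℂ) * centralChar (χ : G → ℂ) y := by
      unfold centralChar
      rw [hl]
      simp only [map_one, Units.val_one, one_mul]
      ring
    have h3 : ¬ MemLocalIdeal M (centralChar (χ : G → ℂ) y) := fun h => hI (by
      have h4 := memLocalIdeal_add h1 h
      rw [sub_add_cancel] at h4
      exact (memLocalIdeal_natCast_iff hM).1 h4)
    have h4 : MemLocalIdeal M ((((l y : ℂˣ) : ℂ) - 1) * centralChar (χ : G → ℂ) y) := by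
      have h5 := memLocalIdeal_sub h1 h2
      have h6 : (((Subgroup.centralizer ({y} : Set G)).index : ℂ) - centralChar (χ : G → ℂ) y) -
          (((Subgroup.centralizer ({y} : Set G)).index : ℂ) - centralChar (χ' : G → ℂ) y) =
          (((l y : ℂˣ) : ℂ) - 1) * centralChar (χ : G → ℂ) y := by
        rw [hcc]
        ring
      rwa [h6] at h5
    have hpow : ((l y : ℂˣ) : ℂ) ^ orderOf y = 1 := by
      rw [← Units.val_pow_eq_pow_val, ← map_pow, pow_orderOf_eq_one, map_one, Units.val_one]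
    have hlroot : MemLocalRing M ((l y : ℂˣ) : ℂ) := by
      refine memLocalRing_of_isIntegral ?_
      refine ⟨Polynomial.X ^ orderOf y - 1, ?_, ?_⟩
      · exact Polynomial.monic_X_pow_sub_C 1 (orderOf_pos y).ne'
      · simp [hpow]
    have hcloc : MemLocalRing M (centralChar (χ : G → ℂ) y) := memLocalRing_centralChar χ.2 y
    have h5 : MemLocalIdeal M (((l y : ℂˣ) : ℂ) - 1) :=
      memLocalIdeal_of_mul_right (memLocalRing_sub hlroot memLocalRing_one) hcloc h4 h3
    exact eq_one_of_root hM hy1 hpow h5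
  have hlall : ∀ g : G, l g = 1 := by
    intro g
    obtain ⟨⟨y, hy1, hy2, hy3⟩⟩ := hne (g : G ⧸ N)
    have h1 : g * y⁻¹ ∈ N := by
      rw [← QuotientGroup.eq_one_iff, QuotientGroup.mk_mul, QuotientGroup.mk_inv, hy1, mul_inv_cancel]
    have h2 := hlN ⟨g * y⁻¹, h1⟩
    have h3 : l y = 1 := Units.ext (by simpa using hly y hy2 hy3)
    have h4 : l (g * y⁻¹) = 1 := h2
    rw [map_mul, map_inv, h3, inv_one, mul_one] at h4
    exact h4
  refine Subtype.ext ?_
  rw [hl]
  funext x
  rw [hlall x]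
  simp

/-- Existence: every member of the principal block of `N` is the restriction of a member
of the principal block of `G`. -/
theorem exists_of_res [Fintype (G ⧸ N)] (hM : IsPModular p M) (P : Sylow p G) (hidx : ¬ p ∣ N.index)
    (hsup : N ⊔ Subgroup.centralizer ((P : Subgroup G) : Set G) = ⊤) {θ : IrrCharacter N}
    (hθ : θ ∈ principalBlock M N) :
    ∃ χ : IrrCharacter G, χ ∈ principalBlock M G ∧ ∀ n : N, (χ : G → ℂ) n = (θ : N → ℂ) n := by
  classical
  choose c hc using fun χ : IrrCharacter G =>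
    Cfsg.Agent.Lib.Char.Ortho.exists_nat_classInner
      (Cfsg.Agent.Lib.Char.Basic.isCharacter_restrict
        (Cfsg.Agent.Lib.Char.Basic.isCharacter_of_isIrrCharacter χ.2) N) θ
  have h := index_mul_sum (p := p) N θ hc
  have hω := (mem_principalBlock_iff_omega_regT (p := p) hM).1 hθ
  have hL : (N.index : ℂ) * ∑ h : N, reg p (fun _ : G => (1 : ℂ)) h * (θ : N → ℂ) h ≠ 0 := by
    have hI : (N.index : ℂ) ≠ 0 := Nat.cast_ne_zero.2 (Subgroup.index_ne_zero_of_finite)
    refine mul_ne_zero hI ?_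
    intro h0
    apply hω
    rw [regT, omega_regElt]
    have : ∑ y : N, reg p (fun _ : N => (1 : ℂ)) y * (θ : N → ℂ) y =
        ∑ h : N, reg p (fun _ : G => (1 : ℂ)) h * (θ : N → ℂ) h := by
      refine Finset.sum_congr rfl fun y _ => ?_
      simp only [reg, Subgroup.orderOf_coe]
    rw [this, h0, zero_div]
  rw [h] at hL
  obtain ⟨χ, -, hχ⟩ := Finset.exists_ne_zero_of_sum_ne_zero hL
  have hχ1 : (∑ y : G, reg p (fun _ : G => (1 : ℂ)) y * (χ : G → ℂ) y) ≠ 0 := left_ne_zero_of_mul hχ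
  have hχ2 : ((c χ : ℕ) : ℂ) ≠ 0 := right_ne_zero_of_mul hχ
  have hmem : χ ∈ principalBlock M G := by
    rw [mem_principalBlock_iff_omega_regT (p := p) hM, regT, omega_regElt]
    exact div_ne_zero hχ1 (Cfsg.Agent.Lib.Char.Ortho.irr_apply_one_ne_zero χ.2)
  refine ⟨χ, hmem, ?_⟩
  have hirr := isIrr_res hM P hidx hsup hmem
  by_contra hne
  push Not at hne
  obtain ⟨n, hn⟩ := hne
  apply hχ2
  rw [← hc χ]
  refine Cfsg.Agent.Lib.Char.Ortho.classInner_irr_of_ne hirr θ.2 fun h1 => hn (congrFun h1 n)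

/-- **Alperin–Dade**: restriction gives a bijection between principal blocks. -/
theorem alperin_dade (hM : IsPModular p M) (P : Sylow p G) (hidx : ¬ p ∣ N.index)
    (hsup : N ⊔ Subgroup.centralizer ((P : Subgroup G) : Set G) = ⊤) :
    (∀ χ ∈ principalBlock M G, ∃ θ ∈ principalBlock M N, ∀ n : N, (χ : G → ℂ) n = (θ : N → ℂ) n) ∧
      ∀ θ ∈ principalBlock M N, ∃! χ : IrrCharacter G, χ ∈ principalBlock M G ∧
        ∀ n : N, (χ : G → ℂ) n = (θ : N → ℂ) n := by
  classical
  haveI : Fintype (G ⧸ N) := Fintype.ofFinite _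
  constructor
  · intro χ hχ
    have hirr := isIrr_res hM P hidx hsup hχ
    refine ⟨⟨_, hirr⟩, ?_, fun n => rfl⟩
    refine mem_principal_of_constituent hM hχ (θ := ⟨_, hirr⟩) ?_
    show classInner (fun n : N => (χ : G → ℂ) n) (fun n : N => (χ : G → ℂ) n) ≠ 0
    rw [Cfsg.Agent.Lib.Char.Ortho.classInner_irr_self hirr]
    exact one_ne_zero
  · intro θ hθ
    obtain ⟨χ, hχ, hres⟩ := exists_of_res hM P hidx hsup hθ
    refine ⟨χ, ⟨hχ, hres⟩, fun χ' h' => ?_⟩
    exact eq_of_res_eq hM P hidx hsup h'.1 hχ fun n => by rw [h'.2 n, hres n]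

end Main

end Cfsg.Agent.Lib.Char.AlpDade
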