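import Mathlib
import Cfsg.Prelude.Def_Blocks
import Cfsg.Agent.Lib.Char.AlpDade
import Cfsg.Agent.Lib.Char.CompleteCor
import Cfsg.Agent.Lib.Char.Values

/-!
# Tools for the principal block and normal subgroups

* `exists_principal_over`: every member of the principal block of a normal subgroup lies under a member
  of the principal block of the group.
* `degree_eq_sum`, `sum_degree_eq`: the usual degree formulas for restriction and induction.
* `sum_principal_le`: the squared degree sums of principal blocks compare.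
-/

set_option autoImplicit false
set_option linter.style.haveILetI false
set_option linter.unusedSectionVars false
set_option linter.unusedVariables false

namespace Cfsg.Agent.Lib.Char.B0Tools

open Cfsg Cfsg.Agent.Lib.Blocks.Local Cfsg.Agent.Lib.Blocks.Central Cfsg.Agent.Lib.Blocks.Regular
  Cfsg.Agent.Lib.Blocks.Principal Cfsg.Agent.Lib.Blocks.Covering Cfsg.Agent.Lib.Blocks.Osima
  Cfsg.Agent.Lib.Char.AlpDade
open scoped ComplexConjugate

universe u

section Main

variable {G : Type u} [Group G] [Fintype G] {p : ℕ} [hp : Fact p.Prime] {M : Ideal AlgInt}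
  [hMp : M.IsPrime] (N : Subgroup G) [hN : N.Normal] [Fintype N]

/-- Every member of the principal block of a normal subgroup lies under a member of the principal
block of the group. -/
theorem exists_principal_over (hM : IsPModular p M) {θ : IrrCharacter N}
    (hθ : θ ∈ principalBlock M N) :
    ∃ χ : IrrCharacter G, χ ∈ principalBlock M G ∧
      classInner (fun n : N => (χ : G → ℂ) n) (θ : N → ℂ) ≠ 0 := by
  classical
  choose c hc using fun χ : IrrCharacter G =>
    Cfsg.Agent.Lib.Char.Ortho.exists_nat_classInner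
      (Cfsg.Agent.Lib.Char.Basic.isCharacter_restrict
        (Cfsg.Agent.Lib.Char.Basic.isCharacter_of_isIrrCharacter χ.2) N) θ
  have h := index_mul_sum (p := p) N θ hc
  have hω := (mem_principalBlock_iff_omega_regT (p := p) hM).1 hθ
  have hL : (N.index : ℂ) * ∑ h : N, reg p (fun _ : G => (1 : ℂ)) h * (θ : N → ℂ) h ≠ 0 := by
    have hI : (N.index : ℂ) ≠ 0 := Nat.cast_ne_zero.2 (Subgroup.index_ne_zero_of_finite)
    refine mul_ne_zero hI ?_
    intro h0
    apply hω
    rw [regT, omega_regElt]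
    have : ∑ y : N, reg p (fun _ : N => (1 : ℂ)) y * (θ : N → ℂ) y =
        ∑ h : N, reg p (fun _ : G => (1 : ℂ)) h * (θ : N → ℂ) h := by
      refine Finset.sum_congr rfl fun y _ => ?_
      simp only [reg, Subgroup.orderOf_coe]
    rw [this, h0, zero_div]
  rw [h] at hL
  obtain ⟨χ, -, hχ⟩ := Finset.exists_ne_zero_of_sum_ne_zero hL
  have hχ1 : (∑ y : G, reg p (fun _ : G => (1 : ℂ)) y * (χ : G → ℂ) y) ≠ 0 := left_ne_zero_of_mul hχ
  have hχ2 : ((c χ : ℕ) : ℂ) ≠ 0 := right_ne_zero_of_mul hχ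
  have hmem : χ ∈ principalBlock M G := by
    rw [mem_principalBlock_iff_omega_regT (p := p) hM, regT, omega_regElt]
    exact div_ne_zero hχ1 (Cfsg.Agent.Lib.Char.Ortho.irr_apply_one_ne_zero χ.2)
  refine ⟨χ, hmem, ?_⟩
  rw [hc χ]
  exact hχ2

omit hp hMp in
/-- The degree of a character in terms of the constituents of its restriction. -/
theorem degree_eq_sum (χ : IrrCharacter G) {c : IrrCharacter N → ℕ}
    (hc : ∀ θ : IrrCharacter N, classInner (fun n : N => (χ : G → ℂ) n) (θ : N → ℂ) = c θ) :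
    charDegree (χ : G → ℂ) = ∑ θ : IrrCharacter N, c θ * charDegree (θ : N → ℂ) := by
  have h := Cfsg.Agent.Lib.Char.Ortho.decomp_eq_sum_classInner
    (Cfsg.Agent.Lib.Char.Basic.isCharacter_restrict
        (Cfsg.Agent.Lib.Char.Basic.isCharacter_of_isIrrCharacter χ.2) N)
  have h1 := congrFun h 1
  simp only [Finset.sum_apply, Pi.smul_apply, smul_eq_mul] at h1
  have h2 : ((charDegree (χ : G → ℂ) : ℕ) : ℂ) =
      ((∑ θ : IrrCharacter N, c θ * charDegree (θ : N → ℂ) : ℕ) : ℂ) := by
    rw [Cfsg.Agent.Lib.Char.Values.IsCharacter.charDegree_cast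
      (Cfsg.Agent.Lib.Char.Basic.isCharacter_of_isIrrCharacter χ.2)]
    push_cast
    have h3 : (χ : G → ℂ) 1 = (χ : G → ℂ) ((1 : N) : G) := rfl
    rw [h3, h1]
    refine Finset.sum_congr rfl fun θ _ => ?_
    rw [hc θ, Cfsg.Agent.Lib.Char.Values.IsCharacter.charDegree_cast
      (Cfsg.Agent.Lib.Char.Basic.isCharacter_of_isIrrCharacter θ.2)]
  exact_mod_cast h2

omit hp hMp in
/-- The degree of an induced character. -/
theorem sum_degree_eq (θ : IrrCharacter N) {c : IrrCharacter G → ℕ}
    (hc : ∀ χ : IrrCharacter G, classInner (fun n : N => (χ : G → ℂ) n) (θ : N → ℂ) = c χ) :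
    ∑ χ : IrrCharacter G, c χ * charDegree (χ : G → ℂ) = N.index * charDegree (θ : N → ℂ) := by
  classical
  have hcast : ∀ χ : IrrCharacter G, ((charDegree (χ : G → ℂ) : ℕ) : ℂ) = (χ : G → ℂ) 1 := fun χ =>
    Cfsg.Agent.Lib.Char.Values.IsCharacter.charDegree_cast
      (Cfsg.Agent.Lib.Char.Basic.isCharacter_of_isIrrCharacter χ.2)
  have hcast' : ((charDegree (θ : N → ℂ) : ℕ) : ℂ) = (θ : N → ℂ) 1 :=
    Cfsg.Agent.Lib.Char.Values.IsCharacter.charDegree_cast
      (Cfsg.Agent.Lib.Char.Basic.isCharacter_of_isIrrCharacter θ.2)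
  have hcard : (N.index : ℂ) * (Nat.card N : ℂ) = (Nat.card G : ℂ) := by
    exact_mod_cast Subgroup.index_mul_card N
  have hN0 : (Nat.card N : ℂ) ≠ 0 := Nat.cast_ne_zero.2 Nat.card_pos.ne'
  have h2 : ((∑ χ : IrrCharacter G, c χ * charDegree (χ : G → ℂ) : ℕ) : ℂ) =
      ((N.index * charDegree (θ : N → ℂ) : ℕ) : ℂ) := by
    push_cast
    simp only [← hc, hcast, hcast']
    simp only [classInner]
    have h3 : ∀ χ : IrrCharacter G, (Nat.card N : ℂ)⁻¹ *
          (∑ n : N, (χ : G → ℂ) n * conj ((θ : N → ℂ) n)) * (χ : G → ℂ) 1 =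
        (Nat.card N : ℂ)⁻¹ * ∑ n : N, conj ((θ : N → ℂ) n) *
          ((χ : G → ℂ) n * conj ((χ : G → ℂ) 1)) := by
      intro χ
      rw [mul_assoc, Finset.sum_mul]
      congr 1
      refine Finset.sum_congr rfl fun n _ => ?_
      rw [Cfsg.Agent.Lib.Char.CompleteCor.conj_apply_one χ.2]
      ring
    simp only [h3]
    rw [← Finset.mul_sum, Finset.sum_comm]
    simp only [← Finset.mul_sum]
    rw [Finset.sum_eq_single (1 : N)]
    · have h4 := Cfsg.Agent.Lib.Char.CompleteCor.column_orth_conj (IsConj.refl (1 : G))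
      have h5 : Subgroup.centralizer ({1} : Set G) = ⊤ := by
        ext x
        simp [Subgroup.mem_centralizer_singleton_iff]
      rw [h5] at h4
      have h6 : Nat.card (⊤ : Subgroup G) = Nat.card G := Nat.card_congr Subgroup.topEquiv.toEquiv
      rw [h6] at h4
      show (Nat.card N : ℂ)⁻¹ * (conj ((θ : N → ℂ) 1) *
        ∑ χ : IrrCharacter G, (χ : G → ℂ) 1 * conj ((χ : G → ℂ) 1)) = _
      rw [h4, Cfsg.Agent.Lib.Char.CompleteCor.conj_apply_one θ.2, ← hcard]
      field_simp
    · intro n _ hn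
      have h4 := Cfsg.Agent.Lib.Char.CompleteCor.column_orth_not_conj (g := (n : G)) (h := 1) (by
        intro hc'
        exact hn (Subtype.ext (isConj_one_right.1 hc'.symm)))
      rw [h4, mul_zero]
    · intro h
      exact absurd (Finset.mem_univ _) h
  exact_mod_cast h2

open Classical in
/-- The squared degree sums of the principal blocks of `G` and of a normal subgroup compare. -/
theorem sum_principal_le (hM : IsPModular p M) :
    ∑ θ ∈ Finset.univ.filter (· ∈ principalBlock M N), charDegree (θ : N → ℂ) ^ 2 ≤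
      ∑ χ ∈ Finset.univ.filter (· ∈ principalBlock M G), charDegree (χ : G → ℂ) ^ 2 ∧
    ∑ χ ∈ Finset.univ.filter (· ∈ principalBlock M G), charDegree (χ : G → ℂ) ^ 2 ≤
      N.index * ∑ θ ∈ Finset.univ.filter (· ∈ principalBlock M N), charDegree (θ : N → ℂ) ^ 2 := by
  have hcex : ∀ (χ : IrrCharacter G) (θ : IrrCharacter N), ∃ n : ℕ,
      classInner (fun n : N => (χ : G → ℂ) n) (θ : N → ℂ) = n := fun χ θ =>
    Cfsg.Agent.Lib.Char.Ortho.exists_nat_classInner
      (Cfsg.Agent.Lib.Char.Basic.isCharacter_restrict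
        (Cfsg.Agent.Lib.Char.Basic.isCharacter_of_isIrrCharacter χ.2) N) θ
  choose c hc using hcex
  set A := Finset.univ.filter (· ∈ principalBlock M G) with hA
  set C := Finset.univ.filter (· ∈ principalBlock M N) with hC
  have h1 : ∀ χ ∈ A, ∀ θ, θ ∉ C → c χ θ = 0 := by
    intro χ hχ θ hθ
    by_contra h0
    apply hθ
    simp only [hC, Finset.mem_filter, Finset.mem_univ, true_and]
    refine mem_principal_of_constituent hM (Finset.mem_filter.1 hχ).2 ?_
    rw [hc χ θ]
    exact_mod_cast h0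
  have h2 : ∀ χ ∈ A, charDegree (χ : G → ℂ) = ∑ θ ∈ C, c χ θ * charDegree (θ : N → ℂ) := by
    intro χ hχ
    rw [degree_eq_sum N χ (hc χ)]
    symm
    refine Finset.sum_subset (Finset.subset_univ _) fun θ _ hθ => ?_
    rw [h1 χ hχ θ hθ, zero_mul]
  have h3 : ∀ θ, ∑ χ, c χ θ * charDegree (χ : G → ℂ) = N.index * charDegree (θ : N → ℂ) :=
    fun θ => sum_degree_eq N θ fun χ => hc χ θ
  constructor
  · haveI : Nonempty (IrrCharacter G) := ⟨trivChar G⟩
    have h4 : ∀ θ, θ ∈ C → ∃ χ, χ ∈ A ∧ c χ θ ≠ 0 := by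
      intro θ hθ
      obtain ⟨χ, h5, h6⟩ := exists_principal_over N hM (Finset.mem_filter.1 hθ).2
      refine ⟨χ, Finset.mem_filter.2 ⟨Finset.mem_univ _, h5⟩, fun h7 => h6 ?_⟩
      rw [hc, h7, Nat.cast_zero]
    choose! f hf1 hf2 using h4
    rw [← Finset.sum_fiberwise_of_maps_to (s := C) (t := A) (g := f) hf1]
    refine Finset.sum_le_sum fun χ hχ => ?_
    set S := C.filter fun θ => f θ = χ with hS
    have h5 : ∑ θ ∈ S, charDegree (θ : N → ℂ) ≤ charDegree (χ : G → ℂ) := by
      rw [h2 χ hχ]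
      calc ∑ θ ∈ S, charDegree (θ : N → ℂ) ≤ ∑ θ ∈ S, c χ θ * charDegree (θ : N → ℂ) := by
            refine Finset.sum_le_sum fun θ hθ => ?_
            obtain ⟨h6, h7⟩ := Finset.mem_filter.1 hθ
            have h8 := hf2 θ h6
            rw [h7] at h8
            exact Nat.le_mul_of_pos_left _ (Nat.pos_of_ne_zero h8)
        _ ≤ ∑ θ ∈ C, c χ θ * charDegree (θ : N → ℂ) :=
            Finset.sum_le_sum_of_subset (Finset.filter_subset _ _)
    calc ∑ θ ∈ S, charDegree (θ : N → ℂ) ^ 2
        ≤ ∑ θ ∈ S, charDegree (θ : N → ℂ) * ∑ θ' ∈ S, charDegree (θ' : N → ℂ) := by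
          refine Finset.sum_le_sum fun θ hθ => ?_
          rw [sq]
          exact Nat.mul_le_mul_left _
            (Finset.single_le_sum (f := fun θ' : IrrCharacter N => charDegree (θ' : N → ℂ))
              (fun _ _ => Nat.zero_le _) hθ)
      _ = (∑ θ ∈ S, charDegree (θ : N → ℂ)) ^ 2 := by rw [sq, Finset.sum_mul]
      _ ≤ charDegree (χ : G → ℂ) ^ 2 := Nat.pow_le_pow_left h5 2
  · calc ∑ χ ∈ A, charDegree (χ : G → ℂ) ^ 2
        = ∑ χ ∈ A, charDegree (χ : G → ℂ) * ∑ θ ∈ C, c χ θ * charDegree (θ : N → ℂ) := by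
          refine Finset.sum_congr rfl fun χ hχ => ?_
          rw [sq]
          exact congrArg _ (h2 χ hχ)
      _ = ∑ θ ∈ C, charDegree (θ : N → ℂ) * ∑ χ ∈ A, c χ θ * charDegree (χ : G → ℂ) := by
          simp only [Finset.mul_sum]
          rw [Finset.sum_comm]
          refine Finset.sum_congr rfl fun θ _ => Finset.sum_congr rfl fun χ _ => ?_
          ring
      _ ≤ ∑ θ ∈ C, charDegree (θ : N → ℂ) * (N.index * charDegree (θ : N → ℂ)) := by
          refine Finset.sum_le_sum fun θ _ => Nat.mul_le_mul_left _ ?_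
          rw [← h3 θ]
          exact Finset.sum_le_sum_of_subset (Finset.subset_univ _)
      _ = N.index * ∑ θ ∈ C, charDegree (θ : N → ℂ) ^ 2 := by
          rw [Finset.mul_sum]
          refine Finset.sum_congr rfl fun θ _ => ?_
          ring

end Main

end Cfsg.Agent.Lib.Char.B0Tools
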