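import Mathlib
import Cfsg.Prelude.Def_Blocks
import Cfsg.Agent.Lib.Char.B0Tools
import Cfsg.Agent.Lib.Char.PResChars
import Cfsg.Agent.Lib.Blocks.RegInt
import Cfsg.Agent.Lib.Blocks.PrincipalCen
import Cfsg.Agent.Lib.Blocks.Kernel
import Cfsg.Agent.Lib.Char.GlaubOver

/-!
# Height zero characters of the principal block and normal `p`-complements

* `blockHeight_principal`: heights in the principal block are `p`-parts of degrees.
* `prime_dvd_sum_principal`: `p` divides the sum of the squared degrees of the principal block when `p ∣ |G|`.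
* `not_dvd_card_residual`: if all the members of `B₀(G)` of degree prime to `p` are linear then `p ∤ |O^p(G)|`.
* `equal_height_zero_iff`: all height zero characters of `B₀(G)` have the same degree iff `G` has a normal
  `p`-complement.
-/

set_option autoImplicit false
set_option linter.style.haveILetI false
set_option linter.unusedSectionVars false
set_option linter.unusedVariables false

namespace Cfsg.Agent.Lib.Char.B0Height

open Cfsg Cfsg.Agent.Lib.Blocks.Local Cfsg.Agent.Lib.Blocks.Central Cfsg.Agent.Lib.Blocks.Regular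
  Cfsg.Agent.Lib.Blocks.Principal Cfsg.Agent.Lib.Blocks.Covering Cfsg.Agent.Lib.Blocks.Osima
  Cfsg.Agent.Lib.Char.AlpDade Cfsg.Agent.Lib.Char.B0Tools Cfsg.Agent.Lib.Char.PResChars
  Cfsg.Agent.Lib.Char.Clifford Cfsg.Agent.Lib.Char.Basic Cfsg.Agent.Lib.Char.LinearChars
open scoped ComplexConjugate

universe u

section Height

variable {G : Type u} [Group G] [Finite G]

lemma blockHeight_principal (M : Ideal AlgInt) [M.IsPrime] (p : ℕ) (χ : G → ℂ) :
    blockHeight p (principalBlock M G) χ = (charDegree χ).factorization p := by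
  haveI : Fintype G := Fintype.ofFinite G
  have h : sInf ((fun ψ : IrrCharacter G => (charDegree (ψ : G → ℂ)).factorization p) ''
      principalBlock M G) = 0 := by
    refine Nat.sInf_eq_zero.2 (Or.inl ⟨trivChar G, trivChar_mem_principalBlock, ?_⟩)
    show (charDegree ((trivChar G : IrrCharacter G) : G → ℂ)).factorization p = 0
    rw [charDegree_trivChar]
    simp
  rw [blockHeight, h, Nat.sub_zero]

lemma charDegree_ne_zero {χ : G → ℂ} (hχ : IsIrrCharacter G χ) : charDegree χ ≠ 0 := by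
  intro h
  have h1 := Cfsg.Agent.Lib.Char.Values.IsCharacter.charDegree_cast
    (isCharacter_of_isIrrCharacter hχ)
  rw [h, Nat.cast_zero] at h1
  exact Cfsg.Agent.Lib.Char.Ortho.irr_apply_one_ne_zero hχ h1.symm

lemma height_zero_iff (M : Ideal AlgInt) [M.IsPrime] {p : ℕ} [hp : Fact p.Prime] {χ : G → ℂ}
    (hχ : IsIrrCharacter G χ) :
    blockHeight p (principalBlock M G) χ = 0 ↔ ¬ p ∣ charDegree χ := by
  rw [blockHeight_principal, Nat.factorization_eq_zero_iff]
  constructor
  · rintro (h | h | h)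
    · exact absurd hp.out h
    · exact h
    · exact absurd h (charDegree_ne_zero hχ)
  · exact fun h => Or.inr (Or.inl h)

end Height

section Dvd

variable {G : Type u} [Group G] [Fintype G] {p : ℕ} [hp : Fact p.Prime] {M : Ideal AlgInt}
  [hMp : M.IsPrime]

open Classical in
/-- `p` divides the sum of the squared degrees of the principal block when `p ∣ |G|`. -/
theorem prime_dvd_sum_principal (hM : IsPModular p M) (hd : p ∣ Nat.card G) :
    p ∣ ∑ χ ∈ Finset.univ.filter (· ∈ principalBlock M G), charDegree (χ : G → ℂ) ^ 2 := by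
  set A := Finset.univ.filter (· ∈ principalBlock M G) with hA
  have hcast : ∀ χ : IrrCharacter G, ((charDegree (χ : G → ℂ) : ℕ) : ℂ) = (χ : G → ℂ) 1 := fun χ =>
    Cfsg.Agent.Lib.Char.Values.IsCharacter.charDegree_cast (isCharacter_of_isIrrCharacter χ.2)
  set f : G → ℂ := ∑ χ ∈ A, (χ : G → ℂ) 1 • (χ : G → ℂ) with hf
  have hfy : ∀ y, f y = ∑ χ ∈ A, (χ : G → ℂ) 1 * (χ : G → ℂ) y := by
    intro y
    simp [hf, Finset.sum_apply]
  have hclass : IsClassFunction G f := by
    intro g h
    rw [hfy, hfy]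
    refine Finset.sum_congr rfl fun χ _ => ?_
    rw [isClassFunction_of_irr χ.2 g h]
  have hint : ∀ ξ : IrrCharacter G, ∃ n : ℤ, classInner f (ξ : G → ℂ) = n := by
    intro ξ
    rw [hf, Cfsg.Agent.Lib.Char.Ortho.classInner_sum_left]
    have h1 : ∀ χ : IrrCharacter G, classInner ((χ : G → ℂ) 1 • (χ : G → ℂ)) (ξ : G → ℂ) =
        if χ = ξ then (charDegree (ξ : G → ℂ) : ℂ) else 0 := by
      intro χ
      rw [Cfsg.Agent.Lib.Char.Ortho.classInner_smul_left,
        Cfsg.Agent.Lib.Char.Ortho.classInner_irr χ.2 ξ.2]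
      by_cases h : χ = ξ
      · subst h
        simp [hcast]
      · have h' : (χ : G → ℂ) ≠ (ξ : G → ℂ) := fun h2 => h (Subtype.ext h2)
        simp [h, h']
    simp only [h1]
    rw [Finset.sum_ite_eq']
    by_cases h : ξ ∈ A
    · exact ⟨charDegree (ξ : G → ℂ), by simp [h]⟩
    · exact ⟨0, by simp [h]⟩
  have hgen := Cfsg.Agent.Lib.Blocks.RegInt.isGeneralized_of_forall_int hclass hint
  have hloc : ∀ g : G, MemLocalRing M (blockCoeff (principalBlock M G) g) :=
    fun g => memLocalRing_blockCoeff (isPBlock_principalBlock M) g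
  have hvan : ∀ y, p ∣ orderOf y → f y = 0 := by
    intro y hy
    have h1 := Cfsg.Agent.Lib.Blocks.WeakOrth.sum_eq_zero_of_idempotent hM (principalBlock M G)
      (blockElt_mul_self _) hloc 1 y (by simp [(Fact.out : p.Prime).one_lt.ne']) hy
    rw [Cfsg.Agent.Lib.Blocks.Osima.finsum_mem_eq_sum_filter] at h1
    have h2 := congrArg (starRingEnd ℂ) h1
    rw [map_sum, map_zero] at h2
    rw [hfy, ← h2]
    refine Finset.sum_congr rfl fun χ _ => ?_
    rw [map_mul, Complex.conj_conj, Cfsg.Agent.Lib.Char.CompleteCor.conj_apply_one χ.2]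
  obtain ⟨n, hn⟩ := Cfsg.Agent.Lib.Blocks.RegInt.exists_int_of_vanish hgen hvan
  have h1 : f 1 = ((∑ χ ∈ A, charDegree (χ : G → ℂ) ^ 2 : ℕ) : ℂ) := by
    rw [hfy]
    push_cast
    refine Finset.sum_congr rfl fun χ _ => ?_
    rw [hcast, sq]
  rw [h1] at hn
  have h2 : ((∑ χ ∈ A, charDegree (χ : G → ℂ) ^ 2 : ℕ) : ℤ) =
      ((p ^ (Nat.card G).factorization p : ℕ) : ℤ) * n := by
    exact_mod_cast hn
  have h3 : ((p : ℕ) : ℤ) ∣ ((∑ χ ∈ A, charDegree (χ : G → ℂ) ^ 2 : ℕ) : ℤ) := by
    rw [h2]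
    refine Dvd.dvd.mul_right ?_ n
    have h4 : (Nat.card G).factorization p ≠ 0 := by
      rw [Ne, Nat.factorization_eq_zero_iff]
      push Not
      exact ⟨hp.out, hd, Nat.card_pos.ne'⟩
    exact_mod_cast dvd_pow_self p h4
  exact_mod_cast h3

end Dvd

section Action

variable {G : Type u} [Group G] [Finite G] (N : Subgroup G) [hN : N.Normal] (p : ℕ) [hp : Fact p.Prime]

open Classical in
/-- A weighted congruence for the conjugation action of `G` on `Irr(N)`, `G/N` a `p`-group. -/
theorem sum_modEq_inv (hidx : ∃ k, N.index = p ^ k) [Fintype (IrrCharacter N)]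
    (f : IrrCharacter N → ℕ)
    (hf : ∀ (g : G) (φ : IrrCharacter N), f ⟨conjFun N g φ, isIrr_conjFun N g φ.2⟩ = f φ) :
    (∑ φ, f φ) ≡ ∑ φ ∈ Finset.univ.filter (fun φ : IrrCharacter N => IsInv N (φ : N → ℂ)), f φ
      [MOD p] := by
  obtain ⟨P⟩ : Nonempty (Sylow p G) := inferInstance
  letI := irrAct N
  have hsup : (P : Subgroup G) ⊔ N = ⊤ := by
    rw [← Subgroup.index_eq_one]
    obtain ⟨k, hk⟩ := hidx
    have h1 : ((P : Subgroup G) ⊔ N).index ∣ (P : Subgroup G).index :=
      Subgroup.index_dvd_of_le le_sup_left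
    have h2 : ((P : Subgroup G) ⊔ N).index ∣ p ^ k := by
      rw [← hk]
      exact Subgroup.index_dvd_of_le le_sup_right
    obtain ⟨j, -, hj⟩ := (Nat.dvd_prime_pow hp.out).mp h2
    rw [hj] at h1 ⊢
    rcases j with _ | j
    · simp
    · exfalso
      apply P.not_dvd_index
      exact (dvd_pow_self p (Nat.succ_ne_zero j)).trans h1
  have hfix : ∀ φ : IrrCharacter N,
      (∀ g : (P : Subgroup G), g • φ = φ) ↔ IsInv N (φ : N → ℂ) := by
    intro φ
    have hcl := isClassFunction_of_isCharacter (isCharacter_of_isIrrCharacter φ.2)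
    constructor
    · intro h g n
      have hg : g ∈ ((P : Subgroup G) ⊔ N : Subgroup G) := by rw [hsup]; trivial
      rw [← SetLike.mem_coe, Subgroup.mul_normal, Set.mem_mul] at hg
      obtain ⟨x, hx, m, hm, rfl⟩ := hg
      have h1 := h ⟨x⁻¹, P.1.inv_mem hx⟩
      have h2 : conjFun N (x⁻¹)⁻¹ (φ : N → ℂ) = φ := congrArg Subtype.val h1
      rw [inv_inv] at h2
      have h3 := congrFun h2 ⟨m * n * m⁻¹, hN.conj_mem _ n.2 m⟩
      rw [conjFun_apply] at h3
      have h4 : (φ : N → ℂ) ⟨m * n * m⁻¹, hN.conj_mem _ n.2 m⟩ = (φ : N → ℂ) n := hcl n ⟨m, hm⟩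
      rw [← h4, ← h3]
      refine congrArg (φ : N → ℂ) (Subtype.ext ?_)
      simp [mul_assoc]
    · intro h g
      apply Subtype.ext
      funext n
      exact h (g : G)⁻¹ n
  have h0 := sum_modEq_sum_fixed (P := (P : Subgroup G)) (X := IrrCharacter N) P.isPGroup'
    f (by
      intro g φ
      exact hf (g : G)⁻¹ φ)
  rw [Finset.filter_congr (fun φ _ => hfix φ)] at h0
  convert h0

end Action

section Residual

variable {G : Type u} [Group G] [Fintype G] (p : ℕ) [hp : Fact p.Prime] {M : Ideal AlgInt}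
  [hMp : M.IsPrime]

local notation "R" => Cfsg.pResidual p G

omit hMp in
/-- Membership of a linear character in the principal block. -/
lemma mem_principal_hom_iff [Fintype R] {l : R →* ℂˣ} :
    (⟨fun n => ((l n : ℂˣ) : ℂ), isIrr_of_hom l⟩ : IrrCharacter R) ∈ principalBlock M R ↔
      ∀ y : R, MemLocalIdeal M (((Subgroup.centralizer ({y} : Set R)).index : ℂ) -
        ((Subgroup.centralizer ({y} : Set R)).index : ℂ) * ((l y : ℂˣ) : ℂ)) := by
  refine forall_congr' fun y => ?_
  rw [centralChar_trivChar]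
  have : centralChar (fun n : R => ((l n : ℂˣ) : ℂ)) y =
      ((Subgroup.centralizer ({y} : Set R)).index : ℂ) * ((l y : ℂˣ) : ℂ) := by
    simp [centralChar]
  rw [show ((⟨fun n => ((l n : ℂˣ) : ℂ), isIrr_of_hom l⟩ : IrrCharacter R) : R → ℂ) =
    fun n : R => ((l n : ℂˣ) : ℂ) from rfl, this]

lemma isIntegral_unit_of_hom {K : Type*} [Group K] [Finite K] (l : K →* ℂˣ) (y : K) :
    IsIntegral ℤ ((l y : ℂˣ) : ℂ) := by
  refine ⟨Polynomial.X ^ Nat.card K - 1, Polynomial.monic_X_pow_sub_C 1 Nat.card_pos.ne', ?_⟩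
  have h1 : ((l y : ℂˣ) : ℂ) ^ Nat.card K = 1 := by
    rw [← Units.val_pow_eq_pow_val, ← map_pow, pow_card_eq_one', map_one, Units.val_one]
  simp [h1]

/-- The invariant linear characters of `O^p(G)` in its principal block. -/
noncomputable def linB [Fintype R] (M : Ideal AlgInt) [M.IsPrime] : Subgroup (R →* ℂˣ) where
  carrier := {l | IsInv R (fun n => ((l n : ℂˣ) : ℂ)) ∧
    (⟨fun n => ((l n : ℂˣ) : ℂ), isIrr_of_hom l⟩ : IrrCharacter R) ∈ principalBlock M R}
  one_mem' := by
    refine ⟨fun g n => by simp, ?_⟩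
    rw [mem_principal_hom_iff]
    intro y
    simp [memLocalIdeal_zero]
  mul_mem' := by
    rintro a b ⟨ha1, ha2⟩ ⟨hb1, hb2⟩
    refine ⟨fun g n => ?_, ?_⟩
    · have h1 := ha1 g n
      have h2 := hb1 g n
      simp only [Units.val_inj] at h1 h2
      simp only [MonoidHom.mul_apply, h1, h2]
    · rw [mem_principal_hom_iff] at ha2 hb2 ⊢
      intro y
      have h1 := ha2 y
      have h2 := hb2 y
      have h3 : MemLocalRing M ((b y : ℂˣ) : ℂ) :=
        memLocalRing_of_isIntegral (isIntegral_unit_of_hom b y)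
      have h4 := memLocalIdeal_add h2 (memLocalIdeal_mul_right h1 h3)
      convert h4 using 1
      simp only [MonoidHom.mul_apply, Units.val_mul]
      ring
  inv_mem' := by
    rintro a ⟨ha1, ha2⟩
    refine ⟨fun g n => ?_, ?_⟩
    · have h1 := ha1 g n
      simp only [Units.val_inj] at h1
      simp only [MonoidHom.inv_apply, h1]
    · rw [mem_principal_hom_iff] at ha2 ⊢
      intro y
      have h1 := ha2 y
      have h3 : MemLocalRing M (((a y)⁻¹ : ℂˣ) : ℂ) := by
        have := isIntegral_unit_of_hom a⁻¹ y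
        exact memLocalRing_of_isIntegral this
      have h4 := memLocalIdeal_neg (memLocalIdeal_mul_right h1 h3)
      convert h4 using 1
      simp only [MonoidHom.inv_apply]
      have h5 : ((a y : ℂˣ) : ℂ) * (((a y)⁻¹ : ℂˣ) : ℂ) = 1 := Units.mul_inv _
      linear_combination (-((Subgroup.centralizer ({y} : Set R)).index : ℂ)) * h5

/-- The order of the group `linB` is prime to `p`. -/
lemma not_dvd_card_linB [Fintype R] : ¬ p ∣ Nat.card (linB (G := G) p M) := by
  intro h
  haveI := finite_hom (R)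
  obtain ⟨x, hx⟩ := exists_prime_orderOf_dvd_card' p h
  have h1 := coprime_orderOf p (x : R →* ℂˣ)
  rw [Subgroup.orderOf_coe, hx] at h1
  exact hp.out.one_lt.ne' (Nat.coprime_self p |>.1 h1)

/-- An invariant irreducible character in the principal block of `O^p(G)` of degree prime to `p` lies
under a member of the principal block of `G` of the same degree. -/
lemma exists_principal_ext [Fintype R] (hM : IsPModular p M) {θ : IrrCharacter R}
    (hθ : θ ∈ principalBlock M R) (hinv : IsInv R (θ : R → ℂ)) (hd : ¬ p ∣ charDegree (θ : R → ℂ)) :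
    ∃ χ : IrrCharacter G, χ ∈ principalBlock M G ∧ (χ : G → ℂ) 1 = (θ : R → ℂ) 1 := by
  classical
  obtain ⟨χ, -, hχ, hχN, -, -⟩ := exists_ext_of_inv p θ.2 hinv hd
  have hres : (fun n : R => χ n) = (θ : R → ℂ) := funext hχN
  have hcon : classInner (fun n : R => (χ : G → ℂ) n) (θ : R → ℂ) ≠ 0 := by
    rw [hres, Cfsg.Agent.Lib.Char.Ortho.classInner_irr_self θ.2]
    exact one_ne_zero
  obtain ⟨χ₀, h0, hc0⟩ := exists_principal_over R hM hθ
  have hs : SameBlock M (χ₀ : G → ℂ) ((⟨χ, hχ⟩ : IrrCharacter G) : G → ℂ) :=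
    sameBlock_of_constituents hM (exists_index_eq p) hc0 hcon (sameBlock_refl _)
  refine ⟨⟨χ, hχ⟩, sameBlock_trans h0 hs, ?_⟩
  exact hχN 1

open Classical in
/-- If all the members of `B₀(G)` of degree prime to `p` are linear then `p ∤ |O^p(G)|`. -/
theorem not_dvd_card_residual [Fintype R] (hM : IsPModular p M)
    (hdeg : ∀ χ ∈ principalBlock M G, ¬ p ∣ charDegree (χ : G → ℂ) → charDegree (χ : G → ℂ) = 1) :
    ¬ p ∣ Nat.card R := by
  intro hdvd
  have h1 := prime_dvd_sum_principal (G := R) hM hdvd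
  set f : IrrCharacter R → ℕ := fun θ => if θ ∈ principalBlock M R then charDegree (θ : R → ℂ) ^ 2 else 0
    with hf
  have hf0 : ∑ θ ∈ Finset.univ.filter (· ∈ principalBlock M R), charDegree (θ : R → ℂ) ^ 2 = ∑ θ, f θ := by
    rw [Finset.sum_filter]
  rw [hf0] at h1
  have hfinv : ∀ (g : G) (φ : IrrCharacter R), f ⟨conjFun R g φ, isIrr_conjFun R g φ.2⟩ = f φ := by
    intro g φ
    have hmem : (⟨conjFun R g φ, isIrr_conjFun R g φ.2⟩ : IrrCharacter R) ∈ principalBlock M R ↔
        φ ∈ principalBlock M R := by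
      have key : ∀ (g : G) (φ : IrrCharacter R), φ ∈ principalBlock M R →
          (⟨conjFun R g φ, isIrr_conjFun R g φ.2⟩ : IrrCharacter R) ∈ principalBlock M R := by
        intro g φ h
        have h2 : SameBlock M ((trivChar R : IrrCharacter R) : R → ℂ) (φ : R → ℂ) := h
        have h3 := sameBlock_conjIrr g h2
        have h4 : (conjIrr g (trivChar R) : R → ℂ) = ((trivChar R : IrrCharacter R) : R → ℂ) := rfl
        rw [h4] at h3
        exact h3
      refine ⟨fun h => ?_, key g φ⟩
      have h2 := key g⁻¹ _ h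
      have h3 : (⟨conjFun R g⁻¹ (conjFun R g (φ : R → ℂ)), isIrr_conjFun R g⁻¹
          (isIrr_conjFun R g φ.2)⟩ : IrrCharacter R) = φ := by
        apply Subtype.ext
        show conjFun R g⁻¹ (conjFun R g (φ : R → ℂ)) = φ
        rw [← conjFun_mul]
        simp
      exact h3 ▸ h2
    simp only [hf]
    by_cases h : φ ∈ principalBlock M R
    · rw [if_pos h, if_pos (hmem.2 h)]
      show charDegree (conjFun R g (φ : R → ℂ)) ^ 2 = _
      rw [charDegree_conjFun]
    · rw [if_neg h, if_neg (fun h' => h (hmem.1 h'))]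
  have h2 := sum_modEq_inv R p (exists_index_eq p) f hfinv
  set I := Finset.univ.filter (fun φ : IrrCharacter R => IsInv R (φ : R → ℂ)) with hI
  -- the fixed characters of degree prime to `p` are linear
  have hlin : ∀ θ : IrrCharacter R, θ ∈ principalBlock M R → IsInv R (θ : R → ℂ) →
      ¬ p ∣ charDegree (θ : R → ℂ) → charDegree (θ : R → ℂ) = 1 := by
    intro θ h3 h4 h5
    obtain ⟨χ, h6, h7⟩ := exists_principal_ext p hM h3 h4 h5
    have h8 : charDegree (χ : G → ℂ) = charDegree (θ : R → ℂ) := by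
      unfold charDegree
      rw [h7]
    rw [← h8]
    exact hdeg χ h6 (h8 ▸ h5)
  set F := I.filter (fun θ => θ ∈ principalBlock M R ∧ ¬ p ∣ charDegree (θ : R → ℂ)) with hF
  have h3 : ∑ θ ∈ I, f θ ≡ F.card [MOD p] := by
    rw [hF, Finset.card_filter]
    refine Nat.ModEq.sum fun θ hθ => ?_
    by_cases h4 : θ ∈ principalBlock M R
    · have hfθ : f θ = charDegree (θ : R → ℂ) ^ 2 := if_pos h4
      rw [hfθ]
      by_cases h5 : p ∣ charDegree (θ : R → ℂ)
      · rw [if_neg (fun h => h.2 h5)]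
        exact (Nat.modEq_zero_iff_dvd).2 (Dvd.dvd.pow h5 two_ne_zero)
      · have h6 := hlin θ h4 (Finset.mem_filter.1 hθ).2 h5
        rw [if_pos ⟨h4, h5⟩, h6, one_pow]
    · have hfθ : f θ = 0 := if_neg h4
      rw [hfθ, if_neg (fun h => h4 h.1)]
  have h4 : Nat.card (linB (G := G) p M) = F.card := by
    have hbij : Function.Bijective (fun l : linB (G := G) p M =>
        (⟨⟨fun n => ((l.1 n : ℂˣ) : ℂ), isIrr_of_hom l.1⟩, by
          simp only [hF, hI, Finset.mem_filter, Finset.mem_univ, true_and]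
          refine ⟨l.2.1, l.2.2, ?_⟩
          have h5 : charDegree (fun n : R => ((l.1 n : ℂˣ) : ℂ)) = 1 := by
            simp [charDegree]
          show ¬ p ∣ charDegree (fun n : R => ((l.1 n : ℂˣ) : ℂ))
          rw [h5]
          exact hp.out.one_lt.ne' ∘ Nat.dvd_one.1⟩ : {θ // θ ∈ F})) := by
      constructor
      · intro a b hab
        apply Subtype.ext
        ext n
        have h5 := congrFun (congrArg (fun θ : {θ // θ ∈ F} => ((θ.1 : IrrCharacter R) : R → ℂ)) hab) n
        exact h5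
      · rintro ⟨θ, hθ⟩
        simp only [hF, hI, Finset.mem_filter, Finset.mem_univ, true_and] at hθ
        obtain ⟨h5, h6, h7⟩ := hθ
        have h8 := hlin θ h6 h5 h7
        have h9 : (θ : R → ℂ) 1 = 1 := by
          rw [← Cfsg.Agent.Lib.Char.Values.IsCharacter.charDegree_cast
            (isCharacter_of_isIrrCharacter θ.2), h8, Nat.cast_one]
        obtain ⟨l, hl⟩ := exists_hom_of_isCharacter_one (isCharacter_of_isIrrCharacter θ.2) h9
        have hθl : θ = ⟨fun n => ((l n : ℂˣ) : ℂ), isIrr_of_hom l⟩ := Subtype.ext hl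
        refine ⟨⟨l, ?_, ?_⟩, ?_⟩
        · show IsInv R (fun n => ((l n : ℂˣ) : ℂ))
          rw [← hl]
          exact h5
        · rw [← hθl]
          exact h6
        · apply Subtype.ext
          exact hθl.symm
    rw [Nat.card_congr (Equiv.ofBijective _ hbij), Nat.card_eq_fintype_card, Fintype.card_coe]
  apply not_dvd_card_linB (G := G) (M := M) p
  rw [h4]
  have h5 := (h2.trans h3).symm
  exact (Nat.modEq_zero_iff_dvd.1 (h5.trans (Nat.modEq_zero_iff_dvd.2 h1)))

/-- All height zero characters of `B₀(G)` have the same degree iff `G` has a normal `p`-complement. -/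
theorem equal_height_zero_iff (hM : IsPModular p M) :
    (∃ d : ℕ, ∀ χ : IrrCharacter G, χ ∈ principalBlock M G →
      blockHeight p (principalBlock M G) (χ : G → ℂ) = 0 → charDegree (χ : G → ℂ) = d) ↔
      HasNormalPComplement p G := by
  classical
  constructor
  · rintro ⟨d, hd⟩
    have hd1 : d = 1 := by
      have h1 := hd (trivChar G) trivChar_mem_principalBlock (by
        rw [height_zero_iff M (trivChar G).2, charDegree_trivChar]
        exact hp.out.one_lt.ne' ∘ Nat.dvd_one.1)
      rw [charDegree_trivChar] at h1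
      exact h1.symm
    subst hd1
    haveI : Fintype R := Fintype.ofFinite _
    have h2 := not_dvd_card_residual p hM fun χ hχ h => hd χ hχ ((height_zero_iff M χ.2).2 h)
    refine Cfsg.Agent.Lib.Transfer.Basic.hasNormalPComplement_iff_pResidual.2 ?_
    exact ((Nat.Prime.coprime_iff_not_dvd hp.out).2 h2).symm
  · intro h
    refine ⟨1, fun χ hχ hh => ?_⟩
    obtain ⟨N, hn, h1, h2⟩ := Cfsg.Agent.Lib.Transfer.Basic.hasNormalPComplement_iff.mp h
    have hle : N ≤ pPrimeCore p G := le_sSup ⟨hn, h1⟩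
    have hker : ∀ n ∈ N, (χ : G → ℂ) n = (χ : G → ℂ) 1 := fun n hn' =>
      Cfsg.Agent.Lib.Blocks.PrincipalCen.apply_eq_of_mem_core hM hχ (hle hn')
    obtain ⟨ψ, hψ⟩ := Cfsg.Agent.Lib.Blocks.Kernel.exists_irr_of_kernel (N := N) χ.2 hker
    obtain ⟨d, hd1, hd2, hd3⟩ := Cfsg.Agent.Lib.Char.GlaubOver.exists_degree_dvd ψ.2
    obtain ⟨k, hk⟩ := IsPGroup.iff_card.1 h2
    rw [hk] at hd3
    obtain ⟨j, -, rfl⟩ := (Nat.dvd_prime_pow hp.out).1 hd3
    have h3 : charDegree (χ : G → ℂ) = p ^ j := by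
      have h4 : ((charDegree (χ : G → ℂ) : ℕ) : ℂ) = ((p ^ j : ℕ) : ℂ) := by
        rw [Cfsg.Agent.Lib.Char.Values.IsCharacter.charDegree_cast
          (isCharacter_of_isIrrCharacter χ.2), hψ]
        exact hd1
      exact_mod_cast h4
    rw [height_zero_iff M χ.2, h3] at hh
    rcases j with _ | j
    · simpa using h3
    · exact absurd (dvd_pow_self p (Nat.succ_ne_zero j)) hh

end Residual

end Cfsg.Agent.Lib.Char.B0Height
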