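import Mathlib
import Cfsg.Prelude.Def_Blocks
import Cfsg.Agent.Lib.Char.B0Height
import Cfsg.Agent.Lib.Char.Galois

/-!
# The principal block and the quotient by a normal `p'`-subgroup

* `infl`, `infl_mem_iff`, `exists_infl`, `sum_principal_infl`: the members of `B₀(G)` are exactly the
  inflations of the members of `B₀(G/N)`, when `N` is a normal `p'`-subgroup.
* `mem_principal_pow`: the principal block is stable under the Galois action.
* `exists_nat_sum_principal`: `∑_{χ ∈ B₀} |χ(x)|²` is a natural number.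
-/

set_option autoImplicit false
set_option linter.style.haveILetI false
set_option linter.unusedSectionVars false
set_option linter.unusedVariables false

namespace Cfsg.Agent.Lib.Char.B0Core

open Cfsg Cfsg.Agent.Lib.Blocks.Local Cfsg.Agent.Lib.Blocks.Central Cfsg.Agent.Lib.Blocks.Regular
  Cfsg.Agent.Lib.Blocks.Principal Cfsg.Agent.Lib.Blocks.Osima Cfsg.Agent.Lib.Char.Basic
open scoped ComplexConjugate

universe u

section Inflate

variable {G : Type u} [Group G] [Fintype G] {p : ℕ} [hp : Fact p.Prime] {M : Ideal AlgInt}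
  [hMp : M.IsPrime] (N : Subgroup G) [hN : N.Normal]

omit hMp in
lemma dvd_orderOf_mk_iff (hN' : ¬ p ∣ Nat.card N) (y : G) :
    p ∣ orderOf (y : G ⧸ N) ↔ p ∣ orderOf y := by
  constructor
  · intro h
    exact h.trans (orderOf_map_dvd (QuotientGroup.mk' N) y)
  · intro h
    by_contra h0
    have h1 : (y : G ⧸ N) ^ orderOf (y : G ⧸ N) = 1 := pow_orderOf_eq_one _
    have h2 : y ^ orderOf (y : G ⧸ N) ∈ N := by
      rw [← QuotientGroup.eq_one_iff, QuotientGroup.mk_pow]
      exact h1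
    have h3 : (y ^ orderOf (y : G ⧸ N)) ^ Nat.card N = 1 := by
      have h' : (((⟨_, h2⟩ : N) ^ Nat.card N : N) : G) = 1 := by
        rw [pow_card_eq_one']
        rfl
      rw [SubmonoidClass.coe_pow] at h'
      exact h'
    rw [← pow_mul] at h3
    have h4 := orderOf_dvd_of_pow_eq_one h3
    rcases (Fact.out : p.Prime).dvd_mul.1 (h.trans h4) with h5 | h5
    · exact h0 h5
    · exact hN' h5

/-- Inflation of irreducible characters. -/
noncomputable def infl (ψ : IrrCharacter (G ⧸ N)) : IrrCharacter G :=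
  ⟨(ψ : G ⧸ N → ℂ) ∘ QuotientGroup.mk,
    isIrrCharacter_comp_surjective ψ.2 (QuotientGroup.mk' N) (QuotientGroup.mk'_surjective N)⟩

omit hp hMp in
@[simp] lemma infl_apply (ψ : IrrCharacter (G ⧸ N)) (g : G) : (infl N ψ : G → ℂ) g = (ψ : G ⧸ N → ℂ) g :=
  rfl

omit hp hMp in
lemma infl_injective : Function.Injective (infl N) := by
  intro a b h
  apply Subtype.ext
  funext x
  obtain ⟨g, rfl⟩ := QuotientGroup.mk_surjective x
  exact congrFun (congrArg Subtype.val h) g

theorem infl_mem_iff [Fintype (G ⧸ N)] (hM : IsPModular p M) (hN' : ¬ p ∣ Nat.card N)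
    {ψ : IrrCharacter (G ⧸ N)} :
    infl N ψ ∈ principalBlock M G ↔ ψ ∈ principalBlock M (G ⧸ N) := by
  rw [mem_principalBlock_iff_omega_regT (p := p) hM, mem_principalBlock_iff_omega_regT (p := p) hM,
    regT, regT, omega_regElt, omega_regElt]
  have hs : ∑ y : G, reg p (fun _ : G => (1 : ℂ)) y * (infl N ψ : G → ℂ) y =
      (Nat.card N : ℂ) * ∑ c : G ⧸ N, reg p (fun _ : G ⧸ N => (1 : ℂ)) c * (ψ : G ⧸ N → ℂ) c := by
    rw [← Cfsg.Agent.Lib.Blocks.Kernel.sum_comp_mk]
    refine Finset.sum_congr rfl fun y _ => ?_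
    rw [infl_apply]
    congr 1
    simp only [reg, dvd_orderOf_mk_iff N hN' y]
  have hc : (Nat.card N : ℂ) ≠ 0 := Nat.cast_ne_zero.2 Nat.card_pos.ne'
  have h1 : (infl N ψ : G → ℂ) 1 = (ψ : G ⧸ N → ℂ) 1 := rfl
  rw [hs, h1, mul_div_assoc]
  simp [hc]

theorem exists_infl (hM : IsPModular p M) (hN' : ¬ p ∣ Nat.card N) {χ : IrrCharacter G}
    (hχ : χ ∈ principalBlock M G) : ∃ ψ : IrrCharacter (G ⧸ N), χ = infl N ψ := by
  have hle : N ≤ pPrimeCore p G :=
    le_sSup ⟨hN, (Nat.Prime.coprime_iff_not_dvd hp.out).2 hN' |>.symm⟩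
  have hker : ∀ n ∈ N, (χ : G → ℂ) n = (χ : G → ℂ) 1 := fun n hn =>
    Cfsg.Agent.Lib.Blocks.PrincipalCen.apply_eq_of_mem_core hM hχ (hle hn)
  obtain ⟨ψ, hψ⟩ := Cfsg.Agent.Lib.Blocks.Kernel.exists_irr_of_kernel (N := N) χ.2 hker
  exact ⟨ψ, Subtype.ext hψ⟩

open Classical in
theorem sum_principal_infl [Fintype (G ⧸ N)] {β : Type*} [AddCommMonoid β] (hM : IsPModular p M)
    (hN' : ¬ p ∣ Nat.card N) (F : IrrCharacter G → β) :
    ∑ χ ∈ Finset.univ.filter (· ∈ principalBlock M G), F χ =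
      ∑ ψ ∈ Finset.univ.filter (· ∈ principalBlock M (G ⧸ N)), F (infl N ψ) := by
  have h : Finset.univ.filter (· ∈ principalBlock M G) =
      (Finset.univ.filter (· ∈ principalBlock M (G ⧸ N))).image (infl N) := by
    ext χ
    simp only [Finset.mem_filter, Finset.mem_univ, true_and, Finset.mem_image]
    constructor
    · intro hχ
      obtain ⟨ψ, rfl⟩ := exists_infl N hM hN' hχ
      exact ⟨ψ, (infl_mem_iff N hM hN').1 hχ, rfl⟩
    · rintro ⟨ψ, hψ, rfl⟩
      exact (infl_mem_iff N hM hN').2 hψ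
  rw [h, Finset.sum_image fun a _ b _ hab => infl_injective N hab]

end Inflate

section Gal

variable {G : Type u} [Group G] [Fintype G] {p : ℕ} [hp : Fact p.Prime] {M : Ideal AlgInt}
  [hMp : M.IsPrime]

/-- Power maps on irreducible characters. -/
noncomputable def powIrr {k : ℕ} (hk : k.Coprime (Nat.card G)) (χ : IrrCharacter G) : IrrCharacter G :=
  ⟨fun g => (χ : G → ℂ) (g ^ k), Cfsg.Agent.Lib.Char.Galois.isIrrCharacter_pow_of_coprime χ.2 hk⟩

omit hp hMp in
lemma powIrr_injective {k : ℕ} (hk : k.Coprime (Nat.card G)) :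
    Function.Injective (powIrr (G := G) hk) := by
  intro a b h
  apply Subtype.ext
  funext g
  have h1 := congrFun (congrArg Subtype.val h) ((powCoprime hk.symm).symm g)
  have h2 : ((powCoprime hk.symm).symm g) ^ k = g := (powCoprime hk.symm).apply_symm_apply g
  simp only [powIrr] at h1
  rwa [h2] at h1

/-- The principal block is stable under the Galois action. -/
theorem mem_principal_pow (hM : IsPModular p M) {k : ℕ} (hk : k.Coprime (Nat.card G))
    {χ : IrrCharacter G} (hχ : χ ∈ principalBlock M G) : powIrr hk χ ∈ principalBlock M G := by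
  rw [mem_principalBlock_iff_omega_regT (p := p) hM, regT, omega_regElt] at hχ ⊢
  have h1 : (powIrr hk χ : G → ℂ) 1 = (χ : G → ℂ) 1 := by
    show (χ : G → ℂ) (1 ^ k) = _
    rw [one_pow]
  rw [h1]
  have h2 : ∑ y : G, reg p (fun _ : G => (1 : ℂ)) y * (powIrr hk χ : G → ℂ) y =
      ∑ y : G, reg p (fun _ : G => (1 : ℂ)) y * (χ : G → ℂ) y := by
    refine Fintype.sum_equiv (powCoprime hk.symm) _ _ fun y => ?_
    have h3 : orderOf (y ^ k) = orderOf y := by
      refine Nat.Coprime.orderOf_pow ?_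
      exact (hk.coprime_dvd_right (orderOf_dvd_natCard y)).symm
    show reg p (fun _ : G => (1 : ℂ)) y * (χ : G → ℂ) (y ^ k) =
      reg p (fun _ : G => (1 : ℂ)) ((powCoprime hk.symm) y) * (χ : G → ℂ) ((powCoprime hk.symm) y)
    have h4 : (powCoprime hk.symm) y = y ^ k := rfl
    simp only [reg, h3, h4]
  rwa [h2]

open Classical in
/-- The sum of the squared absolute values over the principal block is fixed by the Galois action. -/
theorem sum_pow_eq (hM : IsPModular p M) {k : ℕ} (hk : k.Coprime (Nat.card G)) (x : G) :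
    ∑ χ ∈ Finset.univ.filter (· ∈ principalBlock M G),
        (χ : G → ℂ) (x ^ k) * conj ((χ : G → ℂ) (x ^ k)) =
      ∑ χ ∈ Finset.univ.filter (· ∈ principalBlock M G), (χ : G → ℂ) x * conj ((χ : G → ℂ) x) := by
  set A := Finset.univ.filter (· ∈ principalBlock M G) with hA
  have h1 : A.image (powIrr hk) = A := by
    apply Finset.eq_of_subset_of_card_le
    · intro χ hχ
      obtain ⟨ψ, hψ, rfl⟩ := Finset.mem_image.1 hχ
      exact Finset.mem_filter.2 ⟨Finset.mem_univ _, mem_principal_pow hM hk (Finset.mem_filter.1 hψ).2⟩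
    · rw [Finset.card_image_of_injective _ (powIrr_injective hk)]
  conv_rhs => rw [← h1]
  rw [Finset.sum_image fun a _ b _ hab => powIrr_injective hk hab]
  rfl

omit hp hMp in
lemma isIntegral_irr (χ : IrrCharacter G) (x : G) : IsIntegral ℤ ((χ : G → ℂ) x) := by
  obtain ⟨d, ρ, hρ, hχ⟩ := χ.2
  have h : (χ : G → ℂ) = ρ.character := hχ.symm
  rw [h]
  exact Cfsg.Agent.Lib.Char.Values.isIntegral_character ρ x

open Classical in
/-- The sum of the squared absolute values over the principal block is a natural number. -/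
theorem exists_nat_sum_principal (hM : IsPModular p M) (x : G) :
    ∃ n : ℕ, ∑ χ ∈ Finset.univ.filter (· ∈ principalBlock M G), (χ : G → ℂ) x * conj ((χ : G → ℂ) x) = n := by
  set A := Finset.univ.filter (· ∈ principalBlock M G) with hA
  set n := Nat.card G with hn
  have hn0 : 0 < n := Nat.card_pos
  haveI : NeZero n := ⟨hn0.ne'⟩
  have hex : ∀ χ : IrrCharacter G, ∃ (ι : Type) (_ : Fintype ι) (z : ι → ℂ), (∀ i, z i ^ n = 1) ∧
      ∀ k : ℕ, (χ : G → ℂ) (x ^ k) = ∑ i, z i ^ k := by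
    rintro ⟨χ, d, ρ, hρ, rfl⟩
    exact Cfsg.Agent.Lib.Char.Galois.character_eigen ρ x hn0 pow_card_eq_one'
  choose ι hι z hz1 hz2 using hex
  let J := Σ χ : {χ // χ ∈ A}, ι χ.1 × ι χ.1
  let w : J → ℂ := fun j => z j.1.1 j.2.1 * (z j.1.1 j.2.2) ^ (n - 1)
  have hsum : ∀ k : ℕ, ∑ j, w j ^ k =
      ∑ χ ∈ A, (χ : G → ℂ) (x ^ k) * conj ((χ : G → ℂ) (x ^ k)) := by
    intro k
    rw [← Finset.sum_coe_sort A]
    simp only [w, J]
    rw [Fintype.sum_sigma]
    refine Finset.sum_congr rfl fun χ _ => ?_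
    rw [Fintype.sum_prod_type]
    have h1 : conj ((χ.1 : G → ℂ) (x ^ k)) = ∑ i, (z χ.1 i) ^ ((n - 1) * k) := by
      rw [← Cfsg.Agent.Lib.Char.Complete.isIrr_inv χ.1.2, ← hz2]
      have hxn : x ^ n = 1 := pow_card_eq_one'
      have h2 : (x ^ k)⁻¹ = x ^ ((n - 1) * k) := by
        refine inv_eq_of_mul_eq_one_right ?_
        rw [← pow_add]
        have h3 : k + (n - 1) * k = n * k := by
          obtain ⟨m, hm⟩ : ∃ m, n = m + 1 := ⟨n - 1, by omega⟩
          rw [hm, Nat.add_sub_cancel]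
          ring
        rw [h3, pow_mul, hxn, one_pow]
      rw [h2]
    rw [h1, hz2, Finset.sum_mul_sum]
    refine Finset.sum_congr rfl fun a _ => Finset.sum_congr rfl fun b _ => ?_
    rw [mul_pow, ← pow_mul]
  have hw : ∀ j, w j ^ n = 1 := by
    intro j
    simp only [w]
    rw [mul_pow, hz1, one_mul, ← pow_mul, mul_comm, pow_mul, hz1, one_pow]
  have hfix : ∀ u : (ZMod n)ˣ, ∑ j, w j ^ (u : ZMod n).val = ∑ j, w j := by
    intro u
    have hk : ((u : ZMod n).val).Coprime (Nat.card G) := by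
      rw [← hn]
      exact ZMod.val_coe_unit_coprime u
    have h1 := hsum (u : ZMod n).val
    rw [h1, sum_pow_eq hM hk x]
    have h2 := hsum 1
    simp only [pow_one] at h2
    rw [h2]
  obtain ⟨q, hq⟩ := Cfsg.Agent.Lib.Char.Galois.rat_of_fixed n w hw hfix
  have h1 := hsum 1
  simp only [pow_one] at h1
  rw [h1] at hq
  have hint : IsIntegral ℤ ((q : ℚ) : ℂ) := by
    rw [← hq]
    refine IsIntegral.sum _ fun χ _ => ?_
    refine IsIntegral.mul (isIntegral_irr χ x) ?_
    rw [← Cfsg.Agent.Lib.Char.Complete.isIrr_inv χ.2]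
    exact isIntegral_irr χ x⁻¹
  have hint2 : IsIntegral ℤ q := by
    have h2 : algebraMap ℚ ℂ q = ((q : ℚ) : ℂ) := rfl
    rw [← h2] at hint
    exact (isIntegral_algebraMap_iff (algebraMap ℚ ℂ).injective).1 hint
  obtain ⟨m, hm⟩ := IsIntegrallyClosed.isIntegral_iff.1 hint2
  have h3 : ∑ χ ∈ A, (χ : G → ℂ) x * conj ((χ : G → ℂ) x) = (m : ℂ) := by
    rw [hq, ← hm]
    simp
  have h4 : (0 : ℝ) ≤ (m : ℝ) := by
    have h5 : ((∑ χ ∈ A, Complex.normSq ((χ : G → ℂ) x) : ℝ) : ℂ) = (m : ℂ) := by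
      rw [← h3]
      push_cast
      exact Finset.sum_congr rfl fun χ _ => (Complex.mul_conj _).symm
    have h6 : (∑ χ ∈ A, Complex.normSq ((χ : G → ℂ) x) : ℝ) = (m : ℝ) := by
      exact_mod_cast h5
    rw [← h6]
    exact Finset.sum_nonneg fun χ _ => Complex.normSq_nonneg _
  have h5 : 0 ≤ m := by exact_mod_cast h4
  refine ⟨m.toNat, ?_⟩
  rw [h3]
  have h6 : ((m.toNat : ℤ) : ℂ) = (m : ℂ) := by rw [Int.toNat_of_nonneg h5]
  rw [← h6, Int.cast_natCast]

end Gal

end Cfsg.Agent.Lib.Char.B0Core
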