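import Mathlib
import Cfsg.Agent.Lib.Char.GlaubOver
import Cfsg.Agent.Lib.Char.AbelianQuot
import Cfsg.Agent.Lib.Char.LinearChars

/-!
# Invariant constituents over an abelian or solvable section of coprime order
-/

set_option autoImplicit false
set_option linter.style.haveILetI false

namespace Cfsg.Agent.Lib.Char.GlaubAb

open Cfsg Module Cfsg.Agent.Lib.Char.Basic Cfsg.Agent.Lib.Char.Ortho
open Cfsg.Agent.Lib.Char.GlaubRel Cfsg.Agent.Lib.Char.GlaubP Cfsg.Agent.Lib.Char.GlaubClif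
open Cfsg.Agent.Lib.Char.GlaubOver Cfsg.Agent.Lib.Char.GlaubCyclic
open scoped ComplexConjugate

universe u

section Abstract

/-- `H¹` vanishes: a group acting compatibly on a transitive set for an abelian group of coprime
exponent has a fixed point. -/
theorem exists_fixed_of_abelian {L X S : Type*} [CommGroup L] [MulAction L X] [Group S] [Fintype S]
    (act : S → X → X) (tw : S → L →* L) (hact : ∀ s t x, act (s * t) x = act t (act s x))
    (hcomp : ∀ s (u : L) x, act s (u • x) = (tw s u) • act s x)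
    (htrans : ∀ x y : X, ∃ u : L, u • x = y) (e m : ℕ) (he : ∀ u : L, u ^ e = 1)
    (hm : Fintype.card S * m ≡ 1 [MOD e]) (x₀ : X) : ∃ x : X, ∀ s, act s x = x := by
  classical
  choose a ha using fun s : S => htrans x₀ (act s x₀)
  have hcong2 : ∀ {u v u' v' : L}, u • x₀ = v • x₀ → u' • x₀ = v' • x₀ →
      (u * u') • x₀ = (v * v') • x₀ := by
    intro u v u' v' h h'
    calc (u * u') • x₀ = u • (u' • x₀) := mul_smul _ _ _
      _ = u • (v' • x₀) := by rw [h']
      _ = (u * v') • x₀ := (mul_smul _ _ _).symm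
      _ = (v' * u) • x₀ := by rw [mul_comm]
      _ = v' • (u • x₀) := mul_smul _ _ _
      _ = v' • (v • x₀) := by rw [h]
      _ = (v' * v) • x₀ := (mul_smul _ _ _).symm
      _ = (v * v') • x₀ := by rw [mul_comm]
  have hcongpow : ∀ {u v : L} (k : ℕ), u • x₀ = v • x₀ → (u ^ k) • x₀ = (v ^ k) • x₀ := by
    intro u v k h
    induction k with
    | zero => simp
    | succ k ih =>
      rw [pow_succ, pow_succ]
      exact hcong2 ih h
  have hstep1 : ∀ s t, a (s * t) • x₀ = (tw t (a s) * a t) • x₀ := by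
    intro s t
    rw [ha, hact, ← ha s, hcomp, ← ha t, mul_smul]
  have hprod : ∀ (t : S) (F : Finset S), (∏ s ∈ F, a (s * t)) • x₀ =
      (∏ s ∈ F, (tw t (a s) * a t)) • x₀ := by
    intro t F
    induction F using Finset.induction_on with
    | empty => simp
    | insert x F hx ih =>
      rw [Finset.prod_insert hx, Finset.prod_insert hx]
      exact hcong2 (hstep1 x t) ih
  set P : L := ∏ s : S, a s with hP
  have hstep2 : ∀ t, P • x₀ = (tw t P * a t ^ Fintype.card S) • x₀ := by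
    intro t
    have h1 := hprod t Finset.univ
    have h2 : ∏ s : S, a (s * t) = P := Fintype.prod_equiv (Equiv.mulRight t) _ _ (fun _ => rfl)
    rw [h2, Finset.prod_mul_distrib, ← map_prod, Finset.prod_const, Finset.card_univ] at h1
    exact h1
  refine ⟨(P ^ m) • x₀, fun t => ?_⟩
  have h3 := hcongpow m (hstep2 t)
  rw [mul_pow, ← pow_mul, ← map_pow] at h3
  have h4 : a t ^ (Fintype.card S * m) = a t := by
    have h5 : orderOf (a t) ∣ e := orderOf_dvd_of_pow_eq_one (he _)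
    have h6 := (pow_eq_pow_iff_modEq (x := a t)).2 (hm.of_dvd h5)
    rwa [pow_one] at h6
  rw [h4] at h3
  rw [hcomp, ← ha t, ← mul_smul, ← h3]

end Abstract

section Trans

variable {K : Type u} [Group K] [Fintype K] (N : Subgroup K) [hN : N.Normal] [Fintype N]

/-- Characters over the same `ϑ`, with `K/N` abelian, differ by a linear character of `K/N`. -/
theorem exists_lin_of_over (hab : ∀ x y : K, x * y * x⁻¹ * y⁻¹ ∈ N) {χ χ' : K → ℂ}
    (hχ : IsIrrCharacter K χ) (hχ' : IsIrrCharacter K χ') {ϑ : N → ℂ} (hϑ : IsIrrCharacter N ϑ)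
    (h : classInner (fun n : N => χ n) ϑ ≠ 0) (h' : classInner (fun n : N => χ' n) ϑ ≠ 0) :
    ∃ l : K →* ℂˣ, (∀ n : N, l n = 1) ∧ χ' = fun x => ((l x : ℂˣ) : ℂ) * χ x := by
  classical
  have hc := isCharacter_of_isIrrCharacter hχ
  have hc' := isCharacter_of_isIrrCharacter hχ'
  have hres := isCharacter_restrict hc N
  have hres' := isCharacter_restrict hc' N
  -- `χ'_N` and `χ_N` have a common constituent
  have hcommon : classInner (fun n : N => χ' n) (fun n : N => χ n) ≠ 0 := by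
    rw [classInner_eq_sum_mul hres' hres]
    choose a ha using fun i : IrrCharacter N => exists_nat_classInner hres' i
    choose b hb using fun i : IrrCharacter N => exists_nat_classInner_of_isCharacter
      (isCharacter_of_isIrrCharacter i.2) hres
    simp only [ha, hb]
    have h1 : a ⟨ϑ, hϑ⟩ ≠ 0 := by
      intro h2
      apply h'
      have := ha ⟨ϑ, hϑ⟩
      rw [h2] at this
      simpa using this
    have h3 : b ⟨ϑ, hϑ⟩ ≠ 0 := by
      intro h2
      apply h
      have h4 := hb ⟨ϑ, hϑ⟩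
      rw [h2] at h4
      rw [← classInner_conj_symm]
      have h5 : classInner (ϑ : N → ℂ) (fun n : N => χ n) = 0 := by simpa using h4
      rw [h5]
      simp
    have h5 : ∑ i : IrrCharacter N, a i * b i ≠ 0 := by
      intro h6
      have h7 := (Finset.sum_eq_zero_iff.1 h6) ⟨ϑ, hϑ⟩ (Finset.mem_univ _)
      rcases Nat.mul_eq_zero.1 h7 with h8 | h8
      · exact h1 h8
      · exact h3 h8
    intro h6
    apply h5
    exact_mod_cast h6
  -- the product character
  set θ : K → ℂ := χ' * (fun x => conj (χ x)) with hθdef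
  have hθ : IsCharacter K θ := isCharacter_mul hc' (isCharacter_conj hc)
  have hθres : classInner (fun n : N => θ n) (fun _ => 1) ≠ 0 := by
    refine ne_of_eq_of_ne ?_ hcommon
    unfold classInner
    simp [hθdef]
  -- a constituent over the principal character
  have hdec := decomp_eq_sum_classInner hθ
  have hres2 : (fun n : N => θ n) = ∑ τ : IrrCharacter K, classInner θ (τ : K → ℂ) • fun n : N => (τ : K → ℂ) n := by
    funext n
    have := congrFun hdec (n : K)
    rw [Finset.sum_apply] at this ⊢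
    rw [this]
    rfl
  rw [hres2, classInner_sum_left] at hθres
  obtain ⟨τ, -, hτ⟩ := Finset.exists_ne_zero_of_sum_ne_zero hθres
  rw [classInner_smul_left] at hτ
  have hτ1 : classInner θ (τ : K → ℂ) ≠ 0 := left_ne_zero_of_mul hτ
  have hτ2 : classInner (fun n : N => (τ : K → ℂ) n) (fun _ => 1) ≠ 0 := right_ne_zero_of_mul hτ
  obtain ⟨hτ3, -, -⟩ := Cfsg.Agent.Lib.Char.AbelianQuot.linear_of_over_one N hab τ.2 hτ2
  have hτone : (τ : K → ℂ) 1 = 1 := hτ3 1
  obtain ⟨l, hl⟩ := Cfsg.Agent.Lib.Char.LinearChars.exists_hom_of_isCharacter_one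
    (isCharacter_of_isIrrCharacter τ.2) hτone
  have h9 : ∀ x, (τ : K → ℂ) x = ((l x : ℂˣ) : ℂ) := fun x => congrFun hl x
  refine ⟨l, fun n => ?_, ?_⟩
  · apply Units.ext
    rw [← h9, hτ3 n]
    simp
  -- comparison
  have hirrl := isIrr_lin_mul l hχ
  by_contra hne
  have h0 := classInner_irr_of_ne hχ' hirrl hne
  apply hτ1
  rw [← h0]
  unfold classInner
  congr 1
  refine Finset.sum_congr rfl fun x _ => ?_
  simp only [hθdef, Pi.mul_apply, h9, map_mul]
  ring

end Trans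

section Section

variable {Γ : Type u} [Group Γ] [Finite Γ]

/-- The linear characters of `G` trivial on `N`. -/
def LinN (G N : Subgroup Γ) : Subgroup (G →* ℂˣ) where
  carrier := {l | ∀ g : G, (g : Γ) ∈ N → l g = 1}
  one_mem' := fun _ _ => rfl
  mul_mem' := fun {a b} ha hb g hg => by
    rw [MonoidHom.mul_apply, ha g hg, hb g hg, one_mul]
  inv_mem' := fun {a} ha g hg => by
    rw [MonoidHom.inv_apply, ha g hg, inv_one]

/-- An invariant constituent over an abelian section of coprime order, for a group `S` acting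
through the elements `c s`. -/
theorem exists_fixed_abelian_section {G N : Subgroup Γ} [Fintype N] (hNG : N ≤ G)
    (hNn : ∀ g ∈ G, ∀ n ∈ N, g * n * g⁻¹ ∈ N)
    (hab : ∀ x ∈ G, ∀ y ∈ G, x * y * x⁻¹ * y⁻¹ ∈ N) {S : Type*} [Group S] [Fintype S] (c : S → Γ)
    (hcG : ∀ s, ∀ g ∈ G, c s * g * (c s)⁻¹ ∈ G) (hcN : ∀ s, ∀ n ∈ N, c s * n * (c s)⁻¹ ∈ N)
    (hmul : ∀ s t, ∃ g ∈ G, c (s * t) = c s * c t * g)
    (hcop : (N.relIndex G).Coprime (Fintype.card S)) (ϑ : IrrCharacter N)
    (hinv : ∀ s (n : N), (ϑ : N → ℂ) ⟨c s * n * (c s)⁻¹, hcN s n n.2⟩ = (ϑ : N → ℂ) n)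
    (χ₀ : IrrCharacter G) (hχ₀ : classInner (resC hNG (χ₀ : G → ℂ)) (ϑ : N → ℂ) ≠ 0) :
    ∃ χ : IrrCharacter G, classInner (resC hNG (χ : G → ℂ)) (ϑ : N → ℂ) ≠ 0 ∧
      ∀ s (g : G), (χ : G → ℂ) ⟨c s * g * (c s)⁻¹, hcG s g g.2⟩ = (χ : G → ℂ) g := by
  classical
  haveI : Fintype G := Fintype.ofFinite _
  let X := {χ : IrrCharacter G // classInner (resC hNG (χ : G → ℂ)) (ϑ : N → ℂ) ≠ 0}
  have hlres : ∀ (l : LinN G N) (χ : IrrCharacter G),
      resC hNG (fun y => (((l : G →* ℂˣ) y : ℂˣ) : ℂ) * (χ : G → ℂ) y) = resC hNG (χ : G → ℂ) := by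
    intro l χ
    funext n
    simp only [resC_apply]
    rw [l.2 ⟨n, hNG n.2⟩ n.2]
    simp
  letI act₁ : MulAction (LinN G N) X :=
    { smul := fun l χ => ⟨⟨fun y => (((l : G →* ℂˣ) y : ℂˣ) : ℂ) * (χ.1 : G → ℂ) y,
          isIrr_lin_mul (l : G →* ℂˣ) χ.1.2⟩, by
        show classInner (resC hNG (fun y => (((l : G →* ℂˣ) y : ℂˣ) : ℂ) * (χ.1 : G → ℂ) y)) _ ≠ 0
        rw [hlres]
        exact χ.2⟩
      one_smul := fun χ => by
        apply Subtype.ext
        apply Subtype.ext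
        funext y
        show (((1 : G →* ℂˣ) y : ℂˣ) : ℂ) * (χ.1 : G → ℂ) y = _
        simp
      mul_smul := fun a b χ => by
        apply Subtype.ext
        apply Subtype.ext
        funext y
        show (((((a * b : LinN G N) : G →* ℂˣ) y : ℂˣ) : ℂ)) * (χ.1 : G → ℂ) y =
          ((a : G →* ℂˣ) y : ℂ) * (((b : G →* ℂˣ) y : ℂ) * (χ.1 : G → ℂ) y)
        simp [mul_assoc] }
  have hsm : ∀ (l : LinN G N) (χ : X) (y : G), (((l • χ : X).1 : IrrCharacter G) : G → ℂ) y =
      (((l : G →* ℂˣ) y : ℂˣ) : ℂ) * (χ.1 : G → ℂ) y := fun _ _ _ => rfl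
  -- the twist
  let tw : S → (LinN G N →* LinN G N) := fun s =>
    { toFun := fun l => ⟨(l : G →* ℂˣ).comp (conjE G (c s) (hcG s)).toMonoidHom, fun g hg =>
        l.2 (conjE G (c s) (hcG s) g) (hcN s g hg)⟩
      map_one' := rfl
      map_mul' := fun _ _ => rfl }
  have hXact : ∀ (s : S) (χ : X), classInner (resC hNG
      ((irrComp (conjE G (c s) (hcG s)) χ.1 : IrrCharacter G) : G → ℂ)) (ϑ : N → ℂ) ≠ 0 := by
    intro s χ
    have h1 := classInner_res_conj hNG (hcG s) (hcN s) (χ.1 : G → ℂ) (ϑ : N → ℂ)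
    have h2 : (fun n : N => (ϑ : N → ℂ) (conjE N (c s) (hcN s) n)) = (ϑ : N → ℂ) :=
      funext fun n => hinv s n
    rw [h2] at h1
    exact ne_of_eq_of_ne h1 χ.2
  let act : S → X → X := fun s χ => ⟨irrComp (conjE G (c s) (hcG s)) χ.1, hXact s χ⟩
  have hexp : ∀ g : G, g ^ (N.relIndex G) ∈ N.subgroupOf G := by
    intro g
    haveI hn : (N.subgroupOf G).Normal := ⟨fun n hn g => by
      rw [Subgroup.mem_subgroupOf] at hn ⊢
      exact hNn g g.2 n hn⟩
    rw [← QuotientGroup.eq_one_iff, QuotientGroup.mk_pow]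
    exact pow_card_eq_one'
  obtain ⟨m, hm⟩ : ∃ m, Fintype.card S * m ≡ 1 [MOD N.relIndex G] := by
    by_cases h1 : N.relIndex G = 1
    · exact ⟨0, by rw [h1]; exact Nat.modEq_one⟩
    · have h0 : N.relIndex G ≠ 0 := Subgroup.index_ne_zero_of_finite
      obtain ⟨m, hm⟩ := Nat.exists_mul_mod_eq_one_of_coprime hcop.symm (by omega)
      exact ⟨m, by
        unfold Nat.ModEq
        rw [hm.2, Nat.mod_eq_of_lt (by omega)]⟩
  obtain ⟨x, hx⟩ := exists_fixed_of_abelian (L := LinN G N) (X := X) (S := S) act tw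
    (by
      intro s t χ
      apply Subtype.ext
      apply Subtype.ext
      funext y
      obtain ⟨g, hg, h⟩ := hmul s t
      have hψ := isClassFunction_of_isCharacter (isCharacter_of_isIrrCharacter (act t (act s χ)).1.2)
      have h3 := hψ y ⟨g, hg⟩
      rw [← h3]
      show (χ.1 : G → ℂ) _ = (χ.1 : G → ℂ) _
      refine congrArg _ (Subtype.ext ?_)
      show c (s * t) * (y : Γ) * (c (s * t))⁻¹ =
        c s * (c t * (g * y * g⁻¹) * (c t)⁻¹) * (c s)⁻¹
      rw [h]
      group)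
    (by
      intro s u χ
      apply Subtype.ext
      apply Subtype.ext
      funext y
      rfl)
    (by
      intro x y
      have hn' : (N.subgroupOf G).Normal := ⟨fun n hn g => by
        rw [Subgroup.mem_subgroupOf] at hn ⊢
        exact hNn g g.2 n hn⟩
      haveI : Fintype (N.subgroupOf G) := Fintype.ofFinite _
      let e : N.subgroupOf G ≃* N := Subgroup.subgroupOfEquivOfLe hNG
      have h1 := Cfsg.Agent.Lib.Char.Clifford.classInner_comp_equiv e (resC hNG (x.1 : G → ℂ)) (ϑ : N → ℂ)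
      have h2 := Cfsg.Agent.Lib.Char.Clifford.classInner_comp_equiv e (resC hNG (y.1 : G → ℂ)) (ϑ : N → ℂ)
      obtain ⟨l, hl1, hl2⟩ := exists_lin_of_over (N.subgroupOf G)
        (fun a b => hab a a.2 b b.2) x.1.2 y.1.2 (irrComp e ϑ).2
        (ne_of_eq_of_ne h1 x.2) (ne_of_eq_of_ne h2 y.2)
      refine ⟨⟨l, fun g hg => hl1 ⟨g, hg⟩⟩, ?_⟩
      apply Subtype.ext
      apply Subtype.ext
      exact hl2.symm)
    (N.relIndex G) m
    (by
      intro u
      apply Subtype.ext
      apply MonoidHom.ext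
      intro g
      show ((u : G →* ℂˣ) g) ^ (N.relIndex G) = 1
      rw [← map_pow]
      exact u.2 _ (hexp g))
    hm ⟨χ₀, hχ₀⟩
  refine ⟨x.1, x.2, fun s g => ?_⟩
  have h1 := congrArg Subtype.val (hx s)
  exact congrFun (congrArg Subtype.val h1) g

/-- Every irreducible character of a subgroup lies under an irreducible character. -/
theorem exists_constituent {G N : Subgroup Γ} [Fintype G] [Fintype N] (hNG : N ≤ G)
    (ϑ : IrrCharacter N) :
    ∃ χ : IrrCharacter G, classInner (resC hNG (χ : G → ℂ)) (ϑ : N → ℂ) ≠ 0 := by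
  have hb : IsPGroup 2 (⊥ : Subgroup Γ) := IsPGroup.of_bot
  obtain ⟨χ, hχ, -⟩ := exists_inv_over_p Nat.prime_two hb (by simp) hNG (by simp)
    (by simp) ϑ (by
      intro s hs g g' hg
      rw [Subgroup.mem_bot] at hs
      subst hs
      have : g' = g := Subtype.ext (by rw [hg]; simp)
      rw [this])
  exact ⟨χ, hχ⟩

/-- Lying under is transitive. -/
theorem under_trans {G H N : Subgroup Γ} [Fintype H] [Fintype N] (hHG : H ≤ G) (hNH : N ≤ H)
    (hNG : N ≤ G) (χ : IrrCharacter G) (ϕ : IrrCharacter H) (ϑ : IrrCharacter N)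
    (h₁ : classInner (resC hHG (χ : G → ℂ)) (ϕ : H → ℂ) ≠ 0)
    (h₂ : classInner (resC hNH (ϕ : H → ℂ)) (ϑ : N → ℂ) ≠ 0) :
    classInner (resC hNG (χ : G → ℂ)) (ϑ : N → ℂ) ≠ 0 := by
  classical
  have hres := res_char hHG (isCharacter_of_isIrrCharacter χ.2)
  choose a ha using fun i : IrrCharacter H => exists_nat_classInner hres i
  choose b hb using fun i : IrrCharacter H =>
    exists_nat_classInner (res_char hNH (isCharacter_of_isIrrCharacter i.2)) ϑ
  have hdec := decomp_eq_sum_classInner hres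
  have h3 : resC hNG (χ : G → ℂ) = ∑ i : IrrCharacter H, (a i : ℂ) • resC hNH (i : H → ℂ) := by
    funext n
    have := congrFun hdec ⟨n, hNH n.2⟩
    rw [Finset.sum_apply] at this ⊢
    refine this.trans ?_
    refine Finset.sum_congr rfl fun i _ => ?_
    simp only [Pi.smul_apply, ha i]
    rfl
  rw [h3, classInner_sum_left]
  simp only [classInner_smul_left, hb]
  have h4 : ∑ i : IrrCharacter H, a i * b i ≠ 0 := by
    intro h5
    have h6 := (Finset.sum_eq_zero_iff.1 h5) ϕ (Finset.mem_univ _)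
    rcases Nat.mul_eq_zero.1 h6 with h7 | h7
    · apply h₁
      rw [ha, h7]
      simp
    · apply h₂
      rw [hb, h7]
      simp
  intro h5
  apply h4
  exact_mod_cast h5

end Section

section Solvable

variable {Γ : Type u} [Group Γ] [Finite Γ]

omit [Finite Γ] in
/-- Elements normalising `G` and `N` normalise `[G,G] N`. -/
theorem conj_mem_commSup {G N : Subgroup Γ} {a : Γ} (haG : ∀ g ∈ G, a * g * a⁻¹ ∈ G)
    (haN : ∀ n ∈ N, a * n * a⁻¹ ∈ N) : ∀ x ∈ ⁅G, G⁆ ⊔ N, a * x * a⁻¹ ∈ ⁅G, G⁆ ⊔ N := by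
  intro x hx
  let f : Γ →* Γ := (MulAut.conj a).toMonoidHom
  have hG : G.map f ≤ G := by
    rintro _ ⟨g, hg, rfl⟩
    exact haG g hg
  have hN : N.map f ≤ N := by
    rintro _ ⟨n, hn, rfl⟩
    exact haN n hn
  have h1 : (⁅G, G⁆ ⊔ N).map f ≤ ⁅G, G⁆ ⊔ N := by
    rw [Subgroup.map_sup, Subgroup.map_commutator]
    exact sup_le_sup (Subgroup.commutator_mono hG hG) hN
  exact h1 ⟨x, hx, rfl⟩

omit [Finite Γ] in
/-- The quotient of `G` by `[G,G] N` is a proper quotient of a solvable section. -/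
theorem commSup_ne {G N : Subgroup Γ} (hNG : N ≤ G) [hn : (N.subgroupOf G).Normal]
    (hsolv : Group.IsSolvable (G ⧸ N.subgroupOf G)) (hne : N ≠ G) : ⁅G, G⁆ ⊔ N ≠ G := by
  intro heq
  haveI : Nontrivial (G ⧸ N.subgroupOf G) := by
    rw [QuotientGroup.nontrivial_iff]
    intro h
    apply hne
    apply le_antisymm hNG
    intro g hg
    have : (⟨g, hg⟩ : G) ∈ N.subgroupOf G := by
      rw [h]
      trivial
    exact this
  have hlt := Group.IsSolvable.commutator_lt_top_of_nontrivial (G ⧸ N.subgroupOf G)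
  apply hlt.ne
  -- the map to the quotient
  let φ : G →* G ⧸ N.subgroupOf G := QuotientGroup.mk' _
  have hφ : Function.Surjective φ := QuotientGroup.mk'_surjective _
  rw [eq_top_iff]
  intro q _
  obtain ⟨g, rfl⟩ := hφ q
  have hg : (g : Γ) ∈ ⁅G, G⁆ ⊔ N := by
    rw [heq]
    exact g.2
  have hA : ⁅G, G⁆ ⊔ N ≤ ((commutator (G ⧸ N.subgroupOf G)).comap φ).map G.subtype := by
    apply sup_le
    · rw [← Subgroup.map_subtype_commutator]
      apply Subgroup.map_mono
      intro x hx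
      have h5 : (commutator G).map φ ≤ commutator (G ⧸ N.subgroupOf G) := by
        rw [commutator_def, commutator_def, Subgroup.map_commutator]
        exact Subgroup.commutator_mono le_top le_top
      exact h5 ⟨x, hx, rfl⟩
    · intro n hn
      refine ⟨⟨n, hNG hn⟩, ?_, rfl⟩
      have : φ ⟨n, hNG hn⟩ = 1 := (QuotientGroup.eq_one_iff _).2 hn
      rw [SetLike.mem_coe, Subgroup.mem_comap, this]
      exact Subgroup.one_mem _
  obtain ⟨g', hg', h3⟩ := hA hg
  have h4 : g' = g := Subtype.ext h3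
  rw [h4] at hg'
  exact hg'

/-- **An invariant constituent over a solvable section of coprime order.** -/
theorem exists_inv_over_solv {S : Subgroup Γ} : ∀ (n : ℕ) (G N : Subgroup Γ) [Fintype G] [Fintype N]
    [(N.subgroupOf G).Normal], N.relIndex G = n → (∀ s ∈ S, ∀ g ∈ G, s * g * s⁻¹ ∈ G) → ∀ hNG : N ≤ G,
    (∀ s ∈ S, ∀ n ∈ N, s * n * s⁻¹ ∈ N) → (N.relIndex G).Coprime (Nat.card S) →
    Group.IsSolvable (G ⧸ N.subgroupOf G) → ∀ ϑ : IrrCharacter N, SInv S (ϑ : N → ℂ) →
    ∃ χ : IrrCharacter G, classInner (resC hNG (χ : G → ℂ)) (ϑ : N → ℂ) ≠ 0 ∧ SInv S (χ : G → ℂ) := by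
  intro n
  induction n using Nat.strong_induction_on with
  | _ n ih =>
  intro G N _ _ hnN hn hnorm hNG hNS hcop hsolv ϑ hinv
  classical
  by_cases hNGeq : N = G
  · subst hNGeq
    refine ⟨ϑ, ?_, hinv⟩
    have h1 : resC hNG (ϑ : N → ℂ) = (ϑ : N → ℂ) := rfl
    rw [h1]
    convert (one_ne_zero : (1 : ℂ) ≠ 0)
    convert classInner_irr_self ϑ.2
  have hNn : ∀ g ∈ G, ∀ n ∈ N, g * n * g⁻¹ ∈ N := fun g hg n hn =>
    hnN.conj_mem (⟨n, hNG hn⟩ : G) hn ⟨g, hg⟩
  set H : Subgroup Γ := ⁅G, G⁆ ⊔ N with hH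
  have hNH : N ≤ H := le_sup_right
  have hHG : H ≤ G := by
    apply sup_le _ hNG
    rw [Subgroup.commutator_le]
    intro x hx y hy
    rw [commutatorElement_def]
    exact G.mul_mem (G.mul_mem (G.mul_mem hx hy) (G.inv_mem hx)) (G.inv_mem hy)
  have hHne : H ≠ G := commSup_ne hNG hsolv hNGeq
  have hHn : ∀ g ∈ G, ∀ x ∈ H, g * x * g⁻¹ ∈ H := fun g hg =>
    conj_mem_commSup (fun x hx => G.mul_mem (G.mul_mem hg hx) (G.inv_mem hg)) (hNn g hg)
  have hHS : ∀ s ∈ S, ∀ x ∈ H, s * x * s⁻¹ ∈ H := fun s hs =>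
    conj_mem_commSup (hnorm s hs) (hNS s hs)
  have hab : ∀ x ∈ G, ∀ y ∈ G, x * y * x⁻¹ * y⁻¹ ∈ H := by
    intro x hx y hy
    apply (le_sup_left : ⁅G, G⁆ ≤ H)
    have := Subgroup.commutator_mem_commutator hx hy
    rwa [commutatorElement_def] at this
  have hrel : N.relIndex H * H.relIndex G = N.relIndex G := Subgroup.relIndex_mul_relIndex _ _ _ hNH hHG
  have hHrel : H.relIndex G ≠ 1 := by
    intro h
    exact hHne (le_antisymm hHG (Subgroup.relIndex_eq_one.1 h))
  have hHrel0 : H.relIndex G ≠ 0 := Subgroup.index_ne_zero_of_finite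
  have hNrel0 : N.relIndex H ≠ 0 := Subgroup.index_ne_zero_of_finite
  have hlt : N.relIndex H < n := by
    rw [← hn, ← hrel]
    have h2 : 2 ≤ H.relIndex G := by omega
    have h3 : 0 < N.relIndex H := Nat.pos_of_ne_zero hNrel0
    nlinarith
  haveI : Fintype H := Fintype.ofFinite _
  haveI hnH : (N.subgroupOf H).Normal := ⟨fun x hx y => by
    rw [Subgroup.mem_subgroupOf] at hx ⊢
    exact hNn y (hHG y.2) x hx⟩
  have hsolvH : Group.IsSolvable (H ⧸ N.subgroupOf H) := by
    let φ : H ⧸ N.subgroupOf H →* G ⧸ N.subgroupOf G :=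
      QuotientGroup.lift (N.subgroupOf H) ((QuotientGroup.mk' (N.subgroupOf G)).comp (Subgroup.inclusion hHG))
        (by
          intro x hx
          show ((⟨x, hHG x.2⟩ : G) : G ⧸ N.subgroupOf G) = 1
          rw [QuotientGroup.eq_one_iff]
          exact hx)
    refine Group.isSolvable_of_isSolvable_injective (f := φ) ?_
    intro a b hab'
    obtain ⟨x, rfl⟩ := QuotientGroup.mk_surjective a
    obtain ⟨y, rfl⟩ := QuotientGroup.mk_surjective b
    have h5 : ((⟨x, hHG x.2⟩ : G) : G ⧸ N.subgroupOf G) = ((⟨y, hHG y.2⟩ : G) : G ⧸ N.subgroupOf G) := hab'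
    rw [QuotientGroup.eq] at h5 ⊢
    exact h5
  obtain ⟨ϕ, hϕ, hϕS⟩ := ih _ hlt H N rfl hHS hNH hNS
    (Nat.Coprime.coprime_dvd_left (Dvd.intro _ hrel) hcop) hsolvH ϑ hinv
  -- the abelian step
  obtain ⟨χ₀, hχ₀⟩ := exists_constituent hHG ϕ
  haveI : Fintype S := Fintype.ofFinite _
  obtain ⟨χ, hχ, hχS⟩ := exists_fixed_abelian_section hHG hHn hab (S := S) (fun s => (s : Γ))
    (fun s => hnorm s s.2) (fun s => hHS s s.2) (fun s t => ⟨1, G.one_mem, by simp⟩)
    (by
      rw [← Nat.card_eq_fintype_card]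
      exact Nat.Coprime.coprime_dvd_left (Dvd.intro_left _ hrel) hcop)
    ϕ (fun s n => hϕS s s.2 n _ rfl) χ₀ hχ₀
  refine ⟨χ, under_trans hHG hNH hNG χ ϕ ϑ hχ hϕ, ?_⟩
  intro s hs g g' hg
  have h3 : g' = ⟨s * g * s⁻¹, hnorm s hs g g.2⟩ := Subtype.ext hg
  rw [h3]
  exact hχS ⟨s, hs⟩ g

end Solvable

end Cfsg.Agent.Lib.Char.GlaubAb
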