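import Mathlib
import Cfsg.Prelude.Def_Characters
import Cfsg.Prelude.Def_ParabolicCharacters
import Cfsg.Agent.Lib.Char.Mackey
import Cfsg.Agent.Lib.Char.IndRep
import Cfsg.Agent.Lib.Char.LinearChars
import Cfsg.Agent.Lib.Char.Ortho

/-!
# The principal series of `GL₂` over a finite field

Coordinates on the upper triangular subgroup, the Bruhat decomposition, and the inner products of
the characters induced from linear characters of the upper triangular subgroup.
-/

set_option autoImplicit false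

namespace Cfsg.Agent.Lib.Char.GL2Principal

open Cfsg Cfsg.Agent.Lib.Char.Induced Cfsg.Agent.Lib.Char.Mackey Cfsg.Agent.Lib.Char.Ortho
open scoped ComplexConjugate

section Basic

variable {F : Type*} [Field F]

/-- The group `GL₂(F)`. -/
abbrev GL2 (F : Type*) [Field F] := Matrix.GeneralLinearGroup (Fin 2) F

/-- The upper triangular subgroup of `GL₂(F)`. -/
abbrev Bor (F : Type*) [Field F] := Cfsg.upperTriangularGL 2 F

/-- The entry of an element of `GL₂(F)`. -/
abbrev ent (g : GL2 F) (i j : Fin 2) : F := (g : Matrix (Fin 2) (Fin 2) F) i j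

theorem ext2 {g h : GL2 F} (h00 : ent g 0 0 = ent h 0 0) (h01 : ent g 0 1 = ent h 0 1)
    (h10 : ent g 1 0 = ent h 1 0) (h11 : ent g 1 1 = ent h 1 1) : g = h := by
  apply Units.ext
  ext i j
  fin_cases i <;> fin_cases j <;> assumption

@[simp] theorem mul_00 (g h : GL2 F) : ent (g * h) 0 0 = ent g 0 0 * ent h 0 0 + ent g 0 1 * ent h 1 0 := by
  simp [ent, Matrix.mul_apply, Fin.sum_univ_two]
@[simp] theorem mul_01 (g h : GL2 F) : ent (g * h) 0 1 = ent g 0 0 * ent h 0 1 + ent g 0 1 * ent h 1 1 := by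
  simp [ent, Matrix.mul_apply, Fin.sum_univ_two]
@[simp] theorem mul_10 (g h : GL2 F) : ent (g * h) 1 0 = ent g 1 0 * ent h 0 0 + ent g 1 1 * ent h 1 0 := by
  simp [ent, Matrix.mul_apply, Fin.sum_univ_two]
@[simp] theorem mul_11 (g h : GL2 F) : ent (g * h) 1 1 = ent g 1 0 * ent h 0 1 + ent g 1 1 * ent h 1 1 := by
  simp [ent, Matrix.mul_apply, Fin.sum_univ_two]

theorem det_entries (g : GL2 F) : ent g 0 0 * ent g 1 1 - ent g 0 1 * ent g 1 0
    = (g : Matrix (Fin 2) (Fin 2) F).det := by
  rw [Matrix.det_fin_two]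

theorem det_entries_ne (g : GL2 F) : ent g 0 0 * ent g 1 1 - ent g 0 1 * ent g 1 0 ≠ 0 := by
  rw [det_entries]
  exact (Matrix.isUnit_iff_isUnit_det _).1 g.isUnit |>.ne_zero

theorem mem_Bor (g : GL2 F) : g ∈ Bor F ↔ ent g 1 0 = 0 := by
  constructor
  · intro h
    have h' : (g : Matrix (Fin 2) (Fin 2) F).BlockTriangular id := h
    exact h' (by simp)
  · intro h
    show (g : Matrix (Fin 2) (Fin 2) F).BlockTriangular id
    intro i j hij
    fin_cases i <;> fin_cases j <;> simp_all

/-- The upper triangular matrix with the given diagonal units and upper right entry. -/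
def bM (a d : Fˣ) (c : F) : GL2 F where
  val := !![(a : F), c; 0, (d : F)]
  inv := !![((a⁻¹ : Fˣ) : F), -((a⁻¹ : Fˣ) : F) * c * ((d⁻¹ : Fˣ) : F); 0, ((d⁻¹ : Fˣ) : F)]
  val_inv := by
    rw [Matrix.mul_fin_two]
    ext i j
    fin_cases i <;> fin_cases j <;> simp
    field_simp
    ring
  inv_val := by
    rw [Matrix.mul_fin_two]
    ext i j
    fin_cases i <;> fin_cases j <;> simp

@[simp] theorem bM_00 (a d : Fˣ) (c : F) : ent (bM a d c) 0 0 = a := rfl
@[simp] theorem bM_01 (a d : Fˣ) (c : F) : ent (bM a d c) 0 1 = c := rfl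
@[simp] theorem bM_10 (a d : Fˣ) (c : F) : ent (bM a d c) 1 0 = 0 := rfl
@[simp] theorem bM_11 (a d : Fˣ) (c : F) : ent (bM a d c) 1 1 = d := rfl

/-- An element of the upper triangular subgroup. -/
def mkB (a d : Fˣ) (c : F) : Bor F := ⟨bM a d c, (mem_Bor _).2 rfl⟩

@[simp] theorem mkB_val (a d : Fˣ) (c : F) : ((mkB a d c : Bor F) : GL2 F) = bM a d c := rfl

theorem ne_zero_00 (b : Bor F) : ent (b : GL2 F) 0 0 ≠ 0 := by
  intro h
  have h1 := det_entries_ne (b : GL2 F)
  rw [h, (mem_Bor _).1 b.2] at h1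
  simp at h1

theorem ne_zero_11 (b : Bor F) : ent (b : GL2 F) 1 1 ≠ 0 := by
  intro h
  have h1 := det_entries_ne (b : GL2 F)
  rw [h, (mem_Bor _).1 b.2] at h1
  simp at h1

/-- The upper triangular subgroup in coordinates. -/
def eB : Bor F ≃ Fˣ × Fˣ × F where
  toFun b := (Units.mk0 _ (ne_zero_00 b), Units.mk0 _ (ne_zero_11 b), ent (b : GL2 F) 0 1)
  invFun z := mkB z.1 z.2.1 z.2.2
  left_inv b := by
    apply Subtype.ext
    apply ext2
    · rfl
    · rfl
    · exact ((mem_Bor _).1 b.2).symm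
    · rfl
  right_inv z := by
    rcases z with ⟨a, d, c⟩
    ext <;> rfl

/-- Sums over the upper triangular subgroup, in coordinates. -/
theorem sum_Bor [Fintype (Bor F)] [Fintype Fˣ] [Fintype F] {M : Type*} [AddCommMonoid M]
    (f : Bor F → M) :
    ∑ b : Bor F, f b = ∑ a : Fˣ, ∑ d : Fˣ, ∑ c : F, f (mkB a d c) := by
  rw [← Equiv.sum_comp eB.symm, Fintype.sum_prod_type]
  refine Finset.sum_congr rfl fun a _ => ?_
  rw [Fintype.sum_prod_type]
  rfl

/-- The Weyl element. -/
def wM : GL2 F where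
  val := !![0, -1; 1, 0]
  inv := !![0, 1; -1, 0]
  val_inv := by
    rw [Matrix.mul_fin_two]
    ext i j
    fin_cases i <;> fin_cases j <;> simp
  inv_val := by
    rw [Matrix.mul_fin_two]
    ext i j
    fin_cases i <;> fin_cases j <;> simp

@[simp] theorem wM_00 : ent (wM : GL2 F) 0 0 = 0 := rfl
@[simp] theorem wM_01 : ent (wM : GL2 F) 0 1 = -1 := rfl
@[simp] theorem wM_10 : ent (wM : GL2 F) 1 0 = 1 := rfl
@[simp] theorem wM_11 : ent (wM : GL2 F) 1 1 = 0 := rfl
@[simp] theorem wMi_00 : ent (wM⁻¹ : GL2 F) 0 0 = 0 := rfl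
@[simp] theorem wMi_01 : ent (wM⁻¹ : GL2 F) 0 1 = 1 := rfl
@[simp] theorem wMi_10 : ent (wM⁻¹ : GL2 F) 1 0 = -1 := rfl
@[simp] theorem wMi_11 : ent (wM⁻¹ : GL2 F) 1 1 = 0 := rfl

/-- The Bruhat decomposition. -/
theorem bruhat (x : GL2 F) (hx : x ∉ Bor F) :
    ∃ h₁ h₂ : Bor F, x = (h₁ : GL2 F) * wM * (h₂ : GL2 F) := by
  have hr : ent x 1 0 ≠ 0 := fun h => hx ((mem_Bor x).2 h)
  have hdet := det_entries_ne x
  set r := ent x 1 0 with hrdef
  set δ := (ent x 0 0 * ent x 1 1 - ent x 0 1 * r) / r with hδ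
  have hδ0 : δ ≠ 0 := div_ne_zero hdet hr
  refine ⟨mkB 1 1 (ent x 0 0 / r), mkB (Units.mk0 r hr) (Units.mk0 δ hδ0) (ent x 1 1), ?_⟩
  apply ext2
  · simp [ent, mul_00, mul_01, mul_10, mul_11]
    field_simp
  · simp [ent, mul_00, mul_01, mul_10, mul_11, hδ]
    field_simp
    ring
  · simp [ent, mul_00, mul_01, mul_10, mul_11, hrdef]
  · simp [ent, mul_00, mul_01, mul_10, mul_11]

theorem wM_conj_10 (a d : Fˣ) (c : F) : ent ((wM : GL2 F)⁻¹ * bM a d c * wM) 1 0 = -c := by
  simp [ent, mul_00, mul_01, mul_10, mul_11]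

theorem wM_conj_00 (a d : Fˣ) (c : F) : ent ((wM : GL2 F)⁻¹ * bM a d c * wM) 0 0 = (d : F) := by
  simp [ent, mul_00, mul_01, mul_10, mul_11]

theorem wM_conj_11 (a d : Fˣ) (c : F) : ent ((wM : GL2 F)⁻¹ * bM a d c * wM) 1 1 = (a : F) := by
  simp [ent, mul_00, mul_01, mul_10, mul_11]

/-- The diagonal entry `b₁₁`, as a homomorphism. -/
def diag0 : Bor F →* Fˣ where
  toFun b := Units.mk0 _ (ne_zero_00 b)
  map_one' := by
    ext
    simp [ent]
  map_mul' x y := by
    ext
    have : ent (x : GL2 F) 1 0 = 0 := (mem_Bor _).1 x.2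
    have : ent (y : GL2 F) 1 0 = 0 := (mem_Bor _).1 y.2
    simp only [Subgroup.coe_mul, Units.val_mk0, Units.val_mul, mul_00]
    simp_all

/-- The diagonal entry `b₂₂`, as a homomorphism. -/
def diag1 : Bor F →* Fˣ where
  toFun b := Units.mk0 _ (ne_zero_11 b)
  map_one' := by
    ext
    simp [ent]
  map_mul' x y := by
    ext
    have : ent (x : GL2 F) 1 0 = 0 := (mem_Bor _).1 x.2
    have : ent (y : GL2 F) 1 0 = 0 := (mem_Bor _).1 y.2
    simp only [Subgroup.coe_mul, Units.val_mk0, Units.val_mul, mul_11]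
    simp_all

/-- The linear character `b ↦ α(b₁₁) β(b₂₂)`. -/
noncomputable def chiHom (α β : MulChar F ℂ) : Bor F →* ℂˣ :=
  (α.toUnitHom.comp diag0) * (β.toUnitHom.comp diag1)

/-- The function `b ↦ α(b₁₁) β(b₂₂)` on the upper triangular subgroup. -/
noncomputable def chi (α β : MulChar F ℂ) : Bor F → ℂ :=
  fun b => α (((b : GL2 F) : Matrix (Fin 2) (Fin 2) F) 0 0) * β (((b : GL2 F) : Matrix (Fin 2) (Fin 2) F) 1 1)

theorem chi_eq (α β : MulChar F ℂ) (b : Bor F) : chi α β b = ((chiHom α β b : ℂˣ) : ℂ) := by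
  simp [chi, chiHom, diag0, diag1, MulChar.coe_toUnitHom]

theorem isIrr_chi [Finite (Bor F)] (α β : MulChar F ℂ) : IsIrrCharacter (Bor F) (chi α β) := by
  have := Cfsg.Agent.Lib.Char.LinearChars.isIrr_of_hom (chiHom α β)
  convert this using 1
  funext b
  exact chi_eq α β b

theorem isClass_chi [Finite (Bor F)] (α β : MulChar F ℂ) : IsClassFunction (Bor F) (chi α β) :=
  Cfsg.Agent.Lib.Char.Basic.isClassFunction_of_isCharacter
    (Cfsg.Agent.Lib.Char.Basic.isCharacter_of_isIrrCharacter (isIrr_chi α β))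

@[simp] theorem chi_mkB (α β : MulChar F ℂ) (a d : Fˣ) (c : F) :
    chi α β (mkB a d c) = α a * β d := rfl

end Basic

section Finite

variable {F : Type*} [Field F] [Fintype F]

variable [DecidableEq F]

theorem sum_units_eq (f : F → ℂ) (h0 : f 0 = 0) : ∑ a : Fˣ, f a = ∑ a : F, f a := by
  rw [← Finset.sum_erase (a := 0) _ h0]
  apply Finset.sum_bij (fun (a : Fˣ) _ => (a : F))
  · intro a _
    simp
  · intro a _ b _ h
    exact Units.ext h
  · intro b hb
    have hb0 : b ≠ 0 := (Finset.mem_erase.mp hb).1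
    exact ⟨Units.mk0 b hb0, Finset.mem_univ _, rfl⟩
  · intro a _
    rfl

/-- Orthogonality of multiplicative characters. -/
theorem sum_mul_conj (α β : MulChar F ℂ) [Decidable (α = β)] :
    ∑ a : Fˣ, α a * conj (β a) = if α = β then ((Fintype.card F : ℂ) - 1) else 0 := by
  have h1 : ∀ a : Fˣ, α a * conj (β a) = (α * β⁻¹) a := by
    intro a
    rw [MulChar.mul_apply]
    congr 1
    exact MulChar.star_apply' β _
  simp only [h1]
  rw [sum_units_eq (fun a => (α * β⁻¹) a) (MulChar.map_zero _)]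
  split_ifs with h
  · subst h
    rw [mul_inv_cancel, MulChar.sum_one_eq_card_units, Fintype.card_units]
    have : 1 ≤ Fintype.card F := Fintype.card_pos
    push_cast [Nat.cast_sub this]
    rfl
  · apply MulChar.sum_eq_zero_of_ne_one
    intro h2
    exact h (mul_inv_eq_one.1 h2)

theorem card_Bor : Nat.card (Bor F) = (Fintype.card F - 1) * ((Fintype.card F - 1) * Fintype.card F) := by
  rw [Nat.card_congr eB, Nat.card_prod, Nat.card_prod, Nat.card_eq_fintype_card,
    Nat.card_eq_fintype_card, Fintype.card_units]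

omit [DecidableEq F] in
theorem one_lt_q : 1 < Fintype.card F := Fintype.one_lt_card

omit [DecidableEq F] in
theorem q_ne_zero : (Fintype.card F : ℂ) ≠ 0 := by
  have := one_lt_q (F := F)
  rw [Nat.cast_ne_zero]
  omega

omit [DecidableEq F] in
theorem q_sub_one_ne_zero : (Fintype.card F : ℂ) - 1 ≠ 0 := by
  have := one_lt_q (F := F)
  rw [sub_ne_zero]
  intro h
  have h' : Fintype.card F = 1 := by exact_mod_cast h
  omega

theorem card_Bor_complex : (Nat.card (Bor F) : ℂ)
    = ((Fintype.card F : ℂ) - 1) * (((Fintype.card F : ℂ) - 1) * (Fintype.card F : ℂ)) := by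
  have := one_lt_q (F := F)
  rw [card_Bor]
  push_cast [Nat.cast_sub this.le]
  rfl

theorem card_GL2 : Nat.card (GL2 F) = (Fintype.card F + 1) * Nat.card (Bor F) := by
  rw [card_Bor, Matrix.card_GL_field]
  simp only [Fin.prod_univ_two, Fin.val_zero, Fin.val_one, pow_zero, pow_one]
  obtain ⟨n, hn⟩ : ∃ n, Fintype.card F = n + 1 := ⟨Fintype.card F - 1, by
    have := one_lt_q (F := F)
    omega⟩
  rw [hn]
  have h1 : (n + 1) ^ 2 - 1 = (n + 2) * n := by
    have : (n + 1) ^ 2 = (n + 2) * n + 1 := by ring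
    omega
  have h2 : (n + 1) ^ 2 - (n + 1) = n * (n + 1) := by
    have : (n + 1) ^ 2 = n * (n + 1) + (n + 1) := by ring
    omega
  rw [h1, h2]
  simp only [Nat.add_sub_cancel]
  ring

theorem card_GL2_complex : (Nat.card (GL2 F) : ℂ)
    = ((Fintype.card F : ℂ) + 1) * (Nat.card (Bor F) : ℂ) := by
  rw [card_GL2]
  push_cast
  rfl

theorem extendByZero_chi (α β : MulChar F ℂ) (y : GL2 F) :
    extendByZero (Bor F) (chi α β) y = if ent y 1 0 = 0 then α (ent y 0 0) * β (ent y 1 1) else 0 := by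
  split_ifs with h
  · rw [extendByZero_of_mem _ _ ((mem_Bor y).2 h)]
    rfl
  · rw [extendByZero_of_notMem _ _ (fun h' => h ((mem_Bor y).1 h'))]

theorem classInner_chi [Fintype (Bor F)] (α β α' β' : MulChar F ℂ)
    [Decidable (α = α' ∧ β = β')] :
    classInner (chi α β) (chi α' β') = if α = α' ∧ β = β' then 1 else 0 := by
  classical
  rw [classInner_def, sum_Bor]
  have h : ∀ a d : Fˣ, ∑ c : F, chi α β (mkB a d c) * conj (chi α' β' (mkB a d c))
      = (Fintype.card F : ℂ) * ((α a * conj (α' a)) * (β d * conj (β' d))) := by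
    intro a d
    simp only [chi_mkB, Finset.sum_const, Finset.card_univ, nsmul_eq_mul, map_mul]
    ring
  simp only [h, ← Finset.mul_sum, ← Finset.sum_mul]
  rw [sum_mul_conj, sum_mul_conj, card_Bor_complex]
  have h1 := q_ne_zero (F := F)
  have h2 := q_sub_one_ne_zero (F := F)
  by_cases ha : α = α' <;> by_cases hb : β = β' <;> simp [ha, hb] <;> field_simp

theorem mackeySum_wM [Fintype (Bor F)] (α β α' β' : MulChar F ℂ) :
    mackeySum (Bor F) (chi α β) (chi α' β') wM
      = (∑ a : Fˣ, α a * conj (β' a)) * (∑ d : Fˣ, β d * conj (α' d)) := by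
  unfold mackeySum
  rw [sum_Bor, Finset.sum_mul_sum]
  refine Finset.sum_congr rfl fun a _ => Finset.sum_congr rfl fun d _ => ?_
  simp only [chi_mkB, mkB_val, extendByZero_chi, wM_conj_10, wM_conj_00, wM_conj_11, neg_eq_zero]
  rw [Finset.sum_eq_single 0]
  · simp only [if_true, map_mul]
    ring
  · intro b _ hb
    simp [hb]
  · simp

/-- The inner product of two principal series characters of `GL₂`. -/
theorem classInner_ind (α β α' β' : MulChar F ℂ)
    [Decidable (α = α' ∧ β = β')] [Decidable (α = β' ∧ β = α')] :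
    classInner (indFun (Bor F) (chi α β)) (indFun (Bor F) (chi α' β'))
      = (if α = α' ∧ β = β' then 1 else 0) + (if α = β' ∧ β = α' then 1 else 0) := by
  classical
  letI : Fintype (Bor F) := Fintype.ofFinite _
  rw [classInner_indFun_indFun_two_double (Bor F) _ _ (isClass_chi α β) (isClass_chi α' β') wM
    bruhat, classInner_chi, mackeySum_wM, sum_mul_conj, sum_mul_conj, card_GL2_complex,
    card_Bor_complex]
  congr 1
  have h1 := q_ne_zero (F := F)
  have h2 := q_sub_one_ne_zero (F := F)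
  by_cases ha : α = β' <;> by_cases hb : β = α' <;> simp [ha, hb] <;> field_simp <;> ring

theorem isCharacter_ind (α β : MulChar F ℂ) : IsCharacter (GL2 F) (indFun (Bor F) (chi α β)) :=
  Cfsg.Agent.Lib.Char.IndRep.isCharacter_indFun (Bor F)
    (Cfsg.Agent.Lib.Char.Basic.isCharacter_of_isIrrCharacter (isIrr_chi α β))

/-- The induced character is irreducible when `α ≠ β`. -/
theorem isIrr_ind {α β : MulChar F ℂ} (h : α ≠ β) : IsIrrCharacter (GL2 F) (indFun (Bor F) (chi α β)) := by
  classical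
  refine isIrrCharacter_of_classInner_self_eq_one (isCharacter_ind α β) ?_
  rw [classInner_ind]
  simp [h]

/-- Two principal series characters coincide exactly when the unordered pairs coincide. -/
theorem ind_eq_iff (α β α' β' : MulChar F ℂ) :
    indFun (Bor F) (chi α β) = indFun (Bor F) (chi α' β') ↔
      (α = α' ∧ β = β') ∨ (α = β' ∧ β = α') := by
  classical
  constructor
  · intro h
    have h1 := classInner_ind α β α' β'
    rw [← h, classInner_ind] at h1
    by_contra hne
    push Not at hne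
    have h2 : (if α = α' ∧ β = β' then (1 : ℂ) else 0) = 0 := if_neg (fun hh => hne.1 hh.1 hh.2)
    have h3 : (if α = β' ∧ β = α' then (1 : ℂ) else 0) = 0 := if_neg (fun hh => hne.2 hh.1 hh.2)
    rw [h2, h3] at h1
    by_cases hab : α = β
    · subst hab
      norm_num at h1
    · have hba : ¬ β = α := fun h => hab h.symm
      simp [hab, hba] at h1
  · rintro (⟨rfl, rfl⟩ | ⟨rfl, rfl⟩)
    · rfl
    · rw [← sub_eq_zero]
      apply eq_zero_of_classInner_self_eq_zero
      rw [classInner_sub_left, classInner_sub_right, classInner_sub_right, classInner_ind,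
        classInner_ind, classInner_ind, classInner_ind]
      by_cases hab : α = β
      · subst hab
        simp
      · have hba : ¬ β = α := fun h => hab h.symm
        simp [hab, hba]

end Finite

end Cfsg.Agent.Lib.Char.GL2Principal
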