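import Mathlib
import Cfsg.Prelude.Def_Characters
import Cfsg.Prelude.Def_ParabolicCharacters
import Cfsg.Agent.Lib.Char.GL2Principal
import Cfsg.Agent.Lib.Char.Perm

/-!
# Values of the principal series characters of `GL₂`
-/

set_option autoImplicit false

namespace Cfsg.Agent.Lib.Char.GL2Values

open Cfsg Cfsg.Agent.Lib.Char.Induced Cfsg.Agent.Lib.Char.Mackey Cfsg.Agent.Lib.Char.Ortho
open Cfsg.Agent.Lib.Char.GL2Principal
open scoped ComplexConjugate

section Basic

variable {F : Type*} [Field F]

/-- The relation between the entries of `y` and `g` when `x y = g x`. -/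
theorem entries_of_mul_eq {x y g : GL2 F} (h : x * y = g * x) :
    ent y 1 0 * (ent x 0 0 * ent x 1 1 - ent x 0 1 * ent x 1 0)
        = ent g 1 0 * ent x 0 0 ^ 2 + (ent g 1 1 - ent g 0 0) * ent x 0 0 * ent x 1 0
          - ent g 0 1 * ent x 1 0 ^ 2 ∧
    ent y 0 0 * (ent x 0 0 * ent x 1 1 - ent x 0 1 * ent x 1 0)
        = ent x 1 1 * (ent g 0 0 * ent x 0 0 + ent g 0 1 * ent x 1 0)
          - ent x 0 1 * (ent g 1 0 * ent x 0 0 + ent g 1 1 * ent x 1 0) ∧
    ent y 1 1 * (ent x 0 0 * ent x 1 1 - ent x 0 1 * ent x 1 0)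
        = ent x 0 0 * (ent g 1 0 * ent x 0 1 + ent g 1 1 * ent x 1 1)
          - ent x 1 0 * (ent g 0 0 * ent x 0 1 + ent g 0 1 * ent x 1 1) := by
  have h00 := congrArg (fun M : GL2 F => ent M 0 0) h
  have h01 := congrArg (fun M : GL2 F => ent M 0 1) h
  have h10 := congrArg (fun M : GL2 F => ent M 1 0) h
  have h11 := congrArg (fun M : GL2 F => ent M 1 1) h
  simp only [mul_00, mul_01, mul_10, mul_11] at h00 h01 h10 h11
  refine ⟨?_, ?_, ?_⟩
  · linear_combination ent x 0 0 * h10 - ent x 1 0 * h00
  · linear_combination ent x 1 1 * h00 - ent x 0 1 * h10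
  · linear_combination ent x 0 0 * h11 - ent x 1 0 * h01

theorem conj_mul_eq (x g : GL2 F) : x * (x⁻¹ * g * x) = g * x := by group

end Basic

section Finite

variable {F : Type*} [Field F] [Fintype F] [DecidableEq F]

theorem ind_apply (α β : MulChar F ℂ) (g : GL2 F) :
    indFun (Bor F) (chi α β) g = (Nat.card (Bor F) : ℂ)⁻¹ * ∑ x : GL2 F,
      if ent (x⁻¹ * g * x) 1 0 = 0 then α (ent (x⁻¹ * g * x) 0 0) * β (ent (x⁻¹ * g * x) 1 1) else 0 := by
  unfold indFun
  congr 1
  refine Finset.sum_congr rfl fun x _ => ?_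
  exact extendByZero_chi α β _

theorem sum_r0 (c : ℂ) :
    ∑ x : GL2 F, (if ent x 1 0 = 0 then c else 0) = (Nat.card (Bor F) : ℂ) * c := by
  rw [Finset.sum_ite, Finset.sum_const_zero, add_zero, Finset.sum_const, nsmul_eq_mul]
  congr 2
  rw [← Fintype.card_subtype, ← Nat.card_eq_fintype_card]
  exact Nat.card_congr (Equiv.subtypeEquivRight (fun x => (mem_Bor x).symm))

theorem sum_p0 (c : ℂ) :
    ∑ x : GL2 F, (if ent x 0 0 = 0 then c else 0) = (Nat.card (Bor F) : ℂ) * c := by
  rw [← sum_r0 c, ← Equiv.sum_comp (Equiv.mulLeft (wM : GL2 F))]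
  refine Finset.sum_congr rfl fun x _ => ?_
  simp [neg_eq_zero]

omit [DecidableEq F] in
theorem not_both_zero (x : GL2 F) (hp : ent x 0 0 = 0) (hr : ent x 1 0 = 0) : False := by
  have := det_entries_ne x
  rw [hp, hr] at this
  simp at this

/-- The value at a scalar. -/
theorem ind_scalar (α β : MulChar F ℂ) (g : GL2 F) (a : F)
    (hg : (g : Matrix (Fin 2) (Fin 2) F) = a • (1 : Matrix (Fin 2) (Fin 2) F)) :
    indFun (Bor F) (chi α β) g = ((Fintype.card F : ℂ) + 1) * (α a * β a) := by
  have hc : ∀ x : GL2 F, x⁻¹ * g * x = g := by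
    intro x
    have h : g * x = x * g := by
      apply Units.ext
      simp only [Units.val_mul, hg]
      simp
    rw [mul_assoc, h]
    group
  rw [ind_apply]
  simp only [hc]
  have h10 : ent g 1 0 = 0 := by simp [ent, hg]
  have h00 : ent g 0 0 = a := by simp [ent, hg]
  have h11 : ent g 1 1 = a := by simp [ent, hg]
  simp only [h10, h00, h11, if_true, Finset.sum_const, Finset.card_univ, nsmul_eq_mul]
  rw [← Nat.card_eq_fintype_card, card_GL2_complex]
  have : (Nat.card (Bor F) : ℂ) ≠ 0 := natCard_ne_zero_complex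
  field_simp

/-- The value at a diagonal element with different diagonal entries. -/
theorem ind_diag (α β : MulChar F ℂ) (g : GL2 F) (h01 : ent g 0 1 = 0) (h10 : ent g 1 0 = 0)
    (hne : ent g 0 0 ≠ ent g 1 1) :
    indFun (Bor F) (chi α β) g
      = α (ent g 0 0) * β (ent g 1 1) + α (ent g 1 1) * β (ent g 0 0) := by
  rw [ind_apply]
  have hterm : ∀ x : GL2 F,
      (if ent (x⁻¹ * g * x) 1 0 = 0 then α (ent (x⁻¹ * g * x) 0 0) * β (ent (x⁻¹ * g * x) 1 1) else 0)
        = (if ent x 1 0 = 0 then α (ent g 0 0) * β (ent g 1 1) else 0)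
          + (if ent x 0 0 = 0 then α (ent g 1 1) * β (ent g 0 0) else 0) := by
    intro x
    obtain ⟨e1, e2, e3⟩ := entries_of_mul_eq (conj_mul_eq x g)
    have hD := det_entries_ne x
    rw [h01, h10] at e1 e2 e3
    generalize hy : x⁻¹ * g * x = y at e1 e2 e3
    by_cases hr : ent x 1 0 = 0
    · have hp : ent x 0 0 ≠ 0 := fun hp => not_both_zero x hp hr
      rw [hr] at e1 e2 e3 hD
      simp only [mul_zero, sub_zero] at hD
      have h1 : ent y 1 0 = 0 := by
        have : ent y 1 0 * (ent x 0 0 * ent x 1 1) = 0 := by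
          linear_combination e1
        exact (mul_eq_zero.1 this).resolve_right hD
      have h2 : ent y 0 0 = ent g 0 0 := by
        apply mul_right_cancel₀ hD
        linear_combination e2
      have h3 : ent y 1 1 = ent g 1 1 := by
        apply mul_right_cancel₀ hD
        linear_combination e3
      simp [h1, h2, h3, hr, hp]
    · by_cases hp : ent x 0 0 = 0
      · rw [hp] at e1 e2 e3 hD
        simp only [zero_mul, zero_sub, neg_ne_zero] at hD
        have h1 : ent y 1 0 = 0 := by
          have : ent y 1 0 * (ent x 0 1 * ent x 1 0) = 0 := by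
            linear_combination - e1
          exact (mul_eq_zero.1 this).resolve_right hD
        have h2 : ent y 0 0 = ent g 1 1 := by
          apply mul_right_cancel₀ hD
          linear_combination - e2
        have h3 : ent y 1 1 = ent g 0 0 := by
          apply mul_right_cancel₀ hD
          linear_combination - e3
        simp [h1, h2, h3, hr, hp]
      · have h1 : ent y 1 0 ≠ 0 := by
          intro h0
          rw [h0] at e1
          have : (ent g 1 1 - ent g 0 0) * ent x 0 0 * ent x 1 0 = 0 := by
            linear_combination - e1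
          exact mul_ne_zero (mul_ne_zero (sub_ne_zero.2 hne.symm) hp) hr this
        simp [h1, hr, hp]
  simp only [hterm, Finset.sum_add_distrib, sum_r0, sum_p0]
  have : (Nat.card (Bor F) : ℂ) ≠ 0 := natCard_ne_zero_complex
  field_simp

/-- The value at an element without an eigenvector. -/
theorem ind_elliptic (α β : MulChar F ℂ) (g : GL2 F)
    (hg : ∀ (c : F) (v : Fin 2 → F), v ≠ 0 → (g : Matrix (Fin 2) (Fin 2) F).mulVec v ≠ c • v) :
    indFun (Bor F) (chi α β) g = 0 := by
  rw [ind_apply]
  have hterm : ∀ x : GL2 F,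
      (if ent (x⁻¹ * g * x) 1 0 = 0 then α (ent (x⁻¹ * g * x) 0 0) * β (ent (x⁻¹ * g * x) 1 1) else 0)
        = 0 := by
    intro x
    rw [if_neg]
    intro h0
    have hy := conj_mul_eq x g
    have h00 := congrArg (fun M : GL2 F => ent M 0 0) hy
    have h1 := congrArg (fun M : GL2 F => ent M 1 0) hy
    simp only [mul_00 x, mul_10 x, h0, mul_zero, add_zero] at h00 h1
    simp only [mul_00 g, mul_10 g] at h00 h1
    generalize ent (x⁻¹ * g * x) 0 0 = c at h00 h1
    apply hg c ![ent x 0 0, ent x 1 0]
    · intro hv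
      have hp := congrFun hv 0
      have hr := congrFun hv 1
      simp only [Matrix.cons_val_zero, Matrix.cons_val_one, Pi.zero_apply] at hp hr
      exact not_both_zero x hp hr
    · ext i
      fin_cases i
      · simp [Matrix.mulVec, dotProduct, Fin.sum_univ_two]
        linear_combination -h00
      · simp [Matrix.mulVec, dotProduct, Fin.sum_univ_two]
        linear_combination -h1
  simp only [hterm, Finset.sum_const_zero, mul_zero]

/-- The value at a non-scalar upper triangular element with equal diagonal entries. -/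
theorem ind_unip (α β : MulChar F ℂ) (g : GL2 F) (h10 : ent g 1 0 = 0)
    (heq : ent g 0 0 = ent g 1 1) (h01 : ent g 0 1 ≠ 0) :
    indFun (Bor F) (chi α β) g = α (ent g 0 0) * β (ent g 0 0) := by
  rw [ind_apply]
  have hterm : ∀ x : GL2 F,
      (if ent (x⁻¹ * g * x) 1 0 = 0 then α (ent (x⁻¹ * g * x) 0 0) * β (ent (x⁻¹ * g * x) 1 1) else 0)
        = (if ent x 1 0 = 0 then α (ent g 0 0) * β (ent g 0 0) else 0) := by
    intro x
    obtain ⟨e1, e2, e3⟩ := entries_of_mul_eq (conj_mul_eq x g)
    have hD := det_entries_ne x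
    rw [h10, ← heq] at e1 e2 e3
    generalize hy : x⁻¹ * g * x = y at e1 e2 e3
    by_cases hr : ent x 1 0 = 0
    · rw [hr] at e1 e2 e3 hD
      simp only [mul_zero, sub_zero] at hD
      have h1 : ent y 1 0 = 0 := by
        have : ent y 1 0 * (ent x 0 0 * ent x 1 1) = 0 := by
          linear_combination e1
        exact (mul_eq_zero.1 this).resolve_right hD
      have h2 : ent y 0 0 = ent g 0 0 := by
        apply mul_right_cancel₀ hD
        linear_combination e2
      have h3 : ent y 1 1 = ent g 0 0 := by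
        apply mul_right_cancel₀ hD
        linear_combination e3
      simp [h1, h2, h3, hr]
    · have h1 : ent y 1 0 ≠ 0 := by
        intro h0
        rw [h0] at e1
        have : ent g 0 1 * ent x 1 0 ^ 2 = 0 := by
          linear_combination e1
        exact mul_ne_zero h01 (pow_ne_zero 2 hr) this
      simp [h1, hr]
  simp only [hterm, sum_r0]
  have : (Nat.card (Bor F) : ℂ) ≠ 0 := natCard_ne_zero_complex
  field_simp

/-- The permutation character on the cosets of the upper triangular subgroup is a principal series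
character. -/
theorem fixedPointCharacter_eq (g : GL2 F) :
    fixedPointCharacter (Bor F) g = indFun (Bor F) (chi 1 1) g := by
  unfold fixedPointCharacter
  rw [← Cfsg.Agent.Lib.Char.Perm.indFun_one_eq_card_fixedBy]
  congr 2
  funext b
  simp only [chi]
  rw [MulChar.one_apply (isUnit_iff_ne_zero.2 (ne_zero_00 b)),
    MulChar.one_apply (isUnit_iff_ne_zero.2 (ne_zero_11 b))]
  simp

end Finite

end Cfsg.Agent.Lib.Char.GL2Values
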