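import Mathlib
import Cfsg.Prelude.Def_Characters
import Cfsg.Agent.Lib.Char.GL2Values
import Cfsg.Agent.Lib.Char.Integrality
import Cfsg.Agent.Lib.Char.Values

/-!
# The irreducible characters of `GL₂(F)`: principal series, twists of the trivial and Steinberg
characters, and the characters without linear constituents on the upper triangular subgroup.
-/

set_option autoImplicit false

namespace Cfsg.Agent.Lib.Char.GL2Irr

open Cfsg Cfsg.Agent.Lib.Char.Induced Cfsg.Agent.Lib.Char.Ortho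
open Cfsg.Agent.Lib.Char.GL2Principal Cfsg.Agent.Lib.Char.GL2Values
open scoped ComplexConjugate

section General

variable {G : Type*} [Group G]

/-- An irreducible character has maximal absolute value at a central element. -/
theorem norm_of_central [Finite G] {χ : G → ℂ} (hχ : IsIrrCharacter G χ) (z : G)
    (hz : ∀ g, g * z = z * g) : ‖χ z‖ = ‖χ 1‖ := by
  obtain ⟨n, ρ, hρ, rfl⟩ := hχ
  obtain ⟨a, ha⟩ := Cfsg.Agent.Lib.Char.Integrality.exists_smul_id_of_commute ρ (ρ z) (fun g => by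
    show ρ z * ρ g = ρ g * ρ z
    rw [← map_mul, ← map_mul, hz])
  have hnt : Nontrivial (Fin n → ℂ) := Cfsg.Agent.Lib.Char.Integrality.nontrivial_of_isIrreducible ρ
  have hk : z ^ (orderOf z) = 1 := pow_orderOf_eq_one z
  have hkpos : 0 < orderOf z := orderOf_pos z
  have h1 : a ^ (orderOf z) = 1 := by
    have h2 : ρ (z ^ orderOf z) = (a ^ orderOf z) • (LinearMap.id : (Fin n → ℂ) →ₗ[ℂ] (Fin n → ℂ)) := by
      rw [map_pow, ha]
      ext v i
      simp [smul_pow, Module.End.one_apply]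
    rw [hk, map_one] at h2
    obtain ⟨v, hv⟩ := exists_ne (0 : Fin n → ℂ)
    have h3 := congrArg (fun T : (Fin n → ℂ) →ₗ[ℂ] (Fin n → ℂ) => T v) h2
    simp only [Module.End.one_apply, LinearMap.smul_apply, LinearMap.id_coe, id_eq] at h3
    have h4 : (a ^ orderOf z - 1) • v = 0 := by
      rw [sub_smul, one_smul, ← h3, sub_self]
    rcases smul_eq_zero.1 h4 with h5 | h5
    · exact sub_eq_zero.1 h5
    · exact absurd h5 hv
  have hnorm : ‖a‖ = 1 := by
    have := Complex.norm_eq_one_of_pow_eq_one h1 hkpos.ne'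
    exact this
  have hc : ρ.character z = a * ρ.character 1 := by
    unfold Representation.character
    rw [map_one, ha]
    simp only [map_smul, smul_eq_mul]
    congr 1
  rw [hc, norm_mul, hnorm, one_mul]

/-- A character of norm two with two different irreducible constituents is their sum. -/
theorem eq_add_of_norm_two [Fintype G] {φ ψ₁ ψ₂ : G → ℂ} (hφ : IsCharacter G φ)
    (h : classInner φ φ = 2) (h₁ : IsIrrCharacter G ψ₁) (h₂ : IsIrrCharacter G ψ₂)
    (hne : ψ₁ ≠ ψ₂) (hn₁ : classInner φ ψ₁ ≠ 0) (hn₂ : classInner φ ψ₂ ≠ 0) : φ = ψ₁ + ψ₂ := by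
  obtain ⟨n₁, e₁⟩ := exists_nat_classInner_of_isCharacter hφ
    (Cfsg.Agent.Lib.Char.Basic.isCharacter_of_isIrrCharacter h₁)
  obtain ⟨n₂, e₂⟩ := exists_nat_classInner_of_isCharacter hφ
    (Cfsg.Agent.Lib.Char.Basic.isCharacter_of_isIrrCharacter h₂)
  have hn₁' : 1 ≤ n₁ := by
    rcases Nat.eq_zero_or_pos n₁ with h0 | h0
    · subst h0
      simp [e₁] at hn₁
    · exact h0
  have hn₂' : 1 ≤ n₂ := by
    rcases Nat.eq_zero_or_pos n₂ with h0 | h0
    · subst h0
      simp [e₂] at hn₂
    · exact h0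
  have e₁' : classInner ψ₁ φ = n₁ := by
    rw [← classInner_conj_symm, e₁]
    simp
  have e₂' : classInner ψ₂ φ = n₂ := by
    rw [← classInner_conj_symm, e₂]
    simp
  have h12 : classInner ψ₁ ψ₂ = 0 := classInner_irr_of_ne h₁ h₂ hne
  have h21 : classInner ψ₂ ψ₁ = 0 := classInner_irr_of_ne h₂ h₁ hne.symm
  have hD : classInner (φ - ψ₁ - ψ₂) (φ - ψ₁ - ψ₂) = 4 - 2 * (n₁ : ℂ) - 2 * (n₂ : ℂ) := by
    simp only [classInner_sub_left, classInner_sub_right, e₁, e₂, e₁', e₂', h12, h21, h,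
      classInner_irr_self h₁, classInner_irr_self h₂]
    ring
  have hr := classInner_self_eq (φ - ψ₁ - ψ₂)
  rw [hD] at hr
  have hr' : (4 - 2 * (n₁ : ℝ) - 2 * (n₂ : ℝ)) = ((Nat.card G : ℝ)⁻¹ * ∑ g : G, ‖(φ - ψ₁ - ψ₂) g‖ ^ 2 : ℝ) := by
    exact_mod_cast hr
  have hnn := classInner_self_nonneg (φ - ψ₁ - ψ₂)
  rw [← hr'] at hnn
  have hn1 : (1 : ℝ) ≤ n₁ := by exact_mod_cast hn₁'
  have hn2 : (1 : ℝ) ≤ n₂ := by exact_mod_cast hn₂'
  have h3 : (n₁ : ℝ) = 1 := by linarith
  have h4 : (n₂ : ℝ) = 1 := by linarith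
  have h5 : (n₁ : ℂ) = 1 := by exact_mod_cast h3
  have h6 : (n₂ : ℂ) = 1 := by exact_mod_cast h4
  have h7 : classInner (φ - ψ₁ - ψ₂) (φ - ψ₁ - ψ₂) = 0 := by
    rw [hD, h5, h6]
    norm_num
  have h8 := eq_zero_of_classInner_self_eq_zero h7
  rw [sub_sub, sub_eq_zero] at h8
  exact h8

end General

section Dual

variable {F : Type*} [Field F] [Fintype F] [DecidableEq F]

omit [DecidableEq F] in
theorem exists_mulChar_ne_one (t : Fˣ) (ht : t ≠ 1) : ∃ α : MulChar F ℂ, α t ≠ 1 :=
  MulChar.exists_apply_ne_one_of_hasEnoughRootsOfUnity F ℂ (fun h => ht (Units.ext h))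

omit [DecidableEq F] in
theorem sum_mulChar_apply [Fintype (MulChar F ℂ)] (t : Fˣ) (ht : t ≠ 1) :
    ∑ α : MulChar F ℂ, α t = 0 := by
  obtain ⟨α₀, h₀⟩ := exists_mulChar_ne_one t ht
  have h1 : α₀ t * ∑ α : MulChar F ℂ, α t = ∑ α : MulChar F ℂ, α t := by
    rw [Finset.mul_sum]
    exact Equiv.sum_comp (Equiv.mulLeft α₀) (fun α : MulChar F ℂ => α t)
  have h2 : (α₀ t - 1) * ∑ α : MulChar F ℂ, α t = 0 := by
    rw [sub_mul, h1, one_mul, sub_self]
  exact (mul_eq_zero.1 h2).resolve_left (sub_ne_zero.2 h₀)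

theorem fourier_one (k : Fˣ → ℂ) (H : ∀ α : MulChar F ℂ, ∑ a : Fˣ, α a * k a = 0) (a₀ : Fˣ) :
    k a₀ = 0 := by
  classical
  letI : Fintype (MulChar F ℂ) := Fintype.ofFinite _
  have h1 : ∑ α : MulChar F ℂ, α ((a₀⁻¹ : Fˣ) : F) * ∑ a : Fˣ, α a * k a = 0 := by
    simp [H]
  have h2 : ∑ α : MulChar F ℂ, α ((a₀⁻¹ : Fˣ) : F) * ∑ a : Fˣ, α a * k a
      = ∑ a : Fˣ, (∑ α : MulChar F ℂ, α ((a₀⁻¹ * a : Fˣ) : F)) * k a := by
    simp only [Finset.mul_sum, Finset.sum_mul]
    rw [Finset.sum_comm]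
    refine Finset.sum_congr rfl fun a _ => Finset.sum_congr rfl fun α _ => ?_
    rw [Units.val_mul, map_mul, mul_assoc]
  rw [h2, Finset.sum_eq_single a₀] at h1
  · have h3 : ∑ α : MulChar F ℂ, α ((a₀⁻¹ * a₀ : Fˣ) : F)
        = (Fintype.card (MulChar F ℂ) : ℂ) := by
      simp
    rw [h3] at h1
    have h4 : (Fintype.card (MulChar F ℂ) : ℂ) ≠ 0 := by
      rw [Nat.cast_ne_zero]
      exact Fintype.card_ne_zero
    exact (mul_eq_zero.1 h1).resolve_left h4
  · intro a _ ha
    rw [sum_mulChar_apply _ (fun h => ha (by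
      have := congrArg (fun t => a₀ * t) h
      simpa using this)), zero_mul]
  · simp

theorem fourier_two (h : Fˣ → Fˣ → ℂ)
    (H : ∀ α β : MulChar F ℂ, ∑ a : Fˣ, ∑ d : Fˣ, α a * β d * h a d = 0) (a d : Fˣ) :
    h a d = 0 := by
  refine fourier_one (h a) (fun β => ?_) d
  refine fourier_one (fun a => ∑ d : Fˣ, β d * h a d) (fun α => ?_) a
  rw [← H α β]
  refine Finset.sum_congr rfl fun a _ => ?_
  rw [Finset.mul_sum]
  refine Finset.sum_congr rfl fun d _ => ?_
  ring

end Dual

section Cusp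

variable {F : Type*} [Field F] [Fintype F] [DecidableEq F]

/-- The characters without a linear constituent on the upper triangular subgroup. -/
def IsCusp (χ : GL2 F → ℂ) : Prop := ∀ a d : Fˣ, ∑ c : F, χ (bM a d c) = 0

theorem classInner_ind_left {χ : GL2 F → ℂ} (hχ : IsClassFunction (GL2 F) χ) (α β : MulChar F ℂ) :
    classInner (indFun (Bor F) (chi α β)) χ = (Nat.card (Bor F) : ℂ)⁻¹ *
      ∑ a : Fˣ, ∑ d : Fˣ, α a * β d * conj (∑ c : F, χ (bM a d c)) := by
  classical
  letI : Fintype (Bor F) := Fintype.ofFinite _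
  rw [frobenius_reciprocity _ _ _ hχ, classInner_def, sum_Bor]
  congr 1
  refine Finset.sum_congr rfl fun a _ => Finset.sum_congr rfl fun d _ => ?_
  simp only [chi_mkB, mkB_val, map_sum, Finset.mul_sum]

theorem isCusp_or {χ : GL2 F → ℂ} (hχ : IsClassFunction (GL2 F) χ) :
    (∃ α β : MulChar F ℂ, classInner (indFun (Bor F) (chi α β)) χ ≠ 0) ∨ IsCusp χ := by
  by_cases h : ∃ α β : MulChar F ℂ, classInner (indFun (Bor F) (chi α β)) χ ≠ 0
  · exact Or.inl h
  · right
    push Not at h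
    intro a d
    have h1 := fourier_two (fun a d => conj (∑ c : F, χ (bM a d c))) (fun α β => by
      have h2 := h α β
      rw [classInner_ind_left hχ] at h2
      exact (mul_eq_zero.1 h2).resolve_left (inv_ne_zero natCard_ne_zero_complex)) a d
    exact (map_eq_zero (starRingEnd ℂ)).1 h1

omit [Fintype F] [DecidableEq F] in
theorem class_eq_of_ne {χ : GL2 F → ℂ} (hχ : IsClassFunction (GL2 F) χ) {a d : Fˣ} (h : a ≠ d)
    (c : F) : χ (bM a d c) = χ (bM a d 0) := by
  have hne : (d : F) - a ≠ 0 := sub_ne_zero.2 (fun h' => h (Units.ext h'.symm))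
  set x : GL2 F := bM 1 1 (c / ((d : F) - a)) with hx
  have h1 : x * bM a d 0 = bM a d c * x := by
    apply ext2
    · simp [hx]
    · simp [hx]
      field_simp
      ring
    · simp [hx]
    · simp [hx]
  have h2 : bM a d c = x * bM a d 0 * x⁻¹ := by
    rw [h1, mul_inv_cancel_right]
  rw [h2, hχ]

omit [Fintype F] [DecidableEq F] in
theorem class_eq_unip {χ : GL2 F → ℂ} (hχ : IsClassFunction (GL2 F) χ) (a : Fˣ) {c : F} (hc : c ≠ 0) :
    χ (bM a a c) = χ (bM a a 1) := by
  set x : GL2 F := bM (Units.mk0 c hc) 1 0 with hx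
  have h1 : x * bM a a 1 = bM a a c * x := by
    apply ext2
    · simp [hx, mul_comm]
    · simp [hx]
    · simp [hx]
    · simp [hx]
  have h2 : bM a a c = x * bM a a 1 * x⁻¹ := by
    rw [h1, mul_inv_cancel_right]
  rw [h2, hχ]

theorem cusp_diag {χ : GL2 F → ℂ} (hχ : IsClassFunction (GL2 F) χ) (hc : IsCusp χ) {a d : Fˣ}
    (h : a ≠ d) : χ (bM a d 0) = 0 := by
  have h1 := hc a d
  simp only [class_eq_of_ne hχ h, Finset.sum_const, Finset.card_univ, nsmul_eq_mul] at h1
  exact (mul_eq_zero.1 h1).resolve_left q_ne_zero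

theorem cusp_unip {χ : GL2 F → ℂ} (hχ : IsClassFunction (GL2 F) χ) (hc : IsCusp χ) (a : Fˣ) :
    χ (bM a a 0) + ((Fintype.card F : ℂ) - 1) * χ (bM a a 1) = 0 := by
  have h1 := hc a a
  rw [← Finset.add_sum_erase _ _ (Finset.mem_univ (0 : F))] at h1
  have h2 : ∑ c ∈ Finset.univ.erase (0 : F), χ (bM a a c)
      = ∑ c ∈ Finset.univ.erase (0 : F), χ (bM a a 1) :=
    Finset.sum_congr rfl fun c hc => class_eq_unip hχ a (Finset.ne_of_mem_erase hc)
  rw [h2, Finset.sum_const, Finset.card_erase_of_mem (Finset.mem_univ _), Finset.card_univ,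
    nsmul_eq_mul, Nat.cast_sub one_lt_q.le] at h1
  simpa using h1

end Cusp

section Lin

variable {F : Type*} [Field F]

/-- The linear character `g ↦ α(det g)`, as a homomorphism. -/
noncomputable def linHom (α : MulChar F ℂ) : GL2 F →* ℂˣ :=
  α.toUnitHom.comp Matrix.GeneralLinearGroup.det

/-- The linear character `g ↦ α(det g)`. -/
noncomputable def Lin (α : MulChar F ℂ) : GL2 F → ℂ :=
  fun g => α (g : Matrix (Fin 2) (Fin 2) F).det

theorem Lin_eq (α : MulChar F ℂ) (g : GL2 F) : Lin α g = ((linHom α g : ℂˣ) : ℂ) := by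
  simp [Lin, linHom, MulChar.coe_toUnitHom]

theorem isIrr_Lin [Finite (GL2 F)] (α : MulChar F ℂ) : IsIrrCharacter (GL2 F) (Lin α) := by
  have := Cfsg.Agent.Lib.Char.LinearChars.isIrr_of_hom (linHom α)
  convert this using 1
  funext b
  exact Lin_eq α b

theorem Lin_bor (α : MulChar F ℂ) (b : Bor F) : Lin α b = chi α α b := by
  simp only [Lin, chi]
  have h10 : ((b : GL2 F) : Matrix (Fin 2) (Fin 2) F) 1 0 = 0 := (mem_Bor _).1 b.2
  rw [Matrix.det_fin_two, h10, mul_zero, sub_zero, map_mul]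

theorem Lin_one (α : MulChar F ℂ) : Lin α 1 = 1 := by
  simp [Lin]

/-- The element `u`. -/
def uM : GL2 F := bM 1 1 1

theorem Lin_u (α : MulChar F ℂ) : Lin α uM = 1 := by
  have : ((uM : GL2 F) : Matrix (Fin 2) (Fin 2) F).det = 1 := by
    rw [Matrix.det_fin_two]
    show (1 : F) * 1 - 1 * 0 = 1
    ring
  simp [Lin, this]

variable [Fintype F] [DecidableEq F]

theorem classInner_ind_Lin (α : MulChar F ℂ) :
    classInner (indFun (Bor F) (chi α α)) (Lin α) = 1 := by
  classical
  letI : Fintype (Bor F) := Fintype.ofFinite _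
  rw [frobenius_reciprocity _ _ _ (Cfsg.Agent.Lib.Char.Basic.isClassFunction_of_isCharacter
    (Cfsg.Agent.Lib.Char.Basic.isCharacter_of_isIrrCharacter (isIrr_Lin α)))]
  have : (fun h : Bor F => Lin α h) = chi α α := funext (Lin_bor α)
  rw [this, classInner_chi]
  simp

theorem norm_ind_self (α : MulChar F ℂ) :
    classInner (indFun (Bor F) (chi α α)) (indFun (Bor F) (chi α α)) = 2 := by
  classical
  rw [classInner_ind]
  norm_num

/-- The classification of the irreducible characters of `GL₂` by their constituents on the upper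
triangular subgroup. -/
theorem irr_cases {χ : GL2 F → ℂ} (hχ : IsIrrCharacter (GL2 F) χ) :
    (∃ α β : MulChar F ℂ, α ≠ β ∧ χ = indFun (Bor F) (chi α β)) ∨
    (∃ α : MulChar F ℂ, χ = Lin α) ∨
    (∃ α : MulChar F ℂ, indFun (Bor F) (chi α α) = Lin α + χ) ∨ IsCusp χ := by
  have hc := Cfsg.Agent.Lib.Char.Basic.isClassFunction_of_isCharacter
    (Cfsg.Agent.Lib.Char.Basic.isCharacter_of_isIrrCharacter hχ)
  rcases isCusp_or hc with ⟨α, β, h⟩ | h
  · by_cases hab : α = β
    · subst hab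
      by_cases hL : χ = Lin α
      · exact Or.inr (Or.inl ⟨α, hL⟩)
      · refine Or.inr (Or.inr (Or.inl ⟨α, ?_⟩))
        refine eq_add_of_norm_two (isCharacter_ind α α) (norm_ind_self α) (isIrr_Lin α) hχ
          (fun h' => hL h'.symm) ?_ h
        rw [classInner_ind_Lin]
        exact one_ne_zero
    · left
      refine ⟨α, β, hab, ?_⟩
      by_contra hne
      exact h (classInner_irr_of_ne (isIrr_ind hab) hχ (fun h' => hne h'.symm))
  · exact Or.inr (Or.inr (Or.inr h))

omit [DecidableEq F] [Fintype F] in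
theorem bM_one_one_zero : (bM 1 1 0 : GL2 F) = 1 := by
  apply ext2 <;> simp [ent]

/-- Values at `1` and `u` of the principal series. -/
theorem ind_one (α β : MulChar F ℂ) : indFun (Bor F) (chi α β) 1 = (Fintype.card F : ℂ) + 1 := by
  rw [ind_scalar α β 1 1 (by simp)]
  simp

theorem ind_u (α β : MulChar F ℂ) : indFun (Bor F) (chi α β) uM = 1 := by
  rw [ind_unip α β uM rfl rfl (by simp [uM])]
  simp [uM]

/-- In the cuspidal case the value at `u` is determined by the degree. -/
theorem cusp_rel {χ : GL2 F → ℂ} (hχ : IsClassFunction (GL2 F) χ) (hc : IsCusp χ) :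
    χ 1 + ((Fintype.card F : ℂ) - 1) * χ uM = 0 := by
  have := cusp_unip hχ hc 1
  rwa [bM_one_one_zero] at this

theorem cusp_dvd {χ : GL2 F → ℂ} (hχ : IsIrrCharacter (GL2 F) χ) (hc : IsCusp χ) {n : ℕ}
    (hn : χ 1 = n) : Fintype.card F - 1 ∣ n := by
  have hch := Cfsg.Agent.Lib.Char.Basic.isCharacter_of_isIrrCharacter hχ
  have hcl := Cfsg.Agent.Lib.Char.Basic.isClassFunction_of_isCharacter hch
  have hrel := cusp_rel hcl hc
  have hint : IsIntegral ℤ (χ uM) :=
    Cfsg.Agent.Lib.Char.Values.IsCharacter.isIntegral hch uM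
  have hq := one_lt_q (F := F)
  have hne : Fintype.card F - 1 ≠ 0 := by omega
  refine Cfsg.Agent.Lib.Char.Integrality.natCast_dvd_of_isIntegral_div hne ?_
  have h1 : (n : ℂ) / ((Fintype.card F - 1 : ℕ) : ℂ) = - χ uM := by
    rw [Nat.cast_sub hq.le, Nat.cast_one, div_eq_iff q_sub_one_ne_zero, ← hn]
    linear_combination hrel
  rw [h1]
  exact hint.neg

end Lin

section Exclude

variable {F : Type*} [Field F] [Fintype F] [DecidableEq F]

theorem sum_norm_sq_eq_card {G : Type*} [Group G] [Fintype G] {χ : G → ℂ}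
    (hχ : IsIrrCharacter G χ) : ∑ g : G, ‖χ g‖ ^ 2 = (Nat.card G : ℝ) := by
  have h1 := classInner_irr_self hχ
  rw [classInner_self_eq] at h1
  have h2 : ((Nat.card G : ℝ)⁻¹ * ∑ g : G, ‖χ g‖ ^ 2 : ℝ) = 1 := by exact_mod_cast h1
  have h3 : (Nat.card G : ℝ) ≠ 0 := by
    have : 0 < Nat.card G := Nat.card_pos
    positivity
  field_simp at h2
  linarith

omit [DecidableEq F] in
theorem card_centralizer_u_le :
    Nat.card (Subgroup.centralizer ({uM} : Set (GL2 F))) ≤ (Fintype.card F - 1) * Fintype.card F := by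
  classical
  have hkey : ∀ x : Subgroup.centralizer ({uM} : Set (GL2 F)),
      ent (x : GL2 F) 1 0 = 0 ∧ ent (x : GL2 F) 0 0 = ent (x : GL2 F) 1 1 := by
    intro x
    have h := Subgroup.mem_centralizer_iff.1 x.2 uM (Set.mem_singleton _)
    have h00 := congrArg (fun M : GL2 F => ent M 0 0) h
    have h01 := congrArg (fun M : GL2 F => ent M 0 1) h
    simp only [mul_00, mul_01, uM, bM_00, bM_01, bM_10, bM_11, Units.val_one] at h00 h01
    constructor
    · linear_combination h00
    · linear_combination - h01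
  have hne : ∀ x : Subgroup.centralizer ({uM} : Set (GL2 F)), ent (x : GL2 F) 0 0 ≠ 0 := by
    intro x h0
    have := det_entries_ne (x : GL2 F)
    rw [h0, (hkey x).1] at this
    simp at this
  let f : Subgroup.centralizer ({uM} : Set (GL2 F)) → Fˣ × F :=
    fun x => (Units.mk0 _ (hne x), ent (x : GL2 F) 0 1)
  have hf : Function.Injective f := by
    intro x y hxy
    have h1 : ent (x : GL2 F) 0 0 = ent (y : GL2 F) 0 0 :=
      congrArg (fun z : Fˣ × F => ((z.1 : Fˣ) : F)) hxy
    have h2 : ent (x : GL2 F) 0 1 = ent (y : GL2 F) 0 1 :=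
      congrArg (fun z : Fˣ × F => z.2) hxy
    apply Subtype.ext
    apply ext2 h1 h2
    · rw [(hkey x).1, (hkey y).1]
    · rw [← (hkey x).2, ← (hkey y).2, h1]
  have := Nat.card_le_card_of_injective f hf
  rwa [Nat.card_prod, Nat.card_eq_fintype_card (α := Fˣ), Nat.card_eq_fintype_card (α := F),
    Fintype.card_units] at this

omit [Fintype F] [DecidableEq F] in
theorem scalar_central (a : Fˣ) (g : GL2 F) : g * bM a a 0 = bM a a 0 * g := by
  apply ext2 <;> simp [mul_comm]

/-- There is no cuspidal character of degree `q + 1`. -/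
theorem not_cusp_deg {χ : GL2 F → ℂ} (hχ : IsIrrCharacter (GL2 F) χ) (hc : IsCusp χ)
    (h1 : χ 1 = (Fintype.card F : ℂ) + 1) : False := by
  have hch := Cfsg.Agent.Lib.Char.Basic.isCharacter_of_isIrrCharacter hχ
  have hcl := Cfsg.Agent.Lib.Char.Basic.isClassFunction_of_isCharacter hch
  have hq := one_lt_q (F := F)
  have hdvd : Fintype.card F - 1 ∣ Fintype.card F + 1 := cusp_dvd hχ hc (by rw [h1]; push_cast; rfl)
  have hrel := cusp_rel hcl hc
  have hsum := sum_norm_sq_eq_card hχ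
  have hG := card_GL2 (F := F)
  have hB := card_Bor (F := F)
  obtain ⟨k, hk⟩ : ∃ k, Fintype.card F = k + 1 := ⟨Fintype.card F - 1, by omega⟩
  rw [hk] at hdvd
  simp only [Nat.add_sub_cancel] at hdvd
  have hk0 : k ≠ 0 := by omega
  have hk2 : k ∣ 2 := by
    have : k + 1 + 1 = k + 2 := rfl
    rw [this] at hdvd
    exact (Nat.dvd_add_right (dvd_refl k)).1 hdvd
  have hkle : k ≤ 2 := Nat.le_of_dvd (by norm_num) hk2
  have hkc : (Fintype.card F : ℂ) = (k : ℂ) + 1 := by
    rw [hk]
    push_cast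
    rfl
  rw [hG, hB, hk] at hsum
  simp only [Nat.add_sub_cancel] at hsum
  interval_cases k
  · exact hk0 rfl
  · -- `q = 2`
    have h9 : ‖χ 1‖ ^ 2 ≤ ∑ g : GL2 F, ‖χ g‖ ^ 2 :=
      Finset.single_le_sum (f := fun g : GL2 F => ‖χ g‖ ^ 2) (fun _ _ => by positivity) (Finset.mem_univ _)
    rw [h1, hkc] at h9
    rw [hsum] at h9
    have h3 : (((1 : ℕ) : ℂ) + 1 + 1) = ((3 : ℕ) : ℂ) := by
      norm_num
    rw [h3, Complex.norm_natCast] at h9
    norm_num at h9
  · -- `q = 3`
    have hqc : (Fintype.card F : ℂ) = 3 := by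
      rw [hk]
      norm_num
    rw [h1, hqc] at hrel
    have hu : χ uM = -2 := by
      linear_combination (1 / 2 : ℂ) * hrel
    have hm1 : (-1 : F) ≠ 1 := by
      intro h
      have h2 : (2 : F) = 0 := by linear_combination - h
      have h3 : (2 : F) ≠ 0 := by
        apply Ring.two_ne_zero
        intro h4
        have h5 := FiniteField.even_card_iff_char_two.mp h4
        rw [hk] at h5
        omega
      exact h3 h2
    set z : GL2 F := bM (-1) (-1) 0 with hz
    have hzc : ∀ g : GL2 F, g * z = z * g := fun g => scalar_central _ g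
    have hz1 : z ≠ 1 := by
      intro h
      have := congrArg (fun M : GL2 F => ent M 0 0) h
      simp [hz, ent] at this
      exact hm1 this
    have hu1 : uM ≠ (1 : GL2 F) := by
      intro h
      have := congrArg (fun M : GL2 F => ent M 0 1) h
      simp [uM, ent] at this
    have huz : uM ≠ z := by
      intro h
      have := congrArg (fun M : GL2 F => ent M 0 1) h
      simp [uM, hz] at this
    have hclu : ∀ y ∈ Cfsg.Agent.Lib.Char.Integrality.classFinset (uM : GL2 F), ‖χ y‖ ^ 2 = 4 := by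
      intro y hy
      rw [Cfsg.Agent.Lib.Char.Integrality.mem_classFinset, isConj_iff] at hy
      obtain ⟨c, rfl⟩ := hy
      rw [hcl, hu]
      norm_num
    have hznot : z ∉ Cfsg.Agent.Lib.Char.Integrality.classFinset (uM : GL2 F) := by
      intro h
      rw [Cfsg.Agent.Lib.Char.Integrality.mem_classFinset, isConj_iff] at h
      obtain ⟨c, hc'⟩ := h
      apply huz
      have h2 : c * uM * c⁻¹ * c = z * c := by rw [hc']
      rw [inv_mul_cancel_right, ← hzc] at h2
      exact mul_left_cancel h2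
    have h1not : (1 : GL2 F) ∉ insert z (Cfsg.Agent.Lib.Char.Integrality.classFinset (uM : GL2 F)) := by
      intro h
      rcases Finset.mem_insert.1 h with h | h
      · exact hz1 h.symm
      · rw [Cfsg.Agent.Lib.Char.Integrality.mem_classFinset, isConj_iff] at h
        obtain ⟨c, hc'⟩ := h
        apply hu1
        have h2 : uM = c⁻¹ * (c * uM * c⁻¹) * c := by group
        rw [h2, hc']
        group
    have hS := Finset.sum_le_univ_sum_of_nonneg (s := insert 1 (insert z
      (Cfsg.Agent.Lib.Char.Integrality.classFinset (uM : GL2 F)))) (f := fun g : GL2 F => ‖χ g‖ ^ 2)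
      (fun _ => by positivity)
    rw [Finset.sum_insert h1not, Finset.sum_insert hznot, Finset.sum_congr rfl hclu,
      Finset.sum_const, hsum, Cfsg.Agent.Lib.Char.Integrality.card_classFinset,
      norm_of_central hχ z hzc, h1, hqc] at hS
    have hidx := Subgroup.card_mul_index (Subgroup.centralizer ({uM} : Set (GL2 F)))
    have hcent := card_centralizer_u_le (F := F)
    rw [hG, hB, hk] at hidx
    rw [hk] at hcent
    simp only [Nat.add_sub_cancel] at hidx hcent
    have h3 : ‖(3 : ℂ) + 1‖ = 4 := by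
      have : (3 : ℂ) + 1 = ((4 : ℕ) : ℂ) := by norm_num
      rw [this, Complex.norm_natCast]
      norm_num
    rw [h3] at hS
    simp only [nsmul_eq_mul] at hS
    set idx := (Subgroup.centralizer ({uM} : Set (GL2 F))).index with hidxdef
    have h8 : 8 ≤ idx := by
      by_contra hlt
      have h7 : idx ≤ 7 := by omega
      have := Nat.mul_le_mul hcent h7
      omega
    have h8' : (8 : ℝ) ≤ idx := by exact_mod_cast h8
    norm_num at hS
    linarith

end Exclude

end Cfsg.Agent.Lib.Char.GL2Irr
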