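import Mathlib
import Cfsg.Prelude.Def_Characters
import Cfsg.Prelude.Def_ParabolicCharacters
import Cfsg.Agent.Lib.PSL2.Basic
import Cfsg.Agent.Lib.Char.GL2Principal

/-!
# The principal series of `SL₂` over a finite field

Coordinates on the upper triangular subgroup, the Bruhat decomposition and the inner products of
the functions induced from `b ↦ α(b₁₁)`.
-/

set_option autoImplicit false

namespace Cfsg.Agent.Lib.Char.SL2Principal

open Cfsg Cfsg.Agent.Lib.Char.Induced Cfsg.Agent.Lib.Char.Mackey Cfsg.Agent.Lib.Char.Ortho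
open Cfsg.Agent.Lib.Char.GL2Principal (sum_units_eq sum_mul_conj one_lt_q q_ne_zero q_sub_one_ne_zero)
open Cfsg.Agent.Lib.PSL2.Basic
open scoped ComplexConjugate MatrixGroups

section Basic

variable {F : Type*} [Field F]

/-- The upper triangular subgroup of `SL₂(F)`. -/
abbrev BorS (F : Type*) [Field F] : Subgroup SL(2, F) :=
  (Cfsg.upperTriangularGL 2 F).comap Matrix.SpecialLinearGroup.toGL

theorem mem_BorS (g : SL(2, F)) : g ∈ BorS F ↔ g.1 1 0 = 0 := by
  constructor
  · intro h
    have h' : ((Matrix.SpecialLinearGroup.toGL g : GL (Fin 2) F) : Matrix (Fin 2) (Fin 2) F).BlockTriangular id := h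
    exact h' (by simp)
  · intro h
    show ((Matrix.SpecialLinearGroup.toGL g : GL (Fin 2) F) : Matrix (Fin 2) (Fin 2) F).BlockTriangular id
    intro i j hij
    fin_cases i <;> fin_cases j <;> simp_all

/-- The upper triangular matrix with the given diagonal unit and upper right entry. -/
noncomputable def mkS (a : Fˣ) (c : F) : BorS F :=
  ⟨sl2 a c 0 ((a⁻¹ : Fˣ) : F) (by simp), (mem_BorS _).2 rfl⟩

@[simp] theorem mkS_00 (a : Fˣ) (c : F) : (mkS a c : BorS F).1.1 0 0 = a := rfl
@[simp] theorem mkS_01 (a : Fˣ) (c : F) : (mkS a c : BorS F).1.1 0 1 = c := rfl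
@[simp] theorem mkS_10 (a : Fˣ) (c : F) : (mkS a c : BorS F).1.1 1 0 = 0 := rfl
@[simp] theorem mkS_11 (a : Fˣ) (c : F) : (mkS a c : BorS F).1.1 1 1 = ((a⁻¹ : Fˣ) : F) := rfl

theorem ne_zero_00S (b : BorS F) : (b : SL(2, F)).1 0 0 ≠ 0 := by
  intro h
  have h1 := det_entries (b : SL(2, F))
  rw [h, (mem_BorS _).1 b.2] at h1
  simp at h1

theorem det_BorS (b : BorS F) : (b : SL(2, F)).1 0 0 * (b : SL(2, F)).1 1 1 = 1 := by
  have h1 := det_entries (b : SL(2, F))
  rw [(mem_BorS _).1 b.2] at h1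
  simpa using h1

/-- The upper triangular subgroup in coordinates. -/
noncomputable def eS : BorS F ≃ Fˣ × F where
  toFun b := (Units.mk0 _ (ne_zero_00S b), (b : SL(2, F)).1 0 1)
  invFun z := mkS z.1 z.2
  left_inv b := by
    apply Subtype.ext
    apply ext2
    · rfl
    · rfl
    · exact ((mem_BorS _).1 b.2).symm
    · simp only [mkS_11, Units.val_inv_eq_inv_val, Units.val_mk0]
      exact (eq_inv_of_mul_eq_one_right (det_BorS b)).symm
  right_inv z := by
    rcases z with ⟨a, c⟩
    ext <;> rfl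

theorem sum_BorS [Fintype (BorS F)] [Fintype Fˣ] [Fintype F] {M : Type*} [AddCommMonoid M]
    (f : BorS F → M) :
    ∑ b : BorS F, f b = ∑ a : Fˣ, ∑ c : F, f (mkS a c) := by
  rw [← Equiv.sum_comp eS.symm, Fintype.sum_prod_type]
  rfl

/-- The Bruhat decomposition. -/
theorem bruhatS (x : SL(2, F)) (hx : x ∉ BorS F) :
    ∃ h₁ h₂ : BorS F, x = (h₁ : SL(2, F)) * w * (h₂ : SL(2, F)) := by
  have hr : x.1 1 0 ≠ 0 := fun h => hx ((mem_BorS x).2 h)
  have hdet := det_entries x
  refine ⟨mkS 1 (x.1 0 0 / x.1 1 0), mkS (Units.mk0 (- x.1 1 0) (neg_ne_zero.2 hr)) (- x.1 1 1), ?_⟩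
  apply ext2
  · simp
    field_simp
  · simp
    field_simp
    linear_combination - hdet
  · simp
  · simp

/-- The diagonal entry `b₁₁`, as a homomorphism. -/
noncomputable def diagS : BorS F →* Fˣ where
  toFun b := Units.mk0 _ (ne_zero_00S b)
  map_one' := by
    ext
    simp
  map_mul' x y := by
    ext
    have : (x : SL(2, F)).1 1 0 = 0 := (mem_BorS _).1 x.2
    have : (y : SL(2, F)).1 1 0 = 0 := (mem_BorS _).1 y.2
    simp only [Subgroup.coe_mul, Units.val_mk0, Units.val_mul, mul_00]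
    simp_all

/-- The function `b ↦ α(b₁₁)` on the upper triangular subgroup. -/
noncomputable def chiS (α : MulChar F ℂ) : BorS F → ℂ :=
  fun b => α (((b : SL(2, F)) : Matrix (Fin 2) (Fin 2) F) 0 0)

theorem chiS_eq (α : MulChar F ℂ) (b : BorS F) :
    chiS α b = ((α.toUnitHom.comp diagS b : ℂˣ) : ℂ) := by
  simp [chiS, diagS]

theorem isIrr_chiS [Finite (BorS F)] (α : MulChar F ℂ) : IsIrrCharacter (BorS F) (chiS α) := by
  have := Cfsg.Agent.Lib.Char.LinearChars.isIrr_of_hom (α.toUnitHom.comp diagS)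
  convert this using 1
  funext b
  exact chiS_eq α b

theorem isClass_chiS [Finite (BorS F)] (α : MulChar F ℂ) : IsClassFunction (BorS F) (chiS α) :=
  Cfsg.Agent.Lib.Char.Basic.isClassFunction_of_isCharacter
    (Cfsg.Agent.Lib.Char.Basic.isCharacter_of_isIrrCharacter (isIrr_chiS α))

@[simp] theorem chiS_mkS (α : MulChar F ℂ) (a : Fˣ) (c : F) :
    chiS α (mkS a c) = α a := rfl

theorem w_conj_10 (a : Fˣ) (c : F) : ((w : SL(2, F))⁻¹ * (mkS a c : BorS F).1 * w).1 1 0 = -c := by
  simp

theorem w_conj_00 (a : Fˣ) (c : F) :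
    ((w : SL(2, F))⁻¹ * (mkS a c : BorS F).1 * w).1 0 0 = ((a⁻¹ : Fˣ) : F) := by
  simp

end Basic

section Finite

variable {F : Type*} [Field F] [Fintype F] [DecidableEq F]

theorem card_BorS : Nat.card (BorS F) = (Fintype.card F - 1) * Fintype.card F := by
  rw [Nat.card_congr eS, Nat.card_prod, Nat.card_eq_fintype_card,
    Nat.card_eq_fintype_card, Fintype.card_units]

theorem card_BorS_complex : (Nat.card (BorS F) : ℂ)
    = ((Fintype.card F : ℂ) - 1) * (Fintype.card F : ℂ) := by
  have := one_lt_q (F := F)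
  rw [card_BorS]
  push_cast [Nat.cast_sub this.le]
  rfl

theorem card_SL2' : Nat.card (SL(2, F)) = (Fintype.card F + 1) * Nat.card (BorS F) := by
  rw [card_BorS, card_SL2]
  obtain ⟨n, hn⟩ : ∃ n, Fintype.card F = n + 1 := ⟨Fintype.card F - 1, by
    have := one_lt_q (F := F)
    omega⟩
  rw [hn]
  have h1 : (n + 1) ^ 2 - 1 = (n + 2) * n := by
    have : (n + 1) ^ 2 = (n + 2) * n + 1 := by ring
    omega
  rw [h1]
  simp only [Nat.add_sub_cancel]
  ring

theorem card_SL2_complex : (Nat.card (SL(2, F)) : ℂ)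
    = ((Fintype.card F : ℂ) + 1) * (Nat.card (BorS F) : ℂ) := by
  rw [card_SL2']
  push_cast
  rfl

theorem extendByZero_chiS (α : MulChar F ℂ) (y : SL(2, F)) :
    extendByZero (BorS F) (chiS α) y = if y.1 1 0 = 0 then α (y.1 0 0) else 0 := by
  split_ifs with h
  · rw [extendByZero_of_mem _ _ ((mem_BorS y).2 h)]
    rfl
  · rw [extendByZero_of_notMem _ _ (fun h' => h ((mem_BorS y).1 h'))]

theorem classInner_chiS [Fintype (BorS F)] (α β : MulChar F ℂ) [Decidable (α = β)] :
    classInner (chiS α) (chiS β) = if α = β then 1 else 0 := by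
  classical
  rw [classInner_def, sum_BorS]
  have h : ∀ a : Fˣ, ∑ c : F, chiS α (mkS a c) * conj (chiS β (mkS a c))
      = (Fintype.card F : ℂ) * (α a * conj (β a)) := by
    intro a
    simp only [chiS_mkS, Finset.sum_const, Finset.card_univ, nsmul_eq_mul]
  simp only [h, ← Finset.mul_sum]
  rw [sum_mul_conj, card_BorS_complex]
  have h1 := q_ne_zero (F := F)
  have h2 := q_sub_one_ne_zero (F := F)
  by_cases ha : α = β <;> simp [ha]
  field_simp

theorem mackeySum_w [Fintype (BorS F)] (α β : MulChar F ℂ) :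
    mackeySum (BorS F) (chiS α) (chiS β) w = ∑ a : Fˣ, α a * conj ((β⁻¹) a) := by
  unfold mackeySum
  rw [sum_BorS]
  refine Finset.sum_congr rfl fun a _ => ?_
  simp only [chiS_mkS, extendByZero_chiS, w_conj_10, w_conj_00, neg_eq_zero]
  rw [Finset.sum_eq_single 0]
  · simp only [if_true]
    rw [MulChar.inv_apply']
    simp
  · intro b _ hb
    simp [hb]
  · simp

/-- The inner product of two principal series functions of `SL₂`. -/
theorem classInner_indS (α β : MulChar F ℂ) [Decidable (α = β)] [Decidable (α = β⁻¹)] :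
    classInner (indFun (BorS F) (chiS α)) (indFun (BorS F) (chiS β))
      = (if α = β then 1 else 0) + (if α = β⁻¹ then 1 else 0) := by
  classical
  letI : Fintype (BorS F) := Fintype.ofFinite _
  rw [classInner_indFun_indFun_two_double (BorS F) _ _ (isClass_chiS α) (isClass_chiS β) w
    bruhatS, classInner_chiS, mackeySum_w, sum_mul_conj, card_SL2_complex, card_BorS_complex]
  congr 1
  have h1 := q_ne_zero (F := F)
  have h2 := q_sub_one_ne_zero (F := F)
  by_cases ha : α = β⁻¹ <;> simp [ha]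
  field_simp
  ring

theorem isCharacter_indS (α : MulChar F ℂ) : IsCharacter (SL(2, F)) (indFun (BorS F) (chiS α)) :=
  Cfsg.Agent.Lib.Char.IndRep.isCharacter_indFun (BorS F)
    (Cfsg.Agent.Lib.Char.Basic.isCharacter_of_isIrrCharacter (isIrr_chiS α))

/-- The induced function is irreducible exactly when `α² ≠ 1`. -/
theorem isIrr_indS_iff (α : MulChar F ℂ) :
    IsIrrCharacter (SL(2, F)) (indFun (BorS F) (chiS α)) ↔ α ^ 2 ≠ 1 := by
  classical
  have hiff : α ^ 2 = 1 ↔ α = α⁻¹ := by
    rw [sq, ← eq_inv_iff_mul_eq_one]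
  rw [Ne, hiff]
  constructor
  · intro h h2
    have h3 := classInner_irr_self h
    rw [classInner_indS] at h3
    rw [if_pos rfl, if_pos h2] at h3
    norm_num at h3
  · intro h
    refine isIrrCharacter_of_classInner_self_eq_one (isCharacter_indS α) ?_
    rw [classInner_indS, if_pos rfl, if_neg h]
    simp

end Finite

end Cfsg.Agent.Lib.Char.SL2Principal
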