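import Mathlib
import Cfsg.Prelude.Def_Characters
import Cfsg.Agent.Lib.Char.GL2Irr
import Cfsg.Agent.Lib.Char.SL2Principal
import Cfsg.Agent.Lib.Char.Clifford

/-!
# The splitting of the principal series of `SL₂` at a character of order two

`Res_{SL₂} Ind_B^{GL₂} (α, 1) = Ind_{B ∩ SL₂}^{SL₂} α`, a character of norm two, whose two
irreducible constituents are conjugate under `GL₂` by Clifford's theorem.
-/

set_option autoImplicit false

namespace Cfsg.Agent.Lib.Char.SL2Split

open Cfsg Cfsg.Agent.Lib.Char.Induced Cfsg.Agent.Lib.Char.Ortho Cfsg.Agent.Lib.Char.Basic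
open Cfsg.Agent.Lib.Char.GL2Principal Cfsg.Agent.Lib.Char.GL2Values
open Cfsg.Agent.Lib.Char.SL2Principal
open Matrix.SpecialLinearGroup (toGL)
open scoped ComplexConjugate MatrixGroups

section General

universe u

variable {G : Type u} [Group G]

/-- A character of norm two is a sum of two different irreducible characters. -/
theorem exists_irr_add_irr [Fintype G] {φ : G → ℂ} (hφ : IsCharacter G φ)
    (h : classInner φ φ = 2) :
    ∃ χ₁ χ₂ : G → ℂ, IsIrrCharacter G χ₁ ∧ IsIrrCharacter G χ₂ ∧ χ₁ ≠ χ₂ ∧ φ = χ₁ + χ₂ := by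
  classical
  obtain ⟨θ, hθ, hne⟩ : ∃ θ : G → ℂ, IsIrrCharacter G θ ∧ classInner φ θ ≠ 0 := by
    by_contra hcon
    push Not at hcon
    have h0 := decomp_eq_sum_classInner hφ
    have h1 : φ = 0 := by
      rw [h0]
      refine Finset.sum_eq_zero fun ψ _ => ?_
      rw [hcon ψ ψ.2, zero_smul]
    rw [h1, classInner_zero_left] at h
    norm_num at h
  obtain ⟨Ξ, hΞ, rfl⟩ := Cfsg.Agent.Lib.Char.Clifford.exists_char_add hφ hθ hne
  have hθc := isCharacter_of_isIrrCharacter hθ
  obtain ⟨k, hk⟩ := exists_nat_classInner_of_isCharacter hΞ hθc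
  obtain ⟨m, hm⟩ := exists_nat_classInner_of_isCharacter hΞ hΞ
  have hk' : classInner θ Ξ = k := by
    rw [← classInner_conj_symm, hk]
    simp
  have h3 : (1 : ℂ) + 2 * (k : ℂ) + (m : ℂ) = 2 := by
    have h5 := h
    rw [classInner_add_left, classInner_add_right, classInner_add_right, hk, hk', hm,
      classInner_irr_self hθ] at h5
    linear_combination h5
  have h4 : 1 + 2 * k + m = 2 := by exact_mod_cast h3
  have hk0 : k = 0 := by omega
  have hm1 : m = 1 := by omega
  subst hk0 hm1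
  have hΞi : IsIrrCharacter G Ξ := isIrrCharacter_of_classInner_self_eq_one hΞ (by rw [hm]; simp)
  refine ⟨θ, Ξ, hθ, hΞi, ?_, rfl⟩
  intro hEq
  rw [← hEq, classInner_irr_self hθ] at hk
  norm_num at hk

end General

section EGL

variable {F : Type*} [Field F]

theorem det_bM (a d : Fˣ) (c : F) : Matrix.GeneralLinearGroup.det (bM a d c) = a * d := by
  apply Units.ext
  rw [Matrix.GeneralLinearGroup.val_det_apply]
  show (!![(a : F), c; 0, (d : F)]).det = _
  rw [Matrix.det_fin_two_of]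
  simp

/-- `GL₂ = SL₂ · {diag(t, 1)}`. -/
noncomputable def eGL : SL(2, F) × Fˣ ≃ GL2 F where
  toFun z := toGL z.1 * bM z.2 1 0
  invFun x := (⟨((x * (bM (Matrix.GeneralLinearGroup.det x) 1 0)⁻¹ : GL2 F) : Matrix (Fin 2) (Fin 2) F), by
      have h : Matrix.GeneralLinearGroup.det (x * (bM (Matrix.GeneralLinearGroup.det x) 1 0)⁻¹) = 1 := by
        rw [map_mul, map_inv, det_bM]
        simp
      have h2 := congrArg Units.val h
      rwa [Matrix.GeneralLinearGroup.val_det_apply] at h2⟩, Matrix.GeneralLinearGroup.det x)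
  left_inv z := by
    rcases z with ⟨s, t⟩
    have hdet : Matrix.GeneralLinearGroup.det (toGL s * bM t 1 0) = t := by
      rw [map_mul, det_bM]
      have : Matrix.GeneralLinearGroup.det (toGL s) = 1 := by
        apply Units.ext
        rw [Matrix.GeneralLinearGroup.val_det_apply]
        exact s.2
      rw [this]
      simp
    simp only [hdet, mul_inv_cancel_right]
    rfl
  right_inv x := by
    simp only
    apply Units.ext
    show ((x * (bM (Matrix.GeneralLinearGroup.det x) 1 0)⁻¹ : GL2 F) : Matrix (Fin 2) (Fin 2) F)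
      * (bM (Matrix.GeneralLinearGroup.det x) 1 0 : GL2 F).val = x.val
    rw [← Units.val_mul, inv_mul_cancel_right]

theorem eGL_apply (s : SL(2, F)) (t : Fˣ) : eGL (s, t) = toGL s * bM t 1 0 := rfl

/-- The subgroup `SL₂` of `GL₂`. -/
noncomputable abbrev NS (F : Type*) [Field F] : Subgroup (GL2 F) :=
  (Matrix.GeneralLinearGroup.det : GL2 F →* Fˣ).ker

theorem toGL_mem_NS (s : SL(2, F)) : toGL s ∈ NS F := by
  rw [MonoidHom.mem_ker]
  apply Units.ext
  rw [Matrix.GeneralLinearGroup.val_det_apply]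
  exact s.2

/-- `SL₂` is isomorphic to the kernel of the determinant. -/
noncomputable def eNS : SL(2, F) ≃* NS F where
  toFun s := ⟨toGL s, toGL_mem_NS s⟩
  invFun n := ⟨((n : GL2 F) : Matrix (Fin 2) (Fin 2) F), by
    have h := congrArg Units.val (MonoidHom.mem_ker.1 n.2)
    rwa [Matrix.GeneralLinearGroup.val_det_apply] at h⟩
  left_inv s := rfl
  right_inv n := Subtype.ext (Units.ext rfl)
  map_mul' a b := by
    apply Subtype.ext
    exact map_mul toGL a b

end EGL

section Res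

variable {F : Type*} [Field F] [Fintype F] [DecidableEq F]

/-- The function on `GL₂` giving the induced function. -/
theorem extend_of_conj_diag (α : MulChar F ℂ) (y : GL2 F) (t : Fˣ) :
    (if ent ((bM t 1 0)⁻¹ * y * bM t 1 0) 1 0 = 0 then
        α (ent ((bM t 1 0)⁻¹ * y * bM t 1 0) 0 0) else 0)
      = if ent y 1 0 = 0 then α (ent y 0 0) else 0 := by
  have hmul : (bM t 1 0 : GL2 F) * ((bM t 1 0)⁻¹ * y * bM t 1 0) = y * bM t 1 0 := by group
  generalize (bM t 1 0)⁻¹ * y * bM t 1 0 = z at hmul ⊢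
  have h00 := congrArg (fun M : GL2 F => ent M 0 0) hmul
  have h10 := congrArg (fun M : GL2 F => ent M 1 0) hmul
  simp only [mul_00, mul_10, bM_00, bM_01, bM_10, bM_11, Units.val_one, zero_mul, one_mul, mul_zero,
    zero_add, add_zero] at h00 h10
  have ht : (t : F) ≠ 0 := t.ne_zero
  have h1 : ent z 0 0 = ent y 0 0 := by
    apply mul_left_cancel₀ ht
    linear_combination h00
  have h2 : ent z 1 0 = 0 ↔ ent y 1 0 = 0 := by
    rw [h10, mul_eq_zero]
    simp [ht]
  by_cases hy : ent y 1 0 = 0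
  · rw [if_pos (h2.2 hy), if_pos hy, h1]
  · rw [if_neg (fun h => hy (h2.1 h)), if_neg hy]

theorem ind_res (α : MulChar F ℂ) (h : SL(2, F)) :
    indFun (Bor F) (chi α 1) (toGL h) = indFun (BorS F) (chiS α) h := by
  rw [ind_apply]
  have hterm : ∀ x : GL2 F,
      (if ent (x⁻¹ * toGL h * x) 1 0 = 0 then
        α (ent (x⁻¹ * toGL h * x) 0 0) * (1 : MulChar F ℂ) (ent (x⁻¹ * toGL h * x) 1 1) else 0)
      = if ent (x⁻¹ * toGL h * x) 1 0 = 0 then α (ent (x⁻¹ * toGL h * x) 0 0) else 0 := by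
    intro x
    split_ifs with h0
    · have h1 : ent (x⁻¹ * toGL h * x) 1 1 ≠ 0 := by
        intro h1
        have := det_entries_ne (x⁻¹ * toGL h * x)
        rw [h0, h1] at this
        simp at this
      rw [MulChar.one_apply (isUnit_iff_ne_zero.2 h1), mul_one]
    · rfl
  simp only [hterm]
  rw [← Equiv.sum_comp eGL, Fintype.sum_prod_type]
  have hterm2 : ∀ (s : SL(2, F)) (t : Fˣ),
      (if ent ((eGL (s, t))⁻¹ * toGL h * eGL (s, t)) 1 0 = 0 then
        α (ent ((eGL (s, t))⁻¹ * toGL h * eGL (s, t)) 0 0) else 0)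
      = extendByZero (BorS F) (chiS α) (s⁻¹ * h * s) := by
    intro s t
    rw [extendByZero_chiS, eGL_apply]
    have h1 : (toGL s * bM t 1 0)⁻¹ * toGL h * (toGL s * bM t 1 0)
        = (bM t 1 0)⁻¹ * (toGL (s⁻¹ * h * s)) * bM t 1 0 := by
      rw [map_mul, map_mul, map_inv]
      group
    rw [h1, extend_of_conj_diag]
    rfl
  simp only [hterm2, Finset.sum_const, Finset.card_univ, nsmul_eq_mul, Fintype.card_units]
  unfold indFun
  rw [← Finset.mul_sum]
  have hB : (Nat.card (Bor F) : ℂ) = ((Fintype.card F : ℂ) - 1) * (Nat.card (BorS F) : ℂ) := by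
    rw [card_Bor_complex, card_BorS_complex]
  rw [hB, Nat.cast_sub one_lt_q.le, Nat.cast_one]
  have h1 := q_sub_one_ne_zero (F := F)
  have h2 : (Nat.card (BorS F) : ℂ) ≠ 0 := natCard_ne_zero_complex
  field_simp

/-- The splitting of the principal series of `SL₂` at a character of order two. -/
theorem split_order_two {α : MulChar F ℂ} (hα : α ^ 2 = 1) (hα1 : α ≠ 1) :
    ∃ χ₁ χ₂ : SL(2, F) → ℂ, IsIrrCharacter (SL(2, F)) χ₁ ∧ IsIrrCharacter (SL(2, F)) χ₂ ∧ χ₁ ≠ χ₂ ∧
      indFun (BorS F) (chiS α) = χ₁ + χ₂ ∧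
      χ₁ 1 = (((Fintype.card F + 1) / 2 : ℕ) : ℂ) ∧ χ₂ 1 = (((Fintype.card F + 1) / 2 : ℕ) : ℂ) ∧
      ∃ x : GL2 F, ∀ g h : SL(2, F), toGL h = x * toGL g * x⁻¹ → χ₂ h = χ₁ g := by
  classical
  have hinv : α = α⁻¹ := by
    rw [eq_inv_iff_mul_eq_one, ← sq]
    exact hα
  have hnorm : classInner (indFun (BorS F) (chiS α)) (indFun (BorS F) (chiS α)) = 2 := by
    rw [classInner_indS, if_pos rfl, if_pos hinv]
    norm_num
  obtain ⟨χ₁, χ₂, h₁, h₂, hne, hsum⟩ := exists_irr_add_irr (isCharacter_indS α) hnorm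
  have hθ : IsIrrCharacter (GL2 F) (indFun (Bor F) (chi α 1)) := isIrr_ind hα1
  have hres : (fun n : NS F => indFun (Bor F) (chi α 1) (n : GL2 F))
      = fun n => indFun (BorS F) (chiS α) (eNS.symm n) := by
    funext n
    rw [← ind_res]
    have h : toGL (eNS.symm n) = (n : GL2 F) := Units.ext rfl
    rw [h]
  have hsurj : Function.Surjective (eNS (F := F)).symm.toMonoidHom := (eNS (F := F)).symm.surjective
  have h₁' : IsIrrCharacter (NS F) (fun n => χ₁ (eNS.symm n)) :=
    isIrrCharacter_comp_surjective h₁ (eNS (F := F)).symm.toMonoidHom hsurj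
  have h₂' : IsIrrCharacter (NS F) (fun n => χ₂ (eNS.symm n)) :=
    isIrrCharacter_comp_surjective h₂ (eNS (F := F)).symm.toMonoidHom hsurj
  have hin : ∀ ψ : SL(2, F) → ℂ, classInner (fun n : NS F => indFun (Bor F) (chi α 1) (n : GL2 F))
      (fun n => ψ (eNS.symm n)) = classInner (indFun (BorS F) (chiS α)) ψ := by
    intro ψ
    rw [hres]
    exact Cfsg.Agent.Lib.Char.Clifford.classInner_comp_equiv (eNS (F := F)).symm _ ψ
  have h12 : classInner χ₁ χ₂ = 0 := classInner_irr_of_ne h₁ h₂ hne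
  have h21 : classInner χ₂ χ₁ = 0 := classInner_irr_of_ne h₂ h₁ hne.symm
  have hn₁ : classInner (fun n : NS F => indFun (Bor F) (chi α 1) (n : GL2 F))
      (fun n => χ₁ (eNS.symm n)) ≠ 0 := by
    rw [hin, hsum, classInner_add_left, classInner_irr_self h₁, h21]
    norm_num
  have hn₂ : classInner (fun n : NS F => indFun (Bor F) (chi α 1) (n : GL2 F))
      (fun n => χ₂ (eNS.symm n)) ≠ 0 := by
    rw [hin, hsum, classInner_add_left, classInner_irr_self h₂, h12]
    norm_num
  obtain ⟨x, hx⟩ := Cfsg.Agent.Lib.Char.Clifford.exists_conj_of_classInner_ne_zero (N := NS F) hθ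
    h₁' h₂' hn₁ hn₂
  have key : ∀ g h : SL(2, F), toGL h = x⁻¹ * toGL g * x⁻¹⁻¹ → χ₂ h = χ₁ g := by
    intro g h hgh
    have h1 := congrFun hx (eNS h)
    simp only [MulEquiv.symm_apply_apply, Cfsg.Agent.Lib.Char.Clifford.conjFun_apply] at h1
    rw [h1]
    congr 1
    have h2 : x * ((eNS h : NS F) : GL2 F) * x⁻¹ = toGL g := by
      show x * toGL h * x⁻¹ = toGL g
      rw [hgh]
      group
    have h3 : (⟨x * ((eNS h : NS F) : GL2 F) * x⁻¹, (inferInstance : (NS F).Normal).conj_mem _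
        (eNS h : NS F).2 x⟩ : NS F) = eNS g := Subtype.ext h2
    rw [h3, MulEquiv.symm_apply_apply]
  have hdeg : χ₂ 1 = χ₁ 1 := key 1 1 (by simp)
  have hone : χ₁ 1 + χ₂ 1 = (Fintype.card F : ℂ) + 1 := by
    have h1 := congrFun hsum 1
    rw [← ind_res, map_one, Cfsg.Agent.Lib.Char.GL2Irr.ind_one, Pi.add_apply] at h1
    exact h1.symm
  obtain ⟨n, -, hn⟩ := irr_degree_pos h₁
  have hn2 : n + n = Fintype.card F + 1 := by
    rw [hdeg, hn] at hone
    exact_mod_cast hone
  have hdiv : (Fintype.card F + 1) / 2 = n := by omega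
  refine ⟨χ₁, χ₂, h₁, h₂, hne, hsum, ?_, ?_, x⁻¹, key⟩
  · rw [hdiv, hn]
  · rw [hdiv, hdeg, hn]

end Res

end Cfsg.Agent.Lib.Char.SL2Split
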