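import Mathlib
import Cfsg.Prelude.Def_Characters
import Cfsg.Agent.Lib.Char.GL2Irr
import Cfsg.Agent.Lib.Char.SL2Split
import Cfsg.Agent.Lib.Char.CompleteCor
import Cfsg.Agent.Lib.Linalg.GL2Conj

/-!
# Counting the irreducible characters of `GL₂`

The Steinberg twists `St α = Ind(α, α) - Lin α`; the irreducible characters without linear
constituents on the upper triangular subgroup have degree `q - 1` and there are `q(q-1)/2` of them.
-/

set_option autoImplicit false

namespace Cfsg.Agent.Lib.Char.GL2Count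

open Cfsg Cfsg.Agent.Lib.Char.Induced Cfsg.Agent.Lib.Char.Ortho Cfsg.Agent.Lib.Char.Basic
open Cfsg.Agent.Lib.Char.GL2Principal Cfsg.Agent.Lib.Char.GL2Values Cfsg.Agent.Lib.Char.GL2Irr
open scoped ComplexConjugate

variable {F : Type*} [Field F] [Fintype F] [DecidableEq F]

/-- The twists of the Steinberg character. -/
noncomputable def St (α : MulChar F ℂ) : GL2 F → ℂ := indFun (Bor F) (chi α α) - Lin α

theorem ind_eq_add_St (α : MulChar F ℂ) : indFun (Bor F) (chi α α) = Lin α + St α := by
  unfold St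
  abel

theorem classInner_ind_Lin' (α β γ : MulChar F ℂ) [Decidable (α = γ ∧ β = γ)] :
    classInner (indFun (Bor F) (chi α β)) (Lin γ) = if α = γ ∧ β = γ then 1 else 0 := by
  classical
  letI : Fintype (Bor F) := Fintype.ofFinite _
  rw [frobenius_reciprocity _ _ _ (isClassFunction_of_isCharacter
    (isCharacter_of_isIrrCharacter (isIrr_Lin γ)))]
  have : (fun h : Bor F => Lin γ h) = chi γ γ := funext (Lin_bor γ)
  rw [this, classInner_chi]

theorem isIrr_St (α : MulChar F ℂ) : IsIrrCharacter (GL2 F) (St α) := by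
  classical
  obtain ⟨χ₁, χ₂, h₁, h₂, hne, hsum⟩ :=
    Cfsg.Agent.Lib.Char.SL2Split.exists_irr_add_irr (isCharacter_ind α α) (norm_ind_self α)
  have h := classInner_ind_Lin α
  rw [hsum, classInner_add_left] at h
  by_cases e₁ : χ₁ = Lin α
  · have : St α = χ₂ := by
      unfold St
      rw [hsum, e₁]
      abel
    rw [this]
    exact h₂
  · rw [classInner_irr_of_ne h₁ (isIrr_Lin α) e₁, zero_add] at h
    by_cases e₂ : χ₂ = Lin α
    · have : St α = χ₁ := by
        unfold St
        rw [hsum, e₂]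
        abel
      rw [this]
      exact h₁
    · rw [classInner_irr_of_ne h₂ (isIrr_Lin α) e₂] at h
      norm_num at h

theorem St_one (α : MulChar F ℂ) : St α 1 = (Fintype.card F : ℂ) := by
  unfold St
  rw [Pi.sub_apply, ind_one, Lin_one]
  ring

theorem St_u (α : MulChar F ℂ) : St α uM = 0 := by
  unfold St
  rw [Pi.sub_apply, ind_u, Lin_u]
  ring

theorem Lin_ne_St (α β : MulChar F ℂ) : Lin α ≠ St β := by
  intro h
  have h1 := congrFun h 1
  rw [Lin_one, St_one] at h1
  have hq := one_lt_q (F := F)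
  have : Fintype.card F = 1 := by exact_mod_cast h1.symm
  omega

theorem classInner_ind_St_self (α : MulChar F ℂ) : classInner (indFun (Bor F) (chi α α)) (St α) = 1 := by
  rw [ind_eq_add_St, classInner_add_left, classInner_irr_of_ne (isIrr_Lin α) (isIrr_St α) (Lin_ne_St α α),
    classInner_irr_self (isIrr_St α), zero_add]

theorem St_injective : Function.Injective (St : MulChar F ℂ → GL2 F → ℂ) := by
  classical
  intro α β h
  by_contra hne
  have h1 := classInner_ind_St_self α
  rw [h] at h1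
  unfold St at h1
  rw [classInner_sub_right, classInner_ind, classInner_ind_Lin'] at h1
  simp [hne] at h1

omit [Fintype F] [DecidableEq F] in
theorem Lin_injective : Function.Injective (Lin : MulChar F ℂ → GL2 F → ℂ) := by
  intro α β h
  apply MulChar.ext
  intro a
  have h1 := congrFun h (bM a 1 0)
  simp only [Lin] at h1
  have h2 : ((bM a 1 0 : GL2 F) : Matrix (Fin 2) (Fin 2) F).det = a := by
    rw [Matrix.det_fin_two]
    simp [ent]
  rwa [h2] at h1

/-- The principal series, on unordered pairs of characters. -/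
noncomputable def indS2 : Sym2 (MulChar F ℂ) → GL2 F → ℂ :=
  Sym2.lift ⟨fun α β => indFun (Bor F) (chi α β), fun α β => (ind_eq_iff α β β α).2 (Or.inr ⟨rfl, rfl⟩)⟩

@[simp] theorem indS2_mk (α β : MulChar F ℂ) : indS2 s(α, β) = indFun (Bor F) (chi α β) := rfl

theorem isIrr_indS2 (s : {a : Sym2 (MulChar F ℂ) // ¬ a.IsDiag}) :
    IsIrrCharacter (GL2 F) (indS2 s.1) := by
  rcases s with ⟨s, hs⟩
  induction s using Sym2.ind with
  | _ α β =>
    have : α ≠ β := fun h => hs (by simp [h])
    exact isIrr_ind this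

theorem indS2_injective : Function.Injective (indS2 : Sym2 (MulChar F ℂ) → GL2 F → ℂ) := by
  intro s t
  induction s using Sym2.ind with
  | _ α β =>
    induction t using Sym2.ind with
    | _ α' β' =>
      intro h
      rw [indS2_mk, indS2_mk, ind_eq_iff] at h
      rw [Sym2.eq_iff]
      exact h

theorem not_cusp_of_classInner_ne {χ : GL2 F → ℂ} (α β : MulChar F ℂ)
    (hχ : IsClassFunction (GL2 F) χ)
    (h : classInner (indFun (Bor F) (chi α β)) χ ≠ 0) : ¬ IsCusp χ := by
  intro hc
  apply h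
  rw [classInner_ind_left hχ]
  have : ∀ a d : Fˣ, ∑ c : F, χ (bM a d c) = 0 := hc
  simp [this]

/-- The natural number degree. -/
noncomputable def dN {G : Type*} [Group G] [Finite G] (χ : IrrCharacter G) : ℕ :=
  (irr_degree_pos χ.2).choose

theorem dN_spec {G : Type*} [Group G] [Finite G] (χ : IrrCharacter G) : χ.1 1 = (dN χ : ℂ) :=
  (irr_degree_pos χ.2).choose_spec.2

theorem dN_pos {G : Type*} [Group G] [Finite G] (χ : IrrCharacter G) : 0 < dN χ :=
  (irr_degree_pos χ.2).choose_spec.1

theorem dN_eq {G : Type*} [Group G] [Finite G] (χ : IrrCharacter G) {n : ℕ} (h : χ.1 1 = (n : ℂ)) : dN χ = n := by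
  have := dN_spec χ
  rw [h] at this
  exact_mod_cast this.symm

theorem sum_dN_sq {G : Type*} [Group G] [Fintype G] :
    ∑ χ : IrrCharacter G, dN χ ^ 2 = Nat.card G := by
  have h := Cfsg.Agent.Lib.Char.CompleteCor.sum_sq_degrees (G := G)
  simp only [dN_spec] at h
  exact_mod_cast h

omit [DecidableEq F] in
theorem card_mulChar [Fintype (MulChar F ℂ)] : Fintype.card (MulChar F ℂ) = Fintype.card F - 1 := by
  classical
  rw [← Nat.card_eq_fintype_card, MulChar.card_eq_card_units_of_hasEnoughRootsOfUnity,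
    Nat.card_eq_fintype_card, Fintype.card_units]

section Count

variable (F)

/-- The main count. -/
theorem cusp_count :
    (∀ χ : IrrCharacter (GL2 F), IsCusp χ.1 → dN χ = Fintype.card F - 1) ∧
    Nat.card {χ : IrrCharacter (GL2 F) // IsCusp χ.1}
      = Fintype.card F * (Fintype.card F - 1) / 2 := by
  classical
  letI : Fintype (MulChar F ℂ) := Fintype.ofFinite _
  let linI : MulChar F ℂ → IrrCharacter (GL2 F) := fun α => ⟨Lin α, isIrr_Lin α⟩
  let stI : MulChar F ℂ → IrrCharacter (GL2 F) := fun α => ⟨St α, isIrr_St α⟩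
  let indI : {a : Sym2 (MulChar F ℂ) // ¬ a.IsDiag} → IrrCharacter (GL2 F) :=
    fun s => ⟨indS2 s.1, isIrr_indS2 s⟩
  have hlin : Function.Injective linI := fun a b h =>
    Lin_injective (congrArg Subtype.val h)
  have hst : Function.Injective stI := fun a b h =>
    St_injective (congrArg Subtype.val h)
  have hind : Function.Injective indI := fun a b h =>
    Subtype.ext (indS2_injective (congrArg Subtype.val h))
  set S₁ := (Finset.univ : Finset (MulChar F ℂ)).image linI with hS₁
  set S₂ := (Finset.univ : Finset (MulChar F ℂ)).image stI with hS₂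
  set S₃ := (Finset.univ : Finset {a : Sym2 (MulChar F ℂ) // ¬ a.IsDiag}).image indI with hS₃
  set S₄ := Finset.univ.filter (fun χ : IrrCharacter (GL2 F) => IsCusp χ.1) with hS₄
  have hq := one_lt_q (F := F)
  have hq0 := q_ne_zero (F := F)
  -- degrees
  have hd₁ : ∀ χ ∈ S₁, dN χ = 1 := by
    intro χ hχ
    obtain ⟨α, -, rfl⟩ := Finset.mem_image.1 hχ
    exact dN_eq _ (by simp [linI, Lin_one])
  have hd₂ : ∀ χ ∈ S₂, dN χ = Fintype.card F := by
    intro χ hχ
    obtain ⟨α, -, rfl⟩ := Finset.mem_image.1 hχ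
    exact dN_eq _ (by simp [stI, St_one])
  have hd₃ : ∀ χ ∈ S₃, dN χ = Fintype.card F + 1 := by
    intro χ hχ
    obtain ⟨⟨s, hs⟩, -, rfl⟩ := Finset.mem_image.1 hχ
    induction s using Sym2.ind with
    | _ α β => exact dN_eq _ (by simp [indI, ind_one])
  have hnc : ∀ χ : IrrCharacter (GL2 F), (χ ∈ S₁ ∨ χ ∈ S₂ ∨ χ ∈ S₃) → χ ∉ S₄ := by
    intro χ hχ h4
    have hc : IsCusp χ.1 := (Finset.mem_filter.1 h4).2
    have hcl := isClassFunction_of_isCharacter (isCharacter_of_isIrrCharacter χ.2)
    rcases hχ with h | h | h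
    · obtain ⟨α, -, rfl⟩ := Finset.mem_image.1 h
      refine not_cusp_of_classInner_ne α α hcl ?_ hc
      show classInner _ (Lin α) ≠ 0
      rw [classInner_ind_Lin]
      exact one_ne_zero
    · obtain ⟨α, -, rfl⟩ := Finset.mem_image.1 h
      refine not_cusp_of_classInner_ne α α hcl ?_ hc
      show classInner _ (St α) ≠ 0
      rw [classInner_ind_St_self]
      exact one_ne_zero
    · obtain ⟨⟨s, hs⟩, -, rfl⟩ := Finset.mem_image.1 h
      induction s using Sym2.ind with
      | _ α β =>
        refine not_cusp_of_classInner_ne α β hcl ?_ hc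
        show classInner _ (indFun (Bor F) (chi α β)) ≠ 0
        rw [classInner_ind]
        simp only [and_self, if_true]
        split_ifs
        · norm_num
        · norm_num
  have hdisj12 : Disjoint S₁ S₂ := Finset.disjoint_left.2 fun χ h1 h2 => by
    have := hd₁ χ h1
    have := hd₂ χ h2
    omega
  have hdisj13 : Disjoint S₁ S₃ := Finset.disjoint_left.2 fun χ h1 h2 => by
    have := hd₁ χ h1
    have := hd₃ χ h2
    omega
  have hdisj23 : Disjoint S₂ S₃ := Finset.disjoint_left.2 fun χ h1 h2 => by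
    have := hd₂ χ h1
    have := hd₃ χ h2
    omega
  have hdisj14 : Disjoint S₁ S₄ := Finset.disjoint_left.2 fun χ h1 h2 => hnc χ (Or.inl h1) h2
  have hdisj24 : Disjoint S₂ S₄ := Finset.disjoint_left.2 fun χ h1 h2 => hnc χ (Or.inr (Or.inl h1)) h2
  have hdisj34 : Disjoint S₃ S₄ := Finset.disjoint_left.2 fun χ h1 h2 => hnc χ (Or.inr (Or.inr h1)) h2
  have huniv : (Finset.univ : Finset (IrrCharacter (GL2 F))) = S₁ ∪ (S₂ ∪ (S₃ ∪ S₄)) := by
    symm
    rw [Finset.eq_univ_iff_forall]
    rintro ⟨χ, hχ⟩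
    simp only [Finset.mem_union]
    rcases irr_cases hχ with ⟨α, β, hab, rfl⟩ | ⟨α, rfl⟩ | ⟨α, hα⟩ | hc
    · right; right; left
      refine Finset.mem_image.2 ⟨⟨s(α, β), by simpa using hab⟩, Finset.mem_univ _, rfl⟩
    · left
      exact Finset.mem_image.2 ⟨α, Finset.mem_univ _, rfl⟩
    · right; left
      refine Finset.mem_image.2 ⟨α, Finset.mem_univ _, Subtype.ext ?_⟩
      show St α = χ
      unfold St
      rw [hα]
      abel
    · right; right; right
      exact Finset.mem_filter.2 ⟨Finset.mem_univ _, hc⟩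
  have hcard₁ : S₁.card = Fintype.card F - 1 := by
    rw [hS₁, Finset.card_image_of_injective _ hlin, Finset.card_univ, card_mulChar]
  have hcard₂ : S₂.card = Fintype.card F - 1 := by
    rw [hS₂, Finset.card_image_of_injective _ hst, Finset.card_univ, card_mulChar]
  have hcard₃ : S₃.card = (Fintype.card F - 1).choose 2 := by
    rw [hS₃, Finset.card_image_of_injective _ hind, Finset.card_univ, Sym2.card_subtype_not_diag,
      card_mulChar]
  -- the two counting equations
  have hN : Nat.card (IrrCharacter (GL2 F)) = Fintype.card F ^ 2 - 1 := by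
    rw [Cfsg.Agent.Lib.Char.CompleteCor.card_irr_eq_card_conjClasses,
      Cfsg.Agent.Lib.Linalg.GL2Conj.card_conjClasses_GL2]
  have hcardEq : S₁.card + (S₂.card + (S₃.card + S₄.card)) = Fintype.card F ^ 2 - 1 := by
    rw [← hN, Nat.card_eq_fintype_card, ← Finset.card_univ, huniv,
      Finset.card_union_of_disjoint (by
        rw [Finset.disjoint_union_right, Finset.disjoint_union_right]
        exact ⟨hdisj12, hdisj13, hdisj14⟩),
      Finset.card_union_of_disjoint (by
        rw [Finset.disjoint_union_right]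
        exact ⟨hdisj23, hdisj24⟩),
      Finset.card_union_of_disjoint hdisj34]
  have hsumEq : ∑ χ ∈ S₁, dN χ ^ 2 + (∑ χ ∈ S₂, dN χ ^ 2 + (∑ χ ∈ S₃, dN χ ^ 2 + ∑ χ ∈ S₄, dN χ ^ 2))
      = Nat.card (GL2 F) := by
    rw [← sum_dN_sq, huniv,
      Finset.sum_union (by
        rw [Finset.disjoint_union_right, Finset.disjoint_union_right]
        exact ⟨hdisj12, hdisj13, hdisj14⟩),
      Finset.sum_union (by
        rw [Finset.disjoint_union_right]
        exact ⟨hdisj23, hdisj24⟩),
      Finset.sum_union hdisj34]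
  have hs₁ : ∑ χ ∈ S₁, dN χ ^ 2 = S₁.card := by
    rw [Finset.sum_congr rfl (fun χ hχ => by rw [hd₁ χ hχ])]
    simp
  have hs₂ : ∑ χ ∈ S₂, dN χ ^ 2 = S₂.card * Fintype.card F ^ 2 := by
    rw [Finset.sum_congr rfl (fun χ hχ => by rw [hd₂ χ hχ])]
    simp
  have hs₃ : ∑ χ ∈ S₃, dN χ ^ 2 = S₃.card * (Fintype.card F + 1) ^ 2 := by
    rw [Finset.sum_congr rfl (fun χ hχ => by rw [hd₃ χ hχ])]
    simp
  rw [hs₁, hs₂, hs₃, card_GL2, card_Bor, hcard₁, hcard₂, hcard₃] at hsumEq
  rw [hcard₁, hcard₂, hcard₃] at hcardEq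
  obtain ⟨k, hk⟩ : ∃ k, Fintype.card F = k + 1 := ⟨Fintype.card F - 1, by omega⟩
  have hk1 : 1 ≤ k := by omega
  rw [hk] at hsumEq hcardEq ⊢
  simp only [Nat.add_sub_cancel] at hsumEq hcardEq ⊢
  have hC : 2 * k.choose 2 = k * (k - 1) := by
    rw [Nat.choose_two_right]
    exact Nat.two_mul_div_two_of_even (Nat.even_mul_pred_self k)
  obtain ⟨j, rfl⟩ : ∃ j, k = j + 1 := ⟨k - 1, by omega⟩
  simp only [Nat.add_sub_cancel] at hC
  set C := (j + 1).choose 2 with hCdef
  have hcardEq' : (j + 1) + ((j + 1) + (C + S₄.card)) = (j + 1) ^ 2 + 2 * (j + 1) := by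
    have : (j + 1 + 1) ^ 2 - 1 = (j + 1) ^ 2 + 2 * (j + 1) := by
      have : (j + 1 + 1) ^ 2 = (j + 1) ^ 2 + 2 * (j + 1) + 1 := by ring
      omega
    rw [← this]
    exact hcardEq
  have hN4 : S₄.card + C = (j + 1) ^ 2 := by
    nlinarith
  have hle : ∀ χ ∈ S₄, (j + 1) ^ 2 ≤ dN χ ^ 2 := by
    intro χ hχ
    have hc : IsCusp χ.1 := (Finset.mem_filter.1 hχ).2
    have hdvd := cusp_dvd χ.2 hc (dN_spec χ)
    rw [hk] at hdvd
    simp only [Nat.add_sub_cancel] at hdvd
    exact Nat.pow_le_pow_left (Nat.le_of_dvd (dN_pos χ) hdvd) 2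
  have hsumval : ∑ χ ∈ S₄, dN χ ^ 2 = ∑ _χ ∈ S₄, (j + 1) ^ 2 := by
    rw [Finset.sum_const, smul_eq_mul]
    have h1 : ((∑ χ ∈ S₄, dN χ ^ 2 : ℕ) : ℤ) = ((S₄.card * (j + 1) ^ 2 : ℕ) : ℤ) := by
      push_cast
      have h2 : (((j + 1) : ℕ) : ℤ) = (j : ℤ) + 1 := by push_cast; ring
      have e1 := hsumEq
      zify at e1
      have e2 := hN4
      zify at e2
      have e3 := hC
      zify at e3
      have e4 : (S₄.card : ℤ) = ((j : ℤ) + 1) ^ 2 - (C : ℤ) := by linarith
      rw [e4]
      linear_combination e1 - (2 * ((j : ℤ) + 1) + 2 : ℤ) * e3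
    exact_mod_cast h1
  have heq := (Finset.sum_eq_sum_iff_of_le hle).1 hsumval.symm
  constructor
  · intro χ hχ
    have h := heq χ (Finset.mem_filter.2 ⟨Finset.mem_univ _, hχ⟩)
    exact (Nat.pow_left_injective (n := 2) (by norm_num) h).symm
  · have h2 : (j + 1 + 1) * (j + 1) = 2 * S₄.card := by
      nlinarith
    rw [Nat.subtype_card S₄ (fun x => by simp [hS₄]), h2]
    simp

end Count

/-- The irreducible characters without linear constituents have degree `q - 1`. -/
theorem cusp_degree {χ : GL2 F → ℂ} (hχ : IsIrrCharacter (GL2 F) χ) (hc : IsCusp χ) :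
    χ 1 = (Fintype.card F : ℂ) - 1 := by
  have h := (cusp_count F).1 ⟨χ, hχ⟩ hc
  have h2 := dN_spec (⟨χ, hχ⟩ : IrrCharacter (GL2 F))
  rw [h, Nat.cast_sub one_lt_q.le] at h2
  simpa using h2

omit [DecidableEq F] in
theorem norm_mulChar (α : MulChar F ℂ) {x : F} (hx : x ≠ 0) : ‖α x‖ = 1 := by
  have hq := one_lt_q (F := F)
  have h1 : (α x) ^ (Fintype.card F - 1) = 1 := by
    rw [← map_pow, FiniteField.pow_card_sub_one_eq_one x hx, map_one]
  exact Complex.norm_eq_one_of_pow_eq_one h1 (by omega)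

/-- The degrees and multiplicities of the irreducible characters of `GL₂`. -/
theorem irr_degree_cases {χ : GL2 F → ℂ} (hχ : IsIrrCharacter (GL2 F) χ) :
    χ 1 = 1 ∨ χ 1 = (Fintype.card F : ℂ) - 1 ∨ χ 1 = (Fintype.card F : ℂ) ∨
      χ 1 = (Fintype.card F : ℂ) + 1 := by
  rcases irr_cases hχ with ⟨α, β, hab, rfl⟩ | ⟨α, rfl⟩ | ⟨α, hα⟩ | hc
  · exact Or.inr (Or.inr (Or.inr (ind_one α β)))
  · exact Or.inl (Lin_one α)
  · refine Or.inr (Or.inr (Or.inl ?_))
    have := congrFun hα 1
    rw [ind_one, Pi.add_apply, Lin_one] at this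
    linear_combination - this
  · exact Or.inr (Or.inl (cusp_degree hχ hc))

theorem degree_counts (hq : 3 ≤ Fintype.card F) :
    Nat.card {χ : IrrCharacter (GL2 F) // (χ : GL2 F → ℂ) 1 = 1} = Fintype.card F - 1 ∧
    Nat.card {χ : IrrCharacter (GL2 F) // (χ : GL2 F → ℂ) 1 = (Fintype.card F : ℂ)} = Fintype.card F - 1 ∧
    Nat.card {χ : IrrCharacter (GL2 F) // (χ : GL2 F → ℂ) 1 = (Fintype.card F : ℂ) + 1}
      = (Fintype.card F - 1) * (Fintype.card F - 2) / 2 ∧
    Nat.card {χ : IrrCharacter (GL2 F) // (χ : GL2 F → ℂ) 1 = (Fintype.card F : ℂ) - 1}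
      = Fintype.card F * (Fintype.card F - 1) / 2 := by
  classical
  letI : Fintype (MulChar F ℂ) := Fintype.ofFinite _
  have hq0 := q_ne_zero (F := F)
  have hqc : ∀ n : ℕ, (Fintype.card F : ℂ) = n → Fintype.card F = n := fun n h => by exact_mod_cast h
  refine ⟨?_, ?_, ?_, ?_⟩
  · have hc : Nat.card (MulChar F ℂ) = Fintype.card F - 1 := by
      rw [Nat.card_eq_fintype_card, card_mulChar]
    rw [← hc]
    symm
    refine Nat.card_eq_of_bijective (fun α => ⟨⟨Lin α, isIrr_Lin α⟩, Lin_one α⟩) ⟨?_, ?_⟩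
    · intro a b h
      exact Lin_injective (congrArg (fun x => x.1.1) h)
    · rintro ⟨⟨χ, hχ⟩, h1⟩
      simp only at h1
      rcases irr_cases hχ with ⟨α, β, hab, rfl⟩ | ⟨α, rfl⟩ | ⟨α, hα⟩ | hc
      · rw [ind_one] at h1
        exact absurd (by linear_combination h1) hq0
      · exact ⟨α, rfl⟩
      · have := congrFun hα 1
        rw [ind_one, Pi.add_apply, Lin_one, h1] at this
        have h2 := hqc 1 (by push_cast; linear_combination this)
        omega
      · have h2 := cusp_degree hχ hc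
        rw [h1] at h2
        have h3 := hqc 2 (by push_cast; linear_combination - h2)
        omega
  · have hc : Nat.card (MulChar F ℂ) = Fintype.card F - 1 := by
      rw [Nat.card_eq_fintype_card, card_mulChar]
    rw [← hc]
    symm
    refine Nat.card_eq_of_bijective (fun α => ⟨⟨St α, isIrr_St α⟩, St_one α⟩) ⟨?_, ?_⟩
    · intro a b h
      exact St_injective (congrArg (fun x => x.1.1) h)
    · rintro ⟨⟨χ, hχ⟩, h1⟩
      simp only at h1
      rcases irr_cases hχ with ⟨α, β, hab, rfl⟩ | ⟨α, rfl⟩ | ⟨α, hα⟩ | hc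
      · rw [ind_one] at h1
        have : (1 : ℂ) = 0 := by linear_combination h1
        norm_num at this
      · rw [Lin_one] at h1
        have h3 := hqc 1 (by push_cast; linear_combination - h1)
        omega
      · refine ⟨α, Subtype.ext (Subtype.ext ?_)⟩
        show St α = χ
        unfold St
        rw [hα]
        abel
      · have h2 := cusp_degree hχ hc
        rw [h1] at h2
        have : (1 : ℂ) = 0 := by linear_combination h2
        norm_num at this
  · have h1 : (Fintype.card F - 1) * (Fintype.card F - 2) / 2 = (Fintype.card F - 1).choose 2 := by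
      rw [Nat.choose_two_right]
      congr 2
    have hc : Nat.card {a : Sym2 (MulChar F ℂ) // ¬ a.IsDiag} = (Fintype.card F - 1).choose 2 := by
      rw [Nat.card_eq_fintype_card, Sym2.card_subtype_not_diag, card_mulChar]
    rw [h1, ← hc]
    symm
    refine Nat.card_eq_of_bijective (fun s => ⟨⟨indS2 s.1, isIrr_indS2 s⟩, ?_⟩) ⟨?_, ?_⟩
    · rcases s with ⟨s, hs⟩
      induction s using Sym2.ind with
      | _ α β => exact ind_one α β
    · intro a b h
      exact Subtype.ext (indS2_injective (congrArg (fun x => x.1.1) h))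
    · rintro ⟨⟨χ, hχ⟩, h1⟩
      simp only at h1
      rcases irr_cases hχ with ⟨α, β, hab, rfl⟩ | ⟨α, rfl⟩ | ⟨α, hα⟩ | hc
      · exact ⟨⟨s(α, β), by simpa using hab⟩, rfl⟩
      · rw [Lin_one] at h1
        exact absurd (by linear_combination - h1) hq0
      · have := congrFun hα 1
        rw [ind_one, Pi.add_apply, Lin_one, h1] at this
        have h5 : (1 : ℂ) = 0 := by linear_combination - this
        norm_num at h5
      · have h2 := cusp_degree hχ hc
        rw [h1] at h2
        have h5 : (2 : ℂ) = 0 := by linear_combination h2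
        norm_num at h5
  · rw [← (cusp_count F).2]
    refine Nat.card_congr (Equiv.subtypeEquivRight ?_)
    rintro ⟨χ, hχ⟩
    constructor
    · intro h1
      simp only at h1 ⊢
      rcases irr_cases hχ with ⟨α, β, hab, rfl⟩ | ⟨α, rfl⟩ | ⟨α, hα⟩ | hc
      · rw [ind_one] at h1
        have h5 : (2 : ℂ) = 0 := by linear_combination h1
        norm_num at h5
      · rw [Lin_one] at h1
        have h3 := hqc 2 (by push_cast; linear_combination - h1)
        omega
      · have := congrFun hα 1
        rw [ind_one, Pi.add_apply, Lin_one, h1] at this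
        have h5 : (1 : ℂ) = 0 := by linear_combination this
        norm_num at h5
      · exact hc
    · exact fun hc => cusp_degree hχ hc

end Cfsg.Agent.Lib.Char.GL2Count
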