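import Mathlib
import Cfsg.Prelude.Def_Characters
import Cfsg.Agent.Lib.Char.GL2Count
import Cfsg.Agent.Lib.Char.GoingDown

/-!
# Restriction of the irreducible characters of `GL₂` to `SL₂`

`⟨Res θ, Res θ'⟩ = #{μ : θ · (μ ∘ det) = θ'}`; every irreducible character of `SL₂` is a constituent
of such a restriction, and the stabilizer of `θ` under twists consists of characters with `μ² = 1`.
-/

set_option autoImplicit false

namespace Cfsg.Agent.Lib.Char.SL2Res

open Cfsg Cfsg.Agent.Lib.Char.Induced Cfsg.Agent.Lib.Char.Ortho Cfsg.Agent.Lib.Char.Basic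
open Cfsg.Agent.Lib.Char.GL2Principal Cfsg.Agent.Lib.Char.GL2Values Cfsg.Agent.Lib.Char.GL2Irr
open Cfsg.Agent.Lib.Char.GL2Count Cfsg.Agent.Lib.Char.SL2Principal Cfsg.Agent.Lib.Char.SL2Split
open Matrix.SpecialLinearGroup (toGL)
open scoped ComplexConjugate MatrixGroups

section General

universe u

variable {G : Type u} [Group G] [Fintype G]

/-- The splitting of a character of norm two with a given irreducible constituent. -/
theorem split_of_norm_two {φ θ : G → ℂ} (hφ : IsCharacter G φ) (h : classInner φ φ = 2)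
    (hθ : IsIrrCharacter G θ) (hne : classInner φ θ ≠ 0) :
    ∃ Ξ : G → ℂ, IsIrrCharacter G Ξ ∧ θ ≠ Ξ ∧ φ = θ + Ξ := by
  obtain ⟨Ξ, hΞ, rfl⟩ := Cfsg.Agent.Lib.Char.Clifford.exists_char_add hφ hθ hne
  have hθc := isCharacter_of_isIrrCharacter hθ
  obtain ⟨k, hk⟩ := exists_nat_classInner_of_isCharacter hΞ hθc
  obtain ⟨m, hm⟩ := exists_nat_classInner_of_isCharacter hΞ hΞ
  have hk' : classInner θ Ξ = k := by
    rw [← classInner_conj_symm, hk]
    simp
  have h3 : (1 : ℂ) + 2 * (k : ℂ) + (m : ℂ) = 2 := by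
    have h5 := h
    rw [classInner_add_left, classInner_add_right, classInner_add_right, hk, hk', hm,
      classInner_irr_self hθ] at h5
    linear_combination h5
  have h4 : 1 + 2 * k + m = 2 := by exact_mod_cast h3
  have hk0 : k = 0 := by omega
  have hm1 : m = 1 := by omega
  subst hk0 hm1
  have hΞi : IsIrrCharacter G Ξ := isIrrCharacter_of_classInner_self_eq_one hΞ (by rw [hm]; simp)
  refine ⟨Ξ, hΞi, ?_, rfl⟩
  intro hEq
  rw [← hEq, classInner_irr_self hθ] at hk
  norm_num at hk

end General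

section Twist

variable {F : Type*} [Field F] [Fintype F] [DecidableEq F]

/-- The twist of a function on `GL₂` by the linear character `μ ∘ det`. -/
noncomputable def twist (θ : GL2 F → ℂ) (μ : MulChar F ℂ) : GL2 F → ℂ := θ * Lin μ

omit [Fintype F] [DecidableEq F] in
@[simp] theorem twist_apply (θ : GL2 F → ℂ) (μ : MulChar F ℂ) (g : GL2 F) :
    twist θ μ g = θ g * μ (g : Matrix (Fin 2) (Fin 2) F).det := rfl

omit [DecidableEq F] in
theorem det_ne (g : GL2 F) : (g : Matrix (Fin 2) (Fin 2) F).det ≠ 0 := by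
  rw [← det_entries]
  exact det_entries_ne g

theorem isIrr_twist {θ : GL2 F → ℂ} (hθ : IsIrrCharacter (GL2 F) θ) (μ : MulChar F ℂ) :
    IsIrrCharacter (GL2 F) (twist θ μ) := by
  refine Cfsg.Agent.Lib.Char.GoingDown.isIrr_mul_of_norm_one hθ
    (isCharacter_of_isIrrCharacter (isIrr_Lin μ)) fun g => ?_
  rw [Complex.conj_mul']
  have : ‖Lin μ g‖ = 1 := norm_mulChar μ (det_ne g)
  rw [this]
  simp

omit [DecidableEq F] [Fintype F] in
theorem Lin_toGL (μ : MulChar F ℂ) (s : SL(2, F)) : Lin μ (toGL s) = 1 := by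
  simp only [Lin]
  rw [Matrix.SpecialLinearGroup.coe_GL_coe_matrix, s.2, map_one]

/-- Twisting a principal series character. -/
theorem ind_twist (α β μ : MulChar F ℂ) :
    twist (indFun (Bor F) (chi α β)) μ = indFun (Bor F) (chi (α * μ) (β * μ)) := by
  funext g
  rw [twist_apply, ind_apply, ind_apply, mul_assoc, Finset.sum_mul]
  congr 1
  refine Finset.sum_congr rfl fun x _ => ?_
  split_ifs with h
  · have hdet : μ (g : Matrix (Fin 2) (Fin 2) F).det
        = μ (ent (x⁻¹ * g * x) 0 0) * μ (ent (x⁻¹ * g * x) 1 1) := by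
      have h1 : ent (x⁻¹ * g * x) 0 0 * ent (x⁻¹ * g * x) 1 1
          = (g : Matrix (Fin 2) (Fin 2) F).det := by
        have h2 := det_entries (x⁻¹ * g * x)
        rw [h, mul_zero, sub_zero] at h2
        rw [h2]
        have h3 : Matrix.GeneralLinearGroup.det (x⁻¹ * g * x) = Matrix.GeneralLinearGroup.det g := by
          rw [map_mul, map_mul, map_inv]
          simp [mul_comm]
        have h4 := congrArg Units.val h3
        rwa [Matrix.GeneralLinearGroup.val_det_apply, Matrix.GeneralLinearGroup.val_det_apply] at h4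
      rw [← h1, map_mul]
    rw [hdet, MulChar.mul_apply, MulChar.mul_apply]
    ring
  · simp

/-- Twisting the Steinberg characters. -/
theorem St_twist (α μ : MulChar F ℂ) : twist (St α) μ = St (α * μ) := by
  have h1 : twist (indFun (Bor F) (chi α α)) μ = twist (Lin α + St α) μ := by
    rw [← ind_eq_add_St]
  rw [ind_twist, ind_eq_add_St] at h1
  have h2 : twist (Lin α + St α) μ = Lin (α * μ) + twist (St α) μ := by
    funext g
    simp only [twist_apply, Pi.add_apply, Lin, MulChar.mul_apply]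
    ring
  rw [h2] at h1
  exact (add_left_cancel h1).symm

/-- Every element of `GL₂` with determinant one comes from `SL₂`. -/
theorem sum_det_one (f : GL2 F → ℂ) :
    ∑ g : GL2 F, (if Matrix.GeneralLinearGroup.det g = 1 then f g else 0)
      = ∑ s : SL(2, F), f (toGL s) := by
  rw [← Equiv.sum_comp eGL, Fintype.sum_prod_type]
  refine Finset.sum_congr rfl fun s _ => ?_
  rw [Finset.sum_eq_single 1]
  · have h1 : Matrix.GeneralLinearGroup.det (eGL (s, (1 : Fˣ))) = 1 := by
      rw [eGL_apply, map_mul, det_bM]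
      have : Matrix.GeneralLinearGroup.det (toGL s) = 1 := by
        apply Units.ext
        rw [Matrix.GeneralLinearGroup.val_det_apply]
        exact s.2
      rw [this]
      simp
    rw [if_pos h1, eGL_apply, Cfsg.Agent.Lib.Char.GL2Irr.bM_one_one_zero, mul_one]
  · intro t _ ht
    rw [if_neg]
    rw [eGL_apply, map_mul, det_bM]
    have : Matrix.GeneralLinearGroup.det (toGL s) = 1 := by
      apply Units.ext
      rw [Matrix.GeneralLinearGroup.val_det_apply]
      exact s.2
    rw [this]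
    simpa using ht
  · simp

theorem card_GL2_eq : (Nat.card (GL2 F) : ℂ)
    = ((Fintype.card F : ℂ) - 1) * (Nat.card (SL(2, F)) : ℂ) := by
  rw [card_GL2_complex, card_SL2_complex, card_Bor_complex, card_BorS_complex]
  ring

/-- The inner product of two restrictions to `SL₂`. -/
theorem classInner_res_eq [Fintype (MulChar F ℂ)] (θ θ' : GL2 F → ℂ) :
    classInner (fun s : SL(2, F) => θ (toGL s)) (fun s => θ' (toGL s))
      = ∑ μ : MulChar F ℂ, classInner (twist θ μ) θ' := by
  classical
  simp only [classInner_def, twist_apply]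
  rw [← Finset.mul_sum]
  have h1 : ∑ μ : MulChar F ℂ, ∑ g : GL2 F, θ g * μ (g : Matrix (Fin 2) (Fin 2) F).det * conj (θ' g)
      = (Fintype.card (MulChar F ℂ) : ℂ) * ∑ g : GL2 F,
        (if Matrix.GeneralLinearGroup.det g = 1 then θ g * conj (θ' g) else 0) := by
    rw [Finset.sum_comm, Finset.mul_sum]
    refine Finset.sum_congr rfl fun g _ => ?_
    have h2 : ∀ μ : MulChar F ℂ, θ g * μ (g : Matrix (Fin 2) (Fin 2) F).det * conj (θ' g)
        = θ g * conj (θ' g) * μ ((Matrix.GeneralLinearGroup.det g : Fˣ) : F) := by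
      intro μ
      rw [Matrix.GeneralLinearGroup.val_det_apply]
      ring
    simp only [h2]
    rw [← Finset.mul_sum]
    split_ifs with h
    · rw [h]
      simp
      ring
    · rw [sum_mulChar_apply _ h]
      simp
  rw [h1, sum_det_one, card_GL2_eq]
  have hX : (Fintype.card (MulChar F ℂ) : ℂ) = (Fintype.card F : ℂ) - 1 := by
    rw [card_mulChar, Nat.cast_sub one_lt_q.le]
    simp
  rw [hX]
  have h3 := q_sub_one_ne_zero (F := F)
  have h4 : (Nat.card (SL(2, F)) : ℂ) ≠ 0 := natCard_ne_zero_complex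
  field_simp

/-- The number of twists carrying `θ` to `θ'` is the inner product of the restrictions. -/
theorem classInner_res_irr [Fintype (MulChar F ℂ)] {θ θ' : GL2 F → ℂ}
    (hθ : IsIrrCharacter (GL2 F) θ) (hθ' : IsIrrCharacter (GL2 F) θ')
    [DecidablePred fun μ : MulChar F ℂ => twist θ μ = θ'] :
    classInner (fun s : SL(2, F) => θ (toGL s)) (fun s => θ' (toGL s))
      = ((Finset.univ.filter fun μ : MulChar F ℂ => twist θ μ = θ').card : ℂ) := by
  classical
  rw [classInner_res_eq, Finset.card_eq_sum_ones, Nat.cast_sum, Finset.sum_filter]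
  refine Finset.sum_congr rfl fun μ _ => ?_
  rw [classInner_irr (isIrr_twist hθ μ) hθ']
  by_cases h : twist θ μ = θ' <;> simp [h]

/-- The twists fixing an irreducible character have `μ² = 1`. -/
theorem sq_eq_one_of_twist_eq {θ : GL2 F → ℂ} (hθ : IsIrrCharacter (GL2 F) θ) {μ : MulChar F ℂ}
    (h : twist θ μ = θ) : μ ^ 2 = 1 := by
  apply MulChar.ext
  intro a
  have h1 := congrFun h (bM a a 0)
  rw [twist_apply] at h1
  have h2 : ‖θ (bM a a 0)‖ = ‖θ 1‖ := norm_of_central hθ _ (fun g => scalar_central a g)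
  have h3 : θ (bM a a 0) ≠ 0 := by
    intro h0
    rw [h0, norm_zero] at h2
    exact irr_apply_one_ne_zero hθ (norm_eq_zero.1 h2.symm)
  have h4 : μ ((bM a a 0 : GL2 F) : Matrix (Fin 2) (Fin 2) F).det = 1 :=
    mul_left_cancel₀ h3 (by rw [h1, mul_one])
  have h5 : ((bM a a 0 : GL2 F) : Matrix (Fin 2) (Fin 2) F).det = (a : F) * a := by
    rw [Matrix.det_fin_two]
    simp [ent]
  rw [h5, map_mul] at h4
  rw [sq, MulChar.mul_apply, h4]
  simp

/-- The characters with `μ² = 1`. -/
theorem card_sq_eq_one_le [Fintype (MulChar F ℂ)] [DecidablePred fun μ : MulChar F ℂ => μ ^ 2 = 1] :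
    (Finset.univ.filter fun μ : MulChar F ℂ => μ ^ 2 = 1).card ≤ 2 := by
  classical
  obtain ⟨e⟩ := MulChar.mulEquiv_units F ℂ
  have hcyc : IsCyclic (MulChar F ℂ) := isCyclic_of_surjective e.symm e.symm.surjective
  convert IsCyclic.card_pow_eq_one_le (α := MulChar F ℂ) (n := 2) (by norm_num)

/-- In characteristic two there is no character of order two. -/
theorem eq_one_of_sq_eq_one_of_odd (hq : Odd (Fintype.card F - 1)) {μ : MulChar F ℂ} (h : μ ^ 2 = 1) :
    μ = 1 := by
  classical
  letI : Fintype (MulChar F ℂ) := Fintype.ofFinite _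
  have h1 : orderOf μ ∣ 2 := orderOf_dvd_of_pow_eq_one h
  have h2 : orderOf μ ∣ Fintype.card (MulChar F ℂ) := orderOf_dvd_card
  rw [card_mulChar] at h2
  have h3 : orderOf μ ∣ Nat.gcd 2 (Fintype.card F - 1) := Nat.dvd_gcd h1 h2
  have h4 : Nat.gcd 2 (Fintype.card F - 1) = 1 := (Nat.coprime_two_left).2 hq
  rw [h4, Nat.dvd_one, orderOf_eq_one_iff] at h3
  exact h3

/-- The norm of the restriction of an irreducible character is `1` or `2`. -/
theorem res_norm {θ : GL2 F → ℂ} (hθ : IsIrrCharacter (GL2 F) θ) :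
    classInner (fun s : SL(2, F) => θ (toGL s)) (fun s => θ (toGL s)) = 1 ∨
    classInner (fun s : SL(2, F) => θ (toGL s)) (fun s => θ (toGL s)) = 2 := by
  classical
  letI : Fintype (MulChar F ℂ) := Fintype.ofFinite _
  rw [classInner_res_irr hθ hθ]
  have h1 : (Finset.univ.filter fun μ : MulChar F ℂ => twist θ μ = θ).card ≤ 2 :=
    le_trans (Finset.card_le_card fun μ hμ => by
      simp only [Finset.mem_filter, Finset.mem_univ, true_and] at hμ ⊢
      exact sq_eq_one_of_twist_eq hθ hμ) card_sq_eq_one_le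
  have h2 : 1 ≤ (Finset.univ.filter fun μ : MulChar F ℂ => twist θ μ = θ).card := by
    apply Finset.card_pos.2
    refine ⟨1, ?_⟩
    simp only [Finset.mem_filter, Finset.mem_univ, true_and]
    funext g
    rw [twist_apply]
    have := MulChar.one_apply (R' := ℂ) (isUnit_iff_ne_zero.2 (det_ne g))
    rw [this, mul_one]
  interval_cases h : (Finset.univ.filter fun μ : MulChar F ℂ => twist θ μ = θ).card
  · left; simp
  · right; simp

/-- Every irreducible character of `SL₂` is a constituent of the restriction of an irreducible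
character of `GL₂`. -/
theorem exists_theta {χ : SL(2, F) → ℂ} (hχ : IsIrrCharacter (SL(2, F)) χ) :
    ∃ θ : GL2 F → ℂ, IsIrrCharacter (GL2 F) θ ∧
      classInner (fun s : SL(2, F) => θ (toGL s)) χ ≠ 0 := by
  classical
  letI : Fintype (NS F) := Fintype.ofFinite _
  have h' : IsIrrCharacter (NS F) (fun n => χ (eNS.symm n)) :=
    isIrrCharacter_comp_surjective hχ (eNS (F := F)).symm.toMonoidHom (eNS (F := F)).symm.surjective
  have hI : IsCharacter (GL2 F) (indFun (NS F) (fun n => χ (eNS.symm n))) :=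
    Cfsg.Agent.Lib.Char.IndRep.isCharacter_indFun _ (isCharacter_of_isIrrCharacter h')
  have h1 : indFun (NS F) (fun n => χ (eNS.symm n)) ≠ 0 := by
    intro h0
    have h2 := congrFun h0 1
    rw [Pi.zero_apply] at h2
    unfold indFun at h2
    have h3 : ∀ x : GL2 F, extendByZero (NS F) (fun n => χ (eNS.symm n)) (x⁻¹ * 1 * x) = χ 1 := by
      intro x
      have h4 : x⁻¹ * 1 * x = ((1 : NS F) : GL2 F) := by simp
      rw [h4, extendByZero_coe, map_one]
    simp only [h3, Finset.sum_const, Finset.card_univ, nsmul_eq_mul] at h2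
    have h5 : (Nat.card (NS F) : ℂ)⁻¹ ≠ 0 := inv_ne_zero natCard_ne_zero_complex
    have h6 : (Fintype.card (GL2 F) : ℂ) ≠ 0 := by
      rw [← Nat.card_eq_fintype_card]
      exact natCard_ne_zero_complex
    exact mul_ne_zero h5 (mul_ne_zero h6 (irr_apply_one_ne_zero hχ)) h2
  obtain ⟨θ, hθ, hne⟩ : ∃ θ : GL2 F → ℂ, IsIrrCharacter (GL2 F) θ ∧
      classInner (indFun (NS F) (fun n => χ (eNS.symm n))) θ ≠ 0 := by
    by_contra hcon
    push Not at hcon
    apply h1
    rw [decomp_eq_sum_classInner hI]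
    refine Finset.sum_eq_zero fun ψ _ => ?_
    rw [hcon ψ ψ.2, zero_smul]
  refine ⟨θ, hθ, ?_⟩
  have hcl := isClassFunction_of_isCharacter (isCharacter_of_isIrrCharacter hθ)
  rw [frobenius_reciprocity _ _ _ hcl] at hne
  rw [← Cfsg.Agent.Lib.Char.Clifford.classInner_comp_equiv (eNS (F := F)) _ _] at hne
  simp only [MulEquiv.symm_apply_apply] at hne
  have h7 : classInner χ (fun s : SL(2, F) => θ (toGL s)) ≠ 0 := hne
  intro h8
  apply h7
  rw [← classInner_conj_symm, h8, map_zero]

/-- Two constituents of the restriction of an irreducible character are conjugate under `GL₂`. -/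
theorem conj_of_constituents {θ : GL2 F → ℂ} (hθ : IsIrrCharacter (GL2 F) θ)
    {χ₁ χ₂ : SL(2, F) → ℂ} (h₁ : IsIrrCharacter (SL(2, F)) χ₁) (h₂ : IsIrrCharacter (SL(2, F)) χ₂)
    (hn₁ : classInner (fun s : SL(2, F) => θ (toGL s)) χ₁ ≠ 0)
    (hn₂ : classInner (fun s : SL(2, F) => θ (toGL s)) χ₂ ≠ 0) :
    ∃ x : GL2 F, ∀ g h : SL(2, F), toGL h = x * toGL g * x⁻¹ → χ₂ h = χ₁ g := by
  classical
  letI : Fintype (NS F) := Fintype.ofFinite _
  have hsurj : Function.Surjective (eNS (F := F)).symm.toMonoidHom := (eNS (F := F)).symm.surjective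
  have h₁' : IsIrrCharacter (NS F) (fun n => χ₁ (eNS.symm n)) :=
    isIrrCharacter_comp_surjective h₁ (eNS (F := F)).symm.toMonoidHom hsurj
  have h₂' : IsIrrCharacter (NS F) (fun n => χ₂ (eNS.symm n)) :=
    isIrrCharacter_comp_surjective h₂ (eNS (F := F)).symm.toMonoidHom hsurj
  have hres : (fun n : NS F => θ (n : GL2 F)) = fun n => (fun s : SL(2, F) => θ (toGL s)) (eNS.symm n) := by
    funext n
    have h : toGL (eNS.symm n) = (n : GL2 F) := Units.ext rfl
    simp only [h]
  have hin : ∀ ψ : SL(2, F) → ℂ, classInner (fun n : NS F => θ (n : GL2 F))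
      (fun n => ψ (eNS.symm n)) = classInner (fun s : SL(2, F) => θ (toGL s)) ψ := by
    intro ψ
    rw [hres]
    exact Cfsg.Agent.Lib.Char.Clifford.classInner_comp_equiv (eNS (F := F)).symm
      (fun s : SL(2, F) => θ (toGL s)) ψ
  obtain ⟨x, hx⟩ := Cfsg.Agent.Lib.Char.Clifford.exists_conj_of_classInner_ne_zero (N := NS F) hθ
    h₁' h₂' (by rwa [hin]) (by rwa [hin])
  refine ⟨x⁻¹, fun g h hgh => ?_⟩
  have h1 := congrFun hx (eNS h)
  simp only [MulEquiv.symm_apply_apply, Cfsg.Agent.Lib.Char.Clifford.conjFun_apply] at h1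
  rw [h1]
  congr 1
  have h2 : x * ((eNS h : NS F) : GL2 F) * x⁻¹ = toGL g := by
    show x * toGL h * x⁻¹ = toGL g
    rw [hgh]
    group
  have h3 : (⟨x * ((eNS h : NS F) : GL2 F) * x⁻¹, (inferInstance : (NS F).Normal).conj_mem _
      (eNS h : NS F).2 x⟩ : NS F) = eNS g := Subtype.ext h2
  rw [h3, MulEquiv.symm_apply_apply]

end Twist

end Cfsg.Agent.Lib.Char.SL2Res
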