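import Mathlib
import Cfsg.Prelude.Def_Characters
import Cfsg.Agent.Lib.Char.SL2Res
import Cfsg.Agent.Lib.Char.IndNormal

/-!
# The irreducible characters of `SL₂`

Every irreducible character of `SL₂` is the trivial character, the Steinberg character, an
irreducible principal series character, a constituent of the principal series at a character of
order two, or the restriction (or a constituent of the restriction) of a cuspidal character of `GL₂`.
-/

set_option autoImplicit false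

namespace Cfsg.Agent.Lib.Char.SL2Irr

open Cfsg Cfsg.Agent.Lib.Char.Induced Cfsg.Agent.Lib.Char.Ortho Cfsg.Agent.Lib.Char.Basic
open Cfsg.Agent.Lib.Char.GL2Principal Cfsg.Agent.Lib.Char.GL2Values Cfsg.Agent.Lib.Char.GL2Irr
open Cfsg.Agent.Lib.Char.GL2Count Cfsg.Agent.Lib.Char.SL2Principal Cfsg.Agent.Lib.Char.SL2Split
open Cfsg.Agent.Lib.Char.SL2Res
open Matrix.SpecialLinearGroup (toGL)
open scoped ComplexConjugate MatrixGroups

variable {F : Type*} [Field F] [Fintype F] [DecidableEq F]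

/-- The restriction of a principal series character of `GL₂` to `SL₂`. -/
theorem ind_res' (α β : MulChar F ℂ) (h : SL(2, F)) :
    indFun (Bor F) (chi α β) (toGL h) = indFun (BorS F) (chiS (α * β⁻¹)) h := by
  have h1 : indFun (Bor F) (chi α β) = twist (indFun (Bor F) (chi (α * β⁻¹) 1)) β := by
    rw [ind_twist]
    simp
  rw [h1, twist_apply, ← ind_res]
  have h2 : ((toGL h : GL2 F) : Matrix (Fin 2) (Fin 2) F).det = 1 := by
    rw [Matrix.SpecialLinearGroup.coe_GL_coe_matrix, h.2]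
  rw [h2, map_one, mul_one]

/-- The Steinberg character of `SL₂`. -/
noncomputable def StS : SL(2, F) → ℂ := indFun (BorS F) (chiS 1) - 1

theorem St_res (α : MulChar F ℂ) (h : SL(2, F)) : St α (toGL h) = StS h := by
  unfold St StS
  rw [Pi.sub_apply, Pi.sub_apply, ind_res', Lin_toGL]
  simp

omit [DecidableEq F] in
theorem chiS_one : chiS (1 : MulChar F ℂ) = fun _ => 1 := by
  funext b
  exact MulChar.one_apply (isUnit_iff_ne_zero.2 (ne_zero_00S b))

theorem classInner_indS_one (γ : MulChar F ℂ) [Decidable (γ = 1)] :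
    classInner (indFun (BorS F) (chiS γ)) (1 : SL(2, F) → ℂ) = if γ = 1 then 1 else 0 := by
  classical
  letI : Fintype (BorS F) := Fintype.ofFinite _
  rw [frobenius_reciprocity _ _ _ (isClassFunction_of_isCharacter isCharacter_one)]
  have : (fun h : BorS F => (1 : SL(2, F) → ℂ) h) = chiS 1 := by
    rw [chiS_one]
    rfl
  rw [this, classInner_chiS]

theorem isChar_res {θ : GL2 F → ℂ} (hθ : IsCharacter (GL2 F) θ) :
    IsCharacter (SL(2, F)) (fun s => θ (toGL s)) := isCharacter_comp_hom hθ toGL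

theorem StS_eq : StS = (fun s : SL(2, F) => St (1 : MulChar F ℂ) (toGL s)) := by
  funext s
  rw [St_res]

theorem isIrr_StS : IsIrrCharacter (SL(2, F)) (StS : SL(2, F) → ℂ) := by
  classical
  refine isIrrCharacter_of_classInner_self_eq_one ?_ ?_
  · rw [StS_eq]
    exact isChar_res (isCharacter_of_isIrrCharacter (isIrr_St 1))
  · unfold StS
    have h1 : classInner (1 : SL(2, F) → ℂ) (indFun (BorS F) (chiS 1)) = 1 := by
      rw [← classInner_conj_symm, classInner_indS_one]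
      simp
    have h2 : classInner (1 : SL(2, F) → ℂ) (1 : SL(2, F) → ℂ) = 1 :=
      classInner_irr_self (Cfsg.Agent.Lib.Char.IndNormal.isIrrCharacter_principal)
    rw [classInner_sub_left, classInner_sub_right, classInner_sub_right, h1, h2, classInner_indS_one,
      classInner_indS]
    simp

theorem indS_one (γ : MulChar F ℂ) : indFun (BorS F) (chiS γ) 1 = (Fintype.card F : ℂ) + 1 := by
  rw [← ind_res, map_one, ind_one]

theorem StS_one : StS (1 : SL(2, F)) = (Fintype.card F : ℂ) := by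
  unfold StS
  rw [Pi.sub_apply, indS_one]
  simp

theorem ind_eqS_iff (γ δ : MulChar F ℂ) :
    indFun (BorS F) (chiS γ) = indFun (BorS F) (chiS δ) ↔ γ = δ ∨ γ = δ⁻¹ := by
  classical
  constructor
  · intro h
    have h1 := classInner_indS γ δ
    rw [← h, classInner_indS] at h1
    by_contra hne
    push Not at hne
    rw [if_neg hne.1, if_neg hne.2, if_pos rfl] at h1
    by_cases h2 : γ = γ⁻¹
    · rw [if_pos h2] at h1
      norm_num at h1
    · rw [if_neg h2] at h1
      norm_num at h1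
  · rintro (rfl | rfl)
    · rfl
    · rw [← sub_eq_zero]
      apply eq_zero_of_classInner_self_eq_zero
      rw [classInner_sub_left, classInner_sub_right, classInner_sub_right, classInner_indS,
        classInner_indS, classInner_indS, classInner_indS]
      by_cases hab : δ⁻¹ = δ
      · simp [hab]
      · have hba : ¬ δ = δ⁻¹ := fun h => hab h.symm
        simp [hab, hba]

/-- The classification of the irreducible characters of `SL₂`. -/
theorem irrS_cases {χ : SL(2, F) → ℂ} (hχ : IsIrrCharacter (SL(2, F)) χ) :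
    χ = 1 ∨ χ = StS ∨ (∃ γ : MulChar F ℂ, γ ^ 2 ≠ 1 ∧ χ = indFun (BorS F) (chiS γ)) ∨
    (∃ γ : MulChar F ℂ, γ ^ 2 = 1 ∧ γ ≠ 1 ∧ ∃ χ' : SL(2, F) → ℂ, IsIrrCharacter (SL(2, F)) χ' ∧
      χ ≠ χ' ∧ indFun (BorS F) (chiS γ) = χ + χ' ∧
      ∃ x : GL2 F, ∀ g h : SL(2, F), toGL h = x * toGL g * x⁻¹ → χ' h = χ g) ∨
    (∃ θ : GL2 F → ℂ, IsIrrCharacter (GL2 F) θ ∧ IsCusp θ ∧ χ = fun s => θ (toGL s)) ∨
    (∃ θ : GL2 F → ℂ, IsIrrCharacter (GL2 F) θ ∧ IsCusp θ ∧ ∃ χ' : SL(2, F) → ℂ,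
      IsIrrCharacter (SL(2, F)) χ' ∧ χ ≠ χ' ∧ (fun s => θ (toGL s)) = χ + χ' ∧
      ∃ x : GL2 F, ∀ g h : SL(2, F), toGL h = x * toGL g * x⁻¹ → χ' h = χ g) := by
  classical
  obtain ⟨θ, hθ, hne⟩ := exists_theta hχ
  have hRc := isChar_res (isCharacter_of_isIrrCharacter hθ)
  have hsq : ∀ γ : MulChar F ℂ, γ ^ 2 = 1 ↔ γ = γ⁻¹ := by
    intro γ
    rw [sq, ← eq_inv_iff_mul_eq_one]
  have hR1 : (fun s => Lin (1 : MulChar F ℂ) (toGL s)) = (1 : SL(2, F) → ℂ) := by
    funext s
    rw [Lin_toGL]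
    rfl
  have hIndRes : ∀ α β : MulChar F ℂ, (fun s => indFun (Bor F) (chi α β) (toGL s))
      = indFun (BorS F) (chiS (α * β⁻¹)) := by
    intro α β
    funext s
    exact ind_res' α β s
  have hStRes : ∀ α : MulChar F ℂ, (fun s => St α (toGL s)) = (StS : SL(2, F) → ℂ) := by
    intro α
    funext s
    exact St_res α s
  have hLinRes : ∀ α : MulChar F ℂ, (fun s => Lin α (toGL s)) = (1 : SL(2, F) → ℂ) := by
    intro α
    funext s
    rw [Lin_toGL]
    rfl
  have hone : IsIrrCharacter (SL(2, F)) (1 : SL(2, F) → ℂ) :=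
    Cfsg.Agent.Lib.Char.IndNormal.isIrrCharacter_principal
  have hne1 : ∀ α β : MulChar F ℂ, α ≠ β → α * β⁻¹ ≠ 1 := fun α β h h' => h (mul_inv_eq_one.1 h')
  rcases res_norm hθ with hn | hn
  · have hRi := isIrrCharacter_of_classInner_self_eq_one hRc hn
    have hRχ : χ = fun s => θ (toGL s) := by
      by_contra hc
      exact hne (classInner_irr_of_ne hRi hχ (fun h => hc h.symm))
    rcases irr_cases hθ with ⟨α, β, hab, rfl⟩ | ⟨α, rfl⟩ | ⟨α, hα⟩ | hc
    · right; right; left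
      rw [hIndRes] at hRχ hn
      refine ⟨α * β⁻¹, ?_, hRχ⟩
      intro h2
      rw [classInner_indS, if_pos rfl, if_pos ((hsq _).1 h2)] at hn
      norm_num at hn
    · left
      rw [hLinRes] at hRχ
      exact hRχ
    · right; left
      have : θ = St α := by
        unfold St
        rw [hα]
        abel
      rw [this, hStRes] at hRχ
      exact hRχ
    · right; right; right; right; left
      exact ⟨θ, hθ, hc, hRχ⟩
  · obtain ⟨χ', hχ', hd, hsum⟩ := split_of_norm_two hRc hn hχ hne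
    have hne' : classInner (fun s : SL(2, F) => θ (toGL s)) χ' ≠ 0 := by
      rw [hsum, classInner_add_left, classInner_irr_of_ne hχ hχ' hd, classInner_irr_self hχ']
      norm_num
    obtain ⟨x, hx⟩ := conj_of_constituents hθ hχ hχ' hne hne'
    rcases irr_cases hθ with ⟨α, β, hab, rfl⟩ | ⟨α, rfl⟩ | ⟨α, hα⟩ | hc
    · right; right; right; left
      rw [hIndRes] at hsum hn
      refine ⟨α * β⁻¹, ?_, hne1 α β hab, χ', hχ', hd, hsum, x, hx⟩
      rw [hsq]
      by_contra h2
      rw [classInner_indS, if_pos rfl, if_neg h2] at hn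
      norm_num at hn
    · exfalso
      rw [hLinRes, classInner_irr_self hone] at hn
      norm_num at hn
    · exfalso
      have : θ = St α := by
        unfold St
        rw [hα]
        abel
      rw [this, hStRes, classInner_irr_self isIrr_StS] at hn
      norm_num at hn
    · right; right; right; right; right
      exact ⟨θ, hθ, hc, χ', hχ', hd, hsum, x, hx⟩

/-- Values of the principal series of `SL₂`. -/
theorem indS_diag (γ : MulChar F ℂ) (g : SL(2, F)) (h01 : g.1 0 1 = 0) (h10 : g.1 1 0 = 0)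
    (hsq : g.1 0 0 ^ 2 ≠ 1) :
    indFun (BorS F) (chiS γ) g = γ (g.1 0 0) + γ (g.1 1 1) := by
  rw [← ind_res]
  have hd := Cfsg.Agent.Lib.PSL2.Basic.det_entries g
  rw [h01, zero_mul, sub_zero] at hd
  have h00 : g.1 0 0 ≠ 0 := left_ne_zero_of_mul_eq_one hd
  have h11 : g.1 1 1 ≠ 0 := right_ne_zero_of_mul_eq_one hd
  have hne : g.1 0 0 ≠ g.1 1 1 := by
    intro h
    apply hsq
    rw [sq]
    nth_rewrite 2 [h]
    exact hd
  have := ind_diag γ 1 (toGL g) h01 h10 hne
  rw [this]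
  have e0 : ent (toGL g) 0 0 = g.1 0 0 := rfl
  have e1 : ent (toGL g) 1 1 = g.1 1 1 := rfl
  rw [e0, e1, MulChar.one_apply (isUnit_iff_ne_zero.2 h00), MulChar.one_apply (isUnit_iff_ne_zero.2 h11)]
  simp

theorem indS_elliptic (γ : MulChar F ℂ) (g : SL(2, F))
    (hg : ∀ (c : F) (v : Fin 2 → F), v ≠ 0 → (g : Matrix (Fin 2) (Fin 2) F).mulVec v ≠ c • v) :
    indFun (BorS F) (chiS γ) g = 0 := by
  rw [← ind_res]
  exact ind_elliptic γ 1 (toGL g) hg

theorem indS_unip (γ : MulChar F ℂ) (g : SL(2, F)) (h10 : g.1 1 0 = 0) (heq : g.1 0 0 = g.1 1 1)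
    (h01 : g.1 0 1 ≠ 0) :
    indFun (BorS F) (chiS γ) g = γ (g.1 0 0) := by
  rw [← ind_res, ind_unip γ 1 (toGL g) h10 heq h01]
  have hd := Cfsg.Agent.Lib.PSL2.Basic.det_entries g
  rw [h10, mul_zero, sub_zero] at hd
  have h00 : g.1 0 0 ≠ 0 := left_ne_zero_of_mul_eq_one hd
  have e0 : ent (toGL g) 0 0 = g.1 0 0 := rfl
  rw [e0, MulChar.one_apply (isUnit_iff_ne_zero.2 h00), mul_one]

omit [Fintype F] [DecidableEq F] in
theorem deg_of_conj {χ χ' : SL(2, F) → ℂ} {x : GL2 F}
    (hx : ∀ g h : SL(2, F), toGL h = x * toGL g * x⁻¹ → χ' h = χ g) : χ' 1 = χ 1 :=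
  hx 1 1 (by simp)

/-- The classification of the irreducible characters of `SL₂`, with degrees. -/
theorem irrS_cases_nat {χ : SL(2, F) → ℂ} (hχ : IsIrrCharacter (SL(2, F)) χ) {d : ℕ}
    (hd : χ 1 = (d : ℂ)) :
    (d = 1 ∧ χ = 1) ∨ (d = Fintype.card F ∧ χ = StS) ∨
    (d = Fintype.card F + 1 ∧ ∃ γ : MulChar F ℂ, γ ^ 2 ≠ 1 ∧ χ = indFun (BorS F) (chiS γ)) ∨
    (2 * d = Fintype.card F + 1 ∧
      ∃ γ : MulChar F ℂ, γ ^ 2 = 1 ∧ γ ≠ 1 ∧ ∃ χ' : SL(2, F) → ℂ, IsIrrCharacter (SL(2, F)) χ' ∧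
      χ ≠ χ' ∧ indFun (BorS F) (chiS γ) = χ + χ' ∧
      ∃ x : GL2 F, ∀ g h : SL(2, F), toGL h = x * toGL g * x⁻¹ → χ' h = χ g) ∨
    (d + 1 = Fintype.card F ∧
      ∃ θ : GL2 F → ℂ, IsIrrCharacter (GL2 F) θ ∧ IsCusp θ ∧ χ = fun s => θ (toGL s)) ∨
    (2 * d + 1 = Fintype.card F ∧
      ∃ θ : GL2 F → ℂ, IsIrrCharacter (GL2 F) θ ∧ IsCusp θ ∧ ∃ χ' : SL(2, F) → ℂ,
      IsIrrCharacter (SL(2, F)) χ' ∧ χ ≠ χ' ∧ (fun s => θ (toGL s)) = χ + χ' ∧
      ∃ x : GL2 F, ∀ g h : SL(2, F), toGL h = x * toGL g * x⁻¹ → χ' h = χ g) := by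
  rcases irrS_cases hχ with h | h | h | h | h | h
  · left
    refine ⟨?_, h⟩
    rw [h] at hd
    have : (d : ℂ) = 1 := hd.symm
    exact_mod_cast this
  · right; left
    refine ⟨?_, h⟩
    rw [h, StS_one] at hd
    exact_mod_cast hd.symm
  · right; right; left
    refine ⟨?_, h⟩
    obtain ⟨γ, -, rfl⟩ := h
    rw [indS_one] at hd
    exact_mod_cast hd.symm
  · right; right; right; left
    refine ⟨?_, h⟩
    obtain ⟨γ, -, -, χ', -, -, hs, x, hx⟩ := h
    have h1 := congrFun hs 1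
    rw [indS_one, Pi.add_apply, deg_of_conj hx, hd] at h1
    have : ((2 * d : ℕ) : ℂ) = ((Fintype.card F + 1 : ℕ) : ℂ) := by
      push_cast
      linear_combination - h1
    exact_mod_cast this
  · right; right; right; right; left
    refine ⟨?_, h⟩
    obtain ⟨θ, hθ, hc, rfl⟩ := h
    have h1 := cusp_degree hθ hc
    have h2 : θ 1 = (d : ℂ) := by simpa using hd
    rw [h2] at h1
    have : ((d + 1 : ℕ) : ℂ) = (Fintype.card F : ℂ) := by
      push_cast
      linear_combination h1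
    exact_mod_cast this
  · right; right; right; right; right
    refine ⟨?_, h⟩
    obtain ⟨θ, hθ, hc, χ', -, -, hs, x, hx⟩ := h
    have h1 := cusp_degree hθ hc
    have h2 := congrFun hs 1
    simp only [map_one, Pi.add_apply] at h2
    rw [deg_of_conj hx, hd] at h2
    rw [h2] at h1
    have : ((2 * d + 1 : ℕ) : ℂ) = (Fintype.card F : ℂ) := by
      push_cast
      linear_combination h1
    exact_mod_cast this

/-- Entries of `u`. -/
theorem toGL_u (u : SL(2, F)) (hu : (u : Matrix (Fin 2) (Fin 2) F) = !![1, 1; 0, 1]) :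
    toGL u = uM := by
  apply Units.ext
  show (u : Matrix (Fin 2) (Fin 2) F) = _
  rw [hu]
  ext i j
  fin_cases i <;> fin_cases j <;> rfl

theorem indS_u (γ : MulChar F ℂ) (u : SL(2, F)) (hu : (u : Matrix (Fin 2) (Fin 2) F) = !![1, 1; 0, 1]) :
    indFun (BorS F) (chiS γ) u = 1 := by
  rw [← ind_res, toGL_u u hu, ind_u]

theorem cusp_u {θ : GL2 F → ℂ} (hθ : IsIrrCharacter (GL2 F) θ) (hc : IsCusp θ) : θ uM = -1 := by
  have h1 := cusp_rel (isClassFunction_of_isCharacter (isCharacter_of_isIrrCharacter hθ)) hc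
  rw [cusp_degree hθ hc] at h1
  have h3 := q_sub_one_ne_zero (F := F)
  have h4 : ((Fintype.card F : ℂ) - 1) * (θ uM + 1) = 0 := by linear_combination h1
  have h5 := (mul_eq_zero.1 h4).resolve_left h3
  linear_combination h5

end Cfsg.Agent.Lib.Char.SL2Irr
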