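import Mathlib
import Cfsg.Prelude.Def_Characters
import Cfsg.Agent.Lib.Char.SL2Irr
import Cfsg.Agent.S2325

/-!
# Degrees and multiplicities of the irreducible characters of `SL₂`
-/

set_option autoImplicit false

namespace Cfsg.Agent.Lib.Char.SL2Count

open Cfsg Cfsg.Agent.Lib.Char.Induced Cfsg.Agent.Lib.Char.Ortho Cfsg.Agent.Lib.Char.Basic
open Cfsg.Agent.Lib.Char.GL2Principal Cfsg.Agent.Lib.Char.GL2Values Cfsg.Agent.Lib.Char.GL2Irr
open Cfsg.Agent.Lib.Char.GL2Count Cfsg.Agent.Lib.Char.SL2Principal Cfsg.Agent.Lib.Char.SL2Split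
open Cfsg.Agent.Lib.Char.SL2Res Cfsg.Agent.Lib.Char.SL2Irr
open Matrix.SpecialLinearGroup (toGL)
open scoped ComplexConjugate MatrixGroups

variable {F : Type*} [Field F] [Fintype F] [DecidableEq F]

/-- The quadratic character, with complex values. -/
noncomputable def eta (F : Type*) [Field F] [Fintype F] [DecidableEq F] : MulChar F ℂ :=
  (quadraticChar F).ringHomComp (Int.castRingHom ℂ)

theorem eta_apply (a : F) : eta F a = ((quadraticChar F a : ℤ) : ℂ) := rfl

theorem eta_sq : eta F ^ 2 = 1 :=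
  ((quadraticChar_isQuadratic F).comp _).sq_eq_one

theorem eta_ne_one (h : ringChar F ≠ 2) : eta F ≠ 1 := by
  obtain ⟨a, ha⟩ := quadraticChar_exists_neg_one' h
  intro h1
  have h2 := congrArg (fun μ : MulChar F ℂ => μ a) h1
  simp only [eta_apply, ha, MulChar.one_apply_coe] at h2
  norm_num at h2

theorem sq_one_cases (h : ringChar F ≠ 2) {γ : MulChar F ℂ} (hγ : γ ^ 2 = 1) :
    γ = 1 ∨ γ = eta F := by
  classical
  letI : Fintype (MulChar F ℂ) := Fintype.ofFinite _
  by_contra hcon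
  push Not at hcon
  have h1 : ({1, eta F, γ} : Finset (MulChar F ℂ)) ⊆
      Finset.univ.filter fun μ : MulChar F ℂ => μ ^ 2 = 1 := by
    intro μ hμ
    simp only [Finset.mem_insert, Finset.mem_singleton] at hμ
    simp only [Finset.mem_filter, Finset.mem_univ, true_and]
    rcases hμ with rfl | rfl | rfl
    · simp
    · exact eta_sq
    · exact hγ
  have h2 := Finset.card_le_card h1
  have h3 := card_sq_eq_one_le (F := F)
  have h4 : ({1, eta F, γ} : Finset (MulChar F ℂ)).card = 3 :=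
    Finset.card_eq_three.2 ⟨1, eta F, γ, (eta_ne_one h).symm, hcon.1.symm, hcon.2.symm, rfl⟩
  rw [h4] at h2
  have : (Finset.univ.filter fun μ : MulChar F ℂ => μ ^ 2 = 1).card ≤ 2 := h3
  omega

theorem card_sq_one_odd [Fintype (MulChar F ℂ)] (h : ringChar F ≠ 2) :
    Fintype.card {γ : MulChar F ℂ // γ ^ 2 = 1} = 2 := by
  classical
  rw [Fintype.card_subtype]
  have h1 : (Finset.univ.filter fun μ : MulChar F ℂ => μ ^ 2 = 1) = {1, eta F} := by
    ext μ
    simp only [Finset.mem_filter, Finset.mem_univ, true_and, Finset.mem_insert, Finset.mem_singleton]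
    constructor
    · exact sq_one_cases h
    · rintro (rfl | rfl)
      · simp
      · exact eta_sq
  rw [h1, Finset.card_pair (eta_ne_one h).symm]

theorem card_sq_one_even [Fintype (MulChar F ℂ)] (h : ringChar F = 2) :
    Fintype.card {γ : MulChar F ℂ // γ ^ 2 = 1} = 1 := by
  classical
  rw [Fintype.card_subtype]
  have hq : Odd (Fintype.card F - 1) := by
    have h1 := FiniteField.even_card_of_char_two h
    have h2 := one_lt_q (F := F)
    rw [Nat.odd_iff]
    omega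
  have h1 : (Finset.univ.filter fun μ : MulChar F ℂ => μ ^ 2 = 1) = {1} := by
    ext μ
    simp only [Finset.mem_filter, Finset.mem_univ, true_and, Finset.mem_singleton]
    constructor
    · exact eq_one_of_sq_eq_one_of_odd hq
    · rintro rfl
      simp
  rw [h1, Finset.card_singleton]

theorem card_sq_ne_one [Fintype (MulChar F ℂ)] :
    Fintype.card {γ : MulChar F ℂ // ¬ γ ^ 2 = 1}
      = Fintype.card F - 1 - Fintype.card {γ : MulChar F ℂ // γ ^ 2 = 1} := by
  classical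
  rw [Fintype.card_subtype_compl, card_mulChar]

/-- The count of irreducible principal series characters. -/
theorem two_mul_card_ind [Fintype (MulChar F ℂ)] :
    2 * Nat.card {χ : IrrCharacter (SL(2, F)) // χ.1 1 = ((Fintype.card F + 1 : ℕ) : ℂ)}
      = Fintype.card {γ : MulChar F ℂ // ¬ γ ^ 2 = 1} := by
  classical
  have hsq : ∀ γ : MulChar F ℂ, γ ^ 2 = 1 ↔ γ = γ⁻¹ := by
    intro γ
    rw [sq, ← eq_inv_iff_mul_eq_one]
  let g : {γ : MulChar F ℂ // ¬ γ ^ 2 = 1} → IrrCharacter (SL(2, F)) :=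
    fun γ => ⟨indFun (BorS F) (chiS γ.1), (isIrr_indS_iff γ.1).2 γ.2⟩
  set T := Finset.univ.filter
    (fun χ : IrrCharacter (SL(2, F)) => χ.1 1 = ((Fintype.card F + 1 : ℕ) : ℂ)) with hT
  have hg : ∀ γ ∈ (Finset.univ : Finset {γ : MulChar F ℂ // ¬ γ ^ 2 = 1}), g γ ∈ T := by
    intro γ _
    simp only [hT, Finset.mem_filter, Finset.mem_univ, true_and, g]
    rw [indS_one]
    push_cast
    rfl
  have h1 := Finset.card_eq_sum_card_fiberwise hg
  have h2 : ∀ χ ∈ T, (Finset.univ.filter fun γ : {γ : MulChar F ℂ // ¬ γ ^ 2 = 1} => g γ = χ).card = 2 := by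
    intro χ hχ
    have hχ1 : χ.1 1 = ((Fintype.card F + 1 : ℕ) : ℂ) := (Finset.mem_filter.1 hχ).2
    have hq1 := one_lt_q (F := F)
    obtain ⟨γ₀, hγ₀, hχγ⟩ : ∃ γ₀ : MulChar F ℂ, ¬ γ₀ ^ 2 = 1 ∧ χ.1 = indFun (BorS F) (chiS γ₀) := by
      rcases irrS_cases_nat χ.2 hχ1 with h | h | h | h | h | h
      · omega
      · omega
      · exact h.2
      · omega
      · omega
      · omega
    have hinv : ¬ (γ₀⁻¹) ^ 2 = 1 := by
      intro h
      apply hγ₀
      rw [inv_pow, inv_eq_one] at h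
      exact h
    have hne : (⟨γ₀, hγ₀⟩ : {γ : MulChar F ℂ // ¬ γ ^ 2 = 1}) ≠ ⟨γ₀⁻¹, hinv⟩ := by
      intro h
      exact hγ₀ ((hsq _).2 (congrArg Subtype.val h))
    have h3 : (Finset.univ.filter fun γ : {γ : MulChar F ℂ // ¬ γ ^ 2 = 1} => g γ = χ)
        = {⟨γ₀, hγ₀⟩, ⟨γ₀⁻¹, hinv⟩} := by
      ext γ
      simp only [Finset.mem_filter, Finset.mem_univ, true_and, Finset.mem_insert, Finset.mem_singleton]
      rw [Subtype.ext_iff, Subtype.ext_iff, Subtype.ext_iff]
      simp only [g]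
      rw [hχγ, ind_eqS_iff]
    rw [h3, Finset.card_pair hne]
  rw [Finset.sum_congr rfl h2, Finset.sum_const, smul_eq_mul, Finset.card_univ] at h1
  rw [h1, mul_comm]
  congr 1
  rw [Nat.card_eq_fintype_card, Fintype.card_subtype]

/-- Cardinality of irreducible characters of a given degree through `dN`. -/
theorem card_deg_eq {G : Type*} [Group G] [Finite G] (d : ℕ) [Fintype (IrrCharacter G)]
    [DecidableEq ℕ] :
    Nat.card {χ : IrrCharacter G // χ.1 1 = (d : ℂ)}
      = (Finset.univ.filter fun χ : IrrCharacter G => dN χ = d).card := by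
  classical
  refine Nat.subtype_card _ fun χ => ?_
  simp only [Finset.mem_filter, Finset.mem_univ, true_and]
  constructor
  · intro h
    rw [dN_spec, h]
  · exact dN_eq χ

/-- The trivial character is the only one of degree one when `4 ≤ q`. -/
theorem card_deg_one (hq : 4 ≤ Fintype.card F) :
    Nat.card {χ : IrrCharacter (SL(2, F)) // χ.1 1 = ((1 : ℕ) : ℂ)} = 1 := by
  rw [Nat.card_eq_one_iff_unique]
  constructor
  · constructor
    rintro ⟨⟨χ, hχ⟩, h1⟩ ⟨⟨ψ, hψ⟩, h2⟩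
    have key : ∀ {χ : SL(2, F) → ℂ}, IsIrrCharacter (SL(2, F)) χ → χ 1 = ((1 : ℕ) : ℂ) → χ = 1 := by
      intro χ hχ h1
      rcases irrS_cases_nat hχ h1 with h | h | h | h | h | h
      · exact h.2
      · omega
      · omega
      · omega
      · omega
      · omega
    apply Subtype.ext
    apply Subtype.ext
    show χ = ψ
    rw [key hχ h1, key hψ h2]
  · exact ⟨⟨⟨1, Cfsg.Agent.Lib.Char.IndNormal.isIrrCharacter_principal⟩, by simp⟩⟩

/-- The Steinberg character is the only one of degree `q`. -/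
theorem card_deg_q :
    Nat.card {χ : IrrCharacter (SL(2, F)) // χ.1 1 = ((Fintype.card F : ℕ) : ℂ)} = 1 := by
  have hq := one_lt_q (F := F)
  rw [Nat.card_eq_one_iff_unique]
  constructor
  · constructor
    rintro ⟨⟨χ, hχ⟩, h1⟩ ⟨⟨ψ, hψ⟩, h2⟩
    have key : ∀ {χ : SL(2, F) → ℂ}, IsIrrCharacter (SL(2, F)) χ →
        χ 1 = ((Fintype.card F : ℕ) : ℂ) → χ = StS := by
      intro χ hχ h1
      rcases irrS_cases_nat hχ h1 with h | h | h | h | h | h
      · omega
      · exact h.2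
      · omega
      · omega
      · omega
      · omega
    apply Subtype.ext
    apply Subtype.ext
    show χ = ψ
    rw [key hχ h1, key hψ h2]
  · exact ⟨⟨⟨StS, isIrr_StS⟩, StS_one⟩⟩

/-- The list of degrees, as natural numbers. -/
theorem deg_cases {χ : SL(2, F) → ℂ} (hχ : IsIrrCharacter (SL(2, F)) χ) {d : ℕ} (hd : χ 1 = (d : ℂ)) :
    d = 1 ∨ d = Fintype.card F ∨ d = Fintype.card F + 1 ∨ 2 * d = Fintype.card F + 1 ∨
      d + 1 = Fintype.card F ∨ 2 * d + 1 = Fintype.card F := by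
  rcases irrS_cases_nat hχ hd with h | h | h | h | h | h
  · exact Or.inl h.1
  · exact Or.inr (Or.inl h.1)
  · exact Or.inr (Or.inr (Or.inl h.1))
  · exact Or.inr (Or.inr (Or.inr (Or.inl h.1)))
  · exact Or.inr (Or.inr (Or.inr (Or.inr (Or.inl h.1))))
  · exact Or.inr (Or.inr (Or.inr (Or.inr (Or.inr h.1))))

/-- The sum of the squares of the degrees, organised by degree. -/
theorem sum_card_deg_sq {G : Type*} [Group G] [Fintype G] (D : Finset ℕ)
    (hD : ∀ χ : IrrCharacter G, dN χ ∈ D) :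
    ∑ d ∈ D, Nat.card {χ : IrrCharacter G // χ.1 1 = (d : ℂ)} * d ^ 2 = Nat.card G := by
  classical
  rw [← sum_dN_sq, ← Finset.sum_fiberwise_of_maps_to (s := Finset.univ) (t := D) (g := dN)
    (fun χ _ => hD χ)]
  refine Finset.sum_congr rfl fun d _ => ?_
  rw [card_deg_eq, Finset.sum_congr rfl (g := fun _ => d ^ 2)
    (fun χ hχ => by rw [(Finset.mem_filter.1 hχ).2]), Finset.sum_const, smul_eq_mul]

/-- The number of irreducible characters, organised by degree. -/
theorem sum_card_deg {G : Type*} [Group G] [Fintype G] (D : Finset ℕ)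
    (hD : ∀ χ : IrrCharacter G, dN χ ∈ D) :
    ∑ d ∈ D, Nat.card {χ : IrrCharacter G // χ.1 1 = (d : ℂ)} = Nat.card (ConjClasses G) := by
  classical
  rw [← Cfsg.Agent.Lib.Char.CompleteCor.card_irr_eq_card_conjClasses, Nat.card_eq_fintype_card,
    ← Finset.card_univ, Finset.card_eq_sum_card_fiberwise (f := dN) (t := D) (fun χ _ => hD χ)]
  refine Finset.sum_congr rfl fun d _ => ?_
  rw [card_deg_eq]

/-- The even case. -/
theorem even_counts (h2 : ringChar F = 2) (hq : 4 ≤ Fintype.card F) :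
    Nat.card {χ : IrrCharacter (SL(2, F)) // χ.1 1 = ((Fintype.card F + 1 : ℕ) : ℂ)}
      = (Fintype.card F - 2) / 2 ∧
    Nat.card {χ : IrrCharacter (SL(2, F)) // χ.1 1 = ((Fintype.card F - 1 : ℕ) : ℂ)}
      = Fintype.card F / 2 := by
  classical
  letI : Fintype (MulChar F ℂ) := Fintype.ofFinite _
  have hev := FiniteField.even_card_of_char_two h2
  have h1 := two_mul_card_ind (F := F)
  rw [card_sq_ne_one, card_sq_one_even h2] at h1
  obtain ⟨k, hk⟩ : ∃ k, Fintype.card F = k + 1 := ⟨Fintype.card F - 1, by omega⟩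
  have hk' : k = Fintype.card F - 1 := by omega
  set n₃ := Nat.card {χ : IrrCharacter (SL(2, F)) // χ.1 1 = ((Fintype.card F + 1 : ℕ) : ℂ)} with hn₃
  set n₄ := Nat.card {χ : IrrCharacter (SL(2, F)) // χ.1 1 = ((Fintype.card F - 1 : ℕ) : ℂ)} with hn₄
  have hD : ∀ χ : IrrCharacter (SL(2, F)),
      dN χ ∈ ({1, Fintype.card F, Fintype.card F + 1, Fintype.card F - 1} : Finset ℕ) := by
    intro χ
    have := deg_cases χ.2 (dN_spec χ)
    simp only [Finset.mem_insert, Finset.mem_singleton]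
    omega
  have hsum := sum_card_deg_sq (G := SL(2, F)) _ hD
  rw [Finset.sum_insert (by simp; omega), Finset.sum_insert (by simp; omega),
    Finset.sum_insert (by simp; omega), Finset.sum_singleton, card_deg_one hq, card_deg_q,
    Cfsg.Agent.Lib.PSL2.Basic.card_SL2, ← hn₃, ← hn₄] at hsum
  have hk3 : 3 ≤ k := by omega
  rw [hk] at hsum h1 hev ⊢
  simp only [Nat.add_sub_cancel] at hsum h1 ⊢
  have hsq : (k + 1) ^ 2 - 1 = k * (k + 2) := by
    have : (k + 1) ^ 2 = k * (k + 2) + 1 := by ring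
    omega
  rw [hsq] at hsum
  constructor
  · omega
  · have e1 : 2 * n₃ + 1 = k := by omega
    have e2 : ((2 * (n₄ : ℤ) - ((k : ℤ) + 1)) * (k : ℤ) ^ 2) = 0 := by
      zify at hsum e1
      have e3 : (k : ℤ) = 2 * n₃ + 1 := e1.symm
      rw [e3] at hsum ⊢
      linear_combination 2 * hsum
    have hk0 : ((k : ℤ) ^ 2) ≠ 0 := by
      positivity
    have e4 := (mul_eq_zero.1 e2).resolve_right hk0
    omega

/-- The two characters of degree `(q + 1) / 2`. -/
theorem half_plus_chars (h2 : ringChar F ≠ 2) (hq : 5 ≤ Fintype.card F) :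
    ∃ χ₁ χ₂ : SL(2, F) → ℂ, IsIrrCharacter (SL(2, F)) χ₁ ∧ IsIrrCharacter (SL(2, F)) χ₂ ∧ χ₁ ≠ χ₂ ∧
      indFun (BorS F) (chiS (eta F)) = χ₁ + χ₂ ∧
      χ₁ 1 = (((Fintype.card F + 1) / 2 : ℕ) : ℂ) ∧ χ₂ 1 = (((Fintype.card F + 1) / 2 : ℕ) : ℂ) ∧
      (∃ x : GL2 F, ∀ g h : SL(2, F), toGL h = x * toGL g * x⁻¹ → χ₂ h = χ₁ g) ∧
      ∀ χ : SL(2, F) → ℂ, IsIrrCharacter (SL(2, F)) χ →
        χ 1 = (((Fintype.card F + 1) / 2 : ℕ) : ℂ) → χ = χ₁ ∨ χ = χ₂ := by
  classical
  have hodd := FiniteField.odd_card_of_char_ne_two h2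
  obtain ⟨χ₁, χ₂, h₁, h₂, hne, hsum, hd₁, hd₂, hx⟩ :=
    split_order_two (eta_sq (F := F)) (eta_ne_one h2)
  refine ⟨χ₁, χ₂, h₁, h₂, hne, hsum, hd₁, hd₂, hx, fun χ hχ hd => ?_⟩
  rcases irrS_cases_nat hχ hd with h | h | h | h | h | h
  · omega
  · omega
  · omega
  · obtain ⟨-, γ, hγ, hγ1, χ', hχ', hd', hs, -⟩ := h
    have hγe : γ = eta F := (sq_one_cases h2 hγ).resolve_left hγ1
    subst hγe
    have h3 : classInner (χ₁ + χ₂) χ = 1 := by
      rw [← hsum, hs, classInner_add_left, classInner_irr_self hχ,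
        classInner_irr_of_ne hχ' hχ (fun h => hd' h.symm), add_zero]
    rw [classInner_add_left] at h3
    by_cases e1 : χ = χ₁
    · exact Or.inl e1
    · right
      by_contra e2
      rw [classInner_irr_of_ne h₁ hχ (fun h => e1 h.symm), classInner_irr_of_ne h₂ hχ (fun h => e2 h.symm)] at h3
      norm_num at h3
  · omega
  · omega

theorem card_half_plus (h2 : ringChar F ≠ 2) (hq : 5 ≤ Fintype.card F) :
    Nat.card {χ : IrrCharacter (SL(2, F)) // χ.1 1 = (((Fintype.card F + 1) / 2 : ℕ) : ℂ)} = 2 := by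
  classical
  obtain ⟨χ₁, χ₂, h₁, h₂, hne, -, hd₁, hd₂, -, hall⟩ := half_plus_chars h2 hq
  rw [Nat.card_eq_two_iff]
  refine ⟨⟨⟨χ₁, h₁⟩, hd₁⟩, ⟨⟨χ₂, h₂⟩, hd₂⟩, ?_, ?_⟩
  · intro h
    exact hne (congrArg (fun x => x.1.1) h)
  · ext ⟨⟨χ, hχ⟩, hd⟩
    simp only [Set.mem_insert_iff, Set.mem_singleton_iff, Set.mem_univ, iff_true]
    rcases hall χ hχ hd with rfl | rfl
    · exact Or.inl rfl
    · exact Or.inr rfl

/-- The odd case. -/
theorem odd_counts (h2 : ringChar F ≠ 2) (hq : 5 ≤ Fintype.card F) :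
    Nat.card {χ : IrrCharacter (SL(2, F)) // χ.1 1 = ((Fintype.card F + 1 : ℕ) : ℂ)}
      = (Fintype.card F - 3) / 2 ∧
    Nat.card {χ : IrrCharacter (SL(2, F)) // χ.1 1 = ((Fintype.card F - 1 : ℕ) : ℂ)}
      = (Fintype.card F - 1) / 2 ∧
    Nat.card {χ : IrrCharacter (SL(2, F)) // χ.1 1 = (((Fintype.card F - 1) / 2 : ℕ) : ℂ)} = 2 := by
  classical
  letI : Fintype (MulChar F ℂ) := Fintype.ofFinite _
  have hodd := FiniteField.odd_card_of_char_ne_two h2
  have h1 := two_mul_card_ind (F := F)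
  rw [card_sq_ne_one, card_sq_one_odd h2] at h1
  have hn₅ := card_half_plus h2 hq
  set n₃ := Nat.card {χ : IrrCharacter (SL(2, F)) // χ.1 1 = ((Fintype.card F + 1 : ℕ) : ℂ)} with hn₃
  set n₄ := Nat.card {χ : IrrCharacter (SL(2, F)) // χ.1 1 = ((Fintype.card F - 1 : ℕ) : ℂ)} with hn₄
  set n₆ := Nat.card {χ : IrrCharacter (SL(2, F)) // χ.1 1 = (((Fintype.card F - 1) / 2 : ℕ) : ℂ)} with hn₆
  have hD : ∀ χ : IrrCharacter (SL(2, F)),
      dN χ ∈ ({1, Fintype.card F, Fintype.card F + 1, (Fintype.card F + 1) / 2, Fintype.card F - 1,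
        (Fintype.card F - 1) / 2} : Finset ℕ) := by
    intro χ
    have := deg_cases χ.2 (dN_spec χ)
    simp only [Finset.mem_insert, Finset.mem_singleton]
    omega
  have hsum := sum_card_deg_sq (G := SL(2, F)) _ hD
  have hcnt := sum_card_deg (G := SL(2, F)) _ hD
  have hcl : Nat.card (ConjClasses (SL(2, F))) = Fintype.card F + 4 := by
    have hodd' : Odd (Fintype.card F) := Nat.odd_iff.2 hodd
    exact Cfsg.Agent.S2325.result hodd'
  rw [hcl] at hcnt
  rw [Finset.sum_insert (by simp; omega), Finset.sum_insert (by simp; omega),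
    Finset.sum_insert (by simp; omega), Finset.sum_insert (by simp; omega),
    Finset.sum_insert (by simp; omega), Finset.sum_singleton, card_deg_one (by omega), card_deg_q,
    Cfsg.Agent.Lib.PSL2.Basic.card_SL2, ← hn₃, ← hn₄, ← hn₆, hn₅] at hsum
  rw [Finset.sum_insert (by simp; omega), Finset.sum_insert (by simp; omega),
    Finset.sum_insert (by simp; omega), Finset.sum_insert (by simp; omega),
    Finset.sum_insert (by simp; omega), Finset.sum_singleton, card_deg_one (by omega), card_deg_q,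
    ← hn₃, ← hn₄, ← hn₆, hn₅] at hcnt
  obtain ⟨m, hm⟩ : ∃ m, Fintype.card F = 2 * m + 1 := ⟨(Fintype.card F - 1) / 2, by omega⟩
  have hm2 : 2 ≤ m := by omega
  rw [hm] at hsum h1 hcnt ⊢
  have e1 : (2 * m + 1 + 1) / 2 = m + 1 := by omega
  have e2 : (2 * m + 1 - 1) / 2 = m := by omega
  have e3 : 2 * m + 1 - 1 = 2 * m := by omega
  have e4 : (2 * m + 1 - 3) / 2 = m - 1 := by omega
  rw [e1, e2, e3] at hsum
  rw [e2, e4]
  rw [e3] at h1
  have hn3 : n₃ = m - 1 := by omega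
  have hsq : (2 * m + 1) ^ 2 - 1 = 2 * m * (2 * m + 2) := by
    have : (2 * m + 1) ^ 2 = 2 * m * (2 * m + 2) + 1 := by ring
    omega
  rw [hsq] at hsum
  obtain ⟨j, rfl⟩ : ∃ j, m = j + 1 := ⟨m - 1, by omega⟩
  simp only [Nat.add_sub_cancel] at hn3
  subst hn3
  have e5 : ((4 * (n₄ : ℤ) + (n₆ : ℤ) - (4 * ((n₃ : ℤ) + 1) + 2)) * ((n₃ : ℤ) + 1) ^ 2) = 0 := by
    zify at hsum
    linear_combination hsum
  have hk0 : (((n₃ : ℤ) + 1) ^ 2) ≠ 0 := by positivity
  have e6 := (mul_eq_zero.1 e5).resolve_right hk0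
  omega

end Cfsg.Agent.Lib.Char.SL2Count
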