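import Mathlib
import Cfsg.Prelude.Def_Characters
import Cfsg.Agent.Lib.Char.SL2Count
import Cfsg.Agent.Lib.PSL2.Macbeath
import Cfsg.Agent.Lib.PSL2.Unipotent

/-!
# The two constituents of a split restriction to `SL₂`

If `χ ≠ χ'` are irreducible characters of `SL₂(F)`, `q` odd, conjugate under `GL₂(F)`, then `χ - χ'`
vanishes off the non-central elements of trace `± 2`, and `(χ - χ')(x 1) ^ 2 = (-1)^((q-1)/2) q`.
-/

set_option autoImplicit false

namespace Cfsg.Agent.Lib.Char.SL2Half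

open Cfsg Cfsg.Agent.Lib.Char.Induced Cfsg.Agent.Lib.Char.Ortho Cfsg.Agent.Lib.Char.Basic
open Cfsg.Agent.Lib.Char.GL2Principal Cfsg.Agent.Lib.Char.GL2Values Cfsg.Agent.Lib.Char.GL2Irr
open Cfsg.Agent.Lib.Char.GL2Count Cfsg.Agent.Lib.Char.SL2Principal Cfsg.Agent.Lib.Char.SL2Split
open Cfsg.Agent.Lib.Char.SL2Res Cfsg.Agent.Lib.Char.SL2Irr
open Cfsg.Agent.Lib.PSL2.Basic Cfsg.Agent.Lib.PSL2.Unipotent
open Matrix.SpecialLinearGroup (toGL)
open scoped ComplexConjugate MatrixGroups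

/-- Central elements act by scalars. -/
theorem central_mul {G : Type*} [Group G] [Finite G] {χ : G → ℂ} (hχ : IsIrrCharacter G χ) (z : G)
    (hz : ∀ g, g * z = z * g) (g : G) : χ (z * g) * χ 1 = χ z * χ g := by
  obtain ⟨n, ρ, hρ, rfl⟩ := hχ
  obtain ⟨a, ha⟩ := Cfsg.Agent.Lib.Char.Integrality.exists_smul_id_of_commute ρ (ρ z) (fun g => by
    show ρ z * ρ g = ρ g * ρ z
    rw [← map_mul, ← map_mul, hz])
  have hc : ρ.character z = a * ρ.character 1 := by
    unfold Representation.character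
    rw [map_one, ha]
    simp only [map_smul, smul_eq_mul]
    congr 1
  have hc2 : ρ.character (z * g) = a * ρ.character g := by
    unfold Representation.character
    rw [map_mul, ha]
    have : (a • (LinearMap.id : (Fin n → ℂ) →ₗ[ℂ] (Fin n → ℂ))) * ρ g = a • ρ g := by
      ext v i
      simp
    rw [this, map_smul, smul_eq_mul]
  rw [hc, hc2]
  ring

variable {F : Type*} [Field F]

/-- Conjugation of `SL₂` by `diag(n, 1)`. -/
def cd (n : Fˣ) (g : SL(2, F)) : SL(2, F) :=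
  sl2 (g.1 0 0) ((n : F) * g.1 0 1) ((n : F)⁻¹ * g.1 1 0) (g.1 1 1) (by
    have h := det_entries g
    have hn : (n : F) ≠ 0 := n.ne_zero
    field_simp
    linear_combination h)

@[simp] theorem cd_00 (n : Fˣ) (g : SL(2, F)) : (cd n g).1 0 0 = g.1 0 0 := rfl
@[simp] theorem cd_01 (n : Fˣ) (g : SL(2, F)) : (cd n g).1 0 1 = (n : F) * g.1 0 1 := rfl
@[simp] theorem cd_10 (n : Fˣ) (g : SL(2, F)) : (cd n g).1 1 0 = (n : F)⁻¹ * g.1 1 0 := rfl
@[simp] theorem cd_11 (n : Fˣ) (g : SL(2, F)) : (cd n g).1 1 1 = g.1 1 1 := rfl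

theorem ent_toGL (s : SL(2, F)) (i j : Fin 2) : ent (toGL s) i j = s.1 i j := rfl

theorem toGL_cd (n : Fˣ) (g : SL(2, F)) :
    toGL (cd n g) = bM n 1 0 * toGL g * (bM n 1 0)⁻¹ := by
  rw [eq_mul_inv_iff_mul_eq]
  have hn : (n : F) ≠ 0 := n.ne_zero
  apply GL2Principal.ext2 <;> simp [ent_toGL] <;> field_simp

theorem cd_x (n : Fˣ) (b : F) : cd n (x b) = x ((n : F) * b) := by
  apply Cfsg.Agent.Lib.PSL2.Basic.ext2 <;> simp

theorem cd_neg (n : Fˣ) (g : SL(2, F)) : cd n (-g) = - cd n g := by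
  apply Cfsg.Agent.Lib.PSL2.Basic.ext2 <;> simp

theorem cd_one (n : Fˣ) : cd n (1 : SL(2, F)) = 1 := by
  apply Cfsg.Agent.Lib.PSL2.Basic.ext2 <;> simp

theorem tr_cd (n : Fˣ) (g : SL(2, F)) : tr (cd n g) = tr g := rfl

theorem conj_cd_of_sq (n : Fˣ) {m : F} (hm0 : m ≠ 0) (hm : (n : F) = m * m) (g : SL(2, F)) :
    d m hm0 * g * (d m hm0)⁻¹ = cd n g := by
  apply Cfsg.Agent.Lib.PSL2.Basic.ext2 <;> simp [hm] <;> field_simp

theorem cl_conj {G : Type*} [Group G] {f : G → ℂ} (hf : IsClassFunction G f) {a b : G} (h : IsConj a b) :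
    f a = f b := by
  obtain ⟨c, rfl⟩ := isConj_iff.1 h
  exact (hf a c).symm

section Pair

variable [Fintype F] [DecidableEq F]

theorem exists_cd {χ χ' : SL(2, F) → ℂ} (hcl : IsClassFunction _ χ') {y : GL2 F}
    (hx : ∀ g h : SL(2, F), toGL h = y * toGL g * y⁻¹ → χ' h = χ g) :
    ∃ n : Fˣ, ∀ g, χ' (cd n g) = χ g := by
  obtain ⟨⟨s, t⟩, rfl⟩ := eGL.surjective y
  refine ⟨t, fun g => ?_⟩
  rw [← hcl (cd t g) s]
  apply hx
  rw [eGL_apply, map_mul, map_mul, toGL_cd, map_inv]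
  group

variable {χ χ' : SL(2, F) → ℂ} (hχ : IsIrrCharacter _ χ) (hχ' : IsIrrCharacter _ χ') (hne : χ ≠ χ')
  {n : Fˣ} (hn : ∀ g, χ' (cd n g) = χ g)

include hχ in
theorem cl₁ : IsClassFunction _ χ := isClassFunction_of_isCharacter (isCharacter_of_isIrrCharacter hχ)

include hχ' hn in
theorem eq_of_tr {g : SL(2, F)} (hg : tr g ^ 2 ≠ 4) : χ' g = χ g := by
  obtain ⟨k, hk⟩ := Cfsg.Agent.Lib.PSL2.Macbeath.exists_conj_of_tr_eq g (cd n g) hg (tr_cd n g).symm
  have := cl₁ hχ' g k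
  rw [hk] at this
  rw [← this, hn]

include hχ' hne hn in
theorem not_isSquare_n : ¬ IsSquare (n : F) := by
  rintro ⟨m, hm⟩
  apply hne
  funext g
  have hm0 : m ≠ 0 := by
    rintro rfl
    exact n.ne_zero (by rw [hm, mul_zero])
  have h1 := conj_cd_of_sq n hm0 hm g
  have h2 := cl₁ hχ' g (d m hm0)
  rw [h1, hn] at h2
  exact h2

include hn in
theorem val_one : χ' 1 = χ 1 := by
  have := hn 1
  rwa [cd_one] at this

include hn in
theorem val_neg_one : χ' (-1) = χ (-1) := by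
  have := hn (-1)
  rwa [cd_neg, cd_one] at this

include hn in
theorem val_x (b : F) : χ' (x ((n : F) * b)) = χ (x b) := by
  rw [← cd_x, hn]

theorem mul_isSquare (h2 : ringChar F ≠ 2) {a b : F} (ha : ¬ IsSquare a) (hb : ¬ IsSquare b) :
    IsSquare (a * b) := by
  have ha0 : a ≠ 0 := by rintro rfl; exact ha (IsSquare.zero)
  have hb0 : b ≠ 0 := by rintro rfl; exact hb (IsSquare.zero)
  have h1 := quadraticChar_neg_one_iff_not_isSquare.2 ha
  have h3 := quadraticChar_neg_one_iff_not_isSquare.2 hb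
  rw [← quadraticChar_one_iff_isSquare (mul_ne_zero ha0 hb0), map_mul, h1, h3]
  norm_num

include hχ hχ' hn in
theorem tau_x_n (h2 : ringChar F ≠ 2) :
    χ (x (n : F)) - χ' (x (n : F)) = - (χ (x 1) - χ' (x 1)) := by
  have hn0 : (n : F) ≠ 0 := n.ne_zero
  have h3 : χ' (x (n : F)) = χ (x 1) := by
    have := val_x hn (1 : F)
    rwa [mul_one] at this
  have h4 : χ' (x 1) = χ (x (n : F)⁻¹) := by
    have := val_x hn ((n : F)⁻¹)
    rwa [mul_inv_cancel₀ hn0] at this
  have h5 : IsConj (x (n : F)⁻¹) (x (n : F)) := by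
    rw [isConj_x_iff (inv_ne_zero hn0) hn0, inv_mul_cancel₀ hn0]
    exact IsSquare.one
  rw [h3, h4, cl_conj (cl₁ hχ) h5]
  ring

include hχ hχ' hne hn in
theorem tau_x (h2 : ringChar F ≠ 2) {b : F} (hb : b ≠ 0) :
    ‖χ (x b) - χ' (x b)‖ = ‖χ (x 1) - χ' (x 1)‖ := by
  by_cases hs : IsSquare b
  · have h5 : IsConj (x b) (x 1) := by
      rw [isConj_x_iff hb one_ne_zero, mul_one]
      exact hs
    rw [cl_conj (cl₁ hχ) h5, cl_conj (cl₁ hχ') h5]
  · have h5 : IsConj (x b) (x (n : F)) := by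
      rw [isConj_x_iff hb n.ne_zero]
      exact mul_isSquare h2 hs (not_isSquare_n hχ' hne hn)
    rw [cl_conj (cl₁ hχ) h5, cl_conj (cl₁ hχ') h5, tau_x_n hχ hχ' hn h2, norm_neg]

include hχ hχ' hne hn in
theorem tau_tr_two (h2 : ringChar F ≠ 2) {g : SL(2, F)} (htr : tr g = 2) (hg : g ≠ 1) :
    ‖χ g - χ' g‖ = ‖χ (x 1) - χ' (x 1)‖ := by
  obtain ⟨a, b, hb, hab⟩ := exists_conj_x_ne_of_tr_eq_two g htr hg
  have h5 : IsConj g (x b) := isConj_iff.2 ⟨a, hab⟩
  rw [cl_conj (cl₁ hχ) h5, cl_conj (cl₁ hχ') h5]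
  exact tau_x hχ hχ' hne hn h2 hb

include hχ hχ' hn in
theorem tau_neg (g : SL(2, F)) : ‖χ (-g) - χ' (-g)‖ = ‖χ g - χ' g‖ := by
  have hz : ∀ k : SL(2, F), k * (-1) = (-1) * k := fun k => by simp
  have h1 := central_mul hχ (-1) hz g
  have h3 := central_mul hχ' (-1) hz g
  rw [val_one hn, val_neg_one hn, neg_mul, one_mul] at h3
  rw [neg_mul, one_mul] at h1
  have h4 : χ 1 ≠ 0 := irr_apply_one_ne_zero hχ
  have h5 : ‖χ (-1)‖ = ‖χ 1‖ := norm_of_central hχ (-1) hz
  have h6 : (χ (-g) - χ' (-g)) * χ 1 = χ (-1) * (χ g - χ' g) := by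
    linear_combination h1 - h3
  have h7 := congrArg norm h6
  rw [norm_mul, norm_mul, h5, mul_comm] at h7
  exact mul_left_cancel₀ (norm_ne_zero_iff.2 h4) h7

include hχ' hn in
theorem tau_zero {g : SL(2, F)} (hg : tr g ^ 2 ≠ 4) : χ g - χ' g = 0 := by
  rw [eq_of_tr hχ' hn hg, sub_self]

/-- The elements of trace two other than `1`. -/
noncomputable def A (n : Fˣ) : Finset (SL(2, F)) :=
  Cfsg.Agent.Lib.Char.Integrality.classFinset (x 1) ∪ Cfsg.Agent.Lib.Char.Integrality.classFinset (x (n : F))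

theorem mem_A_iff (h2 : ringChar F ≠ 2) {n : Fˣ} (hn : ¬ IsSquare (n : F)) (g : SL(2, F)) :
    g ∈ A n ↔ tr g = 2 ∧ g ≠ 1 := by
  unfold A
  rw [Finset.mem_union, Cfsg.Agent.Lib.Char.Integrality.mem_classFinset,
    Cfsg.Agent.Lib.Char.Integrality.mem_classFinset]
  have key : ∀ b : F, b ≠ 0 → IsConj (x b) g → tr g = 2 ∧ g ≠ 1 := by
    intro b hb h
    obtain ⟨c, rfl⟩ := isConj_iff.1 h
    refine ⟨by simp, ?_⟩
    intro h1
    have h3 : x b = 1 := by
      have : c * x b * c⁻¹ = c * 1 * c⁻¹ := by simpa using h1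
      simpa using this
    have h4 := congrArg (fun M : SL(2, F) => M.1 0 1) h3
    simp at h4
    exact hb h4
  constructor
  · rintro (h | h)
    · exact key 1 one_ne_zero h
    · exact key _ n.ne_zero h
  · rintro ⟨htr, hg⟩
    obtain ⟨a, b, hb, hab⟩ := exists_conj_x_ne_of_tr_eq_two g htr hg
    have h5 : IsConj (x b) g := (isConj_iff.2 ⟨a, hab⟩).symm
    by_cases hs : IsSquare b
    · left
      refine IsConj.trans ?_ h5
      rw [isConj_x_iff one_ne_zero hb, one_mul]
      exact hs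
    · right
      refine IsConj.trans ?_ h5
      rw [isConj_x_iff n.ne_zero hb]
      exact mul_isSquare h2 hn hs

theorem card_A (h2 : ringChar F ≠ 2) {n : Fˣ} (hn : ¬ IsSquare (n : F)) :
    (A n : Finset (SL(2, F))).card = Fintype.card F ^ 2 - 1 := by
  have h20 : (2 : F) ≠ 0 := Ring.two_ne_zero h2
  have hdisj : Disjoint (Cfsg.Agent.Lib.Char.Integrality.classFinset (x (1 : F)))
      (Cfsg.Agent.Lib.Char.Integrality.classFinset (x (n : F))) := by
    rw [Finset.disjoint_left]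
    intro g h1 h3
    rw [Cfsg.Agent.Lib.Char.Integrality.mem_classFinset] at h1 h3
    have h4 := (isConj_x_iff one_ne_zero n.ne_zero).1 (h1.trans h3.symm)
    rw [one_mul] at h4
    exact hn h4
  have hc : ∀ b : F, b ≠ 0 → (Cfsg.Agent.Lib.Char.Integrality.classFinset (x b)).card
      = (Fintype.card F ^ 2 - 1) / 2 := by
    intro b hb
    rw [Cfsg.Agent.Lib.Char.Integrality.card_classFinset, ← card_carrier_eq_index,
      card_class_x_of_two_ne_zero h20 hb]
  unfold A
  rw [Finset.card_union_of_disjoint hdisj, hc 1 one_ne_zero, hc _ n.ne_zero]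
  have hodd := FiniteField.odd_card_of_char_ne_two h2
  have h3 : (Fintype.card F ^ 2) % 2 = 1 := by
    rw [Nat.pow_mod, hodd]
  omega

include hχ hχ' hne hn in
/-- The norm of the difference at a transvection. -/
theorem norm_tau_sq (h2 : ringChar F ≠ 2) :
    ‖χ (x 1) - χ' (x 1)‖ ^ 2 = (Fintype.card F : ℝ) := by
  have h20 : (2 : F) ≠ 0 := Ring.two_ne_zero h2
  have hn2 := not_isSquare_n hχ' hne hn
  have hinner : classInner (χ - χ') (χ - χ') = 2 := by
    rw [classInner_sub_left, classInner_sub_right, classInner_sub_right, classInner_irr_self hχ,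
      classInner_irr_self hχ', classInner_irr_of_ne hχ hχ' hne, classInner_irr_of_ne hχ' hχ hne.symm]
    ring
  rw [classInner_self_eq] at hinner
  have hsum : ∑ g : SL(2, F), ‖(χ - χ') g‖ ^ 2
      = (2 * (Fintype.card F ^ 2 - 1 : ℕ) : ℝ) * ‖χ (x 1) - χ' (x 1)‖ ^ 2 := by
    set c := ‖χ (x 1) - χ' (x 1)‖ ^ 2 with hc
    have h1 : ∀ g : SL(2, F), ‖(χ - χ') g‖ ^ 2
        = (if g ∈ A n then c else 0) + (if -g ∈ A n then c else 0) := by
      intro g
      simp only [Pi.sub_apply]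
      by_cases hg : g ∈ A n
      · have hg' := (mem_A_iff h2 hn2 g).1 hg
        have hng : -g ∉ A n := by
          intro hng
          have := ((mem_A_iff h2 hn2 (-g)).1 hng).1
          rw [tr_neg, hg'.1] at this
          apply h20
          have h5 : (4 : F) = 0 := by linear_combination -this
          have h6 : (2 : F) * 2 = 0 := by linear_combination h5
          exact (mul_self_eq_zero.1 h6)
        rw [if_pos hg, if_neg hng, add_zero, hc, tau_tr_two hχ hχ' hne hn h2 hg'.1 hg'.2]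
      · by_cases hng : -g ∈ A n
        · have hg' := (mem_A_iff h2 hn2 (-g)).1 hng
          rw [if_neg hg, if_pos hng, zero_add, hc, ← tau_tr_two hχ hχ' hne hn h2 hg'.1 hg'.2,
            tau_neg hχ hχ' hn]
        · rw [if_neg hg, if_neg hng, add_zero]
          have h0 : χ g - χ' g = 0 := by
            by_cases ht : tr g ^ 2 = 4
            · have h5 : (tr g - 2) * (tr g + 2) = 0 := by linear_combination ht
              rcases mul_eq_zero.1 h5 with h6 | h6
              · have h7 : tr g = 2 := by linear_combination h6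
                have h8 : g = 1 := by
                  by_contra h8
                  exact hg ((mem_A_iff h2 hn2 g).2 ⟨h7, h8⟩)
                rw [h8, val_one hn, sub_self]
              · have h7 : tr (-g) = 2 := by
                  rw [tr_neg]
                  linear_combination -h6
                have h8 : -g = 1 := by
                  by_contra h8
                  exact hng ((mem_A_iff h2 hn2 (-g)).2 ⟨h7, h8⟩)
                have h9 : g = -1 := by
                  rw [← h8, neg_neg]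
                rw [h9, val_neg_one hn, sub_self]
            · exact tau_zero hχ' hn ht
          rw [h0]
          simp
    simp only [h1]
    rw [Finset.sum_add_distrib]
    have h3 : ∑ g : SL(2, F), (if -g ∈ A n then c else 0) = ∑ g : SL(2, F), (if g ∈ A n then c else 0) :=
      Equiv.sum_comp (Equiv.neg (SL(2, F))) (fun g => if g ∈ A n then c else 0)
    rw [h3, Finset.sum_ite_mem, Finset.univ_inter, Finset.sum_const, card_A h2 hn2]
    simp only [nsmul_eq_mul]
    ring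
  rw [hsum] at hinner
  have hinner' : (Nat.card (SL(2, F)) : ℝ)⁻¹ * ((2 * (Fintype.card F ^ 2 - 1 : ℕ) : ℝ) * ‖χ (x 1) - χ' (x 1)‖ ^ 2) = 2 := by
    exact_mod_cast hinner
  rw [card_SL2] at hinner'
  have hq : 1 < Fintype.card F := Fintype.one_lt_card
  have hsq : 1 < Fintype.card F ^ 2 := by nlinarith
  have hpos : ((Fintype.card F ^ 2 - 1 : ℕ) : ℝ) ≠ 0 := by
    have : Fintype.card F ^ 2 - 1 ≠ 0 := by omega
    exact_mod_cast this
  have hqpos : (Fintype.card F : ℝ) ≠ 0 := by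
    have : Fintype.card F ≠ 0 := by omega
    exact_mod_cast this
  push_cast at hinner'
  field_simp at hinner'
  linarith

include hχ hχ' hne hn in
/-- The square of the difference at a transvection. -/
theorem tau_sq (h2 : ringChar F ≠ 2) :
    (χ (x 1) - χ' (x 1)) ^ 2 = (-1 : ℂ) ^ ((Fintype.card F - 1) / 2) * (Fintype.card F : ℂ) := by
  have hodd := FiniteField.odd_card_of_char_ne_two h2
  have hnorm := norm_tau_sq hχ hχ' hne hn h2
  have hn2 := not_isSquare_n hχ' hne hn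
  set t := χ (x 1) - χ' (x 1) with ht
  have hmc : t * conj t = (Fintype.card F : ℂ) := by
    rw [Complex.mul_conj, Complex.normSq_eq_norm_sq, hnorm]
    simp
  have hconj : conj t = χ (x (-1)) - χ' (x (-1)) := by
    rw [ht, map_sub, Cfsg.Agent.Lib.Char.Ortho.conj_of_isCharacter (isCharacter_of_isIrrCharacter hχ),
      Cfsg.Agent.Lib.Char.Ortho.conj_of_isCharacter (isCharacter_of_isIrrCharacter hχ'), x_inv]
  by_cases h3 : Fintype.card F % 4 = 3
  · have hm : ¬ IsSquare (-1 : F) := by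
      rw [FiniteField.isSquare_neg_one_iff]
      simpa using h3
    have h5 : IsConj (x (-1 : F)) (x (n : F)) := by
      rw [isConj_x_iff (neg_ne_zero.2 one_ne_zero) n.ne_zero]
      exact mul_isSquare h2 hm hn2
    rw [cl_conj (cl₁ hχ) h5, cl_conj (cl₁ hχ') h5, tau_x_n hχ hχ' hn h2, ← ht] at hconj
    have h6 : Odd ((Fintype.card F - 1) / 2) := by
      rw [Nat.odd_iff]
      omega
    rw [h6.neg_one_pow, ← hmc, hconj]
    ring
  · have hm : IsSquare (-1 : F) := by
      rw [FiniteField.isSquare_neg_one_iff]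
      exact h3
    have h5 : IsConj (x (-1 : F)) (x (1 : F)) := by
      rw [isConj_x_iff (neg_ne_zero.2 one_ne_zero) one_ne_zero, mul_one]
      exact hm
    rw [cl_conj (cl₁ hχ) h5, cl_conj (cl₁ hχ') h5, ← ht] at hconj
    have h6 : Even ((Fintype.card F - 1) / 2) := by
      rw [Nat.even_iff]
      omega
    rw [h6.neg_one_pow, ← hmc, hconj]
    ring

end Pair

section Cases

variable [Fintype F] [DecidableEq F]

theorem pair_sq (h2 : ringChar F ≠ 2) {χ χ' : SL(2, F) → ℂ} (hχ : IsIrrCharacter _ χ)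
    (hχ' : IsIrrCharacter _ χ') (hne : χ ≠ χ') {y : GL2 F}
    (hx : ∀ g h : SL(2, F), toGL h = y * toGL g * y⁻¹ → χ' h = χ g) :
    (χ (x 1) - χ' (x 1)) ^ 2 = (-1 : ℂ) ^ ((Fintype.card F - 1) / 2) * (Fintype.card F : ℂ) := by
  obtain ⟨n, hn⟩ := exists_cd (cl₁ hχ') hx
  exact tau_sq hχ hχ' hne hn h2

theorem eq_of_tr_pair {χ χ' : SL(2, F) → ℂ} (hχ' : IsIrrCharacter _ χ') {y : GL2 F}
    (hx : ∀ g h : SL(2, F), toGL h = y * toGL g * y⁻¹ → χ' h = χ g) {g : SL(2, F)}
    (hg : tr g ^ 2 ≠ 4) : χ' g = χ g := by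
  obtain ⟨n, hn⟩ := exists_cd (cl₁ hχ') hx
  exact eq_of_tr hχ' hn hg

theorem ringChar_ne_two (hodd : Odd (Fintype.card F)) : ringChar F ≠ 2 := by
  intro h
  have := FiniteField.even_card_of_char_two h
  rw [Nat.odd_iff] at hodd
  omega

theorem eq_x_one (u : SL(2, F)) (hu : (u : Matrix (Fin 2) (Fin 2) F) = !![1, 1; 0, 1]) : u = x 1 := by
  apply Cfsg.Agent.Lib.PSL2.Basic.ext2 <;> simp [hu]

theorem half_plus_case (hodd : Odd (Fintype.card F)) (hq : 5 ≤ Fintype.card F) {χ : SL(2, F) → ℂ}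
    (hχ : IsIrrCharacter (SL(2, F)) χ) (hd : χ 1 = (((Fintype.card F + 1) / 2 : ℕ) : ℂ)) :
    ∃ γ : MulChar F ℂ, γ ^ 2 = 1 ∧ γ ≠ 1 ∧ ∃ χ' : SL(2, F) → ℂ, IsIrrCharacter (SL(2, F)) χ' ∧
      χ ≠ χ' ∧ indFun (BorS F) (chiS γ) = χ + χ' ∧
      ∃ y : GL2 F, ∀ g h : SL(2, F), toGL h = y * toGL g * y⁻¹ → χ' h = χ g := by
  rw [Nat.odd_iff] at hodd
  rcases irrS_cases_nat hχ hd with h | h | h | h | h | h
  · omega
  · omega
  · omega
  · exact h.2
  · omega
  · omega

theorem half_minus_case (hodd : Odd (Fintype.card F)) (hq : 5 ≤ Fintype.card F) {χ : SL(2, F) → ℂ}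
    (hχ : IsIrrCharacter (SL(2, F)) χ) (hd : χ 1 = (((Fintype.card F - 1) / 2 : ℕ) : ℂ)) :
    ∃ θ : GL2 F → ℂ, IsIrrCharacter (GL2 F) θ ∧ IsCusp θ ∧ ∃ χ' : SL(2, F) → ℂ,
      IsIrrCharacter (SL(2, F)) χ' ∧ χ ≠ χ' ∧ (fun s => θ (toGL s)) = χ + χ' ∧
      ∃ y : GL2 F, ∀ g h : SL(2, F), toGL h = y * toGL g * y⁻¹ → χ' h = χ g := by
  rw [Nat.odd_iff] at hodd
  rcases irrS_cases_nat hχ hd with h | h | h | h | h | h
  · omega
  · omega
  · omega
  · omega
  · omega
  · exact h.2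

/-- An element with no eigenvector has `tr ^ 2 ≠ 4`. -/
theorem tr_sq_ne_of_elliptic {g : SL(2, F)} (h2 : (2 : F) ≠ 0)
    (hg : ∀ (c : F) (v : Fin 2 → F), v ≠ 0 → (g : Matrix (Fin 2) (Fin 2) F).mulVec v ≠ c • v) :
    tr g ^ 2 ≠ 4 := by
  intro ht
  obtain ⟨c, h3⟩ : ∃ c : F, tr g = 2 * c := ⟨tr g / 2, by field_simp⟩
  have hcc : c * c = 1 := by
    have h4 : (2 : F) * 2 * (c * c) = 2 * 2 * 1 := by
      rw [h3] at ht
      linear_combination ht
    exact mul_left_cancel₀ (mul_ne_zero h2 h2) h4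
  have hdet : ((g : Matrix (Fin 2) (Fin 2) F) - c • 1).det = 0 := by
    rw [Matrix.det_fin_two]
    have hd := det_entries g
    have ht' : g.1 0 0 + g.1 1 1 = 2 * c := h3
    simp only [Matrix.sub_apply, Matrix.smul_apply, Matrix.one_apply_eq, smul_eq_mul, mul_one]
    simp only [Matrix.one_apply_ne (show (0 : Fin 2) ≠ 1 by decide),
      Matrix.one_apply_ne (show (1 : Fin 2) ≠ 0 by decide), mul_zero, sub_zero]
    linear_combination hd - c * ht' - hcc
  obtain ⟨v, hv, hv0⟩ := Matrix.exists_mulVec_eq_zero_iff.2 hdet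
  apply hg c v hv
  rw [Matrix.sub_mulVec, sub_eq_zero] at hv0
  rw [hv0, Matrix.smul_mulVec, Matrix.one_mulVec]

/-- A diagonal element with `a ^ 2 ≠ 1` has `tr ^ 2 ≠ 4`. -/
theorem tr_sq_ne_of_diag {g : SL(2, F)} (h01 : g.1 0 1 = 0) (hsq : g.1 0 0 ^ 2 ≠ 1) :
    tr g ^ 2 ≠ 4 := by
  intro ht
  have hd := det_entries g
  rw [h01, zero_mul, sub_zero] at hd
  have h00 : g.1 0 0 ≠ 0 := left_ne_zero_of_mul_eq_one hd
  apply hsq
  have ht' : (g.1 0 0 + g.1 1 1) ^ 2 = 4 := ht
  have h5 : (g.1 0 0 ^ 2 - 1) ^ 2 = 0 := by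
    have h6 : (g.1 0 0) ^ 2 * (g.1 0 0 + g.1 1 1) ^ 2 = (g.1 0 0) ^ 2 * 4 := by rw [ht']
    have h7 : (g.1 0 0) * (g.1 0 0 + g.1 1 1) = g.1 0 0 ^ 2 + 1 := by
      linear_combination hd
    have h8 : (g.1 0 0 ^ 2 + 1) ^ 2 = (g.1 0 0) ^ 2 * 4 := by
      rw [← h7, ← h6]
      ring
    linear_combination h8
  have := pow_eq_zero_iff (two_ne_zero) |>.1 h5
  linear_combination this

/-- The value of a cuspidal character at a diagonal element. -/
theorem cusp_diag_S {θ : GL2 F → ℂ} (hθ : IsClassFunction _ θ) (hc : IsCusp θ) {g : SL(2, F)}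
    (h01 : g.1 0 1 = 0) (h10 : g.1 1 0 = 0) (hsq : g.1 0 0 ^ 2 ≠ 1) : θ (toGL g) = 0 := by
  have hd := det_entries g
  rw [h01, zero_mul, sub_zero] at hd
  have h00 : g.1 0 0 ≠ 0 := left_ne_zero_of_mul_eq_one hd
  have h11 : g.1 1 1 ≠ 0 := right_ne_zero_of_mul_eq_one hd
  have e : toGL g = bM (Units.mk0 _ h00) (Units.mk0 _ h11) 0 := by
    apply GL2Principal.ext2 <;> simp [ent_toGL, h01, h10]
  rw [e]
  apply cusp_diag hθ hc
  intro h
  have h5 : g.1 0 0 = g.1 1 1 := congrArg Units.val h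
  apply hsq
  rw [sq]
  nth_rw 2 [h5]
  exact hd

/-- The value of a cuspidal character at a transvection. -/
theorem cusp_x {θ : GL2 F → ℂ} (hθ : IsIrrCharacter _ θ) (hc : IsCusp θ) {b : F} (hb : b ≠ 0) :
    θ (toGL (x b)) = -1 := by
  have h1 : x b = cd (Units.mk0 b hb) (x 1) := by
    rw [cd_x]
    simp
  rw [h1, toGL_cd, isClassFunction_of_isCharacter (isCharacter_of_isIrrCharacter hθ), toGL_u (x (1 : F)) (by ext i j; fin_cases i <;> fin_cases j <;> rfl), cusp_u hθ hc]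

theorem norm_neg_irr {χ : SL(2, F) → ℂ} (hχ : IsIrrCharacter _ χ) (g : SL(2, F)) :
    ‖χ (-g)‖ = ‖χ g‖ := by
  have hz : ∀ k : SL(2, F), k * (-1) = (-1) * k := fun k => by simp
  have h1 := central_mul hχ (-1) hz g
  rw [neg_mul, one_mul] at h1
  have h4 : χ 1 ≠ 0 := irr_apply_one_ne_zero hχ
  have h5 : ‖χ (-1)‖ = ‖χ 1‖ := norm_of_central hχ (-1) hz
  have h7 := congrArg norm h1
  rw [norm_mul, norm_mul, h5, mul_comm] at h7
  exact mul_left_cancel₀ (norm_ne_zero_iff.2 h4) h7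

/-- For `q = 3`, an irreducible restriction of a cuspidal character vanishes at trace zero. -/
theorem q3_vanish (hq3 : Fintype.card F = 3) {θ : GL2 F → ℂ} (hθ : IsIrrCharacter _ θ) (hc : IsCusp θ)
    (hχ : IsIrrCharacter (SL(2, F)) (fun s => θ (toGL s))) {g₀ : SL(2, F)} (htr : tr g₀ = 0) :
    θ (toGL g₀) = 0 := by
  have hodd : Odd (Fintype.card F) := by rw [hq3]; decide
  have h2 : ringChar F ≠ 2 := ringChar_ne_two hodd
  have h20 : (2 : F) ≠ 0 := Ring.two_ne_zero h2
  have h40 : (2 : F) ≠ -2 := by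
    intro h
    have h5 : (2 : F) * 2 = 0 := by linear_combination h
    exact h20 (mul_self_eq_zero.1 h5)
  have hm : ¬ IsSquare (-1 : F) := by
    rw [FiniteField.isSquare_neg_one_iff]
    simp [hq3]
  have hn : ¬ IsSquare (((-1 : Fˣ) : Fˣ) : F) := by simpa using hm
  set n : Fˣ := -1 with hndef
  set χ : SL(2, F) → ℂ := fun s => θ (toGL s) with hχdef
  set f : SL(2, F) → ℝ := fun g => ‖χ g‖ ^ 2 with hf
  have hf0 : ∀ g, 0 ≤ f g := fun g => by positivity
  have hsum : ∑ g, f g = 24 := by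
    have h3 := classInner_self_eq χ
    rw [classInner_irr_self hχ, Cfsg.Agent.Lib.PSL2.Basic.card_SL2, hq3] at h3
    have h4 : ((((3 * (3 ^ 2 - 1) : ℕ) : ℝ)⁻¹ * ∑ g, ‖χ g‖ ^ 2 : ℝ)) = 1 := by
      exact_mod_cast h3.symm
    norm_num at h4
    simp only [hf]
    linarith
  have hd : ‖χ 1‖ = 2 := by
    have h3 : χ 1 = θ 1 := by simp [hχdef]
    rw [h3, cusp_degree hθ hc, hq3]
    norm_num
  have hf1 : f 1 = 4 := by
    simp only [hf]
    rw [hd]
    norm_num
  have hfm1 : f (-1) = 4 := by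
    have hz : ∀ k : SL(2, F), k * (-1) = (-1) * k := fun k => by simp
    simp only [hf]
    rw [norm_of_central hχ (-1) hz, hd]
    norm_num
  have hfA : ∀ g, g ∈ A n → f g = 1 := by
    intro g hg
    have hg' := (mem_A_iff h2 hn g).1 hg
    obtain ⟨a, b, hb, hab⟩ := exists_conj_x_ne_of_tr_eq_two g hg'.1 hg'.2
    have h5 : IsConj g (x b) := isConj_iff.2 ⟨a, hab⟩
    simp only [hf]
    rw [cl_conj (cl₁ hχ) h5, hχdef]
    simp only
    rw [cusp_x hθ hc hb]
    simp
  have hfA' : ∀ g, -g ∈ A n → f g = 1 := by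
    intro g hg
    have h5 := hfA _ hg
    simp only [hf] at h5 ⊢
    rwa [norm_neg_irr hχ] at h5
  classical
  have hle : ∀ g : SL(2, F), (if g ∈ A n then (1 : ℝ) else 0) + (if -g ∈ A n then (1 : ℝ) else 0)
      + (if g = 1 then (4 : ℝ) else 0) + (if g = -1 then (4 : ℝ) else 0)
      + (if g = g₀ then f g₀ else 0) ≤ f g := by
    intro g
    have hm1 : (1 : SL(2, F)) ≠ -1 := by
      intro h
      have := congrArg tr h
      rw [tr_neg, tr_one] at this
      exact h40 this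
    by_cases h1 : g ∈ A n
    · have h1' := (mem_A_iff h2 hn g).1 h1
      have h3 : -g ∉ A n := by
        intro h
        have := ((mem_A_iff h2 hn _).1 h).1
        rw [tr_neg, h1'.1] at this
        exact h40 (by linear_combination -this)
      have h4 : g ≠ -1 := by
        rintro rfl
        have := h1'.1
        rw [tr_neg, tr_one] at this
        exact h40 this.symm
      have h5 : g ≠ g₀ := by
        rintro rfl
        rw [h1'.1] at htr
        exact h20 htr
      rw [if_pos h1, if_neg h3, if_neg h1'.2, if_neg h4, if_neg h5, hfA g h1]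
      norm_num
    · by_cases h3 : -g ∈ A n
      · have h1' := (mem_A_iff h2 hn _).1 h3
        have ht : tr g = -2 := by
          have := h1'.1
          rw [tr_neg] at this
          linear_combination -this
        have h4 : g ≠ 1 := by
          rintro rfl
          rw [tr_one] at ht
          exact h40 ht
        have h5 : g ≠ -1 := by
          intro h
          apply h1'.2
          rw [h, neg_neg]
        have h6 : g ≠ g₀ := by
          rintro rfl
          rw [ht] at htr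
          exact h20 (neg_eq_zero.1 htr)
        rw [if_neg h1, if_pos h3, if_neg h4, if_neg h5, if_neg h6, hfA' g h3]
        norm_num
      · by_cases h4 : g = 1
        · subst h4
          have h5 : (1 : SL(2, F)) ≠ g₀ := by
            rintro rfl
            rw [tr_one] at htr
            exact h20 htr
          rw [if_neg h1, if_neg h3, if_pos rfl, if_neg hm1, if_neg h5, hf1]
          norm_num
        · by_cases h5 : g = -1
          · subst h5
            have h6 : (-1 : SL(2, F)) ≠ g₀ := by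
              rintro rfl
              rw [tr_neg, tr_one] at htr
              exact h20 (neg_eq_zero.1 htr)
            rw [if_neg h1, if_neg h3, if_neg h4, if_pos rfl, if_neg h6, hfm1]
            norm_num
          · by_cases h6 : g = g₀
            · subst h6
              rw [if_neg h1, if_neg h3, if_neg h4, if_neg h5, if_pos rfl]
              norm_num
            · rw [if_neg h1, if_neg h3, if_neg h4, if_neg h5, if_neg h6]
              norm_num
              exact hf0 g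
  have hS := Finset.sum_le_sum (s := Finset.univ) (fun g _ => hle g)
  rw [hsum] at hS
  simp only [Finset.sum_add_distrib] at hS
  have h3 : ∑ g : SL(2, F), (if -g ∈ A n then (1 : ℝ) else 0) = ∑ g : SL(2, F), (if g ∈ A n then (1 : ℝ) else 0) :=
    Equiv.sum_comp (Equiv.neg (SL(2, F))) (fun g => if g ∈ A n then (1 : ℝ) else 0)
  have h4 : ∑ g : SL(2, F), (if g ∈ A n then (1 : ℝ) else 0) = 8 := by
    rw [Finset.sum_ite_mem, Finset.univ_inter, Finset.sum_const, card_A h2 hn, hq3]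
    norm_num
  rw [h3, h4, Finset.sum_ite_eq', Finset.sum_ite_eq', Finset.sum_ite_eq'] at hS
  simp only [Finset.mem_univ, if_true] at hS
  have h5 : f g₀ = 0 := by
    have := hf0 g₀
    linarith
  have h6 : ‖χ g₀‖ ^ 2 = 0 := h5
  have h7 := pow_eq_zero_iff (two_ne_zero) |>.1 h6
  exact norm_eq_zero.1 h7

end Cases

section Sums

variable [Fintype F] [DecidableEq F]

/-- The sum over the upper unitriangular subgroup. -/
theorem sum_unitri (f : SL(2, F) → ℂ) :
    (∑ g : SL(2, F), if (g : Matrix (Fin 2) (Fin 2) F) 1 0 = 0 ∧ (g : Matrix (Fin 2) (Fin 2) F) 0 0 = 1 ∧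
      (g : Matrix (Fin 2) (Fin 2) F) 1 1 = 1 then f g else 0) = ∑ c : F, f (x c) := by
  rw [← Finset.sum_filter]
  symm
  refine Finset.sum_bij (fun c _ => x c) ?_ ?_ ?_ ?_
  · intro c _
    simp
  · intro c _ d _ h
    exact x_injective h
  · intro g hg
    simp only [Finset.mem_filter, Finset.mem_univ, true_and] at hg
    refine ⟨g.1 0 1, Finset.mem_univ _, ?_⟩
    apply Cfsg.Agent.Lib.PSL2.Basic.ext2 <;> simp [hg.1, hg.2.1, hg.2.2]
  · intro c _
    rfl

theorem sum_x_pair {χ χ' : SL(2, F) → ℂ} (hχ' : IsIrrCharacter _ χ') {y : GL2 F}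
    (hx : ∀ g h : SL(2, F), toGL h = y * toGL g * y⁻¹ → χ' h = χ g) :
    ∑ c : F, χ' (x c) = ∑ c : F, χ (x c) := by
  obtain ⟨n, hn⟩ := exists_cd (cl₁ hχ') hx
  have hn0 : (n : F) ≠ 0 := n.ne_zero
  rw [← Equiv.sum_comp (Equiv.mulLeft₀ (n : F) hn0) (fun c => χ' (x c))]
  refine Finset.sum_congr rfl fun c _ => ?_
  exact val_x hn c

theorem sum_x_eq_add (f : F → ℂ) : ∑ c : F, f c = f 0 + ∑ c ∈ Finset.univ.erase (0 : F), f c :=
  (Finset.add_sum_erase _ _ (Finset.mem_univ _)).symm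

theorem sum_x_of_ne (f : F → ℂ) (a : ℂ) (h : ∀ c, c ≠ 0 → f c = a) :
    ∑ c : F, f c = f 0 + ((Fintype.card F : ℂ) - 1) * a := by
  rw [sum_x_eq_add, Finset.sum_congr rfl (g := fun _ => a) (fun c hc => h c (Finset.ne_of_mem_erase hc)),
    Finset.sum_const, Finset.card_erase_of_mem (Finset.mem_univ _), Finset.card_univ, nsmul_eq_mul,
    Nat.cast_sub Fintype.card_pos]
  simp

theorem sum_x_ind (γ : MulChar F ℂ) :
    ∑ c : F, indFun (BorS F) (chiS γ) (x c) = 2 * (Fintype.card F : ℂ) := by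
  rw [sum_x_of_ne _ 1, x_zero, indS_one]
  · ring
  · intro c hc
    rw [indS_unip γ (x c) (by simp) (by simp) (by simpa using hc)]
    simp

theorem sum_x_St : ∑ c : F, (StS : SL(2, F) → ℂ) (x c) = (Fintype.card F : ℂ) := by
  rw [sum_x_of_ne _ 0, x_zero, StS_one]
  · ring
  · intro c hc
    unfold StS
    rw [Pi.sub_apply, indS_unip 1 (x c) (by simp) (by simp) (by simpa using hc)]
    simp

theorem sum_x_cusp {θ : GL2 F → ℂ} (hθ : IsIrrCharacter _ θ) (hc : IsCusp θ) :
    ∑ c : F, θ (toGL (x c)) = 0 := by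
  rw [sum_x_of_ne _ (-1), x_zero, map_one, cusp_degree hθ hc]
  · ring
  · intro c hc'
    exact cusp_x hθ hc hc'

end Sums

end Cfsg.Agent.Lib.Char.SL2Half
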