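import Mathlib
import Cfsg.Agent.Lib.Char.GlaubAb
import Cfsg.Agent.Lib.Char.CoprimeCount
import Cfsg.Agent.Lib.Char.SL2Half
import Cfsg.Agent.Lib.Char.QuotRep
import Cfsg.Agent.Lib.Char.DegreeDvd

/-!
# Invariant constituents over coprime layers (Isaacs 13.28)

Let `N ≤ G` be normal subgroups of `Γ` with `(|Γ : G|, |G : N|) = 1` and `Γ/G` or `G/N` solvable.
An invariant `ϑ ∈ Irr(N)` lies under an invariant `χ ∈ Irr(G)`.
-/

set_option autoImplicit false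
set_option linter.style.haveILetI false

namespace Cfsg.Agent.Lib.Char.CoprimeLayers

open Cfsg Module Cfsg.Agent.Lib.Char.Basic Cfsg.Agent.Lib.Char.Ortho
open Cfsg.Agent.Lib.Char.GlaubRel Cfsg.Agent.Lib.Char.GlaubP Cfsg.Agent.Lib.Char.GlaubClif
open Cfsg.Agent.Lib.Char.GlaubOver Cfsg.Agent.Lib.Char.GlaubAb
open scoped ComplexConjugate

universe u

section CaseA

variable {Γ : Type u} [Group Γ] [Finite Γ]

/-- The solvable section, with the action through a subgroup `U ≥ N` with `U/N` of coprime order. -/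
theorem exists_inv_section {U : Subgroup Γ} : ∀ (n : ℕ) (G N : Subgroup Γ) [Fintype G] [Fintype N]
    [(N.subgroupOf G).Normal], N.relIndex G = n → (∀ s ∈ U, ∀ g ∈ G, s * g * s⁻¹ ∈ G) → ∀ hNG : N ≤ G,
    N ≤ U → (∀ s ∈ U, ∀ n ∈ N, s * n * s⁻¹ ∈ N) → (N.relIndex G).Coprime (N.relIndex U) →
    Group.IsSolvable (G ⧸ N.subgroupOf G) → ∀ ϑ : IrrCharacter N, SInv U (ϑ : N → ℂ) →
    ∃ χ : IrrCharacter G, classInner (resC hNG (χ : G → ℂ)) (ϑ : N → ℂ) ≠ 0 ∧ SInv U (χ : G → ℂ) := by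
  intro n
  induction n using Nat.strong_induction_on with
  | _ n ih =>
  intro G N _ _ hnN hn hnorm hNG hNU hNS hcop hsolv ϑ hinv
  classical
  by_cases hNGeq : N = G
  · subst hNGeq
    refine ⟨ϑ, ?_, hinv⟩
    have h1 : resC hNG (ϑ : N → ℂ) = (ϑ : N → ℂ) := rfl
    rw [h1]
    convert (one_ne_zero : (1 : ℂ) ≠ 0)
    convert classInner_irr_self ϑ.2
  have hNn : ∀ g ∈ G, ∀ n ∈ N, g * n * g⁻¹ ∈ N := fun g hg n hn =>
    hnN.conj_mem (⟨n, hNG hn⟩ : G) hn ⟨g, hg⟩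
  set H : Subgroup Γ := ⁅G, G⁆ ⊔ N with hH
  have hNH : N ≤ H := le_sup_right
  have hHG : H ≤ G := by
    apply sup_le _ hNG
    rw [Subgroup.commutator_le]
    intro x hx y hy
    rw [commutatorElement_def]
    exact G.mul_mem (G.mul_mem (G.mul_mem hx hy) (G.inv_mem hx)) (G.inv_mem hy)
  have hHne : H ≠ G := commSup_ne hNG hsolv hNGeq
  have hHn : ∀ g ∈ G, ∀ x ∈ H, g * x * g⁻¹ ∈ H := fun g hg =>
    conj_mem_commSup (fun x hx => G.mul_mem (G.mul_mem hg hx) (G.inv_mem hg)) (hNn g hg)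
  have hHS : ∀ s ∈ U, ∀ x ∈ H, s * x * s⁻¹ ∈ H := fun s hs =>
    conj_mem_commSup (hnorm s hs) (hNS s hs)
  have hab : ∀ x ∈ G, ∀ y ∈ G, x * y * x⁻¹ * y⁻¹ ∈ H := by
    intro x hx y hy
    apply (le_sup_left : ⁅G, G⁆ ≤ H)
    have := Subgroup.commutator_mem_commutator hx hy
    rwa [commutatorElement_def] at this
  have hrel : N.relIndex H * H.relIndex G = N.relIndex G := Subgroup.relIndex_mul_relIndex _ _ _ hNH hHG
  have hHrel : H.relIndex G ≠ 1 := by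
    intro h
    exact hHne (le_antisymm hHG (Subgroup.relIndex_eq_one.1 h))
  have hHrel0 : H.relIndex G ≠ 0 := Subgroup.index_ne_zero_of_finite
  have hNrel0 : N.relIndex H ≠ 0 := Subgroup.index_ne_zero_of_finite
  have hlt : N.relIndex H < n := by
    rw [← hn, ← hrel]
    have h2 : 2 ≤ H.relIndex G := by omega
    have h3 : 0 < N.relIndex H := Nat.pos_of_ne_zero hNrel0
    nlinarith
  haveI : Fintype H := Fintype.ofFinite _
  haveI hnH : (N.subgroupOf H).Normal := ⟨fun x hx y => by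
    rw [Subgroup.mem_subgroupOf] at hx ⊢
    exact hNn y (hHG y.2) x hx⟩
  have hsolvH : Group.IsSolvable (H ⧸ N.subgroupOf H) := by
    let φ : H ⧸ N.subgroupOf H →* G ⧸ N.subgroupOf G :=
      QuotientGroup.lift (N.subgroupOf H) ((QuotientGroup.mk' (N.subgroupOf G)).comp (Subgroup.inclusion hHG))
        (by
          intro x hx
          show ((⟨x, hHG x.2⟩ : G) : G ⧸ N.subgroupOf G) = 1
          rw [QuotientGroup.eq_one_iff]
          exact hx)
    refine Group.isSolvable_of_isSolvable_injective (f := φ) ?_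
    intro a b hab'
    obtain ⟨x, rfl⟩ := QuotientGroup.mk_surjective a
    obtain ⟨y, rfl⟩ := QuotientGroup.mk_surjective b
    have h5 : ((⟨x, hHG x.2⟩ : G) : G ⧸ N.subgroupOf G) = ((⟨y, hHG y.2⟩ : G) : G ⧸ N.subgroupOf G) := hab'
    rw [QuotientGroup.eq] at h5 ⊢
    exact h5
  obtain ⟨ϕ, hϕ, hϕS⟩ := ih _ hlt H N rfl hHS hNH hNU hNS
    (Nat.Coprime.coprime_dvd_left (Dvd.intro _ hrel) hcop) hsolvH ϑ hinv
  -- the abelian step
  obtain ⟨χ₀, hχ₀⟩ := exists_constituent hHG ϕ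
  haveI hUN : (N.subgroupOf U).Normal := ⟨fun x hx y => by
    rw [Subgroup.mem_subgroupOf] at hx ⊢
    exact hNS y y.2 x hx⟩
  let S := U ⧸ N.subgroupOf U
  haveI : Fintype S := Fintype.ofFinite _
  let c : S → Γ := fun s => ((Quotient.out s : U) : Γ)
  have hcU : ∀ s, c s ∈ U := fun s => (Quotient.out s : U).2
  have hmk : ∀ s : S, ((Quotient.out s : U) : S) = s := fun s => QuotientGroup.out_eq' s
  have hcmul : ∀ s t, ∃ g ∈ G, c (s * t) = c s * c t * g := by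
    intro s t
    have h1 : ((Quotient.out s * Quotient.out t : U) : S) = ((Quotient.out (s * t) : U) : S) := by
      rw [hmk]
      rw [QuotientGroup.mk_mul, hmk, hmk]
    have h2 := QuotientGroup.eq.mp h1
    rw [Subgroup.mem_subgroupOf] at h2
    refine ⟨_, hNG h2, ?_⟩
    simp only [c, Subgroup.coe_mul, InvMemClass.coe_inv]
    group
  obtain ⟨χ, hχ, hχS⟩ := exists_fixed_abelian_section hHG hHn hab (S := S) c
    (fun s => hnorm _ (hcU s)) (fun s => hHS _ (hcU s)) hcmul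
    (by
      rw [← Nat.card_eq_fintype_card]
      exact Nat.Coprime.coprime_dvd_left (Dvd.intro_left _ hrel) hcop)
    ϕ (fun s n => hϕS _ (hcU s) n _ rfl) χ₀ hχ₀
  refine ⟨χ, under_trans hHG hNH hNG χ ϕ ϑ hχ hϕ, ?_⟩
  intro u hu g g' hg
  -- write `u = c s * n`
  let s : S := ((⟨u, hu⟩ : U) : S)
  obtain ⟨m, hm⟩ := QuotientGroup.mk_out_eq_mul (N.subgroupOf U) (⟨u, hu⟩ : U)
  have hcs : c s = u * (m : U) := congrArg Subtype.val hm
  have hm' : ((m : U) : Γ) ∈ N := m.2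
  have hu' : u = c s * ((m : U) : Γ)⁻¹ := by rw [hcs]; group
  let g₁ : G := ⟨((m : U) : Γ)⁻¹ * g * ((m : U) : Γ), by
    have := G.mul_mem (G.mul_mem (G.inv_mem (hNG hm')) g.2) (hNG hm')
    exact this⟩
  have h1 := hχS s g₁
  have h2 : (⟨c s * g₁ * (c s)⁻¹, hnorm _ (hcU s) g₁ g₁.2⟩ : G) = g' := by
    apply Subtype.ext
    show c s * (((m : U) : Γ)⁻¹ * g * ((m : U) : Γ)) * (c s)⁻¹ = g'
    rw [hg, hu']
    group
  rw [h2] at h1
  rw [h1]
  have h3 := isClassFunction_of_isCharacter (isCharacter_of_isIrrCharacter χ.2) g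
    (⟨((m : U) : Γ)⁻¹, G.inv_mem (hNG hm')⟩ : G)
  rw [← h3]
  refine congrArg _ (Subtype.ext ?_)
  simp [g₁]

/-- The complement of `G/N` in `Γ/N`, pulled back. -/
theorem exists_complement_section (G N : Subgroup Γ) [hG : G.Normal] [hN : N.Normal] (hNG : N ≤ G)
    (hcop : (G.index).Coprime (N.relIndex G)) :
    ∃ U : Subgroup Γ, N ≤ U ∧ (∀ x : Γ, ∃ g ∈ G, ∃ u ∈ U, x = g * u) ∧ N.relIndex U = G.index := by
  classical
  let q : Γ →* Γ ⧸ N := QuotientGroup.mk' N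
  have hq : Function.Surjective q := QuotientGroup.mk'_surjective N
  let A : Subgroup (Γ ⧸ N) := G.map q
  haveI hAn : A.Normal := Subgroup.Normal.map hG q hq
  have hker : N = (⊥ : Subgroup (Γ ⧸ N)).comap q := by
    rw [MonoidHom.comap_bot, QuotientGroup.ker_mk']
  have hkerG : q.ker ≤ G := by
    rw [QuotientGroup.ker_mk']
    exact hNG
  have hrel : ∀ K : Subgroup Γ, N.relIndex K = Nat.card (K.map q) := by
    intro K
    conv_lhs => rw [hker]
    rw [Subgroup.relIndex_comap, Subgroup.relIndex_bot_left]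
  have hAindex : A.index = G.index := by
    rw [Subgroup.index_map, sup_eq_left.mpr hkerG, MonoidHom.range_eq_top.mpr hq,
      Subgroup.index_top, mul_one]
  have hAcard : Nat.card A = N.relIndex G := (hrel G).symm
  obtain ⟨B, hB⟩ := Subgroup.exists_right_complement'_of_coprime (N := A)
    (by rw [hAcard, hAindex]; exact hcop.symm)
  refine ⟨B.comap q, ?_, ?_, ?_⟩
  · intro n hn
    rw [Subgroup.mem_comap]
    have : q n = 1 := (QuotientGroup.eq_one_iff n).mpr hn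
    rw [this]
    exact B.one_mem
  · intro x
    obtain ⟨⟨a, b⟩, hab⟩ := hB.2 (q x)
    obtain ⟨g, hg, hga⟩ := a.2
    refine ⟨g, hg, g⁻¹ * x, ?_, by group⟩
    rw [Subgroup.mem_comap, map_mul, map_inv, hga]
    have h1 : (a : Γ ⧸ N) * (b : Γ ⧸ N) = q x := hab
    have h2 : (a : Γ ⧸ N)⁻¹ * q x = b := by rw [← h1]; group
    rw [h2]
    exact b.2
  · rw [hrel, Subgroup.map_comap_eq_self_of_surjective hq, ← hB.symm.index_eq_card, hAindex]

end CaseA

section Central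

/-- A group of exponent dividing `m` has order coprime to what `m` is coprime to. -/
theorem card_coprime_of_pow {A : Type*} [Group A] [Finite A] {m t : ℕ} (h : ∀ a : A, a ^ m = 1)
    (hc : m.Coprime t) : (Nat.card A).Coprime t := by
  by_contra hne
  obtain ⟨p, hp, hp1, hp2⟩ := Nat.Prime.not_coprime_iff_dvd.mp hne
  haveI : Fact p.Prime := ⟨hp⟩
  obtain ⟨a, ha⟩ := exists_prime_orderOf_dvd_card' p hp1
  have h1 : p ∣ m := ha ▸ orderOf_dvd_of_pow_eq_one (h a)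
  exact hp.one_lt.ne' (Nat.eq_one_of_dvd_coprimes hc h1 hp2)

/-- The decomposition of `n` into a part with the primes of `b` and a part prime to `b`. -/
theorem exists_part (b : ℕ) : ∀ n : ℕ, 0 < n →
    ∃ u v, n = u * v ∧ v.Coprime b ∧ ∀ p, p.Prime → p ∣ u → p ∣ b := by
  intro n
  induction n using Nat.strong_induction_on with
  | _ n ih =>
  intro hn
  by_cases hc : n.Coprime b
  · exact ⟨1, n, by simp, hc, fun p hp h => absurd (Nat.dvd_one.mp h) hp.one_lt.ne'⟩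
  obtain ⟨p, hp, hp1, hp2⟩ := Nat.Prime.not_coprime_iff_dvd.mp hc
  obtain ⟨m, rfl⟩ := hp1
  have hm : 0 < m := Nat.pos_of_mul_pos_left hn
  have hlt : m < p * m := by nlinarith [hp.two_le]
  obtain ⟨u, v, h1, h2, h3⟩ := ih m hlt hm
  refine ⟨p * u, v, by rw [h1]; ring, h2, ?_⟩
  intro q hq hqd
  rcases (Nat.Prime.dvd_mul hq).mp hqd with h | h
  · rw [(Nat.prime_dvd_prime_iff_eq hq hp).mp h]
    exact hp2
  · exact h3 q hq h

/-- The value of an irreducible character on a central image. -/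
theorem value_of_central {A B : Type*} [Group A] [Finite A] [Group B] [Fintype B] (f : B →* A)
    (hf : ∀ b x, x * f b = f b * x) {χ : A → ℂ} (hχ : IsIrrCharacter A χ) (l : B →* ℂˣ)
    (h : classInner (fun b => χ (f b)) (fun b => ((l b : ℂˣ) : ℂ)) ≠ 0) (b : B) :
    χ (f b) = χ 1 * ((l b : ℂˣ) : ℂ) := by
  classical
  obtain ⟨d, hd, hd0, -⟩ := exists_degree_dvd hχ
  have hd1 : χ 1 ≠ 0 := by
    rw [hd]
    exact_mod_cast hd0
  have hcm : ∀ a c : B, χ (f (a * c)) * χ 1 = χ (f a) * χ (f c) := by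
    intro a c
    rw [map_mul]
    exact Cfsg.Agent.Lib.Char.SL2Half.central_mul hχ (f a) (fun g => hf a g) (f c)
  let μ₀ : B →* ℂ :=
    { toFun := fun b => χ (f b) / χ 1
      map_one' := by
        simp only [map_one]
        exact div_self hd1
      map_mul' := by
        intro a c
        have := hcm a c
        field_simp
        linear_combination this }
  let μ : B →* ℂˣ := μ₀.toHomUnits
  have hμ : ∀ b, χ (f b) = χ 1 * ((μ b : ℂˣ) : ℂ) := by
    intro b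
    show χ (f b) = χ 1 * (χ (f b) / χ 1)
    field_simp
  have hμl : (fun b => ((μ b : ℂˣ) : ℂ)) = fun b => ((l b : ℂˣ) : ℂ) := by
    by_contra hne
    apply h
    have h0 := classInner_irr_of_ne (Cfsg.Agent.Lib.Char.LinearChars.isIrr_of_hom μ)
      (Cfsg.Agent.Lib.Char.LinearChars.isIrr_of_hom l) hne
    have h1 : (fun b => χ (f b)) = fun b => χ 1 * ((μ b : ℂˣ) : ℂ) := funext hμ
    rw [h1]
    unfold classInner at h0 ⊢
    have h2 : ∑ g, χ 1 * ((μ g : ℂˣ) : ℂ) * conj ((l g : ℂˣ) : ℂ) =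
        χ 1 * ∑ g, ((μ g : ℂˣ) : ℂ) * conj ((l g : ℂˣ) : ℂ) := by
      rw [Finset.mul_sum]
      refine Finset.sum_congr rfl (fun g _ => ?_)
      ring
    rw [h2, mul_left_comm, h0, mul_zero]
  rw [hμ b, congrFun hμl b]

end Central

section CentralCase

variable {Γ : Type u} [Group Γ] [Finite Γ]

open scoped IsMulCommutative in
/-- For a central subgroup `Z` of index `b` the map `g ↦ g ^ b` is a homomorphism into `Z`. -/
theorem pow_relIndex (G Z : Subgroup Γ) (hZc : ∀ z ∈ Z, ∀ x : Γ, x * z = z * x) :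
    (∀ g : G, (g : Γ) ^ Z.relIndex G ∈ Z) ∧
      ∀ a c : G, ((a * c : G) : Γ) ^ Z.relIndex G = (a : Γ) ^ Z.relIndex G * (c : Γ) ^ Z.relIndex G := by
  classical
  let H₀ : Subgroup G := Z.subgroupOf G
  have hcen : ∀ h : H₀, (h : G) ∈ Subgroup.center G := by
    intro h
    rw [Subgroup.mem_center_iff]
    intro g
    apply Subtype.ext
    exact hZc _ h.2 g
  let ϕ : H₀ →* Subgroup.center G :=
    { toFun := fun h => ⟨h, hcen h⟩
      map_one' := rfl
      map_mul' := fun _ _ => rfl }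
  have key : ∀ (g : G) (k : ℕ) (g₀ : G), g₀⁻¹ * g ^ k * g₀ ∈ H₀ → g₀⁻¹ * g ^ k * g₀ = g ^ k := by
    intro g k g₀ hk
    have h1 := (Subgroup.mem_center_iff.mp (hcen ⟨_, hk⟩)) g₀
    have h2 : g₀ * (g₀⁻¹ * g ^ k * g₀) = (g₀⁻¹ * g ^ k * g₀) * g₀ := h1
    have h3 : g ^ k * g₀ = (g₀⁻¹ * g ^ k * g₀) * g₀ := by
      rw [← h2]
      group
    exact (mul_right_cancel h3).symm
  have hpow : ∀ g : G, g ^ H₀.index ∈ H₀ := fun g => MonoidHom.transfer_eq_pow_aux g (key g)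
  have htr : ∀ g : G, ((ϕ.transfer g : Subgroup.center G) : G) = g ^ H₀.index := by
    intro g
    rw [MonoidHom.transfer_eq_pow ϕ g (key g)]
    rfl
  constructor
  · intro g
    have := hpow g
    rw [Subgroup.mem_subgroupOf] at this
    exact this
  · intro a c
    have h1 := htr (a * c)
    rw [map_mul] at h1
    have h2 : (a * c) ^ H₀.index = a ^ H₀.index * c ^ H₀.index := by
      rw [← h1, Subgroup.coe_mul, htr, htr]
    have h3 := congrArg (fun x : G => (x : Γ)) h2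
    show ((a * c : G) : Γ) ^ H₀.index = (a : Γ) ^ H₀.index * (c : Γ) ^ H₀.index
    simpa using h3

/-- **The central case.** -/
theorem central_case (G Z : Subgroup Γ) [hG : G.Normal] (hZG : Z ≤ G)
    (hZc : ∀ z ∈ Z, ∀ x : Γ, x * z = z * x) (hcop : G.index.Coprime (Z.relIndex G))
    (hsolv : Group.IsSolvable (Γ ⧸ G)) (l : Z →* ℂˣ) :
    ∃ χ : IrrCharacter G, (∃ c : ℂ, c ≠ 0 ∧ ∀ z : Z, (χ : G → ℂ) ⟨z, hZG z.2⟩ = c * ((l z : ℂˣ) : ℂ)) ∧
      ∀ (x : Γ) (g : G), (χ : G → ℂ) ⟨x * g * x⁻¹, hG.conj_mem g g.2 x⟩ = (χ : G → ℂ) g := by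
  classical
  set bb := Z.relIndex G with hbb
  have hnpos : 0 < Nat.card G := Nat.card_pos
  obtain ⟨u, v, hn, hvb, hub⟩ := exists_part bb (Nat.card G) hnpos
  have huv : u.Coprime v := by
    by_contra hne
    obtain ⟨p, hp, hp1, hp2⟩ := Nat.Prime.not_coprime_iff_dvd.mp hne
    exact hp.one_lt.ne' (Nat.eq_one_of_dvd_coprimes hvb hp2 (hub p hp hp1))
  have hbn : bb ∣ u * v := hn ▸ Subgroup.relIndex_dvd_card Z G
  have hbu : bb ∣ u := Nat.Coprime.dvd_of_dvd_mul_right hvb.symm hbn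
  obtain ⟨e, he0, he1⟩ := Nat.chineseRemainder huv 0 1
  have hue : u ∣ e := (Nat.modEq_zero_iff_dvd).mp he0
  obtain ⟨w, hw⟩ := hbu.trans hue
  obtain ⟨hbZ, hmulb⟩ := pow_relIndex G Z hZc
  rw [← hbb] at hbZ hmulb
  -- the `e`-power map
  have hZe : ∀ g : G, (g : Γ) ^ e ∈ Z := by
    intro g
    rw [hw, pow_mul]
    exact Z.pow_mem (hbZ g) w
  have hmule : ∀ a c : G, ((a * c : G) : Γ) ^ e = (a : Γ) ^ e * (c : Γ) ^ e := by
    intro a c
    rw [hw, pow_mul, hmulb, pow_mul, pow_mul]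
    have hcomm : Commute ((a : Γ) ^ bb) ((c : Γ) ^ bb) := (hZc _ (hbZ c) _)
    exact hcomm.mul_pow w
  let E : G →* Z := MonoidHom.mk' (fun g => ⟨(g : Γ) ^ e, hZe g⟩) (fun a c => Subtype.ext (hmule a c))
  have hEval : ∀ g : G, ((E g : Z) : Γ) = (g : Γ) ^ e := fun _ => rfl
  have hconj : ∀ (x : Γ), ∀ z ∈ Z, x * z * x⁻¹ = z := by
    intro x z hz
    rw [hZc z hz x]
    group
  -- the Hall subgroup
  let K : Subgroup Γ := E.ker.map G.subtype
  have hK : ∀ x : Γ, x ∈ K ↔ x ∈ G ∧ x ^ e = 1 := by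
    intro x
    constructor
    · rintro ⟨y, hy, rfl⟩
      refine ⟨y.2, ?_⟩
      have h1 : E y = 1 := hy
      have h2 := congrArg (fun t : Z => (t : Γ)) h1
      exact h2
    · rintro ⟨h1, h2⟩
      refine ⟨⟨x, h1⟩, ?_, rfl⟩
      show E ⟨x, h1⟩ = 1
      exact Subtype.ext h2
  have hKG : K ≤ G := fun x hx => ((hK x).mp hx).1
  haveI hKn : K.Normal := ⟨fun k hk x => by
    rw [hK] at hk ⊢
    refine ⟨hG.conj_mem k hk.1 x, ?_⟩
    rw [conj_pow, hk.2]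
    simp⟩
  have hpowG : ∀ (g : G) (a c : ℕ), a ≡ c [MOD u * v] → (g : Γ) ^ a = (g : Γ) ^ c := by
    intro g a c hac
    have h1 : g ^ a = g ^ c := by
      rw [pow_eq_pow_iff_modEq]
      exact hac.of_dvd (by rw [← hn]; exact orderOf_dvd_natCard g)
    have h2 := congrArg (fun x : G => (x : Γ)) h1
    simpa using h2
  have hee : e * e ≡ e [MOD u * v] := by
    apply (Nat.modEq_and_modEq_iff_modEq_mul huv).mp
    constructor
    · have h1 : e * e ≡ 0 * e [MOD u] := he0.mul_right e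
      rw [zero_mul] at h1
      exact h1.trans he0.symm
    · have h1 : e * e ≡ 1 * e [MOD v] := he1.mul_right e
      rwa [one_mul] at h1
  have hEE : ∀ g : G, E ⟨(g : Γ) ^ e, hZG (hZe g)⟩ = E g := by
    intro g
    apply Subtype.ext
    show ((g : Γ) ^ e) ^ e = (g : Γ) ^ e
    rw [← pow_mul]
    exact hpowG g _ _ hee
  -- the retraction
  have hrmem : ∀ g : G, (g : Γ) * ((g : Γ) ^ e)⁻¹ ∈ K := by
    intro g
    rw [hK]
    refine ⟨G.mul_mem g.2 (G.inv_mem (hZG (hZe g))), ?_⟩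
    have h1 := hmule g (⟨(g : Γ) ^ e, hZG (hZe g)⟩⁻¹ : G)
    have h2 : ((g * (⟨(g : Γ) ^ e, hZG (hZe g)⟩⁻¹ : G) : G) : Γ) = (g : Γ) * ((g : Γ) ^ e)⁻¹ := rfl
    rw [h2] at h1
    rw [h1]
    have h3 : (((⟨(g : Γ) ^ e, hZG (hZe g)⟩⁻¹ : G) : G) : Γ) = ((g : Γ) ^ e)⁻¹ := rfl
    rw [h3, inv_pow, ← pow_mul, hpowG g _ _ hee]
    group
  let r : G →* K := MonoidHom.mk' (fun g => ⟨(g : Γ) * ((g : Γ) ^ e)⁻¹, hrmem g⟩) (fun a c => by
    apply Subtype.ext
    show ((a * c : G) : Γ) * (((a * c : G) : Γ) ^ e)⁻¹ =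
      ((a : Γ) * ((a : Γ) ^ e)⁻¹) * ((c : Γ) * ((c : Γ) ^ e)⁻¹)
    rw [hmule]
    have h2 : (c : Γ) * ((a : Γ) ^ e)⁻¹ = ((a : Γ) ^ e)⁻¹ * (c : Γ) := hZc _ (Z.inv_mem (hZe a)) _
    simp only [Subgroup.coe_mul, mul_inv_rev]
    have h3 : ((c : Γ) ^ e)⁻¹ * ((a : Γ) ^ e)⁻¹ = ((a : Γ) ^ e)⁻¹ * ((c : Γ) ^ e)⁻¹ :=
      hZc _ (Z.inv_mem (hZe a)) _
    calc (a : Γ) * (c : Γ) * (((c : Γ) ^ e)⁻¹ * ((a : Γ) ^ e)⁻¹)
        = (a : Γ) * ((c : Γ) * ((a : Γ) ^ e)⁻¹) * ((c : Γ) ^ e)⁻¹ := by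
          rw [h3]
          simp only [mul_assoc]
      _ = _ := by
          rw [h2]
          simp only [mul_assoc])
  have hrval : ∀ g : G, ((r g : K) : Γ) = (g : Γ) * ((g : Γ) ^ e)⁻¹ := fun _ => rfl
  have hrsurj : Function.Surjective r := by
    intro k
    refine ⟨⟨k, hKG k.2⟩, ?_⟩
    apply Subtype.ext
    rw [hrval]
    have : (k : Γ) ^ e = 1 := ((hK k).mp k.2).2
    show (k : Γ) * ((k : Γ) ^ e)⁻¹ = k
    rw [this]
    simp
  -- exponents
  have hKu : ∀ k : K, k ^ u = 1 := by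
    intro k
    apply Subtype.ext
    have h1 : (k : Γ) ^ e = 1 := ((hK k).mp k.2).2
    have h2 : u * e ≡ u * 1 [MOD u * v] := he1.mul_left' u
    have h3 := hpowG ⟨k, hKG k.2⟩ _ _ h2
    simp only [mul_one] at h3
    rw [mul_comm u e, pow_mul] at h3
    have h4 : ((k : Γ)) ^ u = 1 := by
      have h5 : ((k : Γ) ^ e) ^ u = (k : Γ) ^ u := h3
      rw [h1, one_pow] at h5
      exact h5.symm
    simpa using h4
  have hQv : ∀ q : G ⧸ K.subgroupOf G, q ^ v = 1 := by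
    intro q
    obtain ⟨g, rfl⟩ := QuotientGroup.mk_surjective q
    rw [← QuotientGroup.mk_pow, QuotientGroup.eq_one_iff, Subgroup.mem_subgroupOf, hK]
    refine ⟨(g ^ v).2, ?_⟩
    obtain ⟨t, ht⟩ := hue
    have h1 : v * e ≡ 0 [MOD u * v] := by
      rw [ht, Nat.modEq_zero_iff_dvd]
      exact ⟨t, by ring⟩
    have h2 := hpowG g _ _ h1
    rw [pow_zero, pow_mul] at h2
    simpa using h2
  have hcop1 : u.Coprime (K.relIndex G) :=
    (card_coprime_of_pow hQv huv.symm).symm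
  have hcop2 : u.Coprime G.index := by
    by_contra hne
    obtain ⟨p, hp, hp1, hp2⟩ := Nat.Prime.not_coprime_iff_dvd.mp hne
    exact hp.one_lt.ne' (Nat.eq_one_of_dvd_coprimes hcop hp2 (hub p hp hp1))
  have hidx : K.relIndex G * G.index = K.index := Subgroup.relIndex_mul_index hKG
  have hKcop : (Nat.card K).Coprime K.index := by
    rw [← hidx]
    exact card_coprime_of_pow hKu (Nat.Coprime.mul_right hcop1 hcop2)
  obtain ⟨S, hS⟩ := Subgroup.exists_right_complement'_of_coprime hKcop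
  have hcardS : Nat.card S = K.index := hS.symm.index_eq_card.symm
  have hdisj : Disjoint K S := hS.disjoint
  -- `S` is solvable
  have hSsolv : Group.IsSolvable S := by
    let f : S →* Γ ⧸ G := (QuotientGroup.mk' G).comp S.subtype
    have hfG : ∀ y : f.ker, ((y : S) : Γ) ∈ G := by
      intro y
      have h1 : f y = 1 := y.2
      exact (QuotientGroup.eq_one_iff _).mp h1
    haveI : Group.IsSolvable f.ker := Group.isSolvable_of_comm (fun a c => by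
      have ha := hfG a
      have hc := hfG c
      set a' : Γ := ((a : S) : Γ) with ha'
      set c' : Γ := ((c : S) : Γ) with hc'
      have hcS : a' * c' * a'⁻¹ * c'⁻¹ ∈ S :=
        S.mul_mem (S.mul_mem (S.mul_mem (a : S).2 (c : S).2) (S.inv_mem (a : S).2)) (S.inv_mem (c : S).2)
      have hcK : a' * c' * a'⁻¹ * c'⁻¹ ∈ K := by
        let a₁ : G := ⟨a', ha⟩
        let c₁ : G := ⟨c', hc⟩
        have hcm : E (a₁ * c₁ * a₁⁻¹ * c₁⁻¹) = 1 := by
          simp only [map_mul, map_inv]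
          apply Subtype.ext
          have hh : ((E a₁ : Z) : Γ) * ((E c₁ : Z) : Γ) = ((E c₁ : Z) : Γ) * ((E a₁ : Z) : Γ) :=
            hZc _ (E c₁).2 _
          simp only [Subgroup.coe_mul, InvMemClass.coe_inv, Subgroup.coe_one]
          rw [hh]
          group
        exact ⟨a₁ * c₁ * a₁⁻¹ * c₁⁻¹, hcm, rfl⟩
      have h1 : a' * c' * a'⁻¹ * c'⁻¹ = 1 := Subgroup.disjoint_def.mp hdisj hcK hcS
      have h2 : a' * c' = c' * a' := by
        have h3 : a' * c' * a'⁻¹ = c' := mul_inv_eq_one.mp h1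
        exact mul_inv_eq_iff_eq_mul.mp h3
      exact Subtype.ext (Subtype.ext h2))
    exact Group.isSolvable_of_ker_le_range f.ker.subtype f (by simp)
  -- the Glauberman step
  haveI : Fintype K := Fintype.ofFinite _
  let N : Subgroup Γ := Z ⊓ K
  haveI : Fintype N := Fintype.ofFinite _
  have hNK : N ≤ K := inf_le_right
  let l' : N →* ℂˣ := l.comp (Subgroup.inclusion (inf_le_left : N ≤ Z))
  let ϑ : IrrCharacter N := ⟨fun y => ((l' y : ℂˣ) : ℂ), Cfsg.Agent.Lib.Char.LinearChars.isIrr_of_hom l'⟩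
  have hϑS : SInv S (ϑ : N → ℂ) := by
    intro s _ g g' hg
    have h1 : g' = g := by
      apply Subtype.ext
      rw [hg]
      exact hconj s g g.2.1
    rw [h1]
  obtain ⟨χ₁, hχ₁con, hχ₁S⟩ := exists_inv_over (G := K) (S := S) (N := N)
    (fun s _ g hg => hKn.conj_mem g hg s) hNK
    (fun g _ n hn => by
      have h1 := hconj g n hn.1
      rw [h1]
      exact hn)
    (fun s _ n hn => by
      have h1 := hconj s n hn.1
      rw [h1]
      exact hn)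
    (by rw [hcardS]; exact hKcop) hSsolv ϑ hϑS
  -- invariance under `Γ`
  have hχ₁Γ : ∀ (x : Γ) (k : K), (χ₁ : K → ℂ) ⟨x * k * x⁻¹, hKn.conj_mem k k.2 x⟩ = (χ₁ : K → ℂ) k := by
    intro x k
    obtain ⟨⟨a, t⟩, hat⟩ := hS.2 x
    have hx : x = (a : Γ) * (t : Γ) := hat.symm
    have h1 := hχ₁S t t.2 k ⟨(t : Γ) * k * (t : Γ)⁻¹, hKn.conj_mem k k.2 t⟩ rfl
    have h2 := isClassFunction_of_isCharacter (isCharacter_of_isIrrCharacter χ₁.2)
      ⟨(t : Γ) * k * (t : Γ)⁻¹, hKn.conj_mem k k.2 t⟩ a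
    rw [← h1, ← h2]
    refine congrArg _ (Subtype.ext ?_)
    simp only [Subgroup.coe_mul, InvMemClass.coe_inv]
    rw [hx]
    group
  -- the value on `N`
  have hval : ∀ y : N, (χ₁ : K → ℂ) ⟨y, hNK y.2⟩ = (χ₁ : K → ℂ) 1 * ((l' y : ℂˣ) : ℂ) := by
    intro y
    exact value_of_central (Subgroup.inclusion hNK) (fun b x => Subtype.ext (hZc _ b.2.1 _)) χ₁.2 l'
      hχ₁con y
  -- the character
  let l₁ : G →* ℂˣ := l.comp E
  let τ : G → ℂ := fun g => ((l₁ g : ℂˣ) : ℂ) * (χ₁ : K → ℂ) (r g)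
  have hτ : IsIrrCharacter G τ := Cfsg.Agent.Lib.Char.GlaubCyclic.isIrr_lin_mul l₁
    (isIrrCharacter_comp_surjective χ₁.2 r hrsurj)
  refine ⟨⟨τ, hτ⟩, ⟨(χ₁ : K → ℂ) 1, ?_, ?_⟩, ?_⟩
  · obtain ⟨d, hd, hd0, -⟩ := exists_degree_dvd χ₁.2
    rw [hd]
    exact_mod_cast hd0
  · intro z
    let z₁ : G := ⟨z, hZG z.2⟩
    have hy : (z : Γ) * ((z : Γ) ^ e)⁻¹ ∈ N :=
      ⟨Z.mul_mem z.2 (Z.inv_mem (hZe z₁)), hrmem z₁⟩
    have h1 : r z₁ = ⟨_, hNK hy⟩ := rfl
    show ((l (E z₁) : ℂˣ) : ℂ) * (χ₁ : K → ℂ) (r z₁) = _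
    rw [h1, hval ⟨_, hy⟩, mul_left_comm, ← Units.val_mul]
    have h2 : l' ⟨_, hy⟩ = l ⟨(z : Γ) * ((z : Γ) ^ e)⁻¹, hy.1⟩ := rfl
    rw [h2, ← map_mul]
    have h3 : E z₁ * (⟨(z : Γ) * ((z : Γ) ^ e)⁻¹, hy.1⟩ : Z) = z := by
      apply Subtype.ext
      show (z : Γ) ^ e * ((z : Γ) * ((z : Γ) ^ e)⁻¹) = z
      group
    rw [h3]
  · intro x g
    let g₁ : G := ⟨x * g * x⁻¹, hG.conj_mem g g.2 x⟩
    have h1 : E g₁ = E g := by
      apply Subtype.ext
      show (x * g * x⁻¹) ^ e = (g : Γ) ^ e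
      rw [conj_pow]
      exact hconj x _ (hZe g)
    have h2 : r g₁ = ⟨x * (r g : K) * x⁻¹, hKn.conj_mem _ (r g).2 x⟩ := by
      apply Subtype.ext
      show (x * g * x⁻¹) * ((x * g * x⁻¹) ^ e)⁻¹ = x * ((g : Γ) * ((g : Γ) ^ e)⁻¹) * x⁻¹
      rw [conj_pow, hconj x _ (hZe g)]
      have h3 := hconj x _ (Z.inv_mem (hZe g))
      calc (x * g * x⁻¹) * ((g : Γ) ^ e)⁻¹ = x * g * x⁻¹ * (x * ((g : Γ) ^ e)⁻¹ * x⁻¹) := by rw [h3]
        _ = _ := by group
    show ((l (E g₁) : ℂˣ) : ℂ) * (χ₁ : K → ℂ) (r g₁) = ((l (E g) : ℂˣ) : ℂ) * (χ₁ : K → ℂ) (r g)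
    rw [h1, h2, hχ₁Γ]

/-- **The linear case.** -/
theorem linear_case (G N : Subgroup Γ) [hG : G.Normal] [hN : N.Normal] (hNG : N ≤ G)
    (hcop : G.index.Coprime (N.relIndex G)) (hsolv : Group.IsSolvable (Γ ⧸ G)) (l : N →* ℂˣ)
    (hinv : ∀ (x : Γ) (n : N), l ⟨x * n * x⁻¹, hN.conj_mem n n.2 x⟩ = l n) :
    ∃ χ : IrrCharacter G, (∃ c : ℂ, c ≠ 0 ∧ ∀ n : N, (χ : G → ℂ) ⟨n, hNG n.2⟩ = c * ((l n : ℂˣ) : ℂ)) ∧
      ∀ (x : Γ) (g : G), (χ : G → ℂ) ⟨x * g * x⁻¹, hG.conj_mem g g.2 x⟩ = (χ : G → ℂ) g := by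
  classical
  let E₀ : Subgroup Γ := l.ker.map N.subtype
  have hE₀ : ∀ x : Γ, x ∈ E₀ ↔ ∃ h : x ∈ N, l ⟨x, h⟩ = 1 := by
    intro x
    constructor
    · rintro ⟨y, hy, rfl⟩
      exact ⟨y.2, hy⟩
    · rintro ⟨h, h1⟩
      exact ⟨⟨x, h⟩, h1, rfl⟩
  haveI hE₀n : E₀.Normal := ⟨fun n hn y => by
    rw [hE₀] at hn ⊢
    obtain ⟨h, h1⟩ := hn
    refine ⟨hN.conj_mem n h y, ?_⟩
    rw [hinv y ⟨n, h⟩]
    exact h1⟩
  have hE₀N : E₀ ≤ N := fun x hx => ((hE₀ x).mp hx).1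
  let q : Γ →* Γ ⧸ E₀ := QuotientGroup.mk' E₀
  have hq : Function.Surjective q := QuotientGroup.mk'_surjective E₀
  have hqker : q.ker = E₀ := QuotientGroup.ker_mk' E₀
  let G' : Subgroup (Γ ⧸ E₀) := G.map q
  let Z' : Subgroup (Γ ⧸ E₀) := N.map q
  haveI hG'n : G'.Normal := Subgroup.Normal.map hG q hq
  have hZ'G' : Z' ≤ G' := Subgroup.map_mono hNG
  have hZ'c : ∀ z ∈ Z', ∀ x : Γ ⧸ E₀, x * z = z * x := by
    rintro _ ⟨n, hn, rfl⟩ x
    obtain ⟨x₀, rfl⟩ := hq x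
    rw [← map_mul, ← map_mul]
    apply QuotientGroup.eq.mpr
    rw [hE₀]
    have hm : x₀⁻¹ * n * x₀⁻¹⁻¹ ∈ N := hN.conj_mem n hn x₀⁻¹
    have hmem : (x₀ * n)⁻¹ * (n * x₀) = n⁻¹ * (x₀⁻¹ * n * x₀⁻¹⁻¹) := by group
    refine ⟨by rw [hmem]; exact N.mul_mem (N.inv_mem hn) hm, ?_⟩
    have h1 : (⟨(x₀ * n)⁻¹ * (n * x₀), by rw [hmem]; exact N.mul_mem (N.inv_mem hn) hm⟩ : N) =
        (⟨n, hn⟩ : N)⁻¹ * ⟨x₀⁻¹ * n * x₀⁻¹⁻¹, hm⟩ := Subtype.ext hmem
    rw [h1, map_mul, map_inv, hinv x₀⁻¹ ⟨n, hn⟩]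
    simp
  have hker : q.ker ≤ G := by
    rw [hqker]
    exact hE₀N.trans hNG
  have hindex : G'.index = G.index := by
    rw [Subgroup.index_map, sup_eq_left.mpr hker, MonoidHom.range_eq_top.mpr hq,
      Subgroup.index_top, mul_one]
  have hrel : Z'.relIndex G' = N.relIndex G := by
    rw [← Subgroup.relIndex_comap, Subgroup.comap_map_eq_self (by rw [hqker]; exact hE₀N)]
  have hsolv' : Group.IsSolvable ((Γ ⧸ E₀) ⧸ G') := by
    let φ : Γ ⧸ G →* (Γ ⧸ E₀) ⧸ G' := QuotientGroup.map G G' q (fun g hg => ⟨g, hg, rfl⟩)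
    refine Group.isSolvable_of_surjective (f := φ) ?_
    intro y
    obtain ⟨y₀, rfl⟩ := QuotientGroup.mk_surjective y
    obtain ⟨x, rfl⟩ := hq y₀
    exact ⟨(x : Γ ⧸ G), rfl⟩
  -- the linear character of the quotient
  let f : N →* Z' := q.subgroupMap N
  have hf : Function.Surjective f := q.subgroupMap_surjective N
  have hfl : f.ker ≤ l.ker := by
    intro n hn
    have h1 : f n = 1 := hn
    have h2 : q n = 1 := congrArg Subtype.val h1
    have h3 : (n : Γ) ∈ q.ker := h2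
    rw [hqker, hE₀] at h3
    obtain ⟨_, h4⟩ := h3
    exact h4
  let l' : Z' →* ℂˣ := MonoidHom.liftOfSurjective f hf ⟨l, hfl⟩
  have hl' : ∀ n : N, l' (f n) = l n := fun n =>
    MonoidHom.liftOfRightInverse_comp_apply f _ _ ⟨l, hfl⟩ n
  obtain ⟨τ', ⟨c, hc, hτ'Z⟩, hτ'inv⟩ := central_case G' Z' hZ'G' hZ'c (by rw [hindex, hrel]; exact hcop)
    hsolv' l'
  let p : G →* G' := q.subgroupMap G
  have hp : Function.Surjective p := q.subgroupMap_surjective G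
  refine ⟨⟨fun g => (τ' : G' → ℂ) (p g), isIrrCharacter_comp_surjective τ'.2 p hp⟩, ⟨c, hc, ?_⟩, ?_⟩
  · intro n
    have h1 := hτ'Z (f n)
    rw [hl'] at h1
    rw [← h1]
    rfl
  · intro x g
    have h1 := hτ'inv (q x) (p g)
    rw [← h1]
    change (τ' : G' → ℂ) (p _) = _
    refine congrArg _ (Subtype.ext ?_)
    show q (x * g * x⁻¹) = q x * q g * (q x)⁻¹
    simp

end CentralCase

section Descend

/-- An irreducible character trivial on the kernel of a surjection descends. -/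
theorem exists_descend {A B : Type u} [Group A] [Group B] [Finite A] (f : A →* B)
    (hf : Function.Surjective f) {ψ : A → ℂ} (hψ : IsIrrCharacter A ψ)
    (hker : ∀ z, f z = 1 → ψ z = ψ 1) :
    ∃ χ : B → ℂ, IsIrrCharacter B χ ∧ ∀ z, χ (f z) = ψ z := by
  obtain ⟨m, ρ, hρ, rfl⟩ := hψ
  have hK : ∀ z ∈ f.ker, ρ z = 1 := by
    intro z hz
    have h1 := (Cfsg.Agent.Lib.Char.Codegree.character_eq_one_iff ρ z).mp (hker z hz)
    exact h1
  let e : A ⧸ f.ker ≃* B := QuotientGroup.quotientKerEquivOfSurjective f hf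
  let ρ₁ : Representation ℂ (A ⧸ f.ker) (Fin m → ℂ) :=
    Cfsg.Agent.Lib.Char.QuotRep.quotRep ρ f.ker hK
  haveI h₁ : ρ₁.IsIrreducible := Cfsg.Agent.Lib.Char.QuotRep.quotRep_isIrreducible ρ f.ker hK
  let ρ' : Representation ℂ B (Fin m → ℂ) := ρ₁.comp e.symm.toMonoidHom
  have hρ' : ρ'.IsIrreducible :=
    Cfsg.Agent.Lib.Char.CyclicExt.isIrreducible_comp_surjective ρ₁ e.symm.toMonoidHom e.symm.surjective
  refine ⟨ρ'.character, ⟨m, ρ', hρ', rfl⟩, fun z => ?_⟩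
  have h1 : e.symm (f z) = (z : A ⧸ f.ker) := by
    apply e.injective
    rw [MulEquiv.apply_symm_apply]
    rfl
  show ρ₁.character (e.symm (f z)) = ρ.character z
  rw [h1]
  rfl

end Descend

section CaseB

open Cfsg.Agent.Lib.Char.DegreeDvd

variable {Γ : Type u} [Group Γ] {N : Subgroup Γ} [hN : N.Normal]
  {W : Type} [AddCommGroup W] [Module ℂ W] [FiniteDimensional ℂ W]
  (Y : Representation ℂ N W)

/-- The representation of `Gam Y` on `W`. -/
noncomputable def repT : Representation ℂ (Gam Y) W where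
  toFun p := (p.1.2 : W →ₗ[ℂ] W)
  map_one' := rfl
  map_mul' _ _ := rfl

theorem repT_apply (p : Gam Y) (w : W) : repT Y p w = p.1.2 w := rfl

/-- The elements over `N` are scalar multiples. -/
theorem exists_scalar [Y.IsIrreducible] (p : Gam Y) (hp : p.1.1 ∈ N) :
    ∃ a : ℂ, ∀ w, p.1.2 w = a • Y ⟨p.1.1, hp⟩ w := by
  set n : N := ⟨p.1.1, hp⟩ with hn
  have hc : ∀ m : N, ((Y n⁻¹) ∘ₗ (p.1.2 : W →ₗ[ℂ] W)) ∘ₗ Y m =
      Y m ∘ₗ ((Y n⁻¹) ∘ₗ (p.1.2 : W →ₗ[ℂ] W)) := by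
    intro m
    ext w
    show Y n⁻¹ (p.1.2 (Y m w)) = Y m (Y n⁻¹ (p.1.2 w))
    rw [gam_apply, ← Module.End.mul_apply, ← map_mul, ← Module.End.mul_apply, ← map_mul]
    congr 2
    apply Subtype.ext
    show (n : Γ)⁻¹ * (p.1.1 * m * p.1.1⁻¹) = m * (n : Γ)⁻¹
    have : (n : Γ) = p.1.1 := rfl
    rw [this]
    group
  obtain ⟨a, ha⟩ := Cfsg.Agent.Lib.Char.Integrality.exists_smul_id_of_commute Y _ hc
  refine ⟨a, fun w => ?_⟩
  have h1 := LinearMap.congr_fun ha w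
  have h2 : Y n (Y n⁻¹ (p.1.2 w)) = p.1.2 w := by
    rw [← Module.End.mul_apply, ← map_mul, mul_inv_cancel, map_one]
    rfl
  rw [← h2]
  have h3 : Y n⁻¹ (p.1.2 w) = a • w := h1
  rw [h3, map_smul]

end CaseB

section CaseBMain

open Cfsg.Agent.Lib.Char.DegreeDvd

/-- **The case `Γ/G` solvable.** -/
theorem caseB {Γ : Type u} [Group Γ] [Finite Γ] (G N : Subgroup Γ) [hG : G.Normal] [hN : N.Normal]
    (hNG : N ≤ G) (hcop : G.index.Coprime (N.relIndex G)) (hsolv : Group.IsSolvable (Γ ⧸ G))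
    {ϑ : N → ℂ} (hϑ : IsIrrCharacter N ϑ)
    (hinv : ∀ (x : Γ) (n : N), ϑ ⟨x * n * x⁻¹, hN.conj_mem n n.2 x⟩ = ϑ n) :
    ∃ χ : IrrCharacter G, (∃ c : ℂ, c ≠ 0 ∧ ∀ n : N, (χ : G → ℂ) ⟨n, hNG n.2⟩ = c * ϑ n) ∧
      ∀ (x : Γ) (g : G), (χ : G → ℂ) ⟨x * g * x⁻¹, hG.conj_mem g g.2 x⟩ = (χ : G → ℂ) g := by
  classical
  obtain ⟨d, Y, hY, rfl⟩ := hϑ
  haveI := hY
  haveI hnt : Nontrivial (Fin d → ℂ) := Cfsg.Agent.Lib.Char.Integrality.nontrivial_of_isIrreducible Y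
  have hW : 0 < finrank ℂ (Fin d → ℂ) := Module.finrank_pos
  haveI hfin : Finite (Gam Y) := finite_gam Y hW
  let π : Gam Y →* Γ := piG (Y := Y)
  have hπ : Function.Surjective π := piG_surjective Y hW hinv
  let Gh : Subgroup (Gam Y) := G.comap π
  let Nh : Subgroup (Gam Y) := N.comap π
  haveI hGhn : Gh.Normal := Subgroup.Normal.comap hG π
  haveI hNhn : Nh.Normal := Subgroup.Normal.comap hN π
  have hNhGh : Nh ≤ Gh := Subgroup.comap_mono hNG
  have hidx : Gh.index = G.index := Subgroup.index_comap_of_surjective G hπ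
  have hrel : Nh.relIndex Gh = N.relIndex G := by
    rw [Subgroup.relIndex_comap, Subgroup.map_comap_eq_self_of_surjective hπ]
  have hsolvh : Group.IsSolvable (Gam Y ⧸ Gh) := by
    let φ : Gam Y ⧸ Gh →* Γ ⧸ G := QuotientGroup.map Gh G π (le_refl _)
    refine Group.isSolvable_of_isSolvable_injective (f := φ) ?_
    intro a b hab
    obtain ⟨x, rfl⟩ := QuotientGroup.mk_surjective a
    obtain ⟨y, rfl⟩ := QuotientGroup.mk_surjective b
    have h1 : ((π x : Γ) : Γ ⧸ G) = ((π y : Γ) : Γ ⧸ G) := hab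
    rw [QuotientGroup.eq] at h1 ⊢
    show π (x⁻¹ * y) ∈ G
    rwa [map_mul, map_inv]
  -- the scalars
  let n₀ : Nh → N := fun p => ⟨(p : Gam Y).1.1, p.2⟩
  have hsc : ∀ p : Nh, ∃ a : ℂ, ∀ w, (p : Gam Y).1.2 w = a • Y (n₀ p) w :=
    fun p => exists_scalar Y p.1 p.2
  choose a ha using hsc
  obtain ⟨w₀, hw₀⟩ := exists_ne (0 : Fin d → ℂ)
  have hYne : ∀ n : N, Y n w₀ ≠ 0 := by
    intro n h0
    apply hw₀
    have h1 : Y n⁻¹ (Y n w₀) = w₀ := by
      rw [← Module.End.mul_apply, ← map_mul, inv_mul_cancel, map_one]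
      rfl
    rw [← h1, h0, map_zero]
  have hauniq : ∀ (p : Nh) (b : ℂ), (∀ w, (p : Gam Y).1.2 w = b • Y (n₀ p) w) → b = a p := by
    intro p b hb
    have h1 := hb w₀
    rw [ha p] at h1
    exact (smul_left_injective ℂ (hYne (n₀ p)) h1).symm
  have hn₀mul : ∀ p q : Nh, n₀ (p * q) = n₀ p * n₀ q := fun _ _ => rfl
  have hn₀one : n₀ 1 = 1 := rfl
  let l₀ : Nh →* ℂ :=
    { toFun := a
      map_one' := by
        symm
        apply hauniq
        intro w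
        rw [hn₀one, map_one, one_smul]
        rfl
      map_mul' := by
        intro p q
        symm
        apply hauniq
        intro w
        show (p : Gam Y).1.2 ((q : Gam Y).1.2 w) = _
        rw [ha q, map_smul, ha p, hn₀mul, map_mul, Module.End.mul_apply, smul_smul, mul_comm] }
  let l : Nh →* ℂˣ := l₀.toHomUnits
  have hlval : ∀ p : Nh, ((l p : ℂˣ) : ℂ) = a p := fun p => MonoidHom.coe_toHomUnits l₀ p
  have hlinv : ∀ (x : Gam Y) (p : Nh), l ⟨x * p * x⁻¹, hNhn.conj_mem p p.2 x⟩ = l p := by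
    intro x p
    apply Units.ext
    rw [hlval, hlval]
    symm
    apply hauniq
    intro w
    show x.1.2 ((p : Gam Y).1.2 ((x⁻¹ : Gam Y).1.2 w)) = _
    rw [ha p, map_smul, gam_apply]
    congr 1
    have h1 : x.1.2 ((x⁻¹ : Gam Y).1.2 w) = w := x.1.2.apply_symm_apply w
    rw [h1]
    rfl
  obtain ⟨β, ⟨c, hc, hβN⟩, hβinv⟩ := linear_case Gh Nh hNhGh (by rw [hidx, hrel]; exact hcop) hsolvh l⁻¹
    (by
      intro x p
      rw [MonoidHom.inv_apply, MonoidHom.inv_apply, hlinv])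
  -- the representation on `W`
  let R : Representation ℂ Gh (Fin d → ℂ) := (repT Y).comp Gh.subtype
  let πN : Nh →* N := (π.comp Nh.subtype).codRestrict N (fun p => p.2)
  have hπN : Function.Surjective πN := by
    intro n
    obtain ⟨p, hp⟩ := hπ n
    have hpN : p ∈ Nh := by
      show π p ∈ N
      rw [hp]
      exact n.2
    exact ⟨⟨p, hpN⟩, Subtype.ext hp⟩
  have hπNval : ∀ p : Nh, πN p = n₀ p := fun _ => rfl
  have hRirr : R.IsIrreducible := by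
    let f : Nh →* Gh := Subgroup.inclusion hNhGh
    haveI h1 : Representation.IsIrreducible (Y.comp πN) :=
      Cfsg.Agent.Lib.Char.CyclicExt.isIrreducible_comp_surjective Y πN hπN
    haveI h2 := Cfsg.Agent.Lib.Char.GlaubCyclic.isIrreducible_linTwist l (Y.comp πN)
    have h3 : R.comp f = Cfsg.Agent.Lib.Char.GlaubCyclic.linTwist l (Y.comp πN) := by
      refine MonoidHom.ext fun p => LinearMap.ext fun w => ?_
      have h4 := ha p w
      rw [← hlval p] at h4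
      exact h4
    haveI : Representation.IsIrreducible (R.comp f) := by
      rw [h3]
      exact h2
    exact Cfsg.Agent.Lib.Char.CyclicExt.isIrreducible_of_comp R f
  have hRchar : ∀ p : Nh, R.character (Subgroup.inclusion hNhGh p) = a p * Y.character (n₀ p) := by
    intro p
    have h1 : R (Subgroup.inclusion hNhGh p) = a p • Y (n₀ p) := by
      refine LinearMap.ext fun w => ?_
      exact ha p w
    unfold Representation.character
    rw [h1, map_smul, smul_eq_mul]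
  have hane : ∀ p : Nh, a p ≠ 0 := by
    intro p
    rw [← hlval]
    exact Units.ne_zero _
  -- Gallagher
  letI := Fintype.ofFinite Gh
  letI : Fintype (Nh.subgroupOf Gh) := Fintype.ofFinite _
  let N₁ : Subgroup Gh := Nh.subgroupOf Gh
  haveI hN₁n : N₁.Normal := inferInstance
  let e : N₁ →* Nh := (Subgroup.subgroupOfEquivOfLe hNhGh).toMonoidHom
  have hesurj : Function.Surjective e := (Subgroup.subgroupOfEquivOfLe hNhGh).surjective
  let φ : N₁ → ℂ := fun n => (((l⁻¹ : Nh →* ℂˣ) (e n) : ℂˣ) : ℂ)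
  let ϑ' : N₁ → ℂ := fun n => R.character n
  have hφ : IsIrrCharacter N₁ φ := Cfsg.Agent.Lib.Char.LinearChars.isIrr_of_hom ((l⁻¹ : Nh →* ℂˣ).comp e)
  have hφinv : ∀ (g : Gh) (n : N₁), φ ⟨g * n * g⁻¹, hN₁n.conj_mem (n : Gh) n.2 g⟩ = φ n := by
    intro g n
    show (((l⁻¹ : Nh →* ℂˣ) (e _) : ℂˣ) : ℂ) = (((l⁻¹ : Nh →* ℂˣ) (e n) : ℂˣ) : ℂ)
    rw [MonoidHom.inv_apply, MonoidHom.inv_apply, ← hlinv g (e n)]
    rfl
  have hRcl := isClassFunction_of_isCharacter (G := Gh) (χ := R.character) ⟨d, R, rfl⟩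
  have hϑinv : ∀ (g : Gh) (n : N₁), ϑ' ⟨g * n * g⁻¹, hN₁n.conj_mem (n : Gh) n.2 g⟩ = ϑ' n := by
    intro g n
    exact hRcl n g
  have hprodval : φ * ϑ' = fun n => Y.character (πN (e n)) := by
    funext n
    show (((l⁻¹ : Nh →* ℂˣ) (e n) : ℂˣ) : ℂ) * R.character n = Y.character (n₀ (e n))
    have h1 : R.character n = a (e n) * Y.character (n₀ (e n)) := hRchar (e n)
    rw [h1, MonoidHom.inv_apply, Units.val_inv_eq_inv_val, hlval, ← mul_assoc,
      inv_mul_cancel₀ (hane _), one_mul]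
  have hprod : IsIrrCharacter N₁ (φ * ϑ') := by
    rw [hprodval]
    exact isIrrCharacter_comp_surjective ⟨d, Y, hY, rfl⟩ (πN.comp e) (hπN.comp hesurj)
  have hgal := Cfsg.Agent.Lib.Char.Gallagher.gallagher_bijOn N₁ hφ hφinv hϑinv hprod
    (χ := R.character) ⟨d, R, hRirr, rfl⟩ (fun _ => rfl)
  have hβN₁ : ∀ n : N₁, (β : Gh → ℂ) n = c * φ n := fun n => hβN (e n)
  have hβmem : (β : Gh → ℂ) ∈ {β : Gh → ℂ | IsIrrCharacter Gh β ∧
      classInner (Cfsg.indFun N₁ φ) β ≠ 0} := by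
    refine ⟨β.2, ?_⟩
    rw [Cfsg.Agent.Lib.Char.Induced.frobenius_reciprocity N₁ φ _
      (isClassFunction_of_isCharacter (isCharacter_of_isIrrCharacter β.2))]
    have h1 : (fun n : N₁ => (β : Gh → ℂ) n) = c • φ := funext hβN₁
    rw [h1, classInner_smul_right, classInner_irr_self hφ, mul_one]
    exact (map_ne_zero _).mpr hc
  have hψ : IsIrrCharacter Gh ((β : Gh → ℂ) * R.character) := (hgal.mapsTo hβmem).1
  have hψN : ∀ p : Nh, ((β : Gh → ℂ) * R.character) (Subgroup.inclusion hNhGh p) =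
      c * Y.character (n₀ p) := by
    intro p
    rw [Pi.mul_apply, hRchar]
    have h1 := hβN p
    show (β : Gh → ℂ) ⟨p, hNhGh p.2⟩ * _ = _
    rw [h1, MonoidHom.inv_apply, Units.val_inv_eq_inv_val, hlval]
    have := hane p
    field_simp
  let p₀ : Gh →* G := π.subgroupComap G
  have hp₀ : Function.Surjective p₀ := π.subgroupComap_surjective_of_surjective G hπ
  have hker : ∀ z, p₀ z = 1 → ((β : Gh → ℂ) * R.character) z = ((β : Gh → ℂ) * R.character) 1 := by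
    intro z hz
    have hπz : π z = 1 := congrArg Subtype.val hz
    have hzN : (z : Gam Y) ∈ Nh := by
      show π z ∈ N
      rw [hπz]
      exact N.one_mem
    have h1 := hψN ⟨z, hzN⟩
    have h2 := hψN 1
    have hn1 : n₀ ⟨z, hzN⟩ = 1 := Subtype.ext hπz
    rw [hn1] at h1
    rw [hn₀one, map_one] at h2
    have h3 : Subgroup.inclusion hNhGh ⟨z, hzN⟩ = z := rfl
    rw [h3] at h1
    rw [h1, h2]
  obtain ⟨χ₀, hχ₀, hχ₀val⟩ := exists_descend p₀ hp₀ hψ hker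
  refine ⟨⟨χ₀, hχ₀⟩, ⟨c, hc, ?_⟩, ?_⟩
  · intro n
    obtain ⟨p, hp⟩ := hπN n
    have h1 := hχ₀val (Subgroup.inclusion hNhGh p)
    have hpv : π (p : Gam Y) = n := congrArg Subtype.val hp
    have h2 : p₀ (Subgroup.inclusion hNhGh p) = ⟨n, hNG n.2⟩ := Subtype.ext hpv
    rw [h2] at h1
    show χ₀ _ = _
    rw [h1, hψN, ← hπNval, hp]
  · intro x g
    obtain ⟨xh, hxh⟩ := hπ x
    obtain ⟨gh, hgh⟩ := hp₀ g
    let t : Gh := ⟨xh * gh * xh⁻¹, hGhn.conj_mem gh gh.2 xh⟩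
    have h1 : p₀ t = ⟨x * g * x⁻¹, hG.conj_mem g g.2 x⟩ := by
      apply Subtype.ext
      show π (xh * gh * xh⁻¹) = x * g * x⁻¹
      rw [map_mul, map_mul, map_inv, hxh]
      have h3 : π gh = g := congrArg Subtype.val hgh
      rw [h3]
    have h2 := hχ₀val t
    rw [h1] at h2
    show χ₀ _ = χ₀ g
    rw [h2, ← hgh, hχ₀val, Pi.mul_apply, Pi.mul_apply, hβinv xh gh]
    congr 1
    exact isClassFunction_of_isCharacter (G := Gam Y) (χ := (repT Y).character) ⟨d, repT Y, rfl⟩ gh xh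

end CaseBMain

section Main

variable {Γ : Type u} [Group Γ] [Finite Γ]

/-- **Invariant constituents over coprime layers.** -/
theorem exists_inv_layers (G N : Subgroup Γ) [hG : G.Normal] [hN : N.Normal] (hNG : N ≤ G)
    (hcop : G.index.Coprime (N.relIndex G))
    (hsolv : Group.IsSolvable (Γ ⧸ G) ∨ Group.IsSolvable (G ⧸ N.subgroupOf G))
    (ϑ : IrrCharacter N)
    (hinv : ∀ (x : Γ) (n : N), (ϑ : N → ℂ) ⟨x * n * x⁻¹, hN.conj_mem n n.2 x⟩ = (ϑ : N → ℂ) n)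
    [Fintype G] [Fintype N] :
    ∃ χ : IrrCharacter G, classInner (fun n : N => (χ : G → ℂ) ⟨n, hNG n.2⟩) (ϑ : N → ℂ) ≠ 0 ∧
      ∀ (x : Γ) (g : G), (χ : G → ℂ) ⟨x * g * x⁻¹, hG.conj_mem g g.2 x⟩ = (χ : G → ℂ) g := by
  classical
  rcases hsolv with hsolv | hsolv
  · obtain ⟨χ, ⟨c, hc, hval⟩, hinvχ⟩ := caseB G N hNG hcop hsolv ϑ.2 hinv
    refine ⟨χ, ?_, hinvχ⟩
    have h1 : (fun n : N => (χ : G → ℂ) ⟨n, hNG n.2⟩) = c • (ϑ : N → ℂ) := funext hval
    rw [h1, classInner_smul_left]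
    convert mul_ne_zero hc (one_ne_zero : (1 : ℂ) ≠ 0)
    convert classInner_irr_self ϑ.2
  · obtain ⟨U, hNU, hdec, hrelU⟩ := exists_complement_section G N hNG hcop
    have hnorm : ∀ s ∈ U, ∀ g ∈ G, s * g * s⁻¹ ∈ G := fun s _ g hg => hG.conj_mem g hg s
    have hNS : ∀ s ∈ U, ∀ n ∈ N, s * n * s⁻¹ ∈ N := fun s _ n hn => hN.conj_mem n hn s
    have hS : SInv U (ϑ : N → ℂ) := by
      intro s _ g g' hg
      have h1 : g' = ⟨s * g * s⁻¹, hN.conj_mem g g.2 s⟩ := Subtype.ext hg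
      rw [h1]
      exact hinv s g
    obtain ⟨χ, hχ, hχS⟩ := exists_inv_section (U := U) _ G N rfl hnorm hNG hNU hNS
      (by rw [hrelU]; exact hcop.symm) hsolv ϑ hS
    refine ⟨χ, hχ, ?_⟩
    intro x g
    obtain ⟨a, ha, t, ht, rfl⟩ := hdec x
    have h1 := hχS t ht g ⟨t * g * t⁻¹, hG.conj_mem g g.2 t⟩ rfl
    have h2 := isClassFunction_of_isCharacter (isCharacter_of_isIrrCharacter χ.2)
      ⟨t * g * t⁻¹, hG.conj_mem g g.2 t⟩ ⟨a, ha⟩
    rw [← h1, ← h2]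
    refine congrArg _ (Subtype.ext ?_)
    simp only [Subgroup.coe_mul, InvMemClass.coe_inv]
    group

end Main

end Cfsg.Agent.Lib.Char.CoprimeLayers
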