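import Mathlib
import Cfsg.Agent.S0188
import Cfsg.Agent.Lib.Char.AbelianQuot
import Cfsg.Agent.Lib.Char.Monomial
import Cfsg.Agent.Lib.Char.GlaubOver

/-!
# M-groups: direct powers and induction transitivity

* `IsMG`: all irreducible characters are induced from linear characters of subgroups.
* `isMG_of_equiv`: the property transports along isomorphisms.
* `exists_prod_form`: irreducible characters of `Q → D` are products.
* `ind_prod`: the product of monomial characters is monomial.
* `isMG_pi`: a direct power of an M-group is an M-group.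
-/

set_option autoImplicit false
set_option linter.style.haveILetI false

namespace Cfsg.Agent.Lib.Char.DadeEmbed

open Cfsg Cfsg.Agent.Lib.Char.Basic Cfsg.Agent.Lib.Char.Ortho Cfsg.Agent.Lib.Char.Induced
  Cfsg.Agent.Lib.Char.IndRep Cfsg.Agent.Lib.Char.Clifford Cfsg.Agent.Lib.Char.CliffordCorr
  Cfsg.Agent.Lib.Char.Monomial Cfsg.Agent.Lib.Char.LinearChars

universe u v

/-- All irreducible characters are monomial. -/
def IsMG (M : Type*) [Group M] [Fintype M] : Prop :=
  ∀ χ : M → ℂ, IsIrrCharacter M χ → ∃ (H : Subgroup M) (lam : H →* ℂˣ),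
    χ = indFun H (fun h => ((lam h : ℂˣ) : ℂ))

section Transport

variable {A B : Type*} [Group A] [Fintype A] [Group B] [Fintype B]

theorem isMG_of_equiv (e : A ≃* B) (hB : IsMG B) : IsMG A := by
  classical
  intro χ hχ
  have h1 : IsIrrCharacter B (fun b => χ (e.symm b)) :=
    isIrrCharacter_comp_surjective hχ e.symm.toMonoidHom e.symm.surjective
  obtain ⟨H, lam, hH⟩ := hB _ h1
  let H' : Subgroup A := H.comap e.toMonoidHom
  let lam' : H' →* ℂˣ := lam.comp (e.toMonoidHom.subgroupComap H)
  refine ⟨H', lam', ?_⟩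
  funext a
  have h2 := congrFun hH (e a)
  simp only [MulEquiv.symm_apply_apply] at h2
  rw [h2, indFun_apply, indFun_apply]
  have hcard : Nat.card H' = Nat.card H :=
    Nat.card_congr (Equiv.subtypeEquiv e.toEquiv (fun a => Iff.rfl))
  rw [hcard]
  congr 1
  rw [← Equiv.sum_comp e.toEquiv]
  refine Finset.sum_congr rfl fun x _ => ?_
  have h3 : (e.toEquiv x)⁻¹ * e a * e.toEquiv x = e (x⁻¹ * a * x) := by
    simp
  rw [h3]
  by_cases hy : x⁻¹ * a * x ∈ H'
  · have hy' : e (x⁻¹ * a * x) ∈ H := hy
    rw [extendByZero_of_mem H _ hy', extendByZero_of_mem H' _ hy]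
    rfl
  · have hy' : e (x⁻¹ * a * x) ∉ H := hy
    rw [extendByZero_of_notMem H _ hy', extendByZero_of_notMem H' _ hy]

end Transport

section Trans

variable {G : Type*} [Group G] [Fintype G]

/-- Induction from a subgroup of a subgroup, for linear characters. -/
theorem exists_ind_ind (T : Subgroup G) [Fintype T] (U : Subgroup T) (ν : U →* ℂˣ) :
    ∃ (H : Subgroup G) (lam : H →* ℂˣ), indFun T (indFun U (fun h => ((ν h : ℂˣ) : ℂ))) =
      indFun H (fun h => ((lam h : ℂˣ) : ℂ)) := by
  refine ⟨U.map T.subtype, ν.comp (U.equivMapOfInjective T.subtype T.subtype_injective).symm.toMonoidHom, ?_⟩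
  rw [ind_ind]
  rfl

end Trans

section ProdForm

variable (D : Type u) [Group D] [Finite D]

/-- The irreducible characters of a direct power are products. -/
theorem exists_prod_form (ι : Type v) [Finite ι] : ∀ [Fintype ι] (θ : (ι → D) → ℂ),
    IsIrrCharacter (ι → D) θ → ∃ τ : ι → D → ℂ, (∀ i, IsIrrCharacter D (τ i)) ∧
      θ = fun f => ∏ i, τ i (f i) := by
  classical
  induction ι using Finite.induction_empty_option with
  | of_equiv e ih =>
    rename_i α β
    intro _ θ hθ
    letI : Fintype α := Fintype.ofEquiv β e.symm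
    let E : (α → D) ≃* (β → D) :=
      { toFun := fun f b => f (e.symm b)
        invFun := fun f a => f (e a)
        left_inv := fun f => by simp
        right_inv := fun f => by simp
        map_mul' := fun _ _ => rfl }
    have h1 : IsIrrCharacter (α → D) (fun f => θ (E f)) :=
      isIrrCharacter_comp_surjective hθ E.toMonoidHom E.surjective
    obtain ⟨τ, hτ, hf⟩ := ih _ h1
    refine ⟨fun b => τ (e.symm b), fun b => hτ _, ?_⟩
    funext f
    have h2 := congrFun hf (E.symm f)
    simp only [MulEquiv.apply_symm_apply] at h2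
    rw [h2]
    exact Fintype.prod_equiv e _ _ (fun a => by simp [E])
  | h_empty =>
    intro _ θ hθ
    refine ⟨fun i => i.elim, fun i => i.elim, ?_⟩
    funext f
    simp only [Finset.univ_eq_empty, Finset.prod_empty]
    obtain ⟨d, hd, hd0, hdvd⟩ := Cfsg.Agent.Lib.Char.GlaubOver.exists_degree_dvd hθ
    have h1 : f = 1 := Subsingleton.elim _ _
    rw [h1, hd]
    have : Nat.card (PEmpty → D) = 1 := Nat.card_unique
    rw [this, Nat.dvd_one] at hdvd
    simp [hdvd]
  | h_option ih =>
    rename_i α _
    intro inst θ hθ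
    obtain rfl : inst = instFintypeOption := Subsingleton.elim _ _
    let E : (Option α → D) ≃* D × (α → D) :=
      { toFun := fun f => (f none, fun a => f (some a))
        invFun := fun p o => o.elim p.1 p.2
        left_inv := fun f => by funext o; cases o <;> rfl
        right_inv := fun p => rfl
        map_mul' := fun _ _ => rfl }
    have h1 : IsIrrCharacter (D × (α → D)) (fun p => θ (E.symm p)) :=
      isIrrCharacter_comp_surjective hθ E.symm.toMonoidHom E.symm.surjective
    obtain ⟨φ, ψ, hφ, hψ, hprod⟩ := (Cfsg.Agent.S0188.result _).mp h1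
    obtain ⟨τ, hτ, hf⟩ := ih ψ hψ
    refine ⟨fun o => o.elim φ τ, fun o => ?_, ?_⟩
    · cases o with
      | none => exact hφ
      | some a => exact hτ a
    · funext f
      have h2 := congrFun hprod (E f)
      simp only [MulEquiv.symm_apply_apply] at h2
      rw [h2, Fintype.prod_option]
      show φ (f none) * ψ (fun a => f (some a)) = _
      rw [hf]
      rfl

end ProdForm

section IndProd

variable {Q : Type*} [Fintype Q] [DecidableEq Q] {D : Type*} [Group D] [Fintype D]

/-- The product of subgroups. -/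
def piSub (K : Q → Subgroup D) : Subgroup (Q → D) := Subgroup.pi Set.univ K

theorem mem_piSub (K : Q → Subgroup D) (f : Q → D) : f ∈ piSub K ↔ ∀ q, f q ∈ K q := by
  simp [piSub, Subgroup.mem_pi]

/-- The product of linear characters. -/
noncomputable def piLin (K : Q → Subgroup D) (lam : ∀ q, K q →* ℂˣ) : piSub K →* ℂˣ where
  toFun f := ∏ q, lam q ⟨(f : Q → D) q, (mem_piSub K f).mp f.2 q⟩
  map_one' := by
    refine Finset.prod_eq_one fun q _ => ?_
    exact map_one (lam q)
  map_mul' f g := by
    rw [← Finset.prod_mul_distrib]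
    refine Finset.prod_congr rfl fun q _ => ?_
    rw [← map_mul]
    rfl

theorem ext_piLin (K : Q → Subgroup D) (lam : ∀ q, K q →* ℂˣ) (f : Q → D) :
    extendByZero (piSub K) (fun h => ((piLin K lam h : ℂˣ) : ℂ)) f =
      ∏ q, extendByZero (K q) (fun h => ((lam q h : ℂˣ) : ℂ)) (f q) := by
  by_cases hf : f ∈ piSub K
  · rw [extendByZero_of_mem _ _ hf]
    have h1 : ∀ q, f q ∈ K q := (mem_piSub K f).mp hf
    rw [Finset.prod_congr rfl fun q _ => extendByZero_of_mem (K q) _ (h1 q)]
    simp [piLin]
  · rw [extendByZero_of_notMem _ _ hf]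
    have h1 : ∃ q, f q ∉ K q := by
      by_contra hcon
      push Not at hcon
      exact hf ((mem_piSub K f).mpr hcon)
    obtain ⟨q, hq⟩ := h1
    symm
    refine Finset.prod_eq_zero (Finset.mem_univ q) ?_
    exact extendByZero_of_notMem _ _ hq

theorem card_piSub (K : Q → Subgroup D) : Nat.card (piSub K) = ∏ q, Nat.card (K q) := by
  classical
  have e : piSub K ≃ ∀ q, K q :=
    { toFun := fun f q => ⟨(f : Q → D) q, (mem_piSub K f).mp f.2 q⟩
      invFun := fun f => ⟨fun q => f q, (mem_piSub K _).mpr fun q => (f q).2⟩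
      left_inv := fun f => rfl
      right_inv := fun f => rfl }
  rw [Nat.card_congr e, Nat.card_pi]

/-- The product of monomial characters is monomial. -/
theorem ind_prod [inst : Fintype (Q → D)] (K : Q → Subgroup D) (lam : ∀ q, K q →* ℂˣ) (f : Q → D) :
    indFun (piSub K) (fun h => ((piLin K lam h : ℂˣ) : ℂ)) f =
      ∏ q, indFun (K q) (fun h => ((lam q h : ℂˣ) : ℂ)) (f q) := by
  classical
  obtain rfl : inst = Pi.instFintype := Subsingleton.elim _ _
  simp only [indFun_apply]
  rw [Finset.prod_mul_distrib, card_piSub]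
  congr 1
  · push_cast
    rw [Finset.prod_inv_distrib]
  · have h1 : ∀ x : Q → D, extendByZero (piSub K) (fun h => ((piLin K lam h : ℂˣ) : ℂ)) (x⁻¹ * f * x) =
        ∏ q, extendByZero (K q) (fun h => ((lam q h : ℂˣ) : ℂ)) ((x q)⁻¹ * f q * x q) := by
      intro x
      rw [ext_piLin]
      rfl
    rw [Finset.sum_congr rfl fun x _ => h1 x, Finset.prod_univ_sum, Fintype.piFinset_univ]

/-- A direct power of an M-group is an M-group. -/
theorem isMG_pi [Fintype (Q → D)] (hD : IsMG D) : IsMG (Q → D) := by
  classical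
  intro θ hθ
  obtain ⟨τ, hτ, hf⟩ := exists_prod_form D Q θ hθ
  choose K lam hKlam using fun q => hD (τ q) (hτ q)
  refine ⟨piSub K, piLin K lam, ?_⟩
  funext f
  rw [hf, ind_prod]
  refine Finset.prod_congr rfl fun q _ => ?_
  rw [hKlam q]

end IndProd

end Cfsg.Agent.Lib.Char.DadeEmbed
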