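import Mathlib
import Cfsg.Agent.Lib.Char.DadeEmbed
import Cfsg.Agent.Lib.Char.CyclicExt
import Cfsg.Agent.Lib.Char.Burnside2
import Cfsg.Agent.Lib.Char.Gallagher

/-!
# Wreath products with groups of prime order preserve M-groups

* `wrSub`, `wrLin`: the subgroup `K ≀ Q` and the linear character `λ ≀ Q`.
* `indFun_wrLin_base`: the restriction of `(λ ≀ Q)^W` to the base is the product.
* `isMG_wreath`: `D ≀ Q` is an M-group for `D` an M-group and `Q` of prime order.
-/

set_option autoImplicit false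
set_option linter.style.haveILetI false

namespace Cfsg.Agent.Lib.Char.DadeEmbed

open Cfsg Cfsg.Agent.Lib.Char.Basic Cfsg.Agent.Lib.Char.Ortho Cfsg.Agent.Lib.Char.Induced
  Cfsg.Agent.Lib.Char.IndRep Cfsg.Agent.Lib.Char.Clifford Cfsg.Agent.Lib.Char.CliffordCorr
  Cfsg.Agent.Lib.Char.Monomial Cfsg.Agent.Lib.Char.LinearChars RegularWreathProduct

section Wr

variable {D : Type*} [Group D] {Q : Type*} [Group Q]

/-- The base group of the wreath product. -/
def base (D Q : Type*) [Group D] [Group Q] : Subgroup (D ≀ᵣ Q) := (rightHom : D ≀ᵣ Q →* Q).ker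

instance : (base D Q).Normal := MonoidHom.normal_ker _

theorem mem_base (w : D ≀ᵣ Q) : w ∈ base D Q ↔ w.right = 1 := Iff.rfl

/-- The base group is the direct power. -/
def baseEquiv : base D Q ≃* (Q → D) where
  toFun b := b.1.left
  invFun f := ⟨⟨f, 1⟩, rfl⟩
  left_inv b := by
    apply Subtype.ext
    ext1
    · rfl
    · exact b.2.symm
  right_inv f := rfl
  map_mul' a b := by
    have h : (a : D ≀ᵣ Q).right = 1 := a.2
    show ((a : D ≀ᵣ Q) * (b : D ≀ᵣ Q)).left = _
    rw [mul_left, h]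
    funext x
    simp

theorem baseEquiv_apply (b : base D Q) (q : Q) : baseEquiv b q = (b : D ≀ᵣ Q).left q := rfl

/-- The wreath product of a subgroup with `Q`. -/
def wrSub (K : Subgroup D) : Subgroup (D ≀ᵣ Q) where
  carrier := {w | ∀ q, w.left q ∈ K}
  mul_mem' ha hb q := K.mul_mem (ha q) (hb _)
  one_mem' q := K.one_mem
  inv_mem' ha q := K.inv_mem (ha _)

theorem mem_wrSub (K : Subgroup D) (w : D ≀ᵣ Q) : w ∈ (wrSub K : Subgroup (D ≀ᵣ Q)) ↔ ∀ q, w.left q ∈ K :=
  Iff.rfl

variable [Fintype Q]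

/-- The wreath product of a linear character with `Q`. -/
noncomputable def wrLin (K : Subgroup D) (lam : K →* ℂˣ) : (wrSub K : Subgroup (D ≀ᵣ Q)) →* ℂˣ where
  toFun w := ∏ q, lam ⟨(w : D ≀ᵣ Q).left q, w.2 q⟩
  map_one' := by
    refine Finset.prod_eq_one fun q _ => ?_
    exact map_one lam
  map_mul' a b := by
    have h1 : ∏ q, lam ⟨(b : D ≀ᵣ Q).left q, b.2 q⟩ =
        ∏ q, lam ⟨(b : D ≀ᵣ Q).left ((a : D ≀ᵣ Q).right⁻¹ * q), b.2 _⟩ :=
      (Equiv.prod_comp (Equiv.mulLeft (a : D ≀ᵣ Q).right⁻¹)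
        (fun q => lam ⟨(b : D ≀ᵣ Q).left q, b.2 q⟩)).symm
    rw [h1, ← Finset.prod_mul_distrib]
    refine Finset.prod_congr rfl fun q _ => ?_
    rw [← map_mul]
    rfl

theorem ext_wrLin (K : Subgroup D) (lam : K →* ℂˣ) (w : D ≀ᵣ Q) :
    extendByZero (wrSub K : Subgroup (D ≀ᵣ Q)) (fun h => ((wrLin K lam h : ℂˣ) : ℂ)) w =
      ∏ q, extendByZero K (fun h => ((lam h : ℂˣ) : ℂ)) (w.left q) := by
  by_cases hf : w ∈ (wrSub K : Subgroup (D ≀ᵣ Q))
  · rw [extendByZero_of_mem _ _ hf]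
    have h1 : ∀ q, w.left q ∈ K := hf
    rw [Finset.prod_congr rfl fun q _ => extendByZero_of_mem K _ (h1 q)]
    simp [wrLin]
  · rw [extendByZero_of_notMem _ _ hf]
    have h1 : ∃ q, w.left q ∉ K := by
      by_contra hcon
      push Not at hcon
      exact hf hcon
    obtain ⟨q, hq⟩ := h1
    symm
    refine Finset.prod_eq_zero (Finset.mem_univ q) ?_
    exact extendByZero_of_notMem _ _ hq

theorem card_wrSub [Finite D] (K : Subgroup D) :
    Nat.card (wrSub K : Subgroup (D ≀ᵣ Q)) = Nat.card K ^ Nat.card Q * Nat.card Q := by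
  classical
  have e : (wrSub K : Subgroup (D ≀ᵣ Q)) ≃ (Q → K) × Q :=
    { toFun := fun w => (fun q => ⟨(w : D ≀ᵣ Q).left q, w.2 q⟩, (w : D ≀ᵣ Q).right)
      invFun := fun p => ⟨⟨fun q => p.1 q, p.2⟩, fun q => (p.1 q).2⟩
      left_inv := fun w => rfl
      right_inv := fun p => rfl }
  rw [Nat.card_congr e, Nat.card_prod, Nat.card_fun]

theorem conj_left (w : D ≀ᵣ Q) (f : Q → D) (y : Q) :
    (w⁻¹ * (⟨f, 1⟩ : D ≀ᵣ Q) * w).left y =
      (w.left (w.right * y))⁻¹ * f (w.right * y) * w.left (w.right * y) := by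
  simp [mul_left, inv_left, mul_right, inv_right, mul_assoc]

/-- The sum over the wreath product. -/
theorem sum_wr [Fintype D] [DecidableEq Q] [Fintype (D ≀ᵣ Q)] (F : D ≀ᵣ Q → ℂ) :
    ∑ w, F w = ∑ g : Q → D, ∑ x : Q, F ⟨g, x⟩ := by
  rw [← Fintype.sum_prod_type']
  exact Fintype.sum_equiv (equivProd D Q) _ _ (fun w => rfl)

theorem indFun_wrLin_base [Fintype D] [DecidableEq Q] [Fintype (D ≀ᵣ Q)] (K : Subgroup D) (lam : K →* ℂˣ)
    (f : Q → D) :
    indFun (wrSub K : Subgroup (D ≀ᵣ Q)) (fun h => ((wrLin K lam h : ℂˣ) : ℂ)) ⟨f, 1⟩ =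
      ∏ q, indFun K (fun h => ((lam h : ℂˣ) : ℂ)) (f q) := by
  classical
  simp only [indFun_apply]
  rw [sum_wr, Finset.prod_mul_distrib, card_wrSub]
  have h1 : ∀ (g : Q → D) (x : Q),
      extendByZero (wrSub K : Subgroup (D ≀ᵣ Q)) (fun h => ((wrLin K lam h : ℂˣ) : ℂ))
        ((⟨g, x⟩ : D ≀ᵣ Q)⁻¹ * ⟨f, 1⟩ * ⟨g, x⟩) =
      ∏ q, extendByZero K (fun h => ((lam h : ℂˣ) : ℂ)) ((g q)⁻¹ * f q * g q) := by
    intro g x
    rw [ext_wrLin]
    simp_rw [conj_left]
    exact Equiv.prod_comp (Equiv.mulLeft x)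
      (fun q => extendByZero K (fun h => ((lam h : ℂˣ) : ℂ)) ((g q)⁻¹ * f q * g q))
  simp_rw [h1]
  simp only [Finset.sum_const, Finset.card_univ, nsmul_eq_mul]
  rw [← Finset.mul_sum, Finset.prod_univ_sum, Fintype.piFinset_univ, Finset.prod_const, Finset.card_univ]
  have hQ : ((Fintype.card Q : ℕ) : ℂ) ≠ 0 := by
    exact_mod_cast Fintype.card_ne_zero
  rw [Nat.card_eq_fintype_card (α := Q)]
  push_cast
  rw [mul_inv, inv_pow]
  field_simp

end Wr

section Main

variable {D : Type*} [Group D] [Fintype D] {Q : Type*} [Group Q] [Fintype Q] [DecidableEq Q]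

/-- An invariant product character has equal factors. -/
theorem factors_eq (τ : Q → D → ℂ) (hτ : ∀ q, IsIrrCharacter D (τ q))
    (hinv : ∀ (x : Q) (f : Q → D), ∏ q, τ q (f (x⁻¹ * q)) = ∏ q, τ q (f q)) (q : Q) : τ q = τ 1 := by
  classical
  by_contra hne
  have hA : ∀ q : Q, ∏ q' ∈ Finset.univ.erase q, τ q' 1 ≠ 0 := fun q =>
    Finset.prod_ne_zero_iff.mpr fun q' _ => irr_apply_one_ne_zero (hτ q')
  have hform : ∀ (q₀ : Q) (d : D), ∏ q', τ q' ((Pi.mulSingle q₀ d : Q → D) q') =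
      τ q₀ d * ∏ q' ∈ Finset.univ.erase q₀, τ q' 1 := by
    intro q₀ d
    rw [← Finset.mul_prod_erase _ _ (Finset.mem_univ q₀), Pi.mulSingle_eq_same]
    congr 1
    refine Finset.prod_congr rfl fun q' hq' => ?_
    rw [Pi.mulSingle_eq_of_ne (Finset.ne_of_mem_erase hq')]
  have hrel : ∀ d : D, τ q d * ∏ q' ∈ Finset.univ.erase q, τ q' 1 =
      τ 1 d * ∏ q' ∈ Finset.univ.erase (1 : Q), τ q' 1 := by
    intro d
    rw [← hform, ← hform]
    have h1 := hinv q (Pi.mulSingle (1 : Q) d)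
    rw [← h1]
    refine Finset.prod_congr rfl fun q' _ => ?_
    congr 1
    by_cases h : q' = q
    · subst h
      simp
    · rw [Pi.mulSingle_eq_of_ne h, Pi.mulSingle_eq_of_ne]
      intro h2
      apply h
      have := congrArg (fun y => q * y) h2
      simpa using this
  set c : ℂ := (∏ q' ∈ Finset.univ.erase (1 : Q), τ q' 1) / ∏ q' ∈ Finset.univ.erase q, τ q' 1 with hc
  have hc0 : c ≠ 0 := div_ne_zero (hA 1) (hA q)
  have hsm : τ q = c • τ 1 := by
    funext d
    have h2 := hrel d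
    simp only [Pi.smul_apply, smul_eq_mul]
    rw [hc]
    field_simp [hA q]
    rw [h2]
    ring
  have h3 := classInner_irr_of_ne (hτ q) (hτ 1) hne
  rw [hsm, classInner_smul_left, classInner_irr_self (hτ 1), mul_one] at h3
  exact hc0 h3

/-- The main theorem on wreath products. -/
theorem isMG_wreath [Fintype (D ≀ᵣ Q)] (hD : IsMG D) (hQ : (Nat.card Q).Prime) : IsMG (D ≀ᵣ Q) := by
  classical
  intro χ hχ
  have hχc := isCharacter_of_isIrrCharacter hχ
  have hχcl := isClassFunction_of_isCharacter hχc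
  set B := base D Q with hB
  haveI hBn : B.Normal := inferInstanceAs (base D Q).Normal
  letI : Fintype B := Fintype.ofFinite _
  obtain ⟨θ, hθ, hin⟩ := exists_irr_constituent (isCharacter_restrict hχc B) (irr_apply_one_ne_zero hχ)
  set I : Subgroup (D ≀ᵣ Q) := inertiaOf B θ with hIdef
  letI : Fintype I := Fintype.ofFinite I
  have hI := mem_inertiaOf B θ
  have hθcl := isClassFunction_of_isCharacter (isCharacter_of_isIrrCharacter hθ)
  have hBI : B ≤ I := by
    intro g hg
    rw [hIdef, hI]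
    intro n
    exact hθcl n ⟨g, hg⟩
  obtain ⟨η, hη, hind, hinner⟩ := exists_indFun_eq B θ I hBI hθ hI hχ hin
  have hBidx : B.index = Nat.card Q := by
    have hsurj : Function.Surjective (rightHom : D ≀ᵣ Q →* Q) := fun q => ⟨inl q, rfl⟩
    rw [hB, base, Subgroup.index_ker, MonoidHom.range_eq_top.mpr hsurj, Subgroup.card_top]
  have hdvd : I.index ∣ Nat.card Q := by
    rw [← hBidx]
    exact Dvd.intro_left _ (Subgroup.relIndex_mul_index hBI)
  rcases (Nat.dvd_prime hQ).mp hdvd with h1 | h1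
  · -- the invariant case
    have htop : I = ⊤ := Subgroup.index_eq_one.mp h1
    have hinv : ∀ (g : D ≀ᵣ Q) (n : B), θ ⟨g * n * g⁻¹, hBn.conj_mem (n : D ≀ᵣ Q) n.2 g⟩ = θ n := by
      intro g n
      have hg : g ∈ I := by rw [htop]; trivial
      exact (hI g).mp hg n
    let bE : B ≃* (Q → D) := baseEquiv
    have hθ₀ : IsIrrCharacter (Q → D) (fun f => θ (bE.symm f)) :=
      isIrrCharacter_comp_surjective hθ bE.symm.toMonoidHom bE.symm.surjective
    obtain ⟨τ, hτ, hτf⟩ := exists_prod_form D Q _ hθ₀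
    have hθval : ∀ b : B, θ b = ∏ q, τ q ((b : D ≀ᵣ Q).left q) := by
      intro b
      have h2 := congrFun hτf (bE b)
      simp only [MulEquiv.symm_apply_apply] at h2
      exact h2
    have hall : ∀ q, τ q = τ 1 := by
      refine factors_eq τ hτ fun x f => ?_
      let b : B := ⟨⟨f, 1⟩, rfl⟩
      have h2 := hinv (inl x) b
      rw [hθval, hθval] at h2
      rw [← show ∏ q, τ q ((b : D ≀ᵣ Q).left q) = ∏ q, τ q (f q) from rfl, ← h2]
      refine Finset.prod_congr rfl fun q _ => ?_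
      congr 1
      simp [b, mul_left, inv_left, inl]
    obtain ⟨K, lam, hKlam⟩ := hD (τ 1) (hτ 1)
    set lamt : (wrSub K : Subgroup (D ≀ᵣ Q)) →* ℂˣ := wrLin K lam with hlamt
    set ψ : D ≀ᵣ Q → ℂ := indFun (wrSub K : Subgroup (D ≀ᵣ Q)) (fun h => ((lamt h : ℂˣ) : ℂ)) with hψdef
    have hψc : IsCharacter (D ≀ᵣ Q) ψ :=
      isCharacter_indFun _ (isCharacter_of_isIrrCharacter (isIrr_of_hom lamt))
    have hψB : ∀ n : B, ψ n = θ n := by
      intro n
      have hn : (n : D ≀ᵣ Q) = ⟨(n : D ≀ᵣ Q).left, 1⟩ := by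
        ext1
        · rfl
        · exact n.2
      rw [hψdef, hn, hlamt, indFun_wrLin_base, hθval]
      refine Finset.prod_congr rfl fun q _ => ?_
      rw [hall q, hKlam]
    have hψ : IsIrrCharacter (D ≀ᵣ Q) ψ := by
      obtain ⟨m, R, hR⟩ := hψc
      refine ⟨m, R, ?_, hR⟩
      let R' : Representation ℂ B (Fin m → ℂ) := R.comp B.subtype
      haveI : R'.IsIrreducible := by
        apply Cfsg.Agent.Lib.Char.Galois.isIrreducible_of_norm_one
        obtain ⟨m', σ', hσ', hσ'c⟩ := hθ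
        haveI := hσ'
        have h1 : R'.character = σ'.character := by
          rw [hσ'c]
          funext n
          show R.character n = θ n
          rw [hR]
          exact hψB n
        rw [h1]
        exact Cfsg.Agent.Lib.Char.Galois.norm_one_of_isIrreducible σ'
      haveI : Representation.IsIrreducible (R.comp B.subtype) := inferInstanceAs R'.IsIrreducible
      exact Cfsg.Agent.Lib.Char.CyclicExt.isIrreducible_of_comp R B.subtype
    -- Gallagher
    have hone : IsIrrCharacter B (fun _ => 1) := Cfsg.Agent.Lib.Char.Burnside2.isIrrCharacter_one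
    have hmul1 : (fun _ : B => (1 : ℂ)) * θ = θ := by
      funext n
      simp
    have hbij := Cfsg.Agent.Lib.Char.Gallagher.gallagher_bijOn B (φ := fun _ : B => (1 : ℂ)) (ϑ := θ)
      hone (fun _ _ => rfl) hinv (by rw [hmul1]; exact hθ) hψ hψB
    have hχmem : χ ∈ {ψ' : D ≀ᵣ Q → ℂ | IsIrrCharacter _ ψ' ∧
        classInner (indFun B ((fun _ : B => (1 : ℂ)) * θ)) ψ' ≠ 0} := by
      refine ⟨hχ, ?_⟩
      rw [hmul1, frobenius_reciprocity B θ χ hχcl]
      intro h0
      apply hin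
      rw [← classInner_conj_symm, h0]
      simp
    obtain ⟨β, ⟨hβ, hβin⟩, hβχ⟩ := hbij.surjOn hχmem
    -- `β` is linear
    haveI : IsCyclic Q := isCyclic_of_prime_card (p := Nat.card Q) (hp := ⟨hQ⟩) rfl
    have hQcomm : ∀ a b : Q, a * b = b * a := fun a b =>
      (IsCyclic.isMulCommutative (α := Q)).is_comm.comm a b
    have hab : ∀ x y : D ≀ᵣ Q, x * y * x⁻¹ * y⁻¹ ∈ B := by
      intro x y
      show (x * y * x⁻¹ * y⁻¹).right = 1
      simp only [mul_right, inv_right]
      rw [hQcomm x.right y.right]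
      group
    have hβres : classInner (fun n : B => β n) (fun _ => 1) ≠ 0 := by
      have hβcl := isClassFunction_of_isCharacter (isCharacter_of_isIrrCharacter hβ)
      rw [frobenius_reciprocity B _ β hβcl] at hβin
      intro h0
      apply hβin
      rw [← classInner_conj_symm, h0]
      simp
    obtain ⟨hβ1, -, -⟩ := Cfsg.Agent.Lib.Char.AbelianQuot.linear_of_over_one B hab hβ hβres
    have hβone : β 1 = 1 := hβ1 1
    obtain ⟨φ, hφ⟩ := exists_hom_of_isCharacter_one (isCharacter_of_isIrrCharacter hβ) hβone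
    refine ⟨wrSub K, lamt * φ.comp (wrSub K : Subgroup (D ≀ᵣ Q)).subtype, ?_⟩
    have hfinal : χ = ψ * β := by
      rw [← hβχ, mul_comm]
    have hβcl := isClassFunction_of_isCharacter (isCharacter_of_isIrrCharacter hβ)
    rw [hfinal, hψdef, Cfsg.Agent.Lib.Char.Gallagher.indFun_mul_res _ _ hβcl]
    congr 1
    funext h
    simp [hφ]
  · -- the inertia group is the base
    have hIB : I = B := by
      apply le_antisymm _ hBI
      have h2 := Subgroup.relIndex_mul_index hBI
      rw [hBidx, h1] at h2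
      have h3 : B.relIndex I = 1 := by
        exact Nat.eq_of_mul_eq_mul_right hQ.pos (by rw [h2, one_mul])
      exact Subgroup.relIndex_eq_one.mp h3
    let e : I ≃* (Q → D) := (MulEquiv.subgroupCongr hIB).trans baseEquiv
    have hMG : IsMG I := isMG_of_equiv e (isMG_pi hD)
    obtain ⟨U, ν, hν⟩ := hMG η hη
    obtain ⟨H, lam, hH⟩ := exists_ind_ind I U ν
    exact ⟨H, lam, by rw [← hind, hν, hH]⟩

end Main

end Cfsg.Agent.Lib.Char.DadeEmbed
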