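import Mathlib
import Cfsg.Agent.Lib.Char.FrobeniusKernel

/-!
# The Frobenius-Wielandt theorem

If `N` is normal in `H ≤ G` and `H ∩ H^x ≤ N` for every `x ∉ H`, then `G` has a normal subgroup `K`
with `K ∩ H = N` and `KH = G`.
-/

set_option autoImplicit false

namespace Cfsg.Agent.Lib.Char.FrobeniusWielandt

open Cfsg Module Cfsg.Agent.Lib.Char Cfsg.Agent.Lib.Char.FrobeniusKernel
open scoped ComplexConjugate Pointwise

universe u

variable {G : Type u} [Group G]

/-- The hypotheses of the Frobenius-Wielandt theorem. -/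
structure IsFW (H N : Subgroup G) : Prop where
  le : N ≤ H
  normal : ∀ h ∈ H, ∀ n ∈ N, h * n * h⁻¹ ∈ N
  ti : ∀ x : G, x ∉ H → ∀ h ∈ H, x⁻¹ * h * x ∈ H → h ∈ N

variable {H N : Subgroup G}

theorem IsFW.conj_mem (hFW : IsFW H N) {x h : G} (hx : x ∉ H) (hh : h ∈ H)
    (h2 : x⁻¹ * h * x ∈ H) : x⁻¹ * h * x ∈ N := by
  refine hFW.ti x⁻¹ (fun h' => hx (by simpa using H.inv_mem h')) _ h2 ?_
  have : x⁻¹⁻¹ * (x⁻¹ * h * x) * x⁻¹ = h := by group
  rw [this]; exact hh

/-- On `H`, an induced class function vanishing on `N` agrees with the function. -/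
theorem indFun_eq_of_mem [Fintype G] (hFW : IsFW H N) (φ : H → ℂ) (hφ : IsClassFunction H φ)
    (h0 : ∀ n : H, (n : G) ∈ N → φ n = 0) {h : G} (hh : h ∈ H) :
    indFun H φ h = φ ⟨h, hh⟩ := by
  classical
  rw [Induced.indFun_apply]
  have key : ∀ x : G, extendByZero H φ (x⁻¹ * h * x) = if x ∈ H then φ ⟨h, hh⟩ else 0 := by
    intro x
    by_cases hx : x ∈ H
    · rw [if_pos hx]
      have hm : x⁻¹ * h * x ∈ H := H.mul_mem (H.mul_mem (H.inv_mem hx) hh) hx
      rw [Induced.extendByZero_of_mem H φ hm]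
      have := hφ ⟨h, hh⟩ ⟨x⁻¹, H.inv_mem hx⟩
      convert this using 2
      apply Subtype.ext
      simp
    · rw [if_neg hx]
      by_cases hm : x⁻¹ * h * x ∈ H
      · rw [Induced.extendByZero_of_mem H φ hm]
        exact h0 _ (hFW.conj_mem hx hh hm)
      · exact Induced.extendByZero_of_notMem H φ hm
  simp_rw [key]
  rw [Finset.sum_ite, Finset.sum_const_zero, add_zero, Finset.sum_const, nsmul_eq_mul]
  have hc : ((Finset.univ.filter (fun x : G => x ∈ H)).card : ℂ) = (Nat.card H : ℂ) := by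
    rw [Nat.card_eq_fintype_card, Fintype.card_subtype]
  rw [hc, ← mul_assoc, inv_mul_cancel₀ Induced.natCard_ne_zero_complex, one_mul]

section Main

variable [Fintype G] [Fintype H]

theorem phi_eq_zero {θ : H → ℂ} (hN : ∀ n : H, (n : G) ∈ N → θ n = θ 1) (n : H) (hn : (n : G) ∈ N) :
    phi θ n = 0 := by
  simp [phi, hN n hn]

/-- `θ*` restricts to `θ` on `H`. -/
theorem thetaStar_apply_mem (hFW : IsFW H N) {θ : H → ℂ} (hθ : IsClassFunction H θ)
    (hN : ∀ n : H, (n : G) ∈ N → θ n = θ 1) (h : H) :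
    thetaStar (G := G) θ (h : G) = θ h := by
  simp only [thetaStar, Pi.add_apply, Pi.smul_apply, Pi.one_apply, smul_eq_mul, mul_one]
  rw [indFun_eq_of_mem hFW _ (phi_isClassFunction hθ) (phi_eq_zero hN) h.2]
  simp [phi]

/-- `θ*` has constant value `θ(1)` on the elements with no conjugate in `H \ N`. -/
theorem thetaStar_apply_kernel (hFW : IsFW H N) {θ : H → ℂ}
    (hN : ∀ n : H, (n : G) ∈ N → θ n = θ 1) {k : G}
    (hk : ∀ x : G, x⁻¹ * k * x ∈ H → x⁻¹ * k * x ∈ N) :
    thetaStar (G := G) θ k = θ 1 := by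
  simp only [thetaStar, Pi.add_apply, Pi.smul_apply, Pi.one_apply, smul_eq_mul, mul_one]
  have : indFun H (phi θ) k = 0 := by
    rw [Induced.indFun_apply]
    have h2 : ∀ x : G, extendByZero H (phi θ) (x⁻¹ * k * x) = 0 := by
      intro x
      by_cases hx : x⁻¹ * k * x ∈ H
      · rw [Induced.extendByZero_of_mem H _ hx]
        exact phi_eq_zero hN _ (hk x hx)
      · exact Induced.extendByZero_of_notMem H _ hx
    simp [h2]
  rw [this, zero_add]

theorem indFun_restrict_eq (hFW : IsFW H N) {φ : H → ℂ} (hφ : IsClassFunction H φ)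
    (h0 : ∀ n : H, (n : G) ∈ N → φ n = 0) :
    (fun h : H => indFun H φ (h : G)) = φ := by
  funext h
  exact indFun_eq_of_mem hFW φ hφ h0 h.2

/-- Norm of `θ*`. -/
theorem classInner_thetaStar_self (hFW : IsFW H N) {θ : H → ℂ} (hθ : IsIrrCharacter H θ)
    (hN : ∀ n : H, (n : G) ∈ N → θ n = θ 1) :
    classInner (thetaStar (G := G) θ) (thetaStar (G := G) θ) = 1 := by
  have hchar := Basic.isCharacter_of_isIrrCharacter hθ
  have hcf : IsClassFunction H θ := Basic.isClassFunction_of_isCharacter hchar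
  obtain ⟨n, hn⟩ := Basic.exists_degree_of_isCharacter hchar
  obtain ⟨a, ha⟩ := Ortho.exists_nat_classInner_of_isCharacter hchar
    (Basic.isCharacter_one (G := H))
  have ha' : classInner (1 : H → ℂ) θ = a := by
    rw [← Ortho.classInner_conj_symm, ha]
    simp
  have hθθ : classInner θ θ = 1 := Ortho.classInner_irr_self hθ
  set Φ : G → ℂ := indFun H (phi θ) with hΦ
  have hcfφ := phi_isClassFunction hcf
  have hcfΦ : IsClassFunction G Φ := Induced.indFun_isClassFunction H _
  have hres := indFun_restrict_eq (G := G) hFW hcfφ (phi_eq_zero hN)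
  have h1 : classInner Φ Φ = classInner (phi θ) (phi θ) := by
    rw [hΦ, Induced.frobenius_reciprocity H _ _ hcfΦ, hΦ, hres]
  have hone : IsClassFunction G (1 : G → ℂ) := fun _ _ => rfl
  have h2 : classInner Φ (1 : G → ℂ) = classInner (phi θ) (1 : H → ℂ) := by
    rw [hΦ, Induced.frobenius_reciprocity H _ _ hone]
    rfl
  have h3 : classInner (1 : G → ℂ) Φ = classInner (1 : H → ℂ) (phi θ) := by
    rw [← Ortho.classInner_conj_symm, h2, Ortho.classInner_conj_symm]
  have h4 : classInner (phi θ) (1 : H → ℂ) = a - n := by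
    rw [phi, Ortho.classInner_sub_left, Ortho.classInner_smul_left, ha, hn, classInner_one_one]
    ring
  have h5 : classInner (1 : H → ℂ) (phi θ) = a - n := by
    rw [phi, Ortho.classInner_sub_right, Ortho.classInner_smul_right, ha', hn, classInner_one_one]
    simp
  have h6 : classInner (phi θ) (phi θ) = 1 - n * (a - n) - n * a := by
    rw [phi, Ortho.classInner_sub_right, Ortho.classInner_smul_right, ← phi, h4, phi,
      Ortho.classInner_sub_left, Ortho.classInner_smul_left, hθθ, ha', hn]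
    simp
    ring
  rw [thetaStar, Ortho.classInner_add_left, Ortho.classInner_add_right, Ortho.classInner_add_right,
    Ortho.classInner_smul_left, Ortho.classInner_smul_right, Ortho.classInner_smul_right,
    Ortho.classInner_smul_left, ← hΦ, h1, h2, h3, h4, h5, h6, hn, classInner_one_one]
  simp
  ring

/-- `θ*` is an irreducible character of `G`. -/
theorem thetaStar_isIrr (hFW : IsFW H N) {θ : H → ℂ} (hθ : IsIrrCharacter H θ)
    (hN : ∀ n : H, (n : G) ∈ N → θ n = θ 1) :
    IsIrrCharacter G (thetaStar (G := G) θ) := by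
  have hs := Virtual.isSignedIrr_of_norm_one
    (thetaStar_isGeneralized (G := G) (Basic.isCharacter_of_isIrrCharacter hθ))
    (classInner_thetaStar_self hFW hθ hN)
  obtain ⟨ε, χ, hε, hχ, hχeq⟩ := Virtual.IsSignedIrr.exists_sign hs
  rcases hε with rfl | rfl
  · simpa [hχeq] using hχ
  · exfalso
    obtain ⟨n, hn, hθ1⟩ := Ortho.irr_degree_pos hθ
    obtain ⟨m, hm, hχ1⟩ := Ortho.irr_degree_pos hχ
    have h1 : thetaStar (G := G) θ 1 = θ 1 := by
      refine thetaStar_apply_kernel hFW hN (fun x _ => ?_)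
      simp [one_mem]
    rw [hχeq] at h1
    simp only [Pi.smul_apply, smul_eq_mul, hχ1, hθ1] at h1
    have h2 : ((n + m : ℕ) : ℂ) = 0 := by
      push_cast
      rw [← h1]
      ring
    have h3 : n + m = 0 := by exact_mod_cast h2
    omega

end Main

/-- The irreducible characters of `H` trivial on `N` separate `N` from its complement in `H`. -/
theorem mem_of_forall_irr [Finite G] (hFW : IsFW H N) {h : H}
    (hh : ∀ θ : H → ℂ, IsIrrCharacter H θ → (∀ n : H, (n : G) ∈ N → θ n = θ 1) → θ h = θ 1) :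
    (h : G) ∈ N := by
  classical
  have hN' : (N.subgroupOf H).Normal := by
    refine ⟨fun n hn g => ?_⟩
    rw [Subgroup.mem_subgroupOf] at hn ⊢
    exact hFW.normal _ g.2 _ hn
  haveI : Fintype (H ⧸ N.subgroupOf H) := Fintype.ofFinite _
  have key : ((h : H) : H ⧸ N.subgroupOf H) = 1 := by
    apply eq_one_of_forall_irr
    intro θ hθ
    have h2 := hh (fun x => θ (x : H ⧸ N.subgroupOf H))
      (Basic.isIrrCharacter_comp_surjective hθ (QuotientGroup.mk' (N.subgroupOf H))
        (QuotientGroup.mk'_surjective _))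
      (fun n hn => by
        have : ((n : H) : H ⧸ N.subgroupOf H) = 1 :=
          (QuotientGroup.eq_one_iff _).mpr (Subgroup.mem_subgroupOf.mpr hn)
        simp only [this]
        rfl)
    simpa using h2
  rw [QuotientGroup.eq_one_iff, Subgroup.mem_subgroupOf] at key
  exact key

/-- **The Frobenius-Wielandt theorem.** -/
theorem frobenius_wielandt [Finite G] (hFW : IsFW H N) :
    ∃ K : Subgroup G, K.Normal ∧
      (∀ g, g ∈ K ↔ ∀ x : G, x⁻¹ * g * x ∈ H → x⁻¹ * g * x ∈ N) ∧ K ⊓ H = N ∧
      Nat.card K * Nat.card H = Nat.card G * Nat.card N := by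
  classical
  cases nonempty_fintype G
  have : Fintype H := Fintype.ofFinite H
  let I := {θ : IrrCharacter H // ∀ n : H, (n : G) ∈ N → (θ : H → ℂ) n = (θ : H → ℂ) 1}
  have hker : ∀ θ : I, ∃ K : Subgroup G, K.Normal ∧
      ∀ g, g ∈ K ↔ thetaStar (G := G) (θ.1 : H → ℂ) g = thetaStar (G := G) (θ.1 : H → ℂ) 1 :=
    fun θ => exists_kernel (Basic.isCharacter_of_isIrrCharacter (thetaStar_isIrr hFW θ.1.2 θ.2))
  choose K hKn hK using hker
  let M : Subgroup G := ⨅ θ, K θ
  have hMn : M.Normal := by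
    refine ⟨fun n hn g => ?_⟩
    rw [Subgroup.mem_iInf] at hn ⊢
    intro θ
    exact (hKn θ).conj_mem n (hn θ) g
  have hmem : ∀ g, g ∈ M ↔ ∀ θ : I,
      thetaStar (G := G) (θ.1 : H → ℂ) g = thetaStar (G := G) (θ.1 : H → ℂ) 1 := by
    intro g
    simp only [M, Subgroup.mem_iInf, hK]
  have h1mem : ∀ x : G, x⁻¹ * (1 : G) * x ∈ H → x⁻¹ * (1 : G) * x ∈ N := by
    intro x _
    simp [one_mem]
  have hcfI : ∀ θ : I, IsClassFunction H (θ.1 : H → ℂ) := fun θ =>
    Basic.isClassFunction_of_isCharacter (Basic.isCharacter_of_isIrrCharacter θ.1.2)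
  have hinH : ∀ h : H, (h : G) ∈ M → (h : G) ∈ N := by
    intro h hh
    apply mem_of_forall_irr hFW
    intro θ hθ hθN
    have h2 := (hmem _).1 hh ⟨⟨θ, hθ⟩, hθN⟩
    simp only at h2
    rw [thetaStar_apply_mem hFW (hcfI ⟨⟨θ, hθ⟩, hθN⟩) hθN,
      thetaStar_apply_kernel hFW hθN h1mem] at h2
    exact h2
  have hNM : N ≤ M := by
    intro n hn
    refine (hmem n).2 fun θ => ?_
    rw [thetaStar_apply_kernel hFW θ.2 h1mem]
    have := thetaStar_apply_mem (G := G) hFW (hcfI θ) θ.2 ⟨n, hFW.le hn⟩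
    simp only at this
    rw [this, θ.2 ⟨n, hFW.le hn⟩ hn]
  have hset : ∀ g, g ∈ M ↔ ∀ x : G, x⁻¹ * g * x ∈ H → x⁻¹ * g * x ∈ N := by
    intro g
    constructor
    · intro hg x hx
      have h2 : x⁻¹ * g * x ∈ M := by
        have := hMn.conj_mem g hg x⁻¹
        simpa using this
      exact hinH ⟨_, hx⟩ h2
    · intro hg
      refine (hmem g).2 fun θ => ?_
      rw [thetaStar_apply_kernel hFW θ.2 hg, thetaStar_apply_kernel hFW θ.2 h1mem]
  have hinf : M ⊓ H = N := by
    apply le_antisymm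
    · rintro x ⟨hx1, hx2⟩
      exact hinH ⟨x, hx2⟩ hx1
    · intro x hx
      exact ⟨hNM hx, hFW.le hx⟩
  refine ⟨M, hMn, hset, hinf, ?_⟩
  -- counting
  let f : H → ℂ := fun h => if (h : G) ∈ N then 0 else 1
  have hfcf : IsClassFunction H f := by
    intro g x
    simp only [f]
    have hiff : ((x * g * x⁻¹ : H) : G) ∈ N ↔ (g : G) ∈ N := by
      constructor
      · intro h
        have := hFW.normal _ (x⁻¹ : H).2 _ h
        have e : (((x⁻¹ : H) : G) * ((x * g * x⁻¹ : H) : G) * ((x⁻¹ : H) : G)⁻¹) = (g : G) := by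
          push_cast
          group
        rwa [e] at this
      · intro h
        have := hFW.normal _ x.2 _ h
        have e : ((x : G) * (g : G) * (x : G)⁻¹) = ((x * g * x⁻¹ : H) : G) := by
          push_cast
          rfl
        rwa [e] at this
    simp only [hiff]
  have hf0 : ∀ n : H, (n : G) ∈ N → f n = 0 := by
    intro n hn
    simp [f, hn]
  have hΦ : ∀ g : G, indFun H f g = if g ∈ M then 0 else 1 := by
    intro g
    by_cases hg : g ∈ M
    · rw [if_pos hg]
      rw [Induced.indFun_apply]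
      have h2 : ∀ x : G, extendByZero H f (x⁻¹ * g * x) = 0 := by
        intro x
        by_cases hx : x⁻¹ * g * x ∈ H
        · rw [Induced.extendByZero_of_mem H _ hx]
          exact hf0 _ ((hset g).1 hg x hx)
        · exact Induced.extendByZero_of_notMem H _ hx
      simp [h2]
    · rw [if_neg hg]
      have hg' := (hset g).not.1 hg
      push Not at hg'
      obtain ⟨x, hx, hxN⟩ := hg'
      have hcfΦ : IsClassFunction G (indFun H f) := Induced.indFun_isClassFunction H f
      have h2 := hcfΦ g x⁻¹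
      simp only [inv_inv] at h2
      rw [← h2, indFun_eq_of_mem hFW f hfcf hf0 hx]
      simp only [f]
      rw [if_neg hxN]
  have hone : IsClassFunction G (1 : G → ℂ) := fun _ _ => rfl
  have hrec := Induced.frobenius_reciprocity H f (1 : G → ℂ) hone
  have hG : (Nat.card G : ℂ) ≠ 0 := Induced.natCard_ne_zero_complex
  have hHc : (Nat.card H : ℂ) ≠ 0 := Induced.natCard_ne_zero_complex
  have hl : ∑ g : G, indFun H f g = (Nat.card G : ℂ) - (Nat.card M : ℂ) := by
    simp_rw [hΦ]
    have : ∀ g : G, (if g ∈ M then (0 : ℂ) else 1) = 1 - (if g ∈ M then (1 : ℂ) else 0) := by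
      intro g
      split_ifs <;> simp
    simp_rw [this]
    rw [Finset.sum_sub_distrib, Finset.sum_boole]
    simp only [Finset.sum_const, Finset.card_univ, nsmul_eq_mul, mul_one]
    rw [Nat.card_eq_fintype_card, Nat.card_eq_fintype_card, Fintype.card_subtype]
  have hr : ∑ h : H, f h = (Nat.card H : ℂ) - (Nat.card N : ℂ) := by
    have : ∀ h : H, f h = 1 - (if (h : G) ∈ N then (1 : ℂ) else 0) := by
      intro h
      simp only [f]
      split_ifs <;> simp
    simp_rw [this]
    rw [Finset.sum_sub_distrib, Finset.sum_boole]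
    simp only [Finset.sum_const, Finset.card_univ, nsmul_eq_mul, mul_one]
    have hcardN : (((Finset.univ.filter (fun h : H => (h : G) ∈ N)).card : ℕ) : ℂ) = (Nat.card N : ℂ) := by
      congr 1
      rw [← Nat.card_eq_finsetCard]
      refine Nat.card_congr ?_
      exact
        { toFun := fun x => ⟨(x.1 : G), (Finset.mem_filter.1 x.2).2⟩
          invFun := fun n => ⟨⟨n.1, hFW.le n.2⟩, Finset.mem_filter.2 ⟨Finset.mem_univ _, n.2⟩⟩
          left_inv := fun x => by simp
          right_inv := fun n => by simp }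
    rw [hcardN, Nat.card_eq_fintype_card (α := ↥H)]
  simp only [classInner, Pi.one_apply, map_one, mul_one] at hrec
  rw [hl, hr] at hrec
  have hcard : (Nat.card M : ℂ) * (Nat.card H : ℂ) = (Nat.card G : ℂ) * (Nat.card N : ℂ) := by
    field_simp at hrec
    linear_combination -hrec
  exact_mod_cast hcard

/-- `K ⊔ H = ⊤` from the counting. -/
theorem exists_normal_sup [Finite G] (hFW : IsFW H N) :
    ∃ K : Subgroup G, K.Normal ∧ K ⊓ H = N ∧ K ⊔ H = ⊤ := by
  obtain ⟨K, hKn, -, hinf, hcard⟩ := frobenius_wielandt hFW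
  refine ⟨K, hKn, hinf, ?_⟩
  apply Subgroup.eq_top_of_card_eq
  have h2 : Nat.card (K ⊔ H : Subgroup G) * Nat.card (K ⊓ H : Subgroup G) = Nat.card K * Nat.card H := by
    have h3 : Nat.card (K ⊔ H : Subgroup G) = Nat.card K * K.relIndex (K ⊔ H) := by
      have := (K.subgroupOf (K ⊔ H)).card_mul_index
      rw [Nat.card_congr (Subgroup.subgroupOfEquivOfLe (le_sup_left : K ≤ K ⊔ H)).toEquiv] at this
      exact this.symm
    have h4 : Nat.card H = Nat.card (K ⊓ H : Subgroup G) * K.relIndex H := by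
      have := ((K ⊓ H).subgroupOf H).card_mul_index
      rw [Nat.card_congr (Subgroup.subgroupOfEquivOfLe (inf_le_right : K ⊓ H ≤ H)).toEquiv] at this
      have h5 : ((K ⊓ H).subgroupOf H).index = K.relIndex H := Subgroup.inf_relIndex_right K H
      rw [h5] at this
      exact this.symm
    have h6 : K.relIndex (K ⊔ H) = K.relIndex H := by
      rw [sup_comm]; exact Subgroup.relIndex_sup_right H K
    rw [h3, h6, h4]
    ring
  rw [hinf, hcard] at h2
  have hpos : 0 < Nat.card N := Nat.card_pos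
  exact Nat.eq_of_mul_eq_mul_right hpos h2

end Cfsg.Agent.Lib.Char.FrobeniusWielandt
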