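import Mathlib
import Cfsg.Agent.Lib.Char.Galois
import Cfsg.Agent.Lib.Blocks.PElements

/-!
# Galois fixed points in cyclotomic fields of `ℂ`

* `mem_adjoin_of_fixed`: a sum of `n`-th roots of unity whose conjugates under all `ε ↦ ε ^ k`, `k ≡ 1 (n₁)`, agree lies in
  the `n₁`-th cyclotomic field.
* `fix_of_adjoin`: a ring endomorphism of `ℂ` fixing `exp (2 π i / m)` fixes the `m`-th cyclotomic field.
* `det_twistEnd`: the determinant of a twisted endomorphism.
-/

set_option autoImplicit false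
set_option linter.style.haveILetI false
set_option linter.unusedSectionVars false
set_option linter.unusedVariables false

namespace Cfsg.Agent.Lib.Char.GalFix

open Cfsg Cfsg.Agent.Lib.Char.Galois

section Fix

lemma fix_of_adjoin (τ : ℂ →+* ℂ) {ζ : ℂ} (hζ : τ ζ = ζ) {v : ℂ}
    (hv : v ∈ IntermediateField.adjoin ℚ ({ζ} : Set ℂ)) : τ v = v := by
  induction hv using IntermediateField.adjoin_induction with
  | mem x hx =>
    rw [Set.mem_singleton_iff] at hx
    rw [hx, hζ]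
  | algebraMap x =>
    have : algebraMap ℚ ℂ x = (x : ℂ) := rfl
    rw [this, map_ratCast]
  | add x y _ _ hx hy => rw [map_add, hx, hy]
  | inv x _ hx => rw [map_inv₀, hx]
  | mul x y _ _ hx hy => rw [map_mul, hx, hy]

lemma fix_of_modEq (τ : ℂ →+* ℂ) {n k m : ℕ} (hτ : ∀ ε : ℂ, ε ^ n = 1 → τ ε = ε ^ k) (hm0 : m ≠ 0) (hm : m ∣ n)
    (hk : k ≡ 1 [MOD m]) {v : ℂ}
    (hv : v ∈ IntermediateField.adjoin ℚ ({Complex.exp (2 * Real.pi * Complex.I / m)} : Set ℂ)) : τ v = v := by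
  have hprim := Complex.isPrimitiveRoot_exp m hm0
  refine fix_of_adjoin τ ?_ hv
  have h1 : Complex.exp (2 * Real.pi * Complex.I / m) ^ n = 1 := by
    obtain ⟨r, rfl⟩ := hm
    rw [pow_mul, hprim.pow_eq_one, one_pow]
  rw [hτ _ h1]
  have h2 := pow_congr_of_modEq hprim.pow_eq_one hk
  rw [h2, pow_one]

theorem mem_adjoin_of_fixed (n n₁ : ℕ) [NeZero n] (hn₁ : n₁ ∣ n) (hn₁0 : n₁ ≠ 0) {ι : Type*} [Fintype ι]
    (z : ι → ℂ) (hz : ∀ i, z i ^ n = 1)
    (h : ∀ k : ℕ, 1 ≤ k → k.Coprime n → k ≡ 1 [MOD n₁] → ∑ i, z i ^ k = ∑ i, z i) :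
    ∑ i, z i ∈ IntermediateField.adjoin ℚ ({Complex.exp (2 * Real.pi * Complex.I / n₁)} : Set ℂ) := by
  classical
  obtain ⟨K, hK⟩ := exists_cyclotomic_subfield n
  haveI : IsGalois ℚ K := IsCyclotomicExtension.isGalois {n} ℚ K
  haveI : FiniteDimensional ℚ K := IsCyclotomicExtension.finiteDimensional {n} ℚ K
  choose e he using fun i => exists_zeta_pow n K (hz i)
  set ζ := IsCyclotomicExtension.zeta n ℚ K with hζ
  let α : K := ∑ i, ζ ^ e i
  have hα : algebraMap K ℂ α = ∑ i, z i := by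
    simp only [α, map_sum, map_pow]
    exact Finset.sum_congr rfl fun i _ => (he i).symm
  set ζ₁ : ℂ := Complex.exp (2 * Real.pi * Complex.I / n₁) with hζ₁
  have hprim₁ : IsPrimitiveRoot ζ₁ n₁ := Complex.isPrimitiveRoot_exp n₁ hn₁0
  have hζ₁n : ζ₁ ^ n = 1 := by
    obtain ⟨r, hr⟩ := hn₁
    rw [hr, pow_mul, hprim₁.pow_eq_one, one_pow]
  obtain ⟨j₁, hj₁⟩ := exists_zeta_pow n K hζ₁n
  let x₁ : K := ζ ^ j₁
  have hx₁ : algebraMap K ℂ x₁ = ζ₁ := by
    simp only [x₁, map_pow]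
    exact hj₁.symm
  have hmem : ζ₁ ∈ K := by
    rw [← hx₁]
    exact x₁.2
  have hle : IntermediateField.adjoin ℚ ({ζ₁} : Set ℂ) ≤ K :=
    IntermediateField.adjoin_simple_le_iff.2 hmem
  let F : IntermediateField ℚ K := IntermediateField.restrict hle
  have hx₁F : x₁ ∈ F := by
    show x₁ ∈ IntermediateField.restrict hle
    rw [IntermediateField.mem_restrict]
    have : (x₁ : ℂ) = ζ₁ := hx₁
    rw [this]
    exact IntermediateField.mem_adjoin_simple_self ℚ ζ₁
  have hαF : α ∈ F := by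
    rw [← IsGalois.fixedField_fixingSubgroup F, IntermediateField.mem_fixedField_iff]
    intro σ hσF
    have hσx : σ x₁ = x₁ := (IntermediateField.mem_fixingSubgroup_iff F σ).1 hσF x₁ hx₁F
    let u := IsCyclotomicExtension.autEquivPow K
      (Polynomial.cyclotomic.irreducible_rat (NeZero.pos n)) σ
    have hσ : σ = sigmaOf n K u :=
      ((IsCyclotomicExtension.autEquivPow K
        (Polynomial.cyclotomic.irreducible_rat (NeZero.pos n))).symm_apply_apply σ).symm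
    set k₀ := (u : ZMod n).val with hk₀
    have hk₀c : k₀.Coprime n := ZMod.val_coe_unit_coprime u
    set k := k₀ + n with hk
    have hkc : k.Coprime n := by
      rw [hk]
      simpa using hk₀c
    have hk1 : 1 ≤ k := by
      have := NeZero.pos n
      omega
    have hpowk : ∀ w : ℂ, w ^ n = 1 → w ^ k₀ = w ^ k := by
      intro w hw
      rw [hk, pow_add, hw, mul_one]
    -- `k ≡ 1` modulo `n₁`
    have h1 : ζ₁ ^ k₀ = ζ₁ := by
      have h2 := sigmaOf_alg_pow n K u j₁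
      rw [← hσ] at h2
      have h3 : algebraMap K ℂ (σ (ζ ^ j₁)) = ζ₁ := by
        show algebraMap K ℂ (σ x₁) = ζ₁
        rw [hσx, hx₁]
      rw [h3, ← hj₁] at h2
      exact h2.symm
    have h2 : ζ₁ ^ k = ζ₁ := by rw [← hpowk _ hζ₁n, h1]
    have h3 : ζ₁ ^ (k - 1) = 1 := by
      have h0 : ζ₁ ≠ 0 := hprim₁.ne_zero hn₁0
      have h4 : ζ₁ ^ (k - 1) * ζ₁ = 1 * ζ₁ := by
        rw [← pow_succ, Nat.sub_add_cancel hk1, h2, one_mul]
      exact mul_right_cancel₀ h0 h4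
    have h4 : n₁ ∣ k - 1 := (hprim₁.pow_eq_one_iff_dvd _).1 h3
    have hkm : k ≡ 1 [MOD n₁] := ((Nat.modEq_iff_dvd' hk1).2 h4).symm
    have h5 := h k hk1 hkc hkm
    apply (algebraMap K ℂ).injective
    rw [hα, ← h5, hσ]
    simp only [α, map_sum]
    refine Finset.sum_congr rfl fun i _ => ?_
    rw [he i]
    have h6 := sigmaOf_alg_pow n K u (e i)
    rw [h6]
    apply hpowk
    rw [← he i]
    exact hz i
  have hαF' : α ∈ IntermediateField.restrict hle := hαF
  rw [IntermediateField.mem_restrict] at hαF'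
  have : (α : ℂ) = ∑ i, z i := hα
  rwa [this] at hαF'

end Fix

section Twist

variable {m : ℕ}

theorem det_twistEnd (τ : ℂ →+* ℂ) (f : (Fin m → ℂ) →ₗ[ℂ] Fin m → ℂ) :
    LinearMap.det (twistEnd τ f) = τ (LinearMap.det f) := by
  simp only [twistEnd, MonoidHom.coe_mk, OneHom.coe_mk]
  rw [LinearMap.det_toLin', ← LinearMap.det_toMatrix']
  exact (RingHom.map_det τ _).symm

end Twist

section TauSub

open Cfsg.Agent.Lib.Blocks.Local

variable {p : ℕ} [hp : Fact p.Prime] {M : Ideal AlgInt} [hMp : M.IsPrime]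

/-- The action of a Galois element congruent to `1` away from `p`, on roots of unity. -/
lemma tau_root_sub (hM : IsPModular p M) {c e k : ℕ} {z : ℂ} (he : 0 < p ^ c * e) (hz : z ^ (p ^ c * e) = 1)
    (hk1 : 1 ≤ k) (hk : e ∣ k - 1) : MemLocalIdeal M (z ^ k - z) := by
  have hl : MemLocalRing M z := by
    refine memLocalRing_of_isIntegral ⟨Polynomial.X ^ (p ^ c * e) - 1, Polynomial.monic_X_pow_sub_C 1 he.ne', ?_⟩
    simp [hz]
  have h1 : z ^ k - z = z * (z ^ (k - 1) - 1) := by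
    rw [mul_sub, mul_one, ← pow_succ', Nat.sub_add_cancel hk1]
  rw [h1]
  refine memLocalIdeal_mul_left hl ?_
  refine Cfsg.Agent.Lib.Blocks.PElements.memLocalIdeal_sub_one_of_pow hM (k := c) ?_
  obtain ⟨r, hr⟩ := hk
  rw [hr, ← pow_mul, show e * r * p ^ c = p ^ c * e * r by ring, pow_mul, hz, one_pow]

/-- The same for traces of operators of finite order. -/
lemma tau_trace_sub (hM : IsPModular p M) {V : Type*} [AddCommGroup V] [Module ℂ V] [FiniteDimensional ℂ V]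
    {c e k n : ℕ} (he : 0 < p ^ c * e) (hk1 : 1 ≤ k) (hk : e ∣ k - 1) (hn : p ^ c * e ∣ n) {τ : ℂ →+* ℂ}
    (hτ : ∀ ε : ℂ, ε ^ n = 1 → τ ε = ε ^ k) (T : Module.End ℂ V) (hT : T ^ (p ^ c * e) = 1) :
    MemLocalIdeal M (τ (LinearMap.trace ℂ V T) - LinearMap.trace ℂ V T) := by
  obtain ⟨ι, hι, z, h1, h2⟩ := trace_pow_eigen T he hT
  have h3 := h2 1
  rw [pow_one] at h3
  rw [h3, map_sum, ← Finset.sum_sub_distrib]
  refine Cfsg.Agent.Lib.Blocks.Local.memLocalIdeal_sum _ _ fun i _ => ?_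
  have h4 : z i ^ n = 1 := by
    obtain ⟨r, hr⟩ := hn
    rw [hr, pow_mul, h1, one_pow]
  simp only [pow_one]
  rw [hτ _ h4]
  exact tau_root_sub hM he (h1 i) hk1 hk

end TauSub

end Cfsg.Agent.Lib.Char.GalFix
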