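import Mathlib
import Cfsg.Prelude.Def_Blocks
import Cfsg.Agent.Lib.Char.AlpDade
import Cfsg.Agent.Lib.Char.DetExt2

/-!
# Canonical lifts of a block-invariant projective representation

Let `N` be normal in the finite group `G` and `ρ` an irreducible representation of `N` with character
`θ` in the principal block of `N`. `Impl ρ` is the group of pairs `(g, T)` with `T` inducing on `ρ(N)`
the conjugation by `g`. For a pair `P = (g, T)` and a `N`-invariant element `a` of `ℂ[G]` supported on the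
coset `N g`, the operator `op ρ a P = ∑ a_y ρ(y g⁻¹) T` is a scalar `sc ρ a P`. A pair `P` is good if
`sc ρ a P ≡ aug a` for all `a` with natural coefficients and augmentation prime to `p`.

Good pairs are closed under products; every pair of finite order is a root-of-unity multiple of a good one
and two good pairs over the same element differ by a scalar congruent to `1`.
-/

set_option autoImplicit false
set_option linter.style.haveILetI false
set_option linter.unusedSectionVars false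
set_option linter.unusedVariables false

namespace Cfsg.Agent.Lib.Char.GoodLift

open Cfsg Cfsg.Agent.Lib.Blocks.Local Cfsg.Agent.Lib.Blocks.Central Cfsg.Agent.Lib.Blocks.Regular
  Cfsg.Agent.Lib.Blocks.Principal Cfsg.Agent.Lib.Blocks.Covering Cfsg.Agent.Lib.Blocks.Osima
  Cfsg.Agent.Lib.Blocks.BlockHom Cfsg.Agent.Lib.Char.AlpDade Cfsg.Agent.Lib.Char.DetExt

universe u

/-- Endomorphisms of the coordinate space. -/
abbrev EE (d : ℕ) := Module.End ℂ (Fin d → ℂ)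

section Impl

variable {G : Type u} [Group G] {N : Subgroup G} [hN : N.Normal] {d : ℕ}
  (ρ : Representation ℂ N (Fin d → ℂ))

/-- Pairs `(g, T)` such that `T` implements on `ρ` the conjugation by `g`. -/
def Impl : Subgroup (G × (EE d)ˣ) where
  carrier := {P | ∀ n : N, ((P.2 : (EE d)ˣ) : EE d) * ρ n =
      ρ ⟨P.1 * n * P.1⁻¹, hN.conj_mem n n.2 P.1⟩ * ((P.2 : (EE d)ˣ) : EE d)}
  mul_mem' := by
    rintro ⟨a, b⟩ ⟨a', b'⟩ h1 h2 n
    simp only [Set.mem_setOf_eq] at h1 h2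
    simp only [Prod.snd_mul, Prod.fst_mul, Units.val_mul]
    have e1 := h2 n
    have e2 := h1 ⟨a' * n * a'⁻¹, hN.conj_mem n n.2 a'⟩
    rw [mul_assoc, e1, ← mul_assoc, e2, mul_assoc]
    congr 2
    refine Subtype.ext ?_
    simp only
    group
  one_mem' := by
    intro n
    simp only [Prod.snd_one, Units.val_one, one_mul, mul_one, Prod.fst_one, inv_one]
  inv_mem' := by
    rintro ⟨a, b⟩ h1 n
    simp only [Set.mem_setOf_eq] at h1
    simp only [Prod.snd_inv, Prod.fst_inv, inv_inv]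
    have hm : a⁻¹ * n * a ∈ N := by simpa using hN.conj_mem n n.2 a⁻¹
    have e := h1 ⟨a⁻¹ * n * a, hm⟩
    have e2 : (⟨a * ((⟨a⁻¹ * n * a, hm⟩ : N) : G) * a⁻¹, hN.conj_mem _ hm a⟩ : N) = n := by
      apply Subtype.ext
      simp only
      group
    rw [e2] at e
    have h3 : ((b⁻¹ : (EE d)ˣ) : EE d) * (b : EE d) = 1 := Units.inv_mul b
    have h4 : (b : EE d) * ((b⁻¹ : (EE d)ˣ) : EE d) = 1 := Units.mul_inv b
    calc ((b⁻¹ : (EE d)ˣ) : EE d) * ρ n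
        = ((b⁻¹ : (EE d)ˣ) : EE d) * (ρ n * ((b : EE d) * ((b⁻¹ : (EE d)ˣ) : EE d))) := by rw [h4, mul_one]
      _ = ((b⁻¹ : (EE d)ˣ) : EE d) * ((ρ n * (b : EE d)) * ((b⁻¹ : (EE d)ˣ) : EE d)) := by rw [mul_assoc]
      _ = ((b⁻¹ : (EE d)ˣ) : EE d) * (((b : EE d) * ρ ⟨a⁻¹ * n * a, hm⟩) * ((b⁻¹ : (EE d)ˣ) : EE d)) := by rw [e]
      _ = (((b⁻¹ : (EE d)ˣ) : EE d) * (b : EE d)) * ρ ⟨a⁻¹ * n * a, hm⟩ * ((b⁻¹ : (EE d)ˣ) : EE d) := by
            simp only [mul_assoc]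
      _ = _ := by rw [h3, one_mul]

lemma mem_Impl {P : G × (EE d)ˣ} : P ∈ Impl ρ ↔ ∀ n : N, ((P.2 : (EE d)ˣ) : EE d) * ρ n =
      ρ ⟨P.1 * n * P.1⁻¹, hN.conj_mem n n.2 P.1⟩ * ((P.2 : (EE d)ˣ) : EE d) := Iff.rfl

/-- The pair of `n ∈ N`. -/
noncomputable def hatN (n : N) : G × (EE d)ˣ := ((n : G), MonoidHom.toHomUnits ρ n)

lemma hatN_mem (n : N) : hatN ρ n ∈ Impl ρ := by
  intro m
  simp only [hatN, MonoidHom.coe_toHomUnits]
  rw [← map_mul, ← map_mul]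
  congr 1
  refine Subtype.ext ?_
  simp

lemma hatN_mul (a b : N) : hatN ρ (a * b) = hatN ρ a * hatN ρ b := by
  apply Prod.ext
  · rfl
  · simp [hatN]

/-- The scalar pair. -/
noncomputable def scalP (G : Type u) [Group G] {d : ℕ} (z : ℂˣ) : G × (EE d)ˣ := (1, scalarU z)

lemma scalP_mem (z : ℂˣ) : scalP G z ∈ Impl ρ := by
  intro n
  simp only [scalP, coe_scalarU]
  have : (⟨(1 : G) * n * (1 : G)⁻¹, hN.conj_mem n n.2 1⟩ : N) = n := Subtype.ext (by simp)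
  rw [this]
  ext v
  simp

lemma scalP_mul (a b : ℂˣ) : (scalP G (a * b) : G × (EE d)ˣ) = scalP G a * scalP G b := by
  apply Prod.ext
  · simp [scalP]
  · simp [scalP, scalarU]

lemma scalP_one : (scalP G 1 : G × (EE d)ˣ) = 1 := by
  apply Prod.ext
  · simp [scalP]
  · simp [scalP, scalarU]

lemma scalP_comm (z : ℂˣ) (P : G × (EE d)ˣ) : scalP G z * P = P * scalP G z := by
  apply Prod.ext
  · simp [scalP]
  · exact (scalarU_comm z P.2).eq

lemma scalP_inv (z : ℂˣ) : (scalP G z⁻¹ : G × (EE d)ˣ) = (scalP G z)⁻¹ := by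
  rw [eq_inv_iff_mul_eq_one, ← scalP_mul, inv_mul_cancel, scalP_one]

lemma scalP_pow (z : ℂˣ) (k : ℕ) : (scalP G (z ^ k) : G × (EE d)ˣ) = (scalP G z) ^ k := by
  induction k with
  | zero => rw [pow_zero, pow_zero, scalP_one]
  | succ k ih => rw [pow_succ, pow_succ, scalP_mul, ih]

end Impl

section Op

variable {G : Type u} [Group G] {N : Subgroup G} [hN : N.Normal] {d : ℕ}
  (ρ : Representation ℂ N (Fin d → ℂ))

open Classical in
/-- The operator attached to a pair and a group element. -/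
noncomputable def lam (P : G × (EE d)ˣ) (y : G) : EE d :=
  if h : y * P.1⁻¹ ∈ N then ρ ⟨y * P.1⁻¹, h⟩ * ((P.2 : (EE d)ˣ) : EE d) else 0

lemma lam_of_mem {P : G × (EE d)ˣ} {y : G} (h : y * P.1⁻¹ ∈ N) :
    lam ρ P y = ρ ⟨y * P.1⁻¹, h⟩ * ((P.2 : (EE d)ˣ) : EE d) := dif_pos h

lemma lam_of_notMem {P : G × (EE d)ˣ} {y : G} (h : y * P.1⁻¹ ∉ N) : lam ρ P y = 0 := dif_neg h

lemma lam_left (P : G × (EE d)ˣ) (n : N) (y : G) : ρ n * lam ρ P y = lam ρ P ((n : G) * y) := by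
  by_cases h : y * P.1⁻¹ ∈ N
  · have h1 : (n : G) * y * P.1⁻¹ ∈ N := by
      rw [mul_assoc]
      exact N.mul_mem n.2 h
    rw [lam_of_mem ρ h, lam_of_mem ρ h1, ← mul_assoc, ← map_mul]
    congr 2
    refine Subtype.ext ?_
    simp [mul_assoc]
  · have h1 : (n : G) * y * P.1⁻¹ ∉ N := by
      intro h2
      apply h
      rw [mul_assoc] at h2
      have := N.mul_mem (N.inv_mem n.2) h2
      simpa using this
    rw [lam_of_notMem ρ h, lam_of_notMem ρ h1, mul_zero]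

lemma lam_right {P : G × (EE d)ˣ} (hP : P ∈ Impl ρ) (n : N) (y : G) :
    lam ρ P y * ρ n = lam ρ P (y * (n : G)) := by
  have hc : P.1 * (n : G) * P.1⁻¹ ∈ N := hN.conj_mem n n.2 P.1
  by_cases h : y * P.1⁻¹ ∈ N
  · have h1 : y * (n : G) * P.1⁻¹ ∈ N := by
      have := N.mul_mem h hc
      convert this using 1
      group
    rw [lam_of_mem ρ h, lam_of_mem ρ h1, mul_assoc, hP n, ← mul_assoc, ← map_mul]
    congr 2
    refine Subtype.ext ?_
    simp only [Subgroup.coe_mul]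
    group
  · have h1 : y * (n : G) * P.1⁻¹ ∉ N := by
      intro h2
      apply h
      have := N.mul_mem h2 (N.inv_mem hc)
      convert this using 1
      group
    rw [lam_of_notMem ρ h, lam_of_notMem ρ h1, zero_mul]

lemma lam_mul {P P' : G × (EE d)ˣ} (hP : P ∈ Impl ρ) {y y' : G} (h : y * P.1⁻¹ ∈ N) (h' : y' * P'.1⁻¹ ∈ N) :
    lam ρ P y * lam ρ P' y' = lam ρ (P * P') (y * y') := by
  have hc : P.1 * (y' * P'.1⁻¹) * P.1⁻¹ ∈ N := hN.conj_mem _ h' P.1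
  have h1 : y * y' * (P * P').1⁻¹ ∈ N := by
    have := N.mul_mem h hc
    convert this using 1
    simp only [Prod.fst_mul]
    group
  rw [lam_of_mem ρ h, lam_of_mem ρ h', lam_of_mem ρ h1, mul_assoc, ← mul_assoc ((P.2 : (EE d)ˣ) : EE d),
    hP ⟨y' * P'.1⁻¹, h'⟩, mul_assoc, ← mul_assoc, ← map_mul]
  simp only [Prod.snd_mul, Units.val_mul]
  congr 2
  refine Subtype.ext ?_
  simp only [Subgroup.coe_mul, Prod.fst_mul]
  group

lemma lam_hatN_mul (n : N) (P : G × (EE d)ˣ) (y : G) : lam ρ (hatN ρ n * P) y = lam ρ P y := by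
  have h0 : y * (hatN ρ n * P).1⁻¹ = y * P.1⁻¹ * (n : G)⁻¹ := by
    simp only [hatN, Prod.fst_mul, mul_inv_rev, mul_assoc]
  by_cases h : y * P.1⁻¹ ∈ N
  · have h1 : y * (hatN ρ n * P).1⁻¹ ∈ N := by
      rw [h0]
      exact N.mul_mem h (N.inv_mem n.2)
    rw [lam_of_mem ρ h, lam_of_mem ρ h1]
    simp only [hatN, Prod.snd_mul, Units.val_mul, MonoidHom.coe_toHomUnits]
    rw [← mul_assoc, ← map_mul]
    congr 2
    refine Subtype.ext ?_
    simp only [Subgroup.coe_mul, Prod.fst_mul, mul_inv_rev]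
    group
  · have h1 : y * (hatN ρ n * P).1⁻¹ ∉ N := by
      rw [h0]
      intro h2
      apply h
      have := N.mul_mem h2 n.2
      simpa using this
    rw [lam_of_notMem ρ h, lam_of_notMem ρ h1]

lemma lam_scalP (z : ℂˣ) (P : G × (EE d)ˣ) (y : G) :
    lam ρ (scalP G z * P) y = (z : ℂ) • lam ρ P y := by
  have h0 : y * (scalP G z * P).1⁻¹ = y * P.1⁻¹ := by
    simp [scalP]
  by_cases h : y * P.1⁻¹ ∈ N
  · have h1 : y * (scalP G z * P).1⁻¹ ∈ N := by rw [h0]; exact h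
    rw [lam_of_mem ρ h, lam_of_mem ρ h1]
    have h2 : (⟨y * (scalP G z * P).1⁻¹, h1⟩ : N) = ⟨y * P.1⁻¹, h⟩ := Subtype.ext h0
    rw [h2]
    have h3 : (((scalP G z * P).2 : (EE d)ˣ) : EE d) = (z : ℂ) • ((P.2 : (EE d)ˣ) : EE d) := by
      show ((scalarU z * P.2 : (EE d)ˣ) : EE d) = _
      rw [Units.val_mul, coe_scalarU]
      ext v
      simp
    rw [h3, mul_smul_comm]
  · have h1 : y * (scalP G z * P).1⁻¹ ∉ N := by rw [h0]; exact h
    rw [lam_of_notMem ρ h, lam_of_notMem ρ h1, smul_zero]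

lemma lam_conj {Q : G × (EE d)ˣ} (hQ : Q ∈ Impl ρ) (P : G × (EE d)ˣ) (y : G) :
    lam ρ (Q * P * Q⁻¹) (Q.1 * y * Q.1⁻¹) * ((Q.2 : (EE d)ˣ) : EE d) =
      ((Q.2 : (EE d)ˣ) : EE d) * lam ρ P y := by
  have h0 : Q.1 * y * Q.1⁻¹ * (Q * P * Q⁻¹).1⁻¹ = Q.1 * (y * P.1⁻¹) * Q.1⁻¹ := by
    simp only [Prod.fst_mul, Prod.fst_inv]
    group
  by_cases h : y * P.1⁻¹ ∈ N
  · have h1 : Q.1 * y * Q.1⁻¹ * (Q * P * Q⁻¹).1⁻¹ ∈ N := by
      rw [h0]
      exact hN.conj_mem _ h _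
    rw [lam_of_mem ρ h, lam_of_mem ρ h1, ← mul_assoc, hQ ⟨y * P.1⁻¹, h⟩]
    have h3 : ((Q.2⁻¹ : (EE d)ˣ) : EE d) * ((Q.2 : (EE d)ˣ) : EE d) = 1 := Units.inv_mul _
    have h4 : (⟨Q.1 * y * Q.1⁻¹ * (Q * P * Q⁻¹).1⁻¹, h1⟩ : N) =
        ⟨Q.1 * (y * P.1⁻¹) * Q.1⁻¹, hN.conj_mem _ h _⟩ := Subtype.ext h0
    rw [h4]
    simp only [Prod.snd_mul, Units.val_mul, Prod.snd_inv, mul_assoc]
    rw [h3, mul_one]
  · have h1 : Q.1 * y * Q.1⁻¹ * (Q * P * Q⁻¹).1⁻¹ ∉ N := by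
      rw [h0]
      intro h2
      apply h
      have := hN.conj_mem _ h2 Q.1⁻¹
      simpa [mul_assoc] using this
    rw [lam_of_notMem ρ h, lam_of_notMem ρ h1, zero_mul, mul_zero]

end Op

section OpSc

variable {G : Type u} [Group G] [Fintype G] {N : Subgroup G} [hN : N.Normal] {d : ℕ}
  (ρ : Representation ℂ N (Fin d → ℂ))

lemma mk_eq_iff {y g : G} : (y : G ⧸ N) = g ↔ y * g⁻¹ ∈ N := by
  rw [← QuotientGroup.eq_one_iff (y * g⁻¹), QuotientGroup.mk_mul, QuotientGroup.mk_inv, mul_inv_eq_one]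

/-- The operator of an element of the group algebra on a pair. -/
noncomputable def op (a : MonoidAlgebra ℂ G) (P : G × (EE d)ˣ) : EE d := ∑ y, a.coeff y • lam ρ P y

lemma op_comm {a : MonoidAlgebra ℂ G} (ha : NInv N a) {P : G × (EE d)ˣ} (hP : P ∈ Impl ρ) (n : N) :
    op ρ a P * ρ n = ρ n * op ρ a P := by
  simp only [op, Finset.sum_mul, Finset.mul_sum, smul_mul_assoc, mul_smul_comm]
  simp only [lam_right ρ hP, lam_left]
  rw [← Equiv.sum_comp (MulAut.conj (n : G)).toEquiv]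
  refine Finset.sum_congr rfl fun y _ => ?_
  have h1 : (MulAut.conj (n : G)).toEquiv y = (n : G) * y * (n : G)⁻¹ := rfl
  rw [h1, ha n y]
  congr 2
  group

lemma op_mul {P P' : G × (EE d)ˣ} (hP : P ∈ Impl ρ) {a b : MonoidAlgebra ℂ G}
    (ha : Deg N (P.1 : G ⧸ N) a) (hb : Deg N (P'.1 : G ⧸ N) b) :
    op ρ a P * op ρ b P' = op ρ (a * b) (P * P') := by
  classical
  simp only [op]
  rw [Finset.sum_mul_sum]
  simp only [coeff_mul_eq_sum, Finset.sum_smul]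
  conv_rhs => rw [Finset.sum_comm]
  refine Finset.sum_congr rfl fun y _ => ?_
  conv_rhs => rw [← Equiv.sum_comp (Equiv.mulLeft y)]
  refine Finset.sum_congr rfl fun y' _ => ?_
  have h1 : (Equiv.mulLeft y) y' = y * y' := rfl
  rw [h1, inv_mul_cancel_left, smul_mul_smul_comm]
  by_cases hy : (y : G ⧸ N) = (P.1 : G ⧸ N)
  · by_cases hy' : (y' : G ⧸ N) = (P'.1 : G ⧸ N)
    · rw [lam_mul ρ hP (mk_eq_iff.1 hy) (mk_eq_iff.1 hy')]
    · rw [hb y' hy']
      simp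
  · rw [ha y hy]
    simp

/-- The scalar of an operator. -/
noncomputable def sc (a : MonoidAlgebra ℂ G) (P : G × (EE d)ˣ) : ℂ :=
  LinearMap.trace ℂ (Fin d → ℂ) (op ρ a P) / d

lemma d_ne_zero [hρ : ρ.IsIrreducible] : d ≠ 0 := by
  have := Cfsg.Agent.Lib.Char.Integrality.finrank_ne_zero_of_isIrreducible ρ
  simpa using this

lemma op_eq_smul [hρ : ρ.IsIrreducible] {a : MonoidAlgebra ℂ G} (ha : NInv N a) {P : G × (EE d)ˣ}
    (hP : P ∈ Impl ρ) : op ρ a P = sc ρ a P • (1 : EE d) := by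
  have h := Cfsg.Agent.Lib.Char.Integrality.eq_trace_div_smul_of_commute ρ (op ρ a P)
    (fun n => op_comm ρ ha hP n)
  simp only [Module.finrank_fin_fun] at h
  exact h

lemma sc_of_op_eq [hρ : ρ.IsIrreducible] {a : MonoidAlgebra ℂ G} {P : G × (EE d)ˣ} {c : ℂ}
    (h : op ρ a P = c • (1 : EE d)) : sc ρ a P = c := by
  have hd : (d : ℂ) ≠ 0 := Nat.cast_ne_zero.2 (d_ne_zero ρ)
  rw [sc, h, map_smul]
  have h1 : LinearMap.trace ℂ (Fin d → ℂ) (1 : EE d) = d := by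
    have := LinearMap.trace_id ℂ (Fin d → ℂ)
    simpa using this
  rw [h1, smul_eq_mul]
  field_simp

lemma sc_mul [hρ : ρ.IsIrreducible] {P P' : G × (EE d)ˣ} (hP : P ∈ Impl ρ) (hP' : P' ∈ Impl ρ)
    {a b : MonoidAlgebra ℂ G} (ha : Deg N (P.1 : G ⧸ N) a) (hb : Deg N (P'.1 : G ⧸ N) b)
    (han : NInv N a) (hbn : NInv N b) : sc ρ (a * b) (P * P') = sc ρ a P * sc ρ b P' := by
  apply sc_of_op_eq
  rw [← op_mul ρ hP ha hb, op_eq_smul ρ han hP, op_eq_smul ρ hbn hP', smul_mul_smul_comm, mul_one]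

lemma sc_hatN_mul (a : MonoidAlgebra ℂ G) (n : N) (P : G × (EE d)ˣ) :
    sc ρ a (hatN ρ n * P) = sc ρ a P := by
  simp only [sc, op, lam_hatN_mul]

lemma sc_scalP_mul (a : MonoidAlgebra ℂ G) (z : ℂˣ) (P : G × (EE d)ˣ) :
    sc ρ a (scalP G z * P) = (z : ℂ) * sc ρ a P := by
  simp only [sc, op, lam_scalP]
  rw [mul_div_assoc']
  congr 1
  rw [← smul_eq_mul, ← map_smul, Finset.smul_sum]
  congr 1
  refine Finset.sum_congr rfl fun y _ => ?_
  rw [smul_comm]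

/-- Conjugate an element of the group algebra. -/
noncomputable def conjA (h : G) (a : MonoidAlgebra ℂ G) : MonoidAlgebra ℂ G :=
  ofFun fun y => a.coeff (h⁻¹ * y * h)

@[simp] lemma coeff_conjA (h : G) (a : MonoidAlgebra ℂ G) (y : G) :
    (conjA h a).coeff y = a.coeff (h⁻¹ * y * h) := coeff_ofFun _ _

lemma op_conj {Q : G × (EE d)ˣ} (hQ : Q ∈ Impl ρ) (a : MonoidAlgebra ℂ G) (P : G × (EE d)ˣ) :
    op ρ (conjA Q.1 a) (Q * P * Q⁻¹) * ((Q.2 : (EE d)ˣ) : EE d) =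
      ((Q.2 : (EE d)ˣ) : EE d) * op ρ a P := by
  simp only [op, Finset.sum_mul, Finset.mul_sum, smul_mul_assoc, mul_smul_comm]
  rw [← Equiv.sum_comp (MulAut.conj Q.1).toEquiv]
  refine Finset.sum_congr rfl fun y _ => ?_
  have h1 : (MulAut.conj Q.1).toEquiv y = Q.1 * y * Q.1⁻¹ := rfl
  rw [h1, coeff_conjA, lam_conj ρ hQ]
  congr 2
  group

lemma sc_conj {Q : G × (EE d)ˣ} (hQ : Q ∈ Impl ρ) (a : MonoidAlgebra ℂ G) (P : G × (EE d)ˣ) :
    sc ρ (conjA Q.1 a) (Q * P * Q⁻¹) = sc ρ a P := by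
  simp only [sc]
  congr 1
  have h1 := op_conj ρ hQ a P
  have h2 : op ρ (conjA Q.1 a) (Q * P * Q⁻¹) =
      ((Q.2 : (EE d)ˣ) : EE d) * op ρ a P * ((Q.2⁻¹ : (EE d)ˣ) : EE d) := by
    have h3 : ((Q.2 : (EE d)ˣ) : EE d) * ((Q.2⁻¹ : (EE d)ˣ) : EE d) = 1 := Units.mul_inv _
    rw [← h1, mul_assoc _ ((Q.2 : (EE d)ˣ) : EE d), h3, mul_one]
  rw [h2, LinearMap.trace_mul_comm, ← mul_assoc]
  have h3 : ((Q.2⁻¹ : (EE d)ˣ) : EE d) * ((Q.2 : (EE d)ˣ) : EE d) = 1 := Units.inv_mul _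
  rw [h3, one_mul]

variable [Fintype N]

lemma op_one_eq (a : MonoidAlgebra ℂ G) : op ρ a (1 : G × (EE d)ˣ) = ρ.asAlgebraHom (res N a) := by
  rw [asAlgebraHom_eq_sum, op]
  symm
  refine Fintype.sum_of_injective (fun n : N => (n : G)) Subtype.val_injective _ _ ?_ ?_
  · intro g hg
    have h1 : g * (1 : G × (EE d)ˣ).1⁻¹ ∉ N := by
      intro h2
      apply hg
      refine ⟨⟨g, by simpa using h2⟩, rfl⟩
    rw [lam_of_notMem ρ h1, smul_zero]
  · intro n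
    have h1 : ((n : G)) * (1 : G × (EE d)ˣ).1⁻¹ ∈ N := by simpa using n.2
    rw [coeff_res, lam_of_mem ρ h1]
    have h2 : (⟨(n : G) * (1 : G × (EE d)ˣ).1⁻¹, h1⟩ : N) = n := Subtype.ext (by simp)
    rw [h2]
    simp

lemma sc_one [hρ : ρ.IsIrreducible] {a : MonoidAlgebra ℂ G} (ha : NInv N a) :
    sc ρ a (1 : G × (EE d)ˣ) = omega ρ.character (res N a) := by
  apply sc_of_op_eq
  rw [op_one_eq]
  exact asAlgebraHom_eq_omega_smul ρ (class_res N ha)

end OpSc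

end Cfsg.Agent.Lib.Char.GoodLift
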