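import Mathlib
import Cfsg.Agent.Lib.Char.GoodLift

/-!
# Good pairs

See `GoodLift`. `Amm M N x a` says that `a` is an `N`-invariant element of `ℂ[G]` with natural coefficients,
supported on the coset `x`, of augmentation prime to `p`. A pair is good if its scalars on all such `a` are
congruent to the augmentation of `a`.
-/

set_option autoImplicit false
set_option linter.style.haveILetI false
set_option linter.unusedSectionVars false
set_option linter.unusedVariables false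

namespace Cfsg.Agent.Lib.Char.GoodLift

open Cfsg Cfsg.Agent.Lib.Blocks.Local Cfsg.Agent.Lib.Blocks.Central Cfsg.Agent.Lib.Blocks.Regular
  Cfsg.Agent.Lib.Blocks.Principal Cfsg.Agent.Lib.Blocks.Covering Cfsg.Agent.Lib.Blocks.Osima
  Cfsg.Agent.Lib.Blocks.BlockHom Cfsg.Agent.Lib.Char.AlpDade Cfsg.Agent.Lib.Char.DetExt

universe u

section LocalFacts

variable {M : Ideal AlgInt} [hMp : M.IsPrime]

lemma memLocalRing_of_pow {x : ℂ} {o : ℕ} (ho : 0 < o) (h : MemLocalRing M (x ^ o)) : MemLocalRing M x := by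
  obtain ⟨a, b, hb, hab⟩ := h
  have hb0 := coe_ne_zero_of_notMem hb
  have h1 : ((b : ℂ) * x) ^ o = ((b ^ (o - 1) * a : AlgInt) : ℂ) := by
    rw [mul_pow, ← hab]
    push_cast
    have : (b : ℂ) ^ o = (b : ℂ) ^ (o - 1) * b := by
      rw [← pow_succ, Nat.sub_add_cancel ho]
    rw [this]
    field_simp
  have h2 : IsIntegral ℤ (((b : ℂ) * x) ^ o) := by
    rw [h1]
    exact (b ^ (o - 1) * a).2
  have h3 : IsIntegral ℤ ((b : ℂ) * x) := IsIntegral.of_pow ho h2
  refine ⟨⟨_, h3⟩, b, hb, ?_⟩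
  simp only
  field_simp

lemma exists_factor_of_prod {ι : Type*} (s : Finset ι) (f : ι → ℂ) (hl : ∀ i ∈ s, MemLocalRing M (f i))
    (hp : MemLocalIdeal M (∏ i ∈ s, f i)) : ∃ i ∈ s, MemLocalIdeal M (f i) := by
  classical
  induction s using Finset.induction_on with
  | empty =>
    rw [Finset.prod_empty] at hp
    exact absurd hp not_memLocalIdeal_one
  | insert a s ha ih =>
    rw [Finset.prod_insert ha] at hp
    by_cases h1 : MemLocalIdeal M (f a)
    · exact ⟨a, Finset.mem_insert_self _ _, h1⟩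
    · by_cases h2 : MemLocalIdeal M (∏ i ∈ s, f i)
      · obtain ⟨i, hi, hi2⟩ := ih (fun i hi => hl i (Finset.mem_insert_of_mem hi)) h2
        exact ⟨i, Finset.mem_insert_of_mem hi, hi2⟩
      · exact absurd hp (not_memLocalIdeal_mul (hl a (Finset.mem_insert_self _ _))
          (memLocalRing_prod _ _ fun i hi => hl i (Finset.mem_insert_of_mem hi)) h1 h2)

lemma memLocalRing_of_root {ζ : ℂ} {o : ℕ} (ho : 0 < o) (h : ζ ^ o = 1) : MemLocalRing M ζ := by
  refine memLocalRing_of_isIntegral ?_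
  refine ⟨Polynomial.X ^ o - 1, Polynomial.monic_X_pow_sub_C 1 ho.ne', ?_⟩
  simp [h]

lemma exists_root_congr {p : ℕ} [hp : Fact p.Prime] (hM : IsPModular p M) {t : ℂ} (ht : MemLocalRing M t)
    {c o' : ℕ} (ho' : 0 < o') (h : MemLocalIdeal M (t ^ (p ^ c * o') - 1)) :
    ∃ ζ : ℂ, ζ ^ o' = 1 ∧ MemLocalIdeal M (t - ζ) := by
  classical
  haveI hchar : CharP (localRing M ⧸ localIdeal M) p := charP_residue hM
  have h1 : MemLocalIdeal M (t ^ o' - 1) := by
    have hw : MemLocalRing M (t ^ o') := memLocalRing_pow ht o'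
    let w : localRing M := ⟨t ^ o', hw⟩
    have h2 : residue M (w ^ (p ^ c)) = residue M 1 := by
      rw [residue_eq_iff]
      have : ((w ^ (p ^ c) : localRing M) : ℂ) = t ^ (p ^ c * o') := by
        rw [SubmonoidClass.coe_pow]
        show (t ^ o') ^ (p ^ c) = _
        rw [← pow_mul, mul_comm]
      rw [this]
      simpa using h
    rw [map_pow, map_one] at h2
    have h3 : (residue M w - 1) ^ (p ^ c) = 0 := by
      rw [sub_pow_char_pow, h2, one_pow, sub_self]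
    have h4 : residue M w = 1 := sub_eq_zero.1 (pow_eq_zero_iff (pow_ne_zero _ hp.out.ne_zero) |>.1 h3)
    have h5 : residue M w = residue M 1 := by rw [h4, map_one]
    rw [residue_eq_iff] at h5
    simpa [w] using h5
  have hprim := Complex.isPrimitiveRoot_exp o' ho'.ne'
  have hfac := Polynomial.X_pow_sub_one_eq_prod ho' hprim
  have heval := congrArg (Polynomial.eval t) hfac
  simp only [Polynomial.eval_sub, Polynomial.eval_pow, Polynomial.eval_X, Polynomial.eval_one,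
    Polynomial.eval_prod, Polynomial.eval_C] at heval
  rw [heval] at h1
  obtain ⟨ζ, hζ, hζ2⟩ := exists_factor_of_prod _ _ (fun ζ hζ => memLocalRing_sub ht
    (memLocalRing_of_root ho' ((Polynomial.mem_nthRootsFinset ho' 1).1 hζ))) h1
  exact ⟨ζ, (Polynomial.mem_nthRootsFinset ho' 1).1 hζ, hζ2⟩

/-- The cancellation behind everything. -/
lemma partner {s' s A C : ℂ} (hA : MemLocalRing M A) (hAn : ¬ MemLocalIdeal M A) (hC : MemLocalRing M C)
    (hs : MemLocalIdeal M (s - A)) (hu : MemLocalIdeal M (s' * s - C * A)) : MemLocalIdeal M (s' - C) := by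
  have hsl : MemLocalRing M s := by
    have := memLocalRing_add (memLocalRing_of_memLocalIdeal hs) hA
    simpa using this
  have hsn : ¬ MemLocalIdeal M s := by
    intro h
    apply hAn
    have := memLocalIdeal_sub h hs
    simpa using this
  have hs0 := ne_zero_of_not_memLocalIdeal hsn
  have hul : MemLocalRing M (s' * s) := by
    have := memLocalRing_add (memLocalRing_of_memLocalIdeal hu) (memLocalRing_mul hC hA)
    simpa using this
  have hs'l : MemLocalRing M s' := by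
    have := memLocalRing_mul hul (memLocalRing_inv_of_not_memLocalIdeal hsl hsn)
    rwa [mul_assoc, mul_inv_cancel₀ hs0, mul_one] at this
  have h1 : (s' - C) * A = (s' * s - C * A) - s' * (s - A) := by ring
  have h2 : MemLocalIdeal M ((s' - C) * A) := by
    rw [h1]
    exact memLocalIdeal_sub hu (memLocalIdeal_mul_left hs'l hs)
  exact memLocalIdeal_of_mul_right (memLocalRing_sub hs'l hC) hA h2 hAn

end LocalFacts

section Amm

variable {G : Type u} [Group G] [Fintype G] {N : Subgroup G} [hN : N.Normal] [Fintype N] {M : Ideal AlgInt}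
  [hMp : M.IsPrime]

/-- The elements of the group algebra used to normalize pairs. -/
structure Amm (M : Ideal AlgInt) [M.IsPrime] (N : Subgroup G) [N.Normal] (x : G ⧸ N)
    (a : MonoidAlgebra ℂ G) : Prop where
  deg : Deg N x a
  ninv : NInv N a
  nat : ∀ y, ∃ k : ℕ, a.coeff y = k
  au : ¬ MemLocalIdeal M (aug a)

lemma Amm.loc {x : G ⧸ N} {a : MonoidAlgebra ℂ G} (h : Amm M N x a) : Loc M a := by
  intro g
  obtain ⟨k, hk⟩ := h.nat g
  rw [hk]
  exact memLocalRing_natCast k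

lemma Amm.aug_loc {x : G ⧸ N} {a : MonoidAlgebra ℂ G} (h : Amm M N x a) : MemLocalRing M (aug a) :=
  memLocalRing_sum _ _ fun g _ => h.loc g

lemma Amm.mul {x x' : G ⧸ N} {a b : MonoidAlgebra ℂ G} (h : Amm M N x a) (h' : Amm M N x' b) :
    Amm M N (x * x') (a * b) where
  deg := h.deg.mul h'.deg
  ninv := h.ninv.mul h'.ninv
  nat := by
    intro y
    rw [coeff_mul_eq_sum]
    choose f hf using h.nat
    choose f' hf' using h'.nat
    refine ⟨∑ z, f z * f' (z⁻¹ * y), ?_⟩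
    push_cast
    exact Finset.sum_congr rfl fun z _ => by rw [hf, hf']
  au := by
    rw [aug_mul]
    exact not_memLocalIdeal_mul h.aug_loc h'.aug_loc h.au h'.au

lemma amm_one : Amm M N (1 : G ⧸ N) (1 : MonoidAlgebra ℂ G) where
  deg := by
    classical
    intro g hg
    rw [coeff_one_apply, if_neg]
    rintro rfl
    exact hg rfl
  ninv := by
    classical
    intro n g
    rw [coeff_one_apply, coeff_one_apply]
    have : (n : G) * g * (n : G)⁻¹ = 1 ↔ g = 1 := by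
      constructor
      · intro h
        have h2 : g = (n : G)⁻¹ * ((n : G) * g * (n : G)⁻¹) * (n : G) := by group
        rw [h2, h]
        group
      · rintro rfl
        group
    simp only [this]
  nat := by
    classical
    intro y
    rw [coeff_one_apply]
    by_cases hy : y = 1
    · exact ⟨1, by simp [hy]⟩
    · exact ⟨0, by simp [hy]⟩
  au := by
    classical
    have : aug (1 : MonoidAlgebra ℂ G) = 1 := by
      simp [aug, coeff_one_apply]
    rw [this]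
    exact not_memLocalIdeal_one

lemma Amm.pow {x : G ⧸ N} {a : MonoidAlgebra ℂ G} (h : Amm M N x a) (k : ℕ) :
    Amm M N (x ^ k) (a ^ k) := by
  induction k with
  | zero =>
    rw [pow_zero, pow_zero]
    exact amm_one
  | succ k ih =>
    rw [pow_succ, pow_succ]
    exact ih.mul h

lemma Amm.exists_inv {x : G ⧸ N} {a : MonoidAlgebra ℂ G} (h : Amm M N x a) : ∃ c, Amm M N x⁻¹ c := by
  refine ⟨a ^ (orderOf x - 1), ?_⟩
  have h1 : x ^ (orderOf x - 1) = x⁻¹ := by
    rw [eq_inv_iff_mul_eq_one, ← pow_succ, Nat.sub_add_cancel (orderOf_pos x), pow_orderOf_eq_one]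
  rw [← h1]
  exact h.pow _

lemma aug_conjA (h : G) (a : MonoidAlgebra ℂ G) : aug (conjA h a) = aug a := by
  simp only [aug, coeff_conjA]
  have h1 := Equiv.sum_comp (MulAut.conj h⁻¹).toEquiv (fun y => a.coeff y)
  rw [← h1]
  refine Finset.sum_congr rfl fun y _ => ?_
  congr 1
  show _ = h⁻¹ * y * h⁻¹⁻¹
  simp

lemma Amm.conj {x : G ⧸ N} {a : MonoidAlgebra ℂ G} (ha : Amm M N x a) (h : G) :
    Amm M N ((h : G ⧸ N) * x * (h : G ⧸ N)⁻¹) (conjA h a) where
  deg := by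
    intro g hg
    rw [coeff_conjA]
    refine ha.deg _ fun h1 => hg ?_
    rw [← h1]
    simp only [QuotientGroup.mk_mul, QuotientGroup.mk_inv]
    group
  ninv := by
    intro n g
    rw [coeff_conjA, coeff_conjA]
    have h1 : h⁻¹ * (n : G) * h ∈ N := by
      have := hN.conj_mem n n.2 h⁻¹
      simpa using this
    have h2 := ha.ninv ⟨h⁻¹ * n * h, h1⟩ (h⁻¹ * g * h)
    rw [← h2]
    congr 1
    simp only
    group
  nat := by
    intro y
    rw [coeff_conjA]
    exact ha.nat _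
  au := by
    rw [aug_conjA]
    exact ha.au

lemma amm_cT {p : ℕ} [Fact p.Prime] (hM : IsPModular p M) {x : G ⧸ N} (h : ¬ p ∣ cnt p N x) :
    Amm M N x (cT p N x) where
  deg := deg_cT p N x
  ninv := ninv_cT p N x
  nat := by
    classical
    intro y
    rw [coeff_cT]
    by_cases h1 : (y : G ⧸ N) = x
    · rw [if_pos h1]
      by_cases h2 : p ∣ orderOf y
      · exact ⟨0, by simp [reg_of_dvd _ h2]⟩
      · exact ⟨1, by simp [reg_of_not_dvd _ h2]⟩
    · rw [if_neg h1]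
      exact ⟨0, by simp⟩
  au := by
    rw [aug_cT, memLocalIdeal_natCast_iff hM]
    exact h

end Amm

section Good

variable {G : Type u} [Group G] [Fintype G] {N : Subgroup G} [hN : N.Normal] [Fintype N] {M : Ideal AlgInt}
  [hMp : M.IsPrime] {d : ℕ} (ρ : Representation ℂ N (Fin d → ℂ)) [hρ : ρ.IsIrreducible]

lemma sc_one_one : sc ρ (1 : MonoidAlgebra ℂ G) (1 : G × (EE d)ˣ) = 1 :=
  sc_of_op_eq ρ (a := 1) (P := 1) (c := 1) (by
      rw [op_one_eq]
      have : res N (1 : MonoidAlgebra ℂ G) = 1 := by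
        classical
        ext n
        rw [coeff_res, coeff_one_apply, coeff_one_apply]
        simp only [Subtype.ext_iff, Subgroup.coe_one]
      rw [this, map_one, one_smul])

lemma sc_pow {P : G × (EE d)ˣ} (hP : P ∈ Impl ρ) {a : MonoidAlgebra ℂ G}
    {x : G ⧸ N} (hx : (P.1 : G ⧸ N) = x) (ha : Amm M N x a) (k : ℕ) :
    sc ρ (a ^ k) (P ^ k) = sc ρ a P ^ k := by
  subst hx
  induction k with
  | zero => simpa using sc_one_one ρ
  | succ k ih =>
    have h1 : Deg N ((P ^ k).1 : G ⧸ N) (a ^ k) := by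
      have := (ha.pow k).deg
      simpa using this
    have h2 : NInv N (a ^ k) := (ha.pow k).ninv
    rw [pow_succ, pow_succ, sc_mul ρ ((Impl ρ).pow_mem hP k) hP h1 ha.deg h2 ha.ninv, ih, pow_succ]

variable {p : ℕ} (θ : IrrCharacter N) (hρθ : (θ : N → ℂ) = ρ.character) (hθ : θ ∈ principalBlock M N)

include hρθ hθ

lemma cong_one {a : MonoidAlgebra ℂ G} (ha : Amm M N 1 a) :
    MemLocalIdeal M (sc ρ a (1 : G × (EE d)ˣ) - aug a) := by
  rw [sc_one ρ ha.ninv, ← hρθ]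
  exact scal_congr θ hθ ha.deg ha.ninv ha.loc

lemma cong_partner {P : G × (EE d)ˣ} (hP : P ∈ Impl ρ) {a c : MonoidAlgebra ℂ G}
    (ha : Amm M N (P.1 : G ⧸ N) a) (hc : Amm M N (P.1 : G ⧸ N)⁻¹ c)
    (h : MemLocalIdeal M (sc ρ a P - aug a)) : MemLocalIdeal M (sc ρ c P⁻¹ - aug c) := by
  have hc' : Amm M N ((P⁻¹).1 : G ⧸ N) c := by
    have h1 : ((P⁻¹).1 : G ⧸ N) = (P.1 : G ⧸ N)⁻¹ := QuotientGroup.mk_inv _ _
    rwa [h1]
  have h1 := sc_mul ρ ((Impl ρ).inv_mem hP) hP hc'.deg ha.deg hc.ninv ha.ninv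
  rw [inv_mul_cancel] at h1
  have hca : Amm M N 1 (c * a) := by
    have := hc.mul ha
    rwa [inv_mul_cancel] at this
  have h2 := cong_one ρ θ hρθ hθ hca
  rw [h1, aug_mul] at h2
  exact partner ha.aug_loc ha.au hc.aug_loc h h2

lemma cong_indep {P : G × (EE d)ˣ} (hP : P ∈ Impl ρ) {a b : MonoidAlgebra ℂ G}
    (ha : Amm M N (P.1 : G ⧸ N) a) (hb : Amm M N (P.1 : G ⧸ N) b)
    (h : MemLocalIdeal M (sc ρ a P - aug a)) : MemLocalIdeal M (sc ρ b P - aug b) := by
  obtain ⟨c, hc⟩ := ha.exists_inv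
  have h1 := cong_partner ρ θ hρθ hθ hP ha hc h
  have hc' : Amm M N ((P⁻¹).1 : G ⧸ N) c := by
    have h1 : ((P⁻¹).1 : G ⧸ N) = (P.1 : G ⧸ N)⁻¹ := QuotientGroup.mk_inv _ _
    rwa [h1]
  have h2 := sc_mul ρ ((Impl ρ).inv_mem hP) hP hc'.deg hb.deg hc.ninv hb.ninv
  rw [inv_mul_cancel] at h2
  have hcb : Amm M N 1 (c * b) := by
    have := hc.mul hb
    rwa [inv_mul_cancel] at this
  have h3 := cong_one ρ θ hρθ hθ hcb
  rw [h2, aug_mul, mul_comm (sc ρ c P⁻¹), mul_comm (aug c)] at h3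
  exact partner hc.aug_loc hc.au hb.aug_loc h1 h3

omit hρθ hθ

/-- The good pairs. -/
structure IsGood (M : Ideal AlgInt) [M.IsPrime] (ρ : Representation ℂ N (Fin d → ℂ)) (P : G × (EE d)ˣ) :
    Prop where
  mem : P ∈ Impl ρ
  ex : ∃ a, Amm M N (P.1 : G ⧸ N) a
  cong : ∀ a, Amm M N (P.1 : G ⧸ N) a → MemLocalIdeal M (sc ρ a P - aug a)

include hρθ hθ

lemma isGood_of_witness {P : G × (EE d)ˣ} (hP : P ∈ Impl ρ) {a : MonoidAlgebra ℂ G}
    (ha : Amm M N (P.1 : G ⧸ N) a) (h : MemLocalIdeal M (sc ρ a P - aug a)) : IsGood M ρ P :=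
  ⟨hP, ⟨a, ha⟩, fun _ hb => cong_indep ρ θ hρθ hθ hP ha hb h⟩

lemma IsGood.mul' {P P' : G × (EE d)ˣ} (h : IsGood M ρ P) (h' : IsGood M ρ P') : IsGood M ρ (P * P') := by
  obtain ⟨a, ha⟩ := h.ex
  obtain ⟨a', ha'⟩ := h'.ex
  have hm : ((P * P').1 : G ⧸ N) = (P.1 : G ⧸ N) * (P'.1 : G ⧸ N) := QuotientGroup.mk_mul _ _ _
  refine isGood_of_witness ρ θ hρθ hθ ((Impl ρ).mul_mem h.mem h'.mem) (a := a * a') (by rw [hm]; exact ha.mul ha') ?_
  rw [sc_mul ρ h.mem h'.mem ha.deg ha'.deg ha.ninv ha'.ninv, aug_mul]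
  have h1 := h.cong a ha
  have h2 := h'.cong a' ha'
  have hsl : MemLocalRing M (sc ρ a P) := by
    have := memLocalRing_add (memLocalRing_of_memLocalIdeal h1) ha.aug_loc
    simpa using this
  have h3 : sc ρ a P * sc ρ a' P' - aug a * aug a' = sc ρ a P * (sc ρ a' P' - aug a') +
      (sc ρ a P - aug a) * aug a' := by ring
  rw [h3]
  exact memLocalIdeal_add (memLocalIdeal_mul_left hsl h2) (memLocalIdeal_mul_right h1 ha'.aug_loc)

lemma IsGood.inv' {P : G × (EE d)ˣ} (h : IsGood M ρ P) : IsGood M ρ P⁻¹ := by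
  obtain ⟨a, ha⟩ := h.ex
  obtain ⟨c, hc⟩ := ha.exists_inv
  have h1 : ((P⁻¹).1 : G ⧸ N) = (P.1 : G ⧸ N)⁻¹ := QuotientGroup.mk_inv _ _
  refine ⟨(Impl ρ).inv_mem h.mem, ⟨c, by rwa [h1]⟩, fun b hb => ?_⟩
  rw [h1] at hb
  exact cong_partner ρ θ hρθ hθ h.mem ha hb (h.cong a ha)

lemma isGood_one : IsGood M ρ (1 : G × (EE d)ˣ) :=
  isGood_of_witness ρ θ hρθ hθ (Impl ρ).one_mem (a := 1) amm_one
    (cong_one ρ θ hρθ hθ amm_one)

lemma isGood_hatN (n : N) : IsGood M ρ (hatN ρ n) := by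
  have h0 : ((hatN ρ n).1 : G ⧸ N) = 1 := (QuotientGroup.eq_one_iff _).2 n.2
  have h1 : hatN ρ n = hatN ρ n * 1 := (mul_one _).symm
  refine isGood_of_witness ρ θ hρθ hθ (hatN_mem ρ n) (a := 1) (by rw [h0]; exact amm_one) ?_
  rw [h1, sc_hatN_mul]
  exact cong_one ρ θ hρθ hθ amm_one

lemma IsGood.conj' {P Q : G × (EE d)ˣ} (h : IsGood M ρ P) (hQ : Q ∈ Impl ρ) : IsGood M ρ (Q * P * Q⁻¹) := by
  obtain ⟨a, ha⟩ := h.ex
  have h1 : ((Q * P * Q⁻¹).1 : G ⧸ N) = (Q.1 : G ⧸ N) * (P.1 : G ⧸ N) * (Q.1 : G ⧸ N)⁻¹ := by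
    show ((Q.1 * P.1 * Q.1⁻¹ : G) : G ⧸ N) = _
    rw [QuotientGroup.mk_mul, QuotientGroup.mk_mul, QuotientGroup.mk_inv]
  refine isGood_of_witness ρ θ hρθ hθ ((Impl ρ).mul_mem ((Impl ρ).mul_mem hQ h.mem) ((Impl ρ).inv_mem hQ))
    (a := conjA Q.1 a) (by rw [h1]; exact ha.conj Q.1) ?_
  rw [sc_conj ρ hQ, aug_conjA]
  exact h.cong a ha

omit hρθ hθ

lemma scalP_fst_mul (z : ℂˣ) (P : G × (EE d)ˣ) : (scalP G z * P).1 = P.1 := one_mul _

/-- A good scalar of order prime to `p` is trivial. -/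
lemma IsGood.scal_eq_one [Fact p.Prime] (hM : IsPModular p M) {z : ℂˣ} (h : IsGood M ρ (scalP G z : G × (EE d)ˣ)) {f : ℕ}
    (hf : ¬ p ∣ f) (hz : z ^ f = 1) : z = 1 := by
  have h0 : (((scalP G z : G × (EE d)ˣ)).1 : G ⧸ N) = 1 := rfl
  have h1 := h.cong 1 (by rw [h0]; exact amm_one)
  have h2 : (scalP G z : G × (EE d)ˣ) = scalP G z * 1 := (mul_one _).symm
  rw [h2, sc_scalP_mul, sc_one_one, mul_one] at h1
  have h3 : aug (1 : MonoidAlgebra ℂ G) = 1 := by
    classical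
    simp [aug, coeff_one_apply]
  rw [h3] at h1
  apply Units.ext
  refine eq_one_of_root hM hf ?_ h1
  rw [← Units.val_pow_eq_pow_val, hz, Units.val_one]

/-- A unit implementing the identity is scalar. -/
lemma exists_eq_scalP {S : G × (EE d)ˣ} (hS : S ∈ Impl ρ) (h1 : S.1 = 1) : ∃ z : ℂˣ, S = scalP G z := by
  obtain ⟨g, T⟩ := S
  simp only at h1
  subst h1
  have hcomm : ∀ n : N, T * MonoidHom.toHomUnits ρ n = MonoidHom.toHomUnits ρ n * T := by
    intro n
    apply Units.ext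
    have h2 := hS n
    have h3 : (⟨(1 : G) * n * (1 : G)⁻¹, hN.conj_mem n n.2 1⟩ : N) = n := Subtype.ext (by simp)
    simp only [h3] at h2
    exact h2
  obtain ⟨z, hz⟩ := exists_scalar_of_commute N ρ T hcomm
  exact ⟨z, by rw [hz]; rfl⟩

/-- Two pairs over the same element differ by a scalar. -/
lemma exists_eq_scalP_mul {P P' : G × (EE d)ˣ} (hP : P ∈ Impl ρ) (hP' : P' ∈ Impl ρ) (h : P.1 = P'.1) :
    ∃ z : ℂˣ, P' = scalP G z * P := by
  obtain ⟨z, hz⟩ := exists_eq_scalP ρ ((Impl ρ).mul_mem hP' ((Impl ρ).inv_mem hP))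
    (by show P'.1 * P.1⁻¹ = 1; rw [h, mul_inv_cancel])
  exact ⟨z, by rw [← hz, inv_mul_cancel_right]⟩

include hρθ hθ

/-- Every pair of finite order can be scaled to a good pair. -/
theorem exists_good_scale [Fact p.Prime] (hM : IsPModular p M) {P : G × (EE d)ˣ} (hP : P ∈ Impl ρ)
    (ha : ∃ a, Amm M N (P.1 : G ⧸ N) a) {c o' : ℕ} (ho' : 0 < o') (hpow : P ^ (p ^ c * o') = 1) :
    ∃ ζ : ℂˣ, ζ ^ o' = 1 ∧ IsGood M ρ (scalP G ζ⁻¹ * P) := by
  obtain ⟨a, ha⟩ := ha
  set o := p ^ c * o' with ho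
  have hopos : 0 < o := Nat.mul_pos (pow_pos (Fact.out : p.Prime).pos _) ho'
  set s := sc ρ a P with hs
  set A := aug a with hA
  have h1 := sc_pow ρ hP rfl ha o
  rw [hpow] at h1
  have h2 : Amm M N 1 (a ^ o) := by
    have h3 := ha.pow o
    have h4 : (P.1 : G ⧸ N) ^ o = 1 := by
      have h5 : (P ^ o).1 = P.1 ^ o := rfl
      rw [← QuotientGroup.mk_pow, ← h5, hpow]
      rfl
    rwa [h4] at h3
  have h3 := cong_one ρ θ hρθ hθ h2
  have hAo : aug (a ^ o) = A ^ o := by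
    have hg : ∀ k : ℕ, aug (a ^ k) = A ^ k := by
      intro k
      induction k with
      | zero =>
        classical
        simp [aug, coeff_one_apply]
      | succ k ih => rw [pow_succ, pow_succ, aug_mul, ih]
    exact hg o
  rw [h1, hAo] at h3
  have hAl : MemLocalRing M A := ha.aug_loc
  have hAn : ¬ MemLocalIdeal M A := ha.au
  have hA0 : A ≠ 0 := ne_zero_of_not_memLocalIdeal hAn
  have hAi := memLocalRing_inv_of_not_memLocalIdeal hAl hAn
  have hsl : MemLocalRing M s := by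
    refine memLocalRing_of_pow hopos ?_
    have := memLocalRing_add (memLocalRing_of_memLocalIdeal h3) (memLocalRing_pow hAl o)
    simpa using this
  set t := s * A⁻¹ with ht
  have htl : MemLocalRing M t := memLocalRing_mul hsl hAi
  have h4 : t ^ o - 1 = (s ^ o - A ^ o) * (A⁻¹) ^ o := by
    rw [ht, mul_pow, sub_mul, inv_pow, mul_inv_cancel₀ (pow_ne_zero _ hA0)]
  have h5 : MemLocalIdeal M (t ^ o - 1) := by
    rw [h4]
    exact memLocalIdeal_mul_right h3 (memLocalRing_pow hAi o)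
  obtain ⟨ζ₀, hζ₀, hζ₁⟩ := exists_root_congr hM htl ho' h5
  have hζ0 : ζ₀ ≠ 0 := by
    rintro rfl
    rw [zero_pow ho'.ne'] at hζ₀
    exact zero_ne_one hζ₀
  let ζ : ℂˣ := Units.mk0 ζ₀ hζ0
  refine ⟨ζ, Units.ext (by simpa [ζ] using hζ₀), ?_⟩
  have h6 : (scalP G ζ⁻¹ * P).1 = P.1 := scalP_fst_mul _ _
  refine isGood_of_witness ρ θ hρθ hθ ((Impl ρ).mul_mem (scalP_mem ρ _) hP) (a := a) (by rw [h6]; exact ha) ?_
  rw [sc_scalP_mul]
  have hζinv : MemLocalRing M (ζ₀⁻¹) := by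
    refine memLocalRing_of_root ho' ?_
    rw [inv_pow, hζ₀, inv_one]
  have h7 : ((ζ⁻¹ : ℂˣ) : ℂ) * sc ρ a P - aug a = ζ₀⁻¹ * A * (t - ζ₀) := by
    simp only [Units.val_inv_eq_inv_val, ζ, Units.val_mk0]
    rw [← hs, ← hA, ht]
    field_simp
  rw [h7]
  exact memLocalIdeal_mul_left (memLocalRing_mul hζinv hAl) hζ₁

end Good

end Cfsg.Agent.Lib.Char.GoodLift
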