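import Mathlib
import Cfsg.Agent.Lib.Char.GoodPairs

/-!
# Counting regular elements in cosets

If `Q` is a Sylow `p`-subgroup of the normal subgroup `N` and `N C_G(Q)` has `p`-power index in `G`, every coset
of `N` containing a `p`-regular element contains a number of `p`-regular elements prime to `p`.
-/

set_option autoImplicit false
set_option linter.style.haveILetI false
set_option linter.unusedSectionVars false
set_option linter.unusedVariables false

namespace Cfsg.Agent.Lib.Char.GoodLift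

open Cfsg Cfsg.Agent.Lib.Blocks.Local Cfsg.Agent.Lib.Blocks.Central Cfsg.Agent.Lib.Blocks.Regular
  Cfsg.Agent.Lib.Blocks.Principal Cfsg.Agent.Lib.Blocks.Covering Cfsg.Agent.Lib.Blocks.Osima
  Cfsg.Agent.Lib.Blocks.BlockHom Cfsg.Agent.Lib.Char.AlpDade Cfsg.Agent.Lib.Char.DetExt

universe u

section Count

variable {G : Type u} [Group G] [Fintype G] {p : ℕ} [hp : Fact p.Prime] {N : Subgroup G} [hN : N.Normal]

lemma cnt_modEq_FF' (P : Subgroup G) (hPg : IsPGroup p P) (hPN : P ≤ N) (x : G ⧸ N) :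
    cnt p N x ≡ Nat.card (FF p N P x) [MOD p] := by
  classical
  letI := wAct (p := p) P hPN x
  have hmod := hPg.card_modEq_card_fixedPoints (WW p N x)
  have hfix : ∀ y : WW p N x, y ∈ MulAction.fixedPoints P (WW p N x) ↔
      ∀ u ∈ P, u * (y : G) = y * u := by
    intro y
    constructor
    · intro h u hu
      have h1 := congrArg Subtype.val (h ⟨u, hu⟩)
      have h2 : u * (y : G) * u⁻¹ = y := h1
      rw [mul_inv_eq_iff_eq_mul] at h2
      exact h2
    · intro h u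
      refine Subtype.ext ?_
      show (u : G) * (y : G) * (u : G)⁻¹ = y
      rw [mul_inv_eq_iff_eq_mul]
      exact h u u.2
  have he : MulAction.fixedPoints P (WW p N x) ≃ FF p N P x :=
    { toFun := fun y => ⟨y.1.1, y.1.2.1, y.1.2.2,
        Subgroup.mem_centralizer_iff.2 ((hfix y.1).1 y.2)⟩
      invFun := fun y => ⟨⟨y.1, y.2.1, y.2.2.1⟩, (hfix _).2 (Subgroup.mem_centralizer_iff.1 y.2.2.2)⟩
      left_inv := fun y => rfl
      right_inv := fun y => rfl }
  rw [Nat.card_congr he] at hmod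
  exact hmod

/-- The image in `G` of a Sylow subgroup of `N`. -/
abbrev QQ (Q : Sylow p N) : Subgroup G := (Q : Subgroup N).map N.subtype

lemma qq_le (Q : Sylow p N) : QQ Q ≤ N := Subgroup.map_subtype_le _

lemma qq_isP (Q : Sylow p N) : IsPGroup p (QQ Q) := Q.isPGroup'.map _

lemma card_CC' (Q : Sylow p N) (x : G ⧸ N) {f : ℕ} (hf : ¬ p ∣ f) (hfx : x ^ f = 1) :
    Nat.card (CC N (QQ Q) x) =
      Nat.card (FF p N (QQ Q) x) *
        Nat.card (QQ Q ⊓ Subgroup.centralizer (QQ Q : Set G) : Subgroup G) := by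
  classical
  set C := Subgroup.centralizer (QQ Q : Set G) with hC
  set Z := QQ Q ⊓ C with hZ
  have hmemC : ∀ {c : G}, c ∈ C ↔ ∀ u ∈ QQ Q, u * c = c * u := by
    intro c
    rw [hC, Subgroup.mem_centralizer_iff]
    rfl
  let F : FF p N (QQ Q) x × Z → CC N (QQ Q) x := fun w =>
    ⟨(w.1 : G) * (w.2 : G), C.mul_mem w.1.2.2.2 w.2.2.2, by
      have h3 : (((w.2 : G) : G) : G ⧸ N) = 1 := (QuotientGroup.eq_one_iff _).2 (qq_le Q w.2.2.1)
      rw [QuotientGroup.mk_mul, h3, mul_one]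
      exact w.1.2.1⟩
  have hcomm : ∀ w : FF p N (QQ Q) x × Z, Commute ((w.2 : G)) ((w.1 : G)) := by
    intro w
    exact hmemC.1 w.1.2.2.2 _ w.2.2.1
  have hpart : ∀ w : FF p N (QQ Q) x × Z, IsPPart p (F w : G) (w.2 : G) := by
    intro w
    refine ⟨(w.1 : G), ?_, hcomm w, exists_orderOf_eq_of_mem (qq_isP Q) w.2.2.1, w.1.2.2.1⟩
    exact (hcomm w).eq
  have hinj : Function.Injective F := by
    intro a b hab
    have h1 : (a.2 : G) = (b.2 : G) := by
      have h2 := hpart a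
      have h3 := hpart b
      rw [hab] at h2
      exact Cfsg.Agent.Lib.Blocks.Sections.isPPart_unique h2 h3
    have h2 : a.2 = b.2 := Subtype.ext h1
    have h3 : (a.1 : G) = (b.1 : G) := by
      have h4 : (a.1 : G) * (a.2 : G) = (b.1 : G) * (b.2 : G) := congrArg Subtype.val hab
      rw [h1] at h4
      exact mul_right_cancel h4
    exact Prod.ext (Subtype.ext h3) h2
  have hsurj : Function.Surjective F := by
    intro c
    obtain ⟨z, y, hzy, hcz, hk, hy⟩ := Cfsg.Agent.Lib.Blocks.SecondMain.exists_isPPart p (c : G)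
    obtain ⟨s, hs⟩ := Cfsg.Agent.Lib.Blocks.Sections.isPPart_exists_pow_eq ⟨y, hzy, hcz, hk, hy⟩
    have hzC : z ∈ C := by
      rw [← hs]
      exact C.pow_mem c.2.1 s
    have hyC : y ∈ C := by
      have : y = z⁻¹ * c := by rw [← hzy]; group
      rw [this]
      exact C.mul_mem (C.inv_mem hzC) c.2.1
    have hzN : z ∈ N := by
      rw [← QuotientGroup.eq_one_iff]
      have h1 : (z : G ⧸ N) = x ^ s := by
        rw [← hs, QuotientGroup.mk_pow, c.2.2]
      obtain ⟨k, hk'⟩ := hk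
      have h2 : (z : G ⧸ N) ^ (p ^ k) = 1 := by
        rw [← QuotientGroup.mk_pow, ← hk', pow_orderOf_eq_one]
        rfl
      have h3 : (z : G ⧸ N) ^ f = 1 := by
        rw [h1, ← pow_mul, mul_comm, pow_mul, hfx, one_pow]
      have h4 : Nat.Coprime (p ^ k) f :=
        Nat.Coprime.pow_left k ((Nat.Prime.coprime_iff_not_dvd hp.out).2 hf)
      have h5 := (pow_gcd_eq_one (a := (z : G ⧸ N)) (m := p ^ k) (n := f)).2 ⟨h2, h3⟩
      rwa [h4, pow_one] at h5
    have hzP : z ∈ QQ Q := by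
      have h1 : (⟨z, hzN⟩ : N) ∈ (Q : Subgroup N) := by
        refine mem_sylow_of_commute Q ?_ ?_
        · rw [← Subgroup.orderOf_coe] at *
          simpa using hk
        · intro u hu
          apply Subtype.ext
          have := hmemC.1 hzC (u : G) ⟨u, hu, rfl⟩
          exact this.symm
      exact ⟨⟨z, hzN⟩, h1, rfl⟩
    have hyx : (y : G ⧸ N) = x := by
      have h3 : ((z : G) : G ⧸ N) = 1 := (QuotientGroup.eq_one_iff _).2 hzN
      have h4 : ((c : G) : G ⧸ N) = x := c.2.2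
      rw [← hzy, QuotientGroup.mk_mul, h3, one_mul] at h4
      exact h4
    refine ⟨(⟨y, hyx, hy, hyC⟩, ⟨z, hzP, hzC⟩), ?_⟩
    apply Subtype.ext
    show y * z = c
    rw [← hzy, hcz.eq]
  rw [← Nat.card_prod]
  exact (Nat.card_congr (Equiv.ofBijective F ⟨hinj, hsurj⟩)).symm

lemma card_CC_eq' (Q : Subgroup G) {r : G} (hr : r ∈ Subgroup.centralizer (Q : Set G)) :
    Nat.card (CC N Q (r : G ⧸ N)) = Nat.card (CC N Q 1) := by
  symm
  refine Nat.card_congr
    { toFun := fun c => ⟨r * c, Subgroup.mul_mem _ hr c.2.1, ?_⟩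
      invFun := fun c => ⟨r⁻¹ * c, Subgroup.mul_mem _ (Subgroup.inv_mem _ hr) c.2.1, ?_⟩
      left_inv := fun c => Subtype.ext (by simp)
      right_inv := fun c => Subtype.ext (by simp) }
  · rw [QuotientGroup.mk_mul, c.2.2, mul_one]
  · rw [QuotientGroup.mk_mul, c.2.2, QuotientGroup.mk_inv, inv_mul_cancel]

lemma not_dvd_card_FF_one (Q : Subgroup G) : ¬ p ∣ Nat.card (FF p N Q 1) := by
  have h := not_dvd_card_regular (G := (N ⊓ Subgroup.centralizer (Q : Set G) : Subgroup G)) p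
  have he : {y : (N ⊓ Subgroup.centralizer (Q : Set G) : Subgroup G) // ¬ p ∣ orderOf y} ≃ FF p N Q 1 :=
    { toFun := fun y => ⟨(y.1 : G), (QuotientGroup.eq_one_iff _).2 y.1.2.1,
        by rw [Subgroup.orderOf_coe]; exact y.2, y.1.2.2⟩
      invFun := fun y => ⟨⟨y.1, (QuotientGroup.eq_one_iff _).1 y.2.1, y.2.2.2⟩, by
        rw [← Subgroup.orderOf_coe]; exact y.2.2.1⟩
      left_inv := fun y => rfl
      right_inv := fun y => rfl }
  rwa [Nat.card_congr he] at h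

lemma normal_sup_centralizer (Q : Sylow p N) :
    (N ⊔ Subgroup.centralizer (QQ Q : Set G)).Normal := by
  rw [← Subgroup.normalizer_eq_top_iff, eq_top_iff, ← Sylow.normalizer_sup_eq_top Q]
  refine sup_le ?_ (le_sup_left.trans Subgroup.le_normalizer)
  intro w hw
  rw [Subgroup.mem_normalizer_iff]
  have hkey : ∀ w : G, w ∈ Subgroup.normalizer (QQ Q : Set G) → ∀ h ∈ N ⊔ Subgroup.centralizer (QQ Q : Set G),
      w * h * w⁻¹ ∈ N ⊔ Subgroup.centralizer (QQ Q : Set G) := by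
    intro w hw h hh
    obtain ⟨n, hn, c, hc, rfl⟩ := Subgroup.mem_sup_of_normal_left.1 hh
    have h1 : w * (n * c) * w⁻¹ = (w * n * w⁻¹) * (w * c * w⁻¹) := by group
    rw [h1]
    refine Subgroup.mul_mem _ (Subgroup.mem_sup_left (hN.conj_mem n hn w)) (Subgroup.mem_sup_right ?_)
    rw [Subgroup.mem_centralizer_iff] at hc ⊢
    intro q hq
    have hq' : w⁻¹ * q * w ∈ QQ Q := by
      have h2 := (Subgroup.mem_normalizer_iff.1 (Subgroup.inv_mem _ hw) q).1 hq
      simpa using h2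
    have h3 := hc _ hq'
    calc q * (w * c * w⁻¹) = w * ((w⁻¹ * q * w) * c) * w⁻¹ := by group
      _ = w * (c * (w⁻¹ * q * w)) * w⁻¹ := by rw [h3]
      _ = _ := by group
  intro h
  refine ⟨hkey w hw h, fun h1 => ?_⟩
  have h2 := hkey w⁻¹ (Subgroup.inv_mem _ hw) _ h1
  simpa [mul_assoc] using h2

lemma mem_sup_of_regular (Q : Sylow p N) {a : ℕ}
    (hidx : (N ⊔ Subgroup.centralizer (QQ Q : Set G)).index = p ^ a) {y : G} (hy : ¬ p ∣ orderOf y) :
    y ∈ N ⊔ Subgroup.centralizer (QQ Q : Set G) := by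
  haveI := normal_sup_centralizer Q
  have h1 : y ^ (N ⊔ Subgroup.centralizer (QQ Q : Set G)).index ∈ N ⊔ Subgroup.centralizer (QQ Q : Set G) :=
    Subgroup.pow_index_mem _ y
  rw [hidx] at h1
  have hcop : Nat.Coprime (p ^ a) (orderOf y) :=
    Nat.Coprime.pow_left a ((Nat.Prime.coprime_iff_not_dvd hp.out).2 hy)
  obtain ⟨m, hm⟩ := exists_pow_eq_self_of_coprime hcop
  rw [← hm]
  exact Subgroup.pow_mem _ h1 m

/-- The main counting lemma. -/
theorem not_dvd_cnt (Q : Sylow p N) {a : ℕ}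
    (hidx : (N ⊔ Subgroup.centralizer (QQ Q : Set G)).index = p ^ a) {y : G} (hy : ¬ p ∣ orderOf y) :
    ¬ p ∣ cnt p N (y : G ⧸ N) := by
  obtain ⟨n, hn, c, hc, rfl⟩ := Subgroup.mem_sup_of_normal_left.1 (mem_sup_of_regular Q hidx hy)
  set x : G ⧸ N := ((n * c : G) : G ⧸ N) with hx
  have hxc : x = (c : G ⧸ N) := by
    rw [hx, QuotientGroup.mk_mul, (QuotientGroup.eq_one_iff n).2 hn, one_mul]
  have hf : x ^ orderOf (n * c) = 1 := by
    rw [hx, ← QuotientGroup.mk_pow, pow_orderOf_eq_one]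
    rfl
  have hZ : 0 < Nat.card (QQ Q ⊓ Subgroup.centralizer (QQ Q : Set G) : Subgroup G) := Nat.card_pos
  have h1 := card_CC' Q x hy hf
  have h2 := card_CC' Q (1 : G ⧸ N) (f := 1) (by simpa using hp.out.one_lt.ne') (by simp)
  have h3 : Nat.card (CC N (QQ Q) x) = Nat.card (CC N (QQ Q) 1) := by
    rw [hxc]
    exact card_CC_eq' _ hc
  rw [h3, h2] at h1
  have h4 := Nat.eq_of_mul_eq_mul_right hZ h1
  have h5 := cnt_modEq_FF' (N := N) (QQ Q) (qq_isP Q) (qq_le Q) x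
  rw [← h4] at h5
  intro hd
  exact not_dvd_card_FF_one (N := N) (QQ Q) (Nat.modEq_zero_iff_dvd.1
    (h5.symm.trans (Nat.modEq_zero_iff_dvd.2 hd)))

/-- Cosets without regular elements have count zero. -/
lemma cnt_eq_zero_of {x : G ⧸ N} (hx : ∀ y : G, (y : G ⧸ N) = x → p ∣ orderOf y) : cnt p N x = 0 := by
  have : IsEmpty {y : G // (y : G ⧸ N) = x ∧ ¬ p ∣ orderOf y} := ⟨fun y => y.2.2 (hx y.1 y.2.1)⟩
  exact Nat.card_of_isEmpty

/-- The quotient by a normal subgroup containing the regular elements has `p`-power index. -/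
lemma index_eq_pow_of_regular (J : Subgroup G) [J.Normal] (hJ : ∀ y : G, ¬ p ∣ orderOf y → y ∈ J) :
    ∃ a : ℕ, J.index = p ^ a := by
  have hP : IsPGroup p (G ⧸ J) := by
    intro z
    obtain ⟨y, rfl⟩ := QuotientGroup.mk_surjective z
    have hne : orderOf y ≠ 0 := (orderOf_pos y).ne'
    obtain ⟨c, m, hm, hcm⟩ := Nat.exists_eq_pow_mul_and_not_dvd hne p hp.out.ne_one
    refine ⟨c, ?_⟩
    rw [← QuotientGroup.mk_pow, QuotientGroup.eq_one_iff]
    refine hJ _ fun hd => hm ?_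
    have h1 : orderOf (y ^ (p ^ c)) = m := by
      rw [orderOf_pow' y (pow_ne_zero _ hp.out.ne_zero), hcm]
      rw [Nat.gcd_eq_right (Nat.dvd_mul_right _ _)]
      exact Nat.mul_div_cancel_left _ (pow_pos hp.out.pos _)
    rwa [h1] at hd
  obtain ⟨a, ha⟩ := IsPGroup.iff_card.1 hP
  exact ⟨a, by rw [Subgroup.index_eq_card]; exact ha⟩

end Count

section SumLemma

variable {G : Type u} [Group G] [Fintype G] {N : Subgroup G} [hN : N.Normal] [Fintype N] {M : Ideal AlgInt}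
  [hMp : M.IsPrime] {d : ℕ} (ρ : Representation ℂ N (Fin d → ℂ)) [hρ : ρ.IsIrreducible]
  {p : ℕ} [hp : Fact p.Prime]

open Classical in
/-- On a coset with the regular elements having prime-to-`p` count, a good pair computes the sum of traces. -/
lemma coset_sum_congr (hM : IsPModular p M) (x : G ⧸ N) (T : G → (EE d)ˣ)
    (hreg : ∀ y : G, (y : G ⧸ N) = x → ¬ p ∣ orderOf y → IsGood M ρ (y, T y) ∧ ¬ p ∣ cnt p N x ∧
      ∀ y' : G, (y' : G ⧸ N) = x → ¬ p ∣ orderOf y' → ∀ h : y' * y⁻¹ ∈ N,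
        ((T y' : (EE d)ˣ) : EE d) = ρ ⟨y' * y⁻¹, h⟩ * ((T y : (EE d)ˣ) : EE d)) :
    MemLocalIdeal M ((∑ y : G, if (y : G ⧸ N) = x ∧ ¬ p ∣ orderOf y then
        LinearMap.trace ℂ (Fin d → ℂ) ((T y : (EE d)ˣ) : EE d) else 0) / d - cnt p N x) := by
  classical
  by_cases hx : ∃ y : G, (y : G ⧸ N) = x ∧ ¬ p ∣ orderOf y
  · obtain ⟨y₀, hy₀, hy₀r⟩ := hx
    obtain ⟨hgood, hcnt, hcons⟩ := hreg y₀ hy₀ hy₀r
    have h1 := hgood.cong (cT p N x) (by simp only [hy₀]; exact amm_cT hM hcnt)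
    rw [aug_cT] at h1
    have h2 : sc ρ (cT p N x) (y₀, T y₀) = (∑ y : G, if (y : G ⧸ N) = x ∧ ¬ p ∣ orderOf y then
        LinearMap.trace ℂ (Fin d → ℂ) ((T y : (EE d)ˣ) : EE d) else 0) / d := by
      rw [sc, op, map_sum]
      congr 1
      refine Finset.sum_congr rfl fun y _ => ?_
      rw [map_smul, coeff_cT]
      by_cases hy : (y : G ⧸ N) = x
      · by_cases hyr : p ∣ orderOf y
        · rw [if_pos hy, reg_of_dvd _ hyr]
          simp [hyr]
        · rw [if_pos hy, reg_of_not_dvd _ hyr, if_pos ⟨hy, hyr⟩, one_smul]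
          have hm : y * y₀⁻¹ ∈ N := mk_eq_iff.1 (by rw [hy, hy₀])
          rw [lam_of_mem ρ (P := (y₀, T y₀)) hm, hcons y hy hyr hm]
      · rw [if_neg hy, if_neg (fun h => hy h.1), zero_smul]
    rwa [h2] at h1
  · have hall : ∀ y : G, (y : G ⧸ N) = x → p ∣ orderOf y := by
      intro y hy
      by_contra h
      exact hx ⟨y, hy, h⟩
    rw [cnt_eq_zero_of hall]
    have h3 : (∑ y : G, if (y : G ⧸ N) = x ∧ ¬ p ∣ orderOf y then
        LinearMap.trace ℂ (Fin d → ℂ) ((T y : (EE d)ˣ) : EE d) else 0) = 0 := by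
      refine Finset.sum_eq_zero fun y _ => ?_
      rw [if_neg]
      rintro ⟨h4, h5⟩
      exact h5 (hall y h4)
    rw [h3]
    simpa using memLocalIdeal_zero

open Classical in
lemma sum_fiber (J' : Subgroup G) (hNJ : N ≤ J') (f : G → ℂ) :
    (∑ y : G, if y ∈ J' ∧ ¬ p ∣ orderOf y then f y else 0) =
      ∑ x : G ⧸ N, if x ∈ J'.map (QuotientGroup.mk' N) then
        (∑ y : G, if (y : G ⧸ N) = x ∧ ¬ p ∣ orderOf y then f y else 0) else 0 := by
  have h1 : ∀ x : G ⧸ N, (if x ∈ J'.map (QuotientGroup.mk' N) then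
        (∑ y : G, if (y : G ⧸ N) = x ∧ ¬ p ∣ orderOf y then f y else 0) else 0) =
      ∑ y : G, if x ∈ J'.map (QuotientGroup.mk' N) then
        (if (y : G ⧸ N) = x ∧ ¬ p ∣ orderOf y then f y else 0) else 0 := by
    intro x
    split_ifs
    · rfl
    · simp
  simp only [h1]
  rw [Finset.sum_comm]
  refine Finset.sum_congr rfl fun y _ => ?_
  have hmem : (y : G ⧸ N) ∈ J'.map (QuotientGroup.mk' N) ↔ y ∈ J' := by
    constructor
    · rintro ⟨z, hz, hzy⟩
      have h2 : y * z⁻¹ ∈ N := mk_eq_iff.1 hzy.symm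
      have h3 := J'.mul_mem (hNJ h2) hz
      simpa using h3
    · intro h
      exact ⟨y, h, rfl⟩
  rw [Finset.sum_eq_single (y : G ⧸ N)]
  · by_cases hy : y ∈ J'
    · by_cases hr : ¬ p ∣ orderOf y
      · simp [hy, hr, hmem]
      · simp [hy, hr, hmem]
    · simp [hy, hmem]
  · intro x _ hx
    split_ifs with h2 h3
    · exact absurd h3.1.symm hx
    · rfl
    · rfl
  · simp

open Classical in
lemma cnt_eq_sum (x : G ⧸ N) : (cnt p N x : ℂ) =
    ∑ y : G, if (y : G ⧸ N) = x ∧ ¬ p ∣ orderOf y then (1 : ℂ) else 0 := by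
  rw [Finset.sum_boole, cnt, Nat.card_eq_fintype_card, Fintype.card_subtype]

open Classical in
lemma card_reg_eq_sum (J' : Subgroup G) : (Nat.card {y : J' // ¬ p ∣ orderOf y} : ℂ) =
    ∑ y : G, if y ∈ J' ∧ ¬ p ∣ orderOf y then (1 : ℂ) else 0 := by
  rw [Finset.sum_boole, Nat.cast_inj]
  have he : {y : J' // ¬ p ∣ orderOf y} ≃ {y : G // y ∈ J' ∧ ¬ p ∣ orderOf y} :=
    { toFun := fun y => ⟨y.1.1, y.1.2, by rw [Subgroup.orderOf_coe]; exact y.2⟩
      invFun := fun y => ⟨⟨y.1, y.2.1⟩, by rw [← Subgroup.orderOf_coe]; exact y.2.2⟩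
      left_inv := fun y => rfl
      right_inv := fun y => rfl }
  rw [Nat.card_congr he, Nat.card_eq_fintype_card, Fintype.card_subtype]

open Classical in
/-- The regular sum over a subgroup containing `N`. -/
theorem sum_reg_congr (hM : IsPModular p M) (hcnt : ∀ y : G, ¬ p ∣ orderOf y → ¬ p ∣ cnt p N (y : G ⧸ N))
    (J' : Subgroup G) (hNJ : N ≤ J') (T : G → (EE d)ˣ)
    (hgood : ∀ y : G, y ∈ J' → ¬ p ∣ orderOf y → IsGood M ρ (y, T y))
    (hcons : ∀ y y' : G, y ∈ J' → ¬ p ∣ orderOf y → ¬ p ∣ orderOf y' → ∀ h : y' * y⁻¹ ∈ N,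
      ((T y' : (EE d)ˣ) : EE d) = ρ ⟨y' * y⁻¹, h⟩ * ((T y : (EE d)ˣ) : EE d)) :
    MemLocalIdeal M ((∑ y : G, if y ∈ J' ∧ ¬ p ∣ orderOf y then
        LinearMap.trace ℂ (Fin d → ℂ) ((T y : (EE d)ˣ) : EE d) else 0) / d -
      (Nat.card {y : J' // ¬ p ∣ orderOf y} : ℂ)) := by
  rw [card_reg_eq_sum, sum_fiber J' hNJ, sum_fiber J' hNJ, Finset.sum_div, ← Finset.sum_sub_distrib]
  refine memLocalIdeal_sum _ _ fun x _ => ?_
  by_cases hx : x ∈ J'.map (QuotientGroup.mk' N)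
  · rw [if_pos hx, if_pos hx, ← cnt_eq_sum]
    refine coset_sum_congr ρ hM x T fun y hy hr => ?_
    have hyJ : y ∈ J' := by
      obtain ⟨z, hz, hzy⟩ := hx
      have h2 : y * z⁻¹ ∈ N := mk_eq_iff.1 (hy.trans hzy.symm)
      have h3 := J'.mul_mem (hNJ h2) hz
      simpa using h3
    refine ⟨hgood y hyJ hr, ?_, fun y' _ hr' h => hcons y y' hyJ hr hr' h⟩
    rw [← hy]
    exact hcnt y hr
  · rw [if_neg hx, if_neg hx]
    simpa using memLocalIdeal_zero

open Classical in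
lemma sum_reg_mem_principal (hM : IsPModular p M) (K : Type u) [Group K] [Fintype K] (ξ : IrrCharacter K)
    (hsum : MemLocalIdeal M ((∑ y : K, reg p (fun _ => (1 : ℂ)) y * (ξ : K → ℂ) y) / (ξ : K → ℂ) 1 -
      (Nat.card {y : K // ¬ p ∣ orderOf y} : ℂ))) : ξ ∈ principalBlock M K := by
  refine mem_principalBlock_of_not_memLocalIdeal hM ?_
  rw [regT, omega_regElt]
  intro h
  have h1 := memLocalIdeal_sub h hsum
  rw [sub_sub_cancel, memLocalIdeal_natCast_iff hM] at h1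
  exact not_dvd_card_regular (G := K) p h1

open Classical in
/-- Block membership for a subgroup containing `N`. -/
theorem mem_principal_sub (hM : IsPModular p M) (hcnt : ∀ y : G, ¬ p ∣ orderOf y → ¬ p ∣ cnt p N (y : G ⧸ N))
    (J' : Subgroup G) (hNJ : N ≤ J') (T : G → (EE d)ˣ)
    (hgood : ∀ y : G, y ∈ J' → ¬ p ∣ orderOf y → IsGood M ρ (y, T y))
    (hcons : ∀ y y' : G, y ∈ J' → ¬ p ∣ orderOf y → ¬ p ∣ orderOf y' → ∀ h : y' * y⁻¹ ∈ N,
      ((T y' : (EE d)ˣ) : EE d) = ρ ⟨y' * y⁻¹, h⟩ * ((T y : (EE d)ˣ) : EE d))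
    [Fintype J'] (ξ : IrrCharacter J')
    (hval : ∀ y : J', ¬ p ∣ orderOf y → (ξ : J' → ℂ) y = LinearMap.trace ℂ (Fin d → ℂ) ((T y : (EE d)ˣ) : EE d))
    (hone : (ξ : J' → ℂ) 1 = d) : ξ ∈ principalBlock M J' := by
  refine sum_reg_mem_principal hM J' ξ ?_
  have h1 := sum_reg_congr ρ hM hcnt J' hNJ T hgood hcons
  rw [hone]
  have h2 : (∑ y : J', reg p (fun _ => (1 : ℂ)) y * (ξ : J' → ℂ) y) =
      ∑ y : G, if y ∈ J' ∧ ¬ p ∣ orderOf y then
        LinearMap.trace ℂ (Fin d → ℂ) ((T y : (EE d)ˣ) : EE d) else 0 := by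
    refine Fintype.sum_of_injective (fun y : J' => (y : G)) Subtype.val_injective _ _ ?_ ?_
    · intro y hy
      rw [if_neg]
      rintro ⟨h3, -⟩
      exact hy ⟨⟨y, h3⟩, rfl⟩
    · intro y
      by_cases hr : p ∣ orderOf y
      · rw [reg_of_dvd _ hr, zero_mul, if_neg]
        rintro ⟨-, h4⟩
        rw [Subgroup.orderOf_coe] at h4
        exact h4 hr
      · rw [reg_of_not_dvd _ hr, one_mul, hval y hr, if_pos]
        exact ⟨y.2, by rw [Subgroup.orderOf_coe]; exact hr⟩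
  rw [h2]
  exact h1

open Classical in
/-- Block membership for `G`. -/
theorem mem_principal_top (hM : IsPModular p M) (hcnt : ∀ y : G, ¬ p ∣ orderOf y → ¬ p ∣ cnt p N (y : G ⧸ N))
    (T : G → (EE d)ˣ)
    (hgood : ∀ y : G, ¬ p ∣ orderOf y → IsGood M ρ (y, T y))
    (hcons : ∀ y y' : G, ¬ p ∣ orderOf y → ¬ p ∣ orderOf y' → ∀ h : y' * y⁻¹ ∈ N,
      ((T y' : (EE d)ˣ) : EE d) = ρ ⟨y' * y⁻¹, h⟩ * ((T y : (EE d)ˣ) : EE d))
    (χ : IrrCharacter G)
    (hval : ∀ y : G, ¬ p ∣ orderOf y → (χ : G → ℂ) y = LinearMap.trace ℂ (Fin d → ℂ) ((T y : (EE d)ˣ) : EE d))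
    (hone : (χ : G → ℂ) 1 = d) : χ ∈ principalBlock M G := by
  refine sum_reg_mem_principal hM G χ ?_
  have h1 := sum_reg_congr ρ hM hcnt ⊤ le_top T (fun y _ hr => hgood y hr) (fun y y' _ hr hr' h => hcons y y' hr hr' h)
  rw [hone]
  have h2 : (∑ y : G, reg p (fun _ => (1 : ℂ)) y * (χ : G → ℂ) y) =
      ∑ y : G, if y ∈ (⊤ : Subgroup G) ∧ ¬ p ∣ orderOf y then
        LinearMap.trace ℂ (Fin d → ℂ) ((T y : (EE d)ˣ) : EE d) else 0 := by
    refine Finset.sum_congr rfl fun y _ => ?_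
    by_cases hr : p ∣ orderOf y
    · rw [reg_of_dvd _ hr, zero_mul, if_neg]
      rintro ⟨-, h4⟩
      exact h4 hr
    · rw [reg_of_not_dvd _ hr, one_mul, hval y hr, if_pos]
      exact ⟨Subgroup.mem_top y, hr⟩
  have h3 : Nat.card {y : (⊤ : Subgroup G) // ¬ p ∣ orderOf y} = Nat.card {y : G // ¬ p ∣ orderOf y} := by
    refine Nat.card_congr
      { toFun := fun y => ⟨y.1.1, by have := y.2; rwa [← Subgroup.orderOf_coe] at this⟩
        invFun := fun y => ⟨⟨y.1, Subgroup.mem_top _⟩, by rw [← Subgroup.orderOf_coe]; exact y.2⟩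
        left_inv := fun y => rfl
        right_inv := fun y => rfl }
  rw [h2, ← h3]
  exact h1

end SumLemma

section JJ

variable {G : Type u} [Group G] [Fintype G] {N : Subgroup G} [hN : N.Normal] [Fintype N]

/-- The subgroup of elements whose coset carries an element of `Amm`. -/
def JJ (M : Ideal AlgInt) [M.IsPrime] (N : Subgroup G) [N.Normal] [Fintype N] : Subgroup G where
  carrier := {g | ∃ a, Amm M N (g : G ⧸ N) a}
  mul_mem' := by
    rintro x y ⟨a, ha⟩ ⟨b, hb⟩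
    exact ⟨a * b, by rw [QuotientGroup.mk_mul]; exact ha.mul hb⟩
  one_mem' := ⟨1, amm_one⟩
  inv_mem' := by
    rintro x ⟨a, ha⟩
    obtain ⟨c, hc⟩ := ha.exists_inv
    exact ⟨c, by rw [QuotientGroup.mk_inv]; exact hc⟩

variable {M : Ideal AlgInt} [hMp : M.IsPrime]

lemma mem_JJ {g : G} : g ∈ JJ M N ↔ ∃ a, Amm M N (g : G ⧸ N) a := Iff.rfl

lemma le_JJ : N ≤ JJ M N := by
  intro n hn
  refine ⟨1, ?_⟩
  rw [(QuotientGroup.eq_one_iff n).2 hn]
  exact amm_one

instance normal_JJ : (JJ M N).Normal := by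
  refine ⟨fun g hg h => ?_⟩
  obtain ⟨a, ha⟩ := hg
  refine ⟨conjA h a, ?_⟩
  rw [QuotientGroup.mk_mul, QuotientGroup.mk_mul, QuotientGroup.mk_inv]
  exact ha.conj h

lemma mem_JJ_of_cnt {p : ℕ} [Fact p.Prime] (hM : IsPModular p M) {y : G} (h : ¬ p ∣ cnt p N (y : G ⧸ N)) : y ∈ JJ M N :=
  ⟨_, amm_cT hM h⟩

end JJ

section Wrap

variable {X : Type*} [Group X] [Fintype X]

lemma isIrreducible_of_character_eq {d : ℕ} (ρ : Representation ℂ X (Fin d → ℂ)) {χ : X → ℂ}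
    (hχ : IsIrrCharacter X χ) (h : ρ.character = χ) : ρ.IsIrreducible := by
  obtain ⟨m, σ, hσ, rfl⟩ := hχ
  apply Cfsg.Agent.Lib.Char.Galois.isIrreducible_of_norm_one
  rw [h]
  exact Cfsg.Agent.Lib.Char.Galois.norm_one_of_isIrreducible σ

end Wrap

end Cfsg.Agent.Lib.Char.GoodLift
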