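import Mathlib
import Cfsg.Agent.Lib.Char.GoodCount
import Cfsg.Agent.Lib.Char.GalFix

/-!
# The canonical extension of a principal-block representation of degree prime to `p`

If the determinant of `ρ` has order dividing the `p'`-part `e` of `|G|`, the good pairs `(g, T)` with `(det T) ^ e = 1`
form a section over the subgroup `JJ M N`, hence a representation of `JJ M N` extending `ρ`. It is invariant under
everything commuting with the construction: conjugation by `G` and Galois conjugation with `k ≡ 1` modulo `e`.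
-/

set_option autoImplicit false
set_option linter.style.haveILetI false
set_option linter.unusedSectionVars false
set_option linter.unusedVariables false

namespace Cfsg.Agent.Lib.Char.GoodLift

open Cfsg Cfsg.Agent.Lib.Blocks.Local Cfsg.Agent.Lib.Blocks.Central Cfsg.Agent.Lib.Blocks.Regular
  Cfsg.Agent.Lib.Blocks.Principal Cfsg.Agent.Lib.Blocks.Covering Cfsg.Agent.Lib.Blocks.Osima
  Cfsg.Agent.Lib.Blocks.BlockHom Cfsg.Agent.Lib.Char.AlpDade Cfsg.Agent.Lib.Char.DetExt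
  Cfsg.Agent.Lib.Char.Galois Cfsg.Agent.Lib.Char.GalFix

universe u

section Sect

variable {G : Type u} [Group G] [Fintype G] {N : Subgroup G} [hN : N.Normal] [Fintype N] {M : Ideal AlgInt}
  [hMp : M.IsPrime] {d : ℕ} (ρ : Representation ℂ N (Fin d → ℂ)) [hρ : ρ.IsIrreducible]

lemma finrank_eq : Module.finrank ℂ (Fin d → ℂ) = d := by simp

lemma exists_det_one_pair
    (hinv : ∀ (g : G) (n : N), ρ.character ⟨g * n * g⁻¹, hN.conj_mem (n : G) n.2 g⟩ = ρ.character n) (g : G) :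
    ∃ T : (EE d)ˣ, ((g, T) : G × (EE d)ˣ) ∈ Impl ρ ∧ detU T = 1 := by
  obtain ⟨T, h1, h2⟩ := exists_mem_gammaOne N ρ (1 : G →* ℂˣ) hinv g
  refine ⟨T, ?_, h2⟩
  intro n
  have h3 := h1 n
  have h4 : T * MonoidHom.toHomUnits ρ n = MonoidHom.toHomUnits ρ ⟨g * n * g⁻¹, hN.conj_mem n n.2 g⟩ * T := by
    simp only at h3
    rw [← h3]
    group
  exact congrArg Units.val h4

variable {p : ℕ} [hp : Fact p.Prime] (θ : IrrCharacter N) (hρθ : (θ : N → ℂ) = ρ.character)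
  (hθ : θ ∈ principalBlock M N) (hM : IsPModular p M)

include hρθ hθ hM

theorem exists_good_section
    (hinv : ∀ (g : G) (n : N), ρ.character ⟨g * n * g⁻¹, hN.conj_mem (n : G) n.2 g⟩ = ρ.character n)
    {c e : ℕ} (hce : Nat.card G = p ^ c * e) (he : 0 < e) (hd : 0 < d) {g : G} (hg : g ∈ JJ M N) :
    ∃ T : (EE d)ˣ, IsGood M ρ (g, T) ∧ detU T ^ e = 1 := by
  obtain ⟨T₀, hT₀, hdet⟩ := exists_det_one_pair ρ hinv g
  set P₀ : G × (EE d)ˣ := (g, T₀) with hP₀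
  have h1 : (P₀ ^ Nat.card G).1 = 1 := by
    show g ^ Nat.card G = 1
    exact pow_card_eq_one'
  obtain ⟨z, hz⟩ := exists_eq_scalP ρ ((Impl ρ).pow_mem hT₀ _) h1
  have h2 : z ^ d = 1 := by
    have h3 : (P₀ ^ Nat.card G).2 = scalarU z := by rw [hz]; rfl
    have h4 : T₀ ^ Nat.card G = scalarU z := h3
    have h5 := congrArg detU h4
    rw [map_pow, hdet, one_pow, detU_scalarU, finrank_eq] at h5
    exact h5.symm
  have h3 : P₀ ^ (p ^ c * (e * d)) = 1 := by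
    have h4 : p ^ c * (e * d) = Nat.card G * d := by rw [hce]; ring
    rw [h4, pow_mul, hz, ← scalP_pow, h2, scalP_one]
  obtain ⟨ζ, hζ, hgood⟩ := exists_good_scale ρ θ hρθ hθ hM hT₀ hg (c := c) (o' := e * d)
    (Nat.mul_pos he hd) h3
  refine ⟨scalarU ζ⁻¹ * T₀, ?_, ?_⟩
  · have h5 : scalP G ζ⁻¹ * P₀ = (g, scalarU ζ⁻¹ * T₀) := Prod.ext (one_mul g) rfl
    rwa [h5] at hgood
  · rw [map_mul, hdet, mul_one, detU_scalarU, finrank_eq, ← pow_mul, inv_pow, mul_comm d e, hζ, inv_one]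

theorem section_unique {e : ℕ} (he : ¬ p ∣ e) (hd : ¬ p ∣ d) {g : G} {T T' : (EE d)ˣ}
    (h : IsGood M ρ (g, T)) (h' : IsGood M ρ (g, T')) (hT : detU T ^ e = 1) (hT' : detU T' ^ e = 1) : T' = T := by
  obtain ⟨z, hz⟩ := exists_eq_scalP_mul ρ h.mem h'.mem (P := (g, T)) (P' := (g, T')) rfl
  have h1 : IsGood M ρ (scalP G z) := by
    have h2 := IsGood.mul' ρ θ hρθ hθ h' (IsGood.inv' ρ θ hρθ hθ h)
    rwa [hz, mul_inv_cancel_right] at h2
  have h2 : T' = scalarU z * T := congrArg Prod.snd hz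
  have h3 : z ^ (d * e) = 1 := by
    have h4 := congrArg detU h2
    rw [map_mul, detU_scalarU, finrank_eq] at h4
    rw [h4, mul_pow, hT, mul_one, ← pow_mul] at hT'
    exact hT'
  have h4 : ¬ p ∣ d * e := fun h5 => (hp.out.dvd_mul.1 h5).elim hd he
  have h5 := IsGood.scal_eq_one ρ hM h1 h4 h3
  rw [h2, h5]
  simp [scalarU]

/-- The representation of `JJ M N`. -/
theorem exists_rep_J
    (hinv : ∀ (g : G) (n : N), ρ.character ⟨g * n * g⁻¹, hN.conj_mem (n : G) n.2 g⟩ = ρ.character n)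
    {c e : ℕ} (hce : Nat.card G = p ^ c * e) (he : ¬ p ∣ e) (hd : ¬ p ∣ d)
    (hdetN : ∀ n : N, detU (MonoidHom.toHomUnits ρ n) ^ e = 1) :
    ∃ R : JJ M N →* (EE d)ˣ, (∀ g : JJ M N, IsGood M ρ ((g : G), R g) ∧ detU (R g) ^ e = 1) ∧
      ∀ n : N, R ⟨(n : G), le_JJ n.2⟩ = MonoidHom.toHomUnits ρ n := by
  have he0 : 0 < e := Nat.pos_of_ne_zero fun h => he (h ▸ dvd_zero p)
  have hd0 : 0 < d := Nat.pos_of_ne_zero fun h => hd (h ▸ dvd_zero p)
  choose T hT1 hT2 using fun g : JJ M N =>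
    exists_good_section ρ θ hρθ hθ hM hinv hce he0 hd0 g.2
  have hmul : ∀ a b : JJ M N, T (a * b) = T a * T b := by
    intro a b
    have h1 := IsGood.mul' ρ θ hρθ hθ (hT1 a) (hT1 b)
    have h2 : (((a : G), T a) : G × (EE d)ˣ) * ((b : G), T b) = (((a * b : JJ M N) : G), T a * T b) := rfl
    rw [h2] at h1
    refine section_unique ρ θ hρθ hθ hM he hd h1 (hT1 (a * b)) ?_ (hT2 _)
    rw [map_mul, mul_pow, hT2, hT2, one_mul]
  refine ⟨MonoidHom.mk' T hmul, fun g => ⟨hT1 g, hT2 g⟩, fun n => ?_⟩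
  show T ⟨(n : G), le_JJ n.2⟩ = _
  exact section_unique ρ θ hρθ hθ hM he hd (g := (n : G)) (T := MonoidHom.toHomUnits ρ n)
    (isGood_hatN ρ θ hρθ hθ n) (hT1 ⟨(n : G), le_JJ n.2⟩) (hdetN n) (hT2 _)

/-- Invariance under conjugation. -/
theorem rep_J_conj {e : ℕ} (he : ¬ p ∣ e) (hd : ¬ p ∣ d) (R : JJ M N →* (EE d)ˣ)
    (hR : ∀ g : JJ M N, IsGood M ρ ((g : G), R g) ∧ detU (R g) ^ e = 1)
    {h : G} {U : (EE d)ˣ} (hU : ((h, U) : G × (EE d)ˣ) ∈ Impl ρ) (g : JJ M N) :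
    R ⟨h * g * h⁻¹, (normal_JJ (M := M) (N := N)).conj_mem g g.2 h⟩ = U * R g * U⁻¹ := by
  have h1 := IsGood.conj' ρ θ hρθ hθ (hR g).1 hU
  have h2 : ((h, U) : G × (EE d)ˣ) * ((g : G), R g) * (h, U)⁻¹ = (h * g * h⁻¹, U * R g * U⁻¹) := rfl
  rw [h2] at h1
  refine section_unique ρ θ hρθ hθ hM he hd h1 (hR ⟨h * g * h⁻¹, (normal_JJ (M := M) (N := N)).conj_mem g g.2 h⟩).1
    ?_ (hR _).2
  rw [map_mul, map_mul, map_inv, mul_comm (detU U), mul_inv_cancel_right]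
  exact (hR g).2

end Sect

section Tw

variable {G : Type u} [Group G] [Fintype G] {N : Subgroup G} [hN : N.Normal] [Fintype N] {M : Ideal AlgInt}
  [hMp : M.IsPrime] {d : ℕ} (ρ : Representation ℂ N (Fin d → ℂ)) [hρ : ρ.IsIrreducible]

/-- The twist on units. -/
noncomputable def twU (τ : ℂ →+* ℂ) : (EE d)ˣ →* (EE d)ˣ := Units.map (twistEnd τ)

lemma coe_twU (τ : ℂ →+* ℂ) (T : (EE d)ˣ) : ((twU τ T : (EE d)ˣ) : EE d) = twistEnd τ (T : EE d) := rfl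

/-- The Galois conjugate of a pair. -/
noncomputable def alpha (τ : ℂ →+* ℂ) (W : (EE d)ˣ) (P : G × (EE d)ˣ) : G × (EE d)ˣ :=
  (P.1, W * twU τ P.2 * W⁻¹)

variable {τ : ℂ →+* ℂ} {W : (EE d)ˣ}
  (hW : ∀ n : N, (W : EE d) * twistEnd τ (ρ n) = ρ n * (W : EE d))

include hW

lemma alpha_mem {P : G × (EE d)ˣ} (hP : P ∈ Impl ρ) : alpha τ W P ∈ Impl ρ := by
  intro n
  have h1 := hP n
  set n' : N := ⟨P.1 * n * P.1⁻¹, hN.conj_mem n n.2 P.1⟩ with hn'
  have h2 : twistEnd τ (P.2 : EE d) * twistEnd τ (ρ n) = twistEnd τ (ρ n') * twistEnd τ (P.2 : EE d) := by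
    rw [← map_mul, ← map_mul, h1]
  have ha : ((W⁻¹ : (EE d)ˣ) : EE d) * (W : EE d) = 1 := Units.inv_mul W
  have hb : (W : EE d) * ((W⁻¹ : (EE d)ˣ) : EE d) = 1 := Units.mul_inv W
  have h3 : ((W⁻¹ : (EE d)ˣ) : EE d) * ρ n = twistEnd τ (ρ n) * ((W⁻¹ : (EE d)ˣ) : EE d) := by
    calc ((W⁻¹ : (EE d)ˣ) : EE d) * ρ n
        = ((W⁻¹ : (EE d)ˣ) : EE d) * (ρ n * (W : EE d)) * ((W⁻¹ : (EE d)ˣ) : EE d) := by
          rw [mul_assoc, mul_assoc, hb, mul_one]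
      _ = _ := by rw [← hW n, ← mul_assoc, ha, one_mul]
  show ((W * twU τ P.2 * W⁻¹ : (EE d)ˣ) : EE d) * ρ n = ρ n' * ((W * twU τ P.2 * W⁻¹ : (EE d)ˣ) : EE d)
  simp only [Units.val_mul, coe_twU]
  calc (W : EE d) * twistEnd τ (P.2 : EE d) * ((W⁻¹ : (EE d)ˣ) : EE d) * ρ n
      = (W : EE d) * (twistEnd τ (P.2 : EE d) * twistEnd τ (ρ n)) * ((W⁻¹ : (EE d)ˣ) : EE d) := by
        rw [mul_assoc, h3]
        simp only [mul_assoc]
    _ = ((W : EE d) * twistEnd τ (ρ n')) * twistEnd τ (P.2 : EE d) * ((W⁻¹ : (EE d)ˣ) : EE d) := by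
        rw [h2]
        simp only [mul_assoc]
    _ = _ := by
        rw [hW n']
        simp only [mul_assoc]

lemma trace_lam_alpha (P : G × (EE d)ˣ) (y : G) :
    LinearMap.trace ℂ (Fin d → ℂ) (lam ρ (alpha τ W P) y) = τ (LinearMap.trace ℂ (Fin d → ℂ) (lam ρ P y)) := by
  have h0 : (alpha τ W P).1 = P.1 := rfl
  by_cases h : y * P.1⁻¹ ∈ N
  · have h1 : y * (alpha τ W P).1⁻¹ ∈ N := h
    rw [lam_of_mem ρ h1, lam_of_mem ρ h, ← trace_twistEnd]
    have h2 : (⟨y * (alpha τ W P).1⁻¹, h1⟩ : N) = ⟨y * P.1⁻¹, h⟩ := rfl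
    rw [h2]
    have h3 : twistEnd τ (ρ ⟨y * P.1⁻¹, h⟩ * ((P.2 : (EE d)ˣ) : EE d)) =
        twistEnd τ (ρ ⟨y * P.1⁻¹, h⟩) * twistEnd τ ((P.2 : (EE d)ˣ) : EE d) := map_mul (twistEnd τ) _ _
    rw [h3]
    show LinearMap.trace ℂ _ (ρ ⟨y * P.1⁻¹, h⟩ * ((W * twU τ P.2 * W⁻¹ : (EE d)ˣ) : EE d)) = _
    simp only [Units.val_mul, coe_twU]
    rw [← mul_assoc, ← mul_assoc, ← hW]
    have ha : ((W⁻¹ : (EE d)ˣ) : EE d) * (W : EE d) = 1 := Units.inv_mul W
    rw [LinearMap.trace_mul_comm, ← mul_assoc, ← mul_assoc, ha, one_mul]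
  · have h1 : y * (alpha τ W P).1⁻¹ ∉ N := h
    rw [lam_of_notMem ρ h1, lam_of_notMem ρ h]
    simp

lemma sc_alpha (P : G × (EE d)ˣ) {a : MonoidAlgebra ℂ G} (ha : ∀ y, ∃ k : ℕ, a.coeff y = k) :
    sc ρ a (alpha τ W P) = τ (sc ρ a P) := by
  simp only [sc, op, map_sum, map_smul, map_div₀, map_natCast, smul_eq_mul, map_mul]
  congr 1
  refine Finset.sum_congr rfl fun y _ => ?_
  obtain ⟨k, hk⟩ := ha y
  rw [hk, map_natCast, trace_lam_alpha ρ hW]

omit hW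

variable {p : ℕ} [hp : Fact p.Prime] (θ : IrrCharacter N) (hρθ : (θ : N → ℂ) = ρ.character)
  (hθ : θ ∈ principalBlock M N) (hM : IsPModular p M)

include hW hρθ hθ hM

/-- Galois invariance of the canonical representation. -/
theorem rep_J_twist {c e k n : ℕ} (hce : Nat.card G = p ^ c * e) (he : ¬ p ∣ e) (hd : ¬ p ∣ d)
    (hk1 : 1 ≤ k) (hk : e ∣ k - 1) (hn : Nat.card G ∣ n) (hτ : ∀ ε : ℂ, ε ^ n = 1 → τ ε = ε ^ k)
    (R : JJ M N →* (EE d)ˣ)
    (hR : ∀ g : JJ M N, IsGood M ρ ((g : G), R g) ∧ detU (R g) ^ e = 1)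
    (hRN : ∀ n : N, R ⟨(n : G), le_JJ n.2⟩ = MonoidHom.toHomUnits ρ n) (g : JJ M N) :
    W * twU τ (R g) * W⁻¹ = R g := by
  have hcard : 0 < p ^ c * e := by
    rw [← hce]
    exact Nat.card_pos
  have hdinv : MemLocalRing M (d : ℂ)⁻¹ := memLocalRing_inv_natCast hM hd
  set P : G × (EE d)ˣ := ((g : G), R g) with hP
  have hgood := (hR g).1
  have hamem : alpha τ W P ∈ Impl ρ := alpha_mem ρ hW hgood.mem
  obtain ⟨a, ha⟩ := hgood.ex
  have hsub : MemLocalIdeal M (τ (sc ρ a P) - sc ρ a P) := by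
    simp only [sc, op, map_sum, map_smul, map_div₀, map_natCast, smul_eq_mul, map_mul]
    rw [← sub_div, div_eq_mul_inv, ← Finset.sum_sub_distrib]
    refine memLocalIdeal_mul_right (memLocalIdeal_sum _ _ fun y _ => ?_) hdinv
    obtain ⟨l, hl⟩ := ha.nat y
    rw [hl, map_natCast, ← mul_sub]
    refine memLocalIdeal_mul_left (memLocalRing_natCast l) ?_
    by_cases hy : y * (g : G)⁻¹ ∈ N
    · have hyJ : y ∈ JJ M N := by
        have h1 := (JJ M N).mul_mem (le_JJ hy) g.2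
        simpa using h1
      have h1 : lam ρ P y = ((R ⟨y, hyJ⟩ : (EE d)ˣ) : EE d) := by
        rw [lam_of_mem ρ (P := P) hy]
        have h2 := hRN ⟨y * (g : G)⁻¹, hy⟩
        have h3 : (⟨y, hyJ⟩ : JJ M N) = ⟨y * (g : G)⁻¹, le_JJ hy⟩ * g := Subtype.ext (by simp)
        rw [h3, map_mul, Units.val_mul, h2]
        rfl
      rw [h1]
      refine tau_trace_sub hM hcard hk1 hk (hce ▸ hn) hτ _ ?_
      rw [← hce, ← Units.val_pow_eq_pow_val, ← map_pow]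
      have h4 : (⟨y, hyJ⟩ : JJ M N) ^ Nat.card G = 1 :=
        Subtype.ext pow_card_eq_one'
      rw [h4, map_one, Units.val_one]
    · have h1 : y * P.1⁻¹ ∉ N := hy
      rw [lam_of_notMem ρ h1]
      simpa using memLocalIdeal_zero
  have hgoodα : IsGood M ρ (alpha τ W P) := by
    refine isGood_of_witness ρ θ hρθ hθ hamem (a := a) ha ?_
    rw [sc_alpha ρ hW P ha.nat]
    have h3 : MemLocalIdeal M (sc ρ a P - aug a) := hgood.cong a ha
    have h2 := memLocalIdeal_add hsub h3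
    simpa using h2
  have hdetα : detU (W * twU τ (R g) * W⁻¹) ^ e = 1 := by
    rw [map_mul, map_mul, map_inv, mul_comm (detU W), mul_inv_cancel_right]
    have h1 : detU (twU τ (R g)) = Units.map τ.toMonoidHom (detU (R g)) := by
      apply Units.ext
      show LinearMap.det (twistEnd τ ((R g : (EE d)ˣ) : EE d)) = τ (LinearMap.det ((R g : (EE d)ˣ) : EE d))
      exact det_twistEnd τ _
    rw [h1, ← map_pow, (hR g).2, map_one]
  exact section_unique ρ θ hρθ hθ hM he hd hgood hgoodα (hR g).2 hdetα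

end Tw

end Cfsg.Agent.Lib.Char.GoodLift
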