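import Mathlib
import Cfsg.Agent.Lib.Fusion.Tate
import Cfsg.Agent.Lib.Fusion.HyperfocalThm
import Cfsg.Agent.Lib.Fusion.GroupSylow
import Cfsg.Agent.Lib.Transfer.Basic
import Cfsg.Agent.Lib.PGroup.FrattiniBasis
import Cfsg.Agent.Lib.Char.FrobeniusKernel
import Cfsg.Agent.Lib.Char.DegreeDvd
import Cfsg.Agent.Lib.Char.GlaubOver

set_option autoImplicit false

namespace Cfsg.Agent.Lib.Char.NormExt

open Cfsg Cfsg.Agent.Lib.Transfer.Basic
open scoped Pointwise

universe u

section Group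

variable {X : Type u} [Group X] [Finite X] {p : ℕ} [hp : Fact p.Prime]

/-- Tate's theorem for groups. -/
theorem inf_pResidual_eq_bot (S : Sylow p X)
    (h : (S : Subgroup X) ⊓ pResidual p X ≤ (frattini (S : Subgroup X)).map (S : Subgroup X).subtype) :
    (S : Subgroup X) ⊓ pResidual p X = ⊥ := by
  have hyp := Cfsg.Agent.Lib.Fusion.HyperfocalThm.hyperfocal_eq S
  have hF := Cfsg.Agent.Lib.Fusion.GroupSylow.isSaturated_groupFusionSystem S
  have h1 := Cfsg.Agent.Lib.Fusion.Tate.hyperfocal_le_of_le_frattini_sup (K := ⊥) S.isPGroup' hF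
    (by
      intro g _ t ht
      rw [Subgroup.mem_bot] at ht ⊢
      simp [ht]) bot_le (by rw [hyp]; exact h.trans le_sup_left)
  rw [hyp] at h1
  exact le_bot_iff.mp h1

theorem exists_smul_eq_of_le (S T : Sylow p X) {U : Subgroup X} (hS : (S : Subgroup X) ≤ U)
    (hT : (T : Subgroup X) ≤ U) : ∃ u ∈ U, u • S = T := by
  obtain ⟨u, hu⟩ := MulAction.exists_smul_eq U (S.subtype hS) (T.subtype hT)
  refine ⟨u, u.2, ?_⟩
  apply Sylow.ext
  have hle : ((u : X) • S : Sylow p X).toSubgroup ≤ (T : Subgroup X) := by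
    intro y hy
    rw [Sylow.coe_subgroup_smul, Subgroup.mem_pointwise_smul_iff_inv_smul_mem] at hy
    have h1 : ((MulAut.conj (u : X))⁻¹ • y) ∈ (S : Subgroup X) := hy
    have h2 : (MulAut.conj (u : X))⁻¹ • y = (u : X)⁻¹ * y * u := by
      simp [MulAut.smul_def]
    rw [h2] at h1
    have hyU : y ∈ U := by
      have h3 := U.mul_mem (U.mul_mem u.2 (hS h1)) (U.inv_mem u.2)
      have h4 : (u : X) * ((u : X)⁻¹ * y * u) * (u : X)⁻¹ = y := by group
      rwa [h4] at h3
    have h5 : (⟨y, hyU⟩ : U) ∈ (u • S.subtype hS : Sylow p U).toSubgroup := by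
      rw [Sylow.coe_subgroup_smul, Subgroup.mem_pointwise_smul_iff_inv_smul_mem]
      show (MulAut.conj u)⁻¹ • (⟨y, hyU⟩ : U) ∈ (S : Subgroup X).subgroupOf U
      rw [Subgroup.mem_subgroupOf]
      have h6 : (((MulAut.conj u)⁻¹ • (⟨y, hyU⟩ : U) : U) : X) = (u : X)⁻¹ * y * u := by
        simp [MulAut.smul_def]
      rw [h6]
      exact h1
    rw [hu] at h5
    exact h5
  exact ((u • S : Sylow p X).is_maximal' T.isPGroup' hle).symm

/-- Burnside modulo a normal subgroup. -/
theorem inf_pResidual_le (S : Sylow p X) (hself : ∀ x : X, x • S = S → x ∈ (S : Subgroup X))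
    (D : Subgroup X) [hD : D.Normal] (hcomm : ∀ a ∈ (S : Subgroup X), ∀ b ∈ (S : Subgroup X), a * b * a⁻¹ * b⁻¹ ∈ D) :
    (S : Subgroup X) ⊓ pResidual p X ≤ D := by
  let π : X →* X ⧸ D := QuotientGroup.mk' D
  have hπ : Function.Surjective π := QuotientGroup.mk'_surjective D
  let Sb : Sylow p (X ⧸ D) := S.mapSurjective hπ
  have hSb : (Sb : Subgroup (X ⧸ D)) = (S : Subgroup X).map π := Sylow.coe_mapSurjective _ _
  have hker : ∀ x, π x = 1 ↔ x ∈ D := fun x => QuotientGroup.eq_one_iff x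
  have hab : ∀ a ∈ (Sb : Subgroup (X ⧸ D)), ∀ b ∈ (Sb : Subgroup (X ⧸ D)), a * b = b * a := by
    intro a ha b hb
    rw [hSb] at ha hb
    obtain ⟨a, ha, rfl⟩ := ha
    obtain ⟨b, hb, rfl⟩ := hb
    have h1 := (hker _).mpr (hcomm a ha b hb)
    rw [map_mul, map_mul, map_mul, map_inv, map_inv] at h1
    rw [← mul_inv_eq_one]
    rw [mul_inv_rev, ← mul_assoc]
    exact h1
  have hN : Subgroup.normalizer ((Sb : Subgroup (X ⧸ D)) : Set (X ⧸ D)) ≤ Subgroup.centralizer (Sb : Set (X ⧸ D)) := by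
    intro z hz
    obtain ⟨x, rfl⟩ := hπ z
    let U : Subgroup X := (Sb : Subgroup (X ⧸ D)).comap π
    have hSU : (S : Subgroup X) ≤ U := by
      intro s hs
      show π s ∈ (Sb : Subgroup (X ⧸ D))
      rw [hSb]
      exact ⟨s, hs, rfl⟩
    have hTU : ((x • S : Sylow p X) : Subgroup X) ≤ U := by
      intro y hy
      rw [Sylow.coe_subgroup_smul, Subgroup.mem_pointwise_smul_iff_inv_smul_mem] at hy
      have h1 : ((MulAut.conj x)⁻¹ • y) ∈ (S : Subgroup X) := hy
      have h2 : (MulAut.conj x)⁻¹ • y = x⁻¹ * y * x := by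
        simp [MulAut.smul_def]
      rw [h2] at h1
      have h3 := hSU h1
      have h4 := (Subgroup.mem_normalizer_iff.mp hz (π (x⁻¹ * y * x))).mp h3
      show π y ∈ (Sb : Subgroup (X ⧸ D))
      convert h4 using 1
      simp only [map_mul, map_inv]
      group
    obtain ⟨u, hu, huT⟩ := exists_smul_eq_of_le S (x • S) hSU hTU
    have hx : x⁻¹ * u ∈ (S : Subgroup X) := by
      apply hself
      rw [mul_smul, huT, inv_smul_smul]
    have hxU : x ∈ U := by
      have h1 := U.mul_mem hu (U.inv_mem (hSU hx))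
      have h2 : u * (x⁻¹ * u)⁻¹ = x := by group
      rwa [h2] at h1
    have hzS : π x ∈ (Sb : Subgroup (X ⧸ D)) := hxU
    rw [Subgroup.mem_centralizer_iff]
    intro b hb
    exact hab b hb _ hzS
  -- Burnside
  have hcompl := MonoidHom.ker_transferSylow_isComplement' Sb hN
  let M := (MonoidHom.transferSylow Sb hN).ker
  intro y hy
  -- `O^p(X)` maps into `M`
  let f : X →* (Sb : Subgroup (X ⧸ D)) := (MonoidHom.transferSylow Sb hN).comp π
  have hle : pResidual p X ≤ f.ker := pResidual_le_ker Sb.isPGroup' f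
  have h1 : π y ∈ M := hle hy.2
  have h2 : π y ∈ (Sb : Subgroup (X ⧸ D)) := by
    rw [hSb]
    exact ⟨y, hy.1, rfl⟩
  have h3 := hcompl.disjoint
  have h4 : π y = 1 := by
    have := Subgroup.disjoint_def.mp h3 h1 h2
    exact this
  exact (hker y).mp h4

end Group

open Cfsg.Agent.Lib.Char.Basic Cfsg.Agent.Lib.Char.Ortho Cfsg.Agent.Lib.Char.CliffordCorr

/-- Irreducible characters of abelian groups are linear. -/
theorem irr_one_of_comm {A : Type*} [Group A] [Finite A] (hA : ∀ a b : A, a * b = b * a) {ϑ : A → ℂ}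
    (hϑ : IsIrrCharacter A ϑ) : ϑ 1 = 1 := by
  obtain ⟨n, ρ, hρ, rfl⟩ := hϑ
  haveI := hρ
  have h1 := Cfsg.Agent.Lib.Char.Integrality.finrank_dvd_index_center ρ
  have h2 : Subgroup.center A = ⊤ := by
    ext z
    simp only [Subgroup.mem_top, iff_true]
    rw [Subgroup.mem_center_iff]
    intro g
    exact hA g z
  rw [h2, Subgroup.index_top] at h1
  have h3 : Module.finrank ℂ (Fin n → ℂ) = 1 := Nat.dvd_one.mp h1
  simp only [Representation.char_one]
  rw [h3]
  simp

end Cfsg.Agent.Lib.Char.NormExt
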