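import Mathlib
import Cfsg.Agent.Lib.Char.PRegular

/-!
# The indicator of the elements of order prime to `n`, times the `n`-part, is a generalized character
-/

set_option autoImplicit false

namespace Cfsg.Agent.Lib.Char.PiRegular

open Cfsg Cfsg.Agent.Lib.Char.BrauerInd Cfsg.Agent.Lib.Char.Basic Cfsg.Agent.Lib.Char.IndRep
open Cfsg.Agent.Lib.Char.PRegular

universe u

theorem exists_normal_piRegular {E : Type u} [Group E] [Finite E] (r : ℕ) (hr : r.Prime)
    (hE : IsElementary r E) (n : ℕ) (hn : n ≠ 0) :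
    ∃ L : Subgroup E, L.Normal ∧ (∀ e, e ∈ L ↔ Nat.Coprime (orderOf e) n) ∧
      ∀ q : ℕ, q.Prime → q ∣ L.index → q ∣ n := by
  classical
  have hex : ∀ p : n.primeFactors, ∃ L : Subgroup E, L.Normal ∧ ∀ e, e ∈ L ↔ ¬ (p : ℕ) ∣ orderOf e := by
    intro p
    haveI : Fact (p : ℕ).Prime := ⟨Nat.prime_of_mem_primeFactors p.2⟩
    obtain ⟨L, hL, ⟨b, hb⟩, hL2⟩ := exists_normal_pComplement_of_isElementary r (p : ℕ) hr hE
    exact ⟨L, hL, fun e => by
      haveI := hL
      exact mem_iff_not_dvd_orderOf (p : ℕ) L b hb hL2 e⟩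
  choose Lp hLp hLp2 using hex
  let L : Subgroup E := ⨅ p, Lp p
  have hLn : L.Normal := by
    refine ⟨fun x hx g => ?_⟩
    rw [Subgroup.mem_iInf] at hx ⊢
    intro p
    haveI := hLp p
    exact (inferInstance : (Lp p).Normal).conj_mem x (hx p) g
  have hmem : ∀ e, e ∈ L ↔ Nat.Coprime (orderOf e) n := by
    intro e
    rw [Subgroup.mem_iInf]
    constructor
    · intro h
      rw [Nat.coprime_iff_gcd_eq_one] 
      by_contra hne
      obtain ⟨q, hq, hqd⟩ := Nat.exists_prime_and_dvd hne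
      have h1 : q ∣ orderOf e := hqd.trans (Nat.gcd_dvd_left _ _)
      have h2 : q ∣ n := hqd.trans (Nat.gcd_dvd_right _ _)
      have h3 : q ∈ n.primeFactors := Nat.mem_primeFactors.2 ⟨hq, h2, hn⟩
      exact (hLp2 ⟨q, h3⟩ e).1 (h ⟨q, h3⟩) h1
    · intro h p
      rw [hLp2]
      intro h1
      have h2 : (p : ℕ) ∣ n := Nat.dvd_of_mem_primeFactors p.2
      have h3 := Nat.dvd_gcd h1 h2
      rw [h] at h3
      exact (Nat.prime_of_mem_primeFactors p.2).one_lt.ne' (Nat.dvd_one.1 h3)
  refine ⟨L, hLn, hmem, fun q hq hqL => ?_⟩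
  by_contra hqn
  haveI : Fact q.Prime := ⟨hq⟩
  obtain ⟨Q⟩ : Nonempty (Sylow q E) := inferInstance
  have hle : (Q : Subgroup E) ≤ L := by
    intro x hx
    rw [hmem]
    obtain ⟨k, hk⟩ := (IsPGroup.iff_orderOf.1 Q.2) ⟨x, hx⟩
    have hk2 : orderOf x = q ^ k := by
      rw [← Subgroup.orderOf_mk x hx]
      exact hk
    rw [hk2]
    exact Nat.Coprime.pow_left k ((Nat.Prime.coprime_iff_not_dvd hq).2 hqn)
  have h1 : L.index ∣ (Q : Subgroup E).index := Subgroup.index_dvd_of_le hle
  exact Q.not_dvd_index (hqL.trans h1)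

/-- The generalized character attached to the elements of order prime to `n`. -/
theorem isGeneralized_piPart {C : Type u} [Group C] [Finite C] (n d : ℕ) (hn : n ≠ 0)
    (hd : ∀ k : ℕ, k ∣ Nat.card C → (∀ q : ℕ, q.Prime → q ∣ k → q ∣ n) → k ∣ d) :
    IsGeneralizedCharacter C (fun u => if Nat.Coprime (orderOf u) n then (d : ℂ) else 0) := by
  classical
  cases nonempty_fintype C
  refine isGeneralized_of_restrict ?_ ?_
  · intro g h
    have hor : orderOf (h * g * h⁻¹) = orderOf g := by
      rw [← MulAut.conj_apply, MulEquiv.orderOf_eq]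
    simp only [hor]
  · intro E r hr hE
    obtain ⟨L, hLn, hmem, hq⟩ := exists_normal_piRegular r hr hE n hn
    haveI := hLn
    haveI : Fintype E := Fintype.ofFinite _
    have hdvd : L.index ∣ d := by
      refine hd _ ?_ hq
      exact (Subgroup.index_dvd_card L).trans (Subgroup.card_subgroup_dvd_card E)
    obtain ⟨c, hc⟩ := hdvd
    have hf : IsCharacter E (indFun L (fun _ => (1 : ℂ))) := isCharacter_indFun L isCharacter_one
    have heq : (fun e : E => if Nat.Coprime (orderOf (e : C)) n then (d : ℂ) else 0) =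
        (((c : ℤ) : ℂ) • (indFun L (fun _ => (1 : ℂ)))) := by
      funext e
      simp only [Subgroup.orderOf_coe, Pi.smul_apply, indFun_one_normal]
      by_cases he : Nat.Coprime (orderOf e) n
      · have : e ∈ L := (hmem e).2 he
        rw [if_pos he, if_pos this, hc, smul_eq_mul]
        push_cast
        ring
      · have : e ∉ L := fun h => he ((hmem e).1 h)
        rw [if_neg he, if_neg this, smul_zero]
    rw [heq]
    exact Cfsg.Agent.Lib.Char.Virtual.isGeneralized_intCast_smul
      (Cfsg.Agent.Lib.Char.Virtual.isGeneralized_of_isCharacter hf) c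

end Cfsg.Agent.Lib.Char.PiRegular
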