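import Mathlib
import Cfsg.Agent.Lib.Char.Ortho
import Cfsg.Agent.Lib.Char.Galois

/-!
# A linear twist fixing an irreducible character

If `χ` is an irreducible character of `H` of degree `n`, `ν` is a linear character and `χ ν = χ`,
then `ν ^ n = 1`: the twisted representation is equivalent to the original one and comparing
determinants gives the claim.
-/

set_option autoImplicit false

namespace Cfsg.Agent.Lib.Char.TwistDet

open Cfsg Module Cfsg.Agent.Lib.Char.Ortho

variable {H : Type*} [Group H]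

/-- The twist of a representation by a linear character. -/
noncomputable def twistRep {m : ℕ} (ρ : Representation ℂ H (Fin m → ℂ)) (ν : H →* ℂˣ) :
    Representation ℂ H (Fin m → ℂ) where
  toFun a := ((ν a : ℂˣ) : ℂ) • ρ a
  map_one' := by simp
  map_mul' a b := by
    simp only [map_mul, Units.val_mul]
    ext v i
    simp [mul_comm, mul_assoc, smul_smul]

theorem twistRep_apply {m : ℕ} (ρ : Representation ℂ H (Fin m → ℂ)) (ν : H →* ℂˣ) (a : H) :
    twistRep ρ ν a = ((ν a : ℂˣ) : ℂ) • ρ a := rfl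

theorem character_twistRep {m : ℕ} (ρ : Representation ℂ H (Fin m → ℂ)) (ν : H →* ℂˣ) (a : H) :
    (twistRep ρ ν).character a = ((ν a : ℂˣ) : ℂ) * ρ.character a := by
  show LinearMap.trace ℂ _ (twistRep ρ ν a) = _
  rw [twistRep_apply, map_smul, smul_eq_mul]
  rfl

variable [Fintype H]

/-- **The twist lemma**. -/
theorem pow_eq_one_of_twist {χ : H → ℂ} (hχ : IsIrrCharacter H χ) (ν : H →* ℂˣ)
    (h : ∀ a, χ a * ((ν a : ℂˣ) : ℂ) = χ a) {n : ℕ} (hn : χ 1 = n) (a : H) :
    ((ν a : ℂˣ) : ℂ) ^ n = 1 := by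
  obtain ⟨m, ρ, hρ, rfl⟩ := hχ
  have hmn : m = n := by
    rw [Representation.char_one] at hn
    simp only [Module.finrank_fin_fun] at hn
    exact_mod_cast hn
  subst hmn
  have := hρ
  have hchar : (twistRep ρ ν).character = ρ.character := by
    funext a
    rw [character_twistRep, mul_comm, h a]
  have hirr : (twistRep ρ ν).IsIrreducible := by
    apply Cfsg.Agent.Lib.Char.Galois.isIrreducible_of_norm_one
    rw [hchar]
    exact Cfsg.Agent.Lib.Char.Galois.norm_one_of_isIrreducible ρ
  obtain ⟨e⟩ := equiv_of_character_eq_of_irr ρ (twistRep ρ ν) hchar.symm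
  have hcomm : ∀ v, e.toLinearEquiv (ρ a v) = twistRep ρ ν a (e.toLinearEquiv v) := by
    intro v
    exact congrFun (congrArg DFunLike.coe (e.isIntertwining' a)) v
  have hconj : (twistRep ρ ν a) =
      (e.toLinearEquiv : (Fin m → ℂ) →ₗ[ℂ] (Fin m → ℂ)) ∘ₗ ρ a ∘ₗ
        (e.toLinearEquiv.symm : (Fin m → ℂ) →ₗ[ℂ] (Fin m → ℂ)) := by
    refine LinearMap.ext fun v => ?_
    simp only [LinearMap.comp_apply]
    have h3 := hcomm (e.toLinearEquiv.symm v)
    rw [LinearEquiv.apply_symm_apply] at h3
    exact h3.symm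
  have hdet : LinearMap.det (twistRep ρ ν a) = LinearMap.det (ρ a) := by
    rw [hconj]
    exact LinearMap.det_conj _ _
  rw [twistRep_apply, LinearMap.det_smul, Module.finrank_fin_fun] at hdet
  have hunit : LinearMap.det (ρ a) ≠ 0 := by
    have h1 : ρ a * ρ a⁻¹ = 1 := by rw [← map_mul, mul_inv_cancel, map_one]
    have h2 := congrArg LinearMap.det h1
    rw [map_mul, map_one] at h2
    exact left_ne_zero_of_mul_eq_one h2
  exact mul_right_cancel₀ hunit (by rw [hdet, one_mul])

end Cfsg.Agent.Lib.Char.TwistDet
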