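import Mathlib
import Cfsg.Agent.Lib.Char.TwistDet
import Cfsg.Agent.Lib.Char.IndNormal
import Cfsg.Agent.Lib.Char.LinearChars
import Cfsg.Agent.Lib.Char.IndRep
import Cfsg.Agent.Lib.Char.Values

/-!
# Characters and normal subgroups of prime index

* `exists_hom_of_prime_index`: a linear character with kernel `A`, `|G : A|` prime.
* `isIrr_mul_hom`: a linear twist of an irreducible character is irreducible.
* `isIrr_res_of_prime_index`: `χ_A` is irreducible when `|G : A|` is prime and does not divide `χ(1)`.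
* `isIrr_indFun_of_not_invariant`: a noninvariant irreducible character of `A` induces irreducibly.
-/

set_option autoImplicit false

namespace Cfsg.Agent.Lib.Char.PrimeIndex

open Cfsg Module Cfsg.Agent.Lib.Char.Basic Cfsg.Agent.Lib.Char.Ortho Cfsg.Agent.Lib.Char.Induced
  Cfsg.Agent.Lib.Char.IndRep Cfsg.Agent.Lib.Char.LinearChars
open scoped ComplexConjugate

universe u

variable {G : Type u} [Group G]

/-- A linear character with kernel a given normal subgroup of prime index. -/
theorem exists_hom_of_prime_index [Finite G] (A : Subgroup G) [hA : A.Normal] (hf : A.index.Prime) :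
    ∃ l : G →* ℂˣ, (∀ g, ((l g : ℂˣ) : ℂ) ^ A.index = 1) ∧ (∀ g ∈ A, l g = 1) ∧
      ∀ g, g ∉ A → ((l g : ℂˣ) : ℂ) ≠ 1 := by
  classical
  have hcard : Nat.card (G ⧸ A) = A.index := rfl
  have : Fact (Nat.card (G ⧸ A)).Prime := ⟨hf⟩
  have hcyc : IsCyclic (G ⧸ A) := isCyclic_of_prime_card rfl
  let _ : CommGroup (G ⧸ A) := IsCyclic.commGroup
  obtain ⟨y, hy⟩ : ∃ y : G ⧸ A, y ≠ 1 := by
    have : Nontrivial (G ⧸ A) := Finite.one_lt_card_iff_nontrivial.mp hf.one_lt
    exact exists_ne 1
  obtain ⟨φ, hφ⟩ := CommGroup.exists_apply_ne_one_of_hasEnoughRootsOfUnity (G ⧸ A) ℂ hy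
  have hker : φ.ker = ⊥ := by
    rcases Subgroup.eq_bot_or_eq_top_of_prime_card φ.ker with h | h
    · exact h
    · exfalso
      apply hφ
      have : y ∈ φ.ker := by rw [h]; trivial
      exact_mod_cast this
  have hinj : Function.Injective φ := (MonoidHom.ker_eq_bot_iff φ).1 hker
  refine ⟨φ.comp (QuotientGroup.mk' A), ?_, ?_, ?_⟩
  · intro g
    have h1 : ((g : G ⧸ A)) ^ A.index = 1 := by
      rw [← hcard]
      exact pow_card_eq_one'
    have h2 : φ ((g : G ⧸ A)) ^ A.index = 1 := by rw [← map_pow, h1, map_one]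
    have h3 := congrArg (fun u : ℂˣ => (u : ℂ)) h2
    simpa using h3
  · intro g hg
    have : ((g : G ⧸ A)) = 1 := (QuotientGroup.eq_one_iff g).2 hg
    simp [this]
  · intro g hg h1
    have h2 : φ ((g : G ⧸ A)) = 1 := Units.ext h1
    have h3 : ((g : G ⧸ A)) = 1 := hinj (by rw [h2, map_one])
    exact hg ((QuotientGroup.eq_one_iff g).1 h3)

theorem norm_hom_eq_one [Finite G] (l : G →* ℂˣ) (g : G) : ‖((l g : ℂˣ) : ℂ)‖ = 1 := by
  have h0 : (l g) ^ orderOf g = 1 := by rw [← map_pow, pow_orderOf_eq_one, map_one]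
  have h1 : ((l g : ℂˣ) : ℂ) ^ orderOf g = 1 := by
    have := congrArg (fun u : ℂˣ => (u : ℂ)) h0
    simpa using this
  exact Complex.norm_eq_one_of_pow_eq_one h1 (orderOf_pos g).ne'

theorem mul_conj_hom [Finite G] (l : G →* ℂˣ) (g : G) :
    ((l g : ℂˣ) : ℂ) * conj ((l g : ℂˣ) : ℂ) = 1 := by
  rw [Complex.mul_conj, Complex.normSq_eq_norm_sq, norm_hom_eq_one]
  simp

/-- A linear twist of an irreducible character is irreducible. -/
theorem isIrr_mul_hom [Fintype G] {χ : G → ℂ} (hχ : IsIrrCharacter G χ) (l : G →* ℂˣ) :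
    IsIrrCharacter G (fun g => χ g * ((l g : ℂˣ) : ℂ)) := by
  have hc : IsCharacter G (fun g => χ g * ((l g : ℂˣ) : ℂ)) :=
    isCharacter_mul (isCharacter_of_isIrrCharacter hχ)
      (isCharacter_of_isIrrCharacter (isIrr_of_hom l))
  apply isIrrCharacter_of_classInner_self_eq_one hc
  have h1 := classInner_irr_self hχ
  rw [← h1]
  simp only [classInner]
  congr 1
  refine Finset.sum_congr rfl fun g _ => ?_
  rw [map_mul]
  have := mul_conj_hom l g
  calc χ g * ((l g : ℂˣ) : ℂ) * (conj (χ g) * conj ((l g : ℂˣ) : ℂ))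
      = χ g * conj (χ g) * (((l g : ℂˣ) : ℂ) * conj ((l g : ℂˣ) : ℂ)) := by ring
    _ = _ := by rw [this, mul_one]

/-- **Restriction to a normal subgroup of prime index.** -/
theorem isIrr_res_of_prime_index [Fintype G] (A : Subgroup G) [hA : A.Normal] [Fintype A]
    (hf : A.index.Prime) {χ : G → ℂ} (hχ : IsIrrCharacter G χ) {n : ℕ} (hn : χ 1 = n)
    (hnd : ¬ A.index ∣ n) : IsIrrCharacter A (fun a : A => χ a) := by
  classical
  have hres := isCharacter_restrict (isCharacter_of_isIrrCharacter hχ) A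
  apply isIrrCharacter_of_classInner_self_eq_one hres
  obtain ⟨l, hl1, hl2, hl3⟩ := exists_hom_of_prime_index A hf
  set f := A.index with hfdef
  have hfpos : 0 < f := hf.pos
  -- the geometric sum
  have hS : ∀ g : G, ∑ j ∈ Finset.range f, ((l g : ℂˣ) : ℂ) ^ j = if g ∈ A then (f : ℂ) else 0 := by
    intro g
    split_ifs with hg
    · rw [hl2 g hg]
      simp
    · have h1 := hl3 g hg
      have h2 := geom_sum_mul ((l g : ℂˣ) : ℂ) f
      rw [hl1 g] at h2
      simp only [sub_self] at h2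
      exact (mul_eq_zero.mp h2).resolve_right (sub_ne_zero.mpr h1)
  -- the twists
  let T : ℕ → G → ℂ := fun j g => χ g * (((l ^ j) g : ℂˣ) : ℂ)
  have hTcoe : ∀ j g, T j g = χ g * ((l g : ℂˣ) : ℂ) ^ j := by
    intro j g
    simp [T]
  have hTirr : ∀ j, IsIrrCharacter G (T j) := fun j => isIrr_mul_hom hχ (l ^ j)
  have hsum : classInner (fun a : A => χ a) (fun a : A => χ a)
      = ∑ j ∈ Finset.range f, classInner (T j) χ := by
    have hG : (Nat.card G : ℂ) = f * Nat.card A := by
      have := Subgroup.index_mul_card A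
      rw [← hfdef] at this
      rw [← this]
      push_cast
      ring
    have hAne : (Nat.card A : ℂ) ≠ 0 := Nat.cast_ne_zero.mpr Nat.card_pos.ne'
    have hfne : (f : ℂ) ≠ 0 := Nat.cast_ne_zero.mpr hfpos.ne'
    simp only [classInner, hTcoe]
    rw [← Finset.mul_sum]
    rw [Finset.sum_comm]
    have h1 : ∀ g : G, ∑ j ∈ Finset.range f, χ g * ((l g : ℂˣ) : ℂ) ^ j * conj (χ g)
        = (if g ∈ A then (f : ℂ) else 0) * (χ g * conj (χ g)) := by
      intro g
      rw [← hS g, Finset.sum_mul]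
      refine Finset.sum_congr rfl fun j _ => ?_
      ring
    rw [Finset.sum_congr rfl (fun g _ => h1 g)]
    have h2 : ∑ g : G, (if g ∈ A then (f : ℂ) else 0) * (χ g * conj (χ g))
        = f * ∑ a : A, χ a * conj (χ a) := by
      rw [Finset.mul_sum]
      have h3 : ∀ g : G, (if g ∈ A then (f : ℂ) else 0) * (χ g * conj (χ g))
          = if g ∈ A then (f : ℂ) * (χ g * conj (χ g)) else 0 := by
        intro g; split_ifs <;> simp
      rw [Finset.sum_congr rfl (fun g _ => h3 g), ← Finset.sum_filter]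
      refine Finset.sum_bij' (fun g hg => ⟨g, (Finset.mem_filter.mp hg).2⟩) (fun a _ => (a : G))
        ?_ ?_ ?_ ?_ ?_
      · intros; exact Finset.mem_univ _
      · intro a _; simp
      · intros; rfl
      · intros; rfl
      · intros; rfl
    rw [h2, hG]
    field_simp
  rw [hsum]
  -- all nontrivial twists differ from `χ`
  have hne : ∀ j ∈ Finset.range f, j ≠ 0 → classInner (T j) χ = 0 := by
    intro j hj hj0
    apply classInner_irr_of_ne (hTirr j) hχ
    intro heq
    have hfix : ∀ g, χ g * (((l ^ j) g : ℂˣ) : ℂ) = χ g := fun g => congrFun heq g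
    obtain ⟨g, hg⟩ : ∃ g, g ∉ A := by
      by_contra hcon
      push Not at hcon
      have : A = ⊤ := (Subgroup.eq_top_iff' A).2 hcon
      rw [hfdef, this, Subgroup.index_top] at hf
      exact Nat.not_prime_one hf
    have h1 := Cfsg.Agent.Lib.Char.TwistDet.pow_eq_one_of_twist hχ (l ^ j) hfix hn g
    have hord : orderOf ((l g : ℂˣ) : ℂ) = f := by
      have : Fact f.Prime := ⟨hf⟩
      exact orderOf_eq_prime (hl1 g) (hl3 g hg)
    have h2 : ((l g : ℂˣ) : ℂ) ^ (j * n) = 1 := by
      rw [pow_mul]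
      simpa using h1
    have h3 : f ∣ j * n := by
      rw [← hord]
      exact orderOf_dvd_of_pow_eq_one h2
    rcases (Nat.Prime.dvd_mul hf).1 h3 with h4 | h4
    · exact hj0 (Nat.eq_zero_of_dvd_of_lt h4 (Finset.mem_range.mp hj))
    · exact hnd h4
  rw [Finset.sum_eq_single_of_mem 0 (Finset.mem_range.mpr hfpos) (fun j hj hj0 => hne j hj hj0)]
  have hT0 : T 0 = χ := by
    funext g
    simp [T]
  rw [hT0]
  exact classInner_irr_self hχ

/-- **Induction from a normal subgroup of prime index.** -/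
theorem isIrr_indFun_of_not_invariant [Fintype G] (A : Subgroup G) [hA : A.Normal]
    [Fintype A] (hf : A.index.Prime) {Ψ : A → ℂ} (hΨ : IsIrrCharacter A Ψ)
    (hni : ∃ (g : G) (a : A), Ψ ⟨g * a * g⁻¹, hA.conj_mem a a.2 g⟩ ≠ Ψ a) :
    IsIrrCharacter G (indFun A Ψ) := by
  classical
  have hc : IsCharacter G (indFun A Ψ) := isCharacter_indFun A (isCharacter_of_isIrrCharacter hΨ)
  apply isIrrCharacter_of_classInner_self_eq_one hc
  have h1 := Cfsg.Agent.Lib.Char.IndNormal.natCard_mul_classInner_indFun_normal A Ψ hΨ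
  have hΨcl := isClassFunction_of_isCharacter (isCharacter_of_isIrrCharacter hΨ)
  -- the stabilizer
  let St : Subgroup G :=
    { carrier := {g | ∀ h : A, Ψ ⟨g * h * g⁻¹, hA.conj_mem h h.2 g⟩ = Ψ h}
      one_mem' := by
        intro h
        congr 1
        apply Subtype.ext
        simp
      mul_mem' := by
        intro a b ha hb h
        have h2 := ha ⟨b * h * b⁻¹, hA.conj_mem h h.2 b⟩
        rw [← hb h, ← h2]
        congr 1
        apply Subtype.ext
        simp [mul_assoc]
      inv_mem' := by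
        intro a ha h
        have h2 := ha ⟨a⁻¹ * h * a⁻¹⁻¹, hA.conj_mem h h.2 a⁻¹⟩
        have h3 : Ψ ⟨a * ((⟨a⁻¹ * h * a⁻¹⁻¹, hA.conj_mem h h.2 a⁻¹⟩ : A) : G) * a⁻¹,
            hA.conj_mem _ (hA.conj_mem h h.2 a⁻¹) a⟩ = Ψ h := by
          congr 1
          apply Subtype.ext
          simp [mul_assoc]
        rw [← h2, h3] }
  have hAS : A ≤ St := by
    intro a ha h
    have := hΨcl h ⟨a, ha⟩
    rw [← this]
    rfl
  have hSne : St ≠ ⊤ := by
    intro h
    obtain ⟨g, a, hga⟩ := hni
    have : g ∈ St := by rw [h]; trivial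
    exact hga (this a)
  have hSA : St = A := by
    have hdvd := Subgroup.index_dvd_of_le hAS
    rcases (Nat.dvd_prime hf).1 hdvd with h2 | h2
    · exact absurd (Subgroup.index_eq_one.mp h2) hSne
    · have hcardS : Nat.card St = Nat.card A := by
        have h3 := Subgroup.index_mul_card A
        have h4 := Subgroup.index_mul_card St
        rw [h2] at h4
        have := h3.trans h4.symm
        exact (Nat.eq_of_mul_eq_mul_left hf.pos this).symm
      exact (Subgroup.eq_of_le_of_card_ge hAS (le_of_eq hcardS)).symm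
  have hcard : Nat.card {g : G // ∀ h : A, Ψ ⟨g * h * g⁻¹, hA.conj_mem h h.2 g⟩ = Ψ h}
      = Nat.card A := by
    have : Nat.card {g : G // ∀ h : A, Ψ ⟨g * h * g⁻¹, hA.conj_mem h h.2 g⟩ = Ψ h}
        = Nat.card St := rfl
    rw [this, hSA]
  rw [hcard] at h1
  have hAne : (Nat.card A : ℂ) ≠ 0 := Nat.cast_ne_zero.mpr Nat.card_pos.ne'
  exact mul_left_cancel₀ hAne (by rw [h1, mul_one])

end Cfsg.Agent.Lib.Char.PrimeIndex
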