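import Mathlib
import Cfsg.Agent.Lib.Char.CliffordCorr
import Cfsg.Agent.Lib.Char.IndRep
import Cfsg.Agent.Lib.Char.Values
import Cfsg.Agent.Lib.Char.LinearChars
import Cfsg.Agent.Lib.Solvable.MinimalNormal

/-!
# Real characters over an inverted linear character

The group-theoretic side of the Dolfi-Navarro-Tiep results on real characters of `p'`-degree.

* `exists_real_over`: a linear character of an odd normal subgroup inverted by a `2`-element lies
  under a real irreducible character.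
* `exists_real_split`: the same in a split situation, with an explicit induced character.
-/

set_option autoImplicit false
set_option linter.style.haveILetI false
set_option linter.unusedSectionVars false
set_option linter.unusedVariables false

namespace Cfsg.Agent.Lib.Char.RealOver

open Cfsg Cfsg.Agent.Lib.Char.Basic Cfsg.Agent.Lib.Char.Ortho Cfsg.Agent.Lib.Char.Induced
  Cfsg.Agent.Lib.Char.IndRep Cfsg.Agent.Lib.Char.Clifford Cfsg.Agent.Lib.Char.CliffordCorr
open scoped ComplexConjugate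

universe u

variable {G : Type u} [Group G]

/-- The subgroup generated by the `p`-elements. -/
abbrev pClo (p : ℕ) (G : Type u) [Group G] : Subgroup G :=
  Subgroup.closure {g : G | ∃ k : ℕ, orderOf g = p ^ k}

/-- Every real irreducible character has degree prime to `p`. -/
def RealPrime (p : ℕ) (G : Type u) [Group G] : Prop :=
  ∀ χ : IrrCharacter G, (∀ g : G, ((χ : G → ℂ) g).im = 0) → ¬ p ∣ charDegree (χ : G → ℂ)

theorem pClo_normal (p : ℕ) : (pClo p G).Normal := by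
  refine ⟨fun n hn g => ?_⟩
  have h : (pClo p G).map (MulAut.conj g).toMonoidHom ≤ pClo p G := by
    rw [MonoidHom.map_closure]
    refine Subgroup.closure_mono ?_
    rintro _ ⟨x, ⟨k, hk⟩, rfl⟩
    refine ⟨k, ?_⟩
    rw [← hk]
    exact MulEquiv.orderOf_eq (MulAut.conj g) x
  exact h ⟨n, hn, rfl⟩

theorem exists_inv_mod {m n : ℕ} (h : Nat.Coprime m n) : ∃ c, m * c ≡ 1 [MOD n] := by
  by_cases hn : 1 < n
  · obtain ⟨c, -, hc⟩ := Nat.exists_mul_mod_eq_one_of_coprime h hn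
    exact ⟨c, by rw [Nat.ModEq, hc, Nat.mod_eq_of_lt hn]⟩
  · have hn' : n = 0 ∨ n = 1 := by omega
    rcases hn' with rfl | rfl
    · have : m = 1 := by simpa using h
      exact ⟨1, by simp [this, Nat.ModEq]⟩
    · exact ⟨0, Nat.modEq_one⟩

theorem pow_eq_self_of_modEq {X : Type*} [Group X] (x : X) {m : ℕ} (hm : m ≡ 1 [MOD orderOf x]) :
    x ^ m = x := by
  have := (pow_eq_pow_iff_modEq (x := x) (n := m) (m := 1)).2 hm
  simpa using this

/-- A `p`-element of a surjective image lifts to a `p`-element. -/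
theorem exists_lift {Q : Type*} [Group Q] [Finite G] (p : ℕ) [hp : Fact p.Prime] (f : G →* Q)
    (hf : Function.Surjective f) (y : Q) (k : ℕ) (hy : orderOf y = p ^ k) :
    ∃ x : G, (∃ j : ℕ, orderOf x = p ^ j) ∧ f x = y := by
  obtain ⟨x₀, rfl⟩ := hf y
  have hpos : orderOf x₀ ≠ 0 := (orderOf_pos x₀).ne'
  obtain ⟨a, m, hm, hx⟩ := Nat.exists_eq_pow_mul_and_not_dvd hpos p hp.out.ne_one
  have hcop : Nat.Coprime m (p ^ k) :=
    ((Nat.Prime.coprime_iff_not_dvd hp.out).2 hm).symm.pow_right k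
  obtain ⟨c, hc⟩ := exists_inv_mod hcop
  refine ⟨(x₀ ^ m) ^ c, ?_, ?_⟩
  · have h1 : ((x₀ ^ m) ^ c) ^ (p ^ a) = 1 := by
      rw [← pow_mul, ← pow_mul]
      have : m * (c * p ^ a) = c * orderOf x₀ := by rw [hx]; ring
      rw [this, mul_comm, pow_mul, pow_orderOf_eq_one, one_pow]
    have h2 := orderOf_dvd_of_pow_eq_one h1
    obtain ⟨j, -, hj⟩ := (Nat.dvd_prime_pow hp.out).1 h2
    exact ⟨j, hj⟩
  · rw [map_pow, map_pow, ← pow_mul]
    exact pow_eq_self_of_modEq _ (by rw [hy]; exact hc)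

theorem orderOf_map_pow {Q : Type*} [Group Q] (p : ℕ) [hp : Fact p.Prime] (f : G →* Q) (x : G)
    (k : ℕ) (hx : orderOf x = p ^ k) : ∃ j : ℕ, orderOf (f x) = p ^ j := by
  have h2 : orderOf (f x) ∣ p ^ k := by
    rw [← hx]
    exact orderOf_map_dvd f x
  obtain ⟨j, -, hj⟩ := (Nat.dvd_prime_pow hp.out).1 h2
  exact ⟨j, hj⟩

theorem map_pClo {Q : Type u} [Group Q] [Finite G] (p : ℕ) [hp : Fact p.Prime] (f : G →* Q)
    (hf : Function.Surjective f) : (pClo p G).map f = pClo p Q := by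
  apply le_antisymm
  · rw [MonoidHom.map_closure]
    refine Subgroup.closure_mono ?_
    rintro _ ⟨x, ⟨k, hk⟩, rfl⟩
    exact orderOf_map_pow p f x k hk
  · refine (Subgroup.closure_le _).2 ?_
    rintro y ⟨k, hk⟩
    obtain ⟨x, hx, rfl⟩ := exists_lift p f hf y k hk
    exact ⟨x, Subgroup.subset_closure hx, rfl⟩

theorem isSolvable_map {Q : Type u} [Group Q] [Finite G] (p : ℕ) [hp : Fact p.Prime] (f : G →* Q)
    (hf : Function.Surjective f) (h : Group.IsSolvable (pClo p G)) :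
    Group.IsSolvable (pClo p Q) := by
  have h1 : Group.IsSolvable ((pClo p G).map f) :=
    solvable_of_surjective (f := f.subgroupMap (pClo p G)) (f.subgroupMap_surjective _)
  rwa [map_pClo p f hf] at h1

theorem RealPrime.of_surjective {Q : Type u} [Group Q] (p : ℕ) (f : G →* Q)
    (hf : Function.Surjective f) (h : RealPrime p G) : RealPrime p Q := by
  intro χ hre hdvd
  have hχ : IsIrrCharacter G (fun g => (χ : Q → ℂ) (f g)) :=
    isIrrCharacter_comp_surjective χ.2 f hf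
  refine h ⟨_, hχ⟩ (fun g => hre (f g)) ?_
  have : charDegree (fun g => (χ : Q → ℂ) (f g)) = charDegree (χ : Q → ℂ) := by
    unfold charDegree
    simp
  rwa [this] 

/-! ### The extension of an invariant linear character over a complement -/

/-- Extension of an invariant linear character to a semidirect product. -/
theorem exists_ext {Y N V : Subgroup G} (hNY : N ≤ Y) (hVY : V ≤ Y)
    (hNn : ∀ v ∈ V, ∀ n ∈ N, v * n * v⁻¹ ∈ N) (hd : ∀ x ∈ N, x ∈ V → x = 1)
    (hs : ∀ y ∈ Y, ∃ n ∈ N, ∃ v ∈ V, y = n * v) (l : G → ℂˣ)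
    (hl : ∀ x ∈ N, ∀ y ∈ N, l (x * y) = l x * l y)
    (hinv : ∀ v ∈ V, ∀ n ∈ N, l (v * n * v⁻¹) = l n) :
    ∃ μ : Y →* ℂˣ, ∀ n ∈ N, ∀ v ∈ V, ∀ h : n * v ∈ Y, μ ⟨n * v, h⟩ = l n := by
  classical
  have huniq : ∀ n ∈ N, ∀ n' ∈ N, ∀ v ∈ V, ∀ v' ∈ V, n * v = n' * v' → n = n' := by
    intro n hn n' hn' v hv v' hv' h
    have h1 : n'⁻¹ * n = v' * v⁻¹ := by
      rw [inv_mul_eq_iff_eq_mul, ← mul_assoc, ← h]
      group
    have h2 := hd (n'⁻¹ * n) (N.mul_mem (N.inv_mem hn') hn)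
      (by rw [h1]; exact V.mul_mem hv' (V.inv_mem hv))
    rw [inv_mul_eq_one] at h2
    exact h2.symm
  choose! fn hfn fv hfv hy using hs
  have hval : ∀ n ∈ N, ∀ v ∈ V, ∀ h : n * v ∈ Y, fn (n * v) = n := by
    intro n hn v hv h
    exact (huniq n hn _ (hfn _ h) v hv _ (hfv _ h) (hy _ h)).symm
  refine ⟨MonoidHom.mk' (fun y : Y => l (fn (y : G))) ?_, ?_⟩
  · rintro ⟨a, ha⟩ ⟨b, hb⟩
    show l (fn (a * b)) = l (fn a) * l (fn b)
    have hab : a * b = (fn a * (fv a * fn b * (fv a)⁻¹)) * (fv a * fv b) := by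
      conv_lhs => rw [hy a ha, hy b hb]
      group
    have hm := hNn _ (hfv a ha) _ (hfn b hb)
    have hN1 := N.mul_mem (hfn a ha) hm
    have hV1 := V.mul_mem (hfv a ha) (hfv b hb)
    have h3 : fn (a * b) = fn a * (fv a * fn b * (fv a)⁻¹) := by
      have hmem : (fn a * (fv a * fn b * (fv a)⁻¹)) * (fv a * fv b) ∈ Y := by
        rw [← hab]; exact Y.mul_mem ha hb
      rw [hab]
      exact hval _ hN1 _ hV1 hmem
    rw [h3, hl _ (hfn a ha) _ hm, hinv _ (hfv a ha) _ (hfn b hb)]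
  · intro n hn v hv h
    show l (fn (n * v)) = l n
    rw [hval n hn v hv h]

/-- Real induced characters. -/
theorem indFun_conj_eq [Fintype G] (Y : Subgroup G) (τ : Y → ℂ) (w : G)
    (hw : ∀ y, w * y * w⁻¹ ∈ Y ↔ y ∈ Y)
    (hτ : ∀ y (h : y ∈ Y) (h' : w * y * w⁻¹ ∈ Y), conj (τ ⟨y, h⟩) = τ ⟨w * y * w⁻¹, h'⟩) (g : G) :
    conj (indFun Y τ g) = indFun Y τ g := by
  rw [indFun_apply, map_mul, map_inv₀, Complex.conj_natCast, map_sum]
  congr 1
  rw [← Equiv.sum_comp (Equiv.mulRight w⁻¹) (fun x => extendByZero Y τ (x⁻¹ * g * x))]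
  refine Finset.sum_congr rfl fun x _ => ?_
  have hc : ((Equiv.mulRight w⁻¹) x)⁻¹ * g * (Equiv.mulRight w⁻¹) x = w * (x⁻¹ * g * x) * w⁻¹ := by
    simp only [Equiv.coe_mulRight]
    group
  rw [hc]
  by_cases h : x⁻¹ * g * x ∈ Y
  · have h' := (hw _).2 h
    rw [extendByZero_of_mem Y τ h, extendByZero_of_mem Y τ h']
    exact hτ _ h h'
  · have h' := fun h2 => h ((hw _).1 h2)
    rw [extendByZero_of_notMem Y τ h, extendByZero_of_notMem Y τ h', map_zero]

/-- For a root of unity the conjugate is the inverse. -/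
theorem conj_units_of_pow {z : ℂˣ} {k : ℕ} (hk : k ≠ 0) (h : z ^ k = 1) :
    conj (z : ℂ) = ((z⁻¹ : ℂˣ) : ℂ) := by
  have h1 : (z : ℂ) ^ k = 1 := by
    have := congrArg (Units.val) h
    simpa using this
  have h2 : ‖(z : ℂ)‖ = 1 := Complex.norm_eq_one_of_pow_eq_one h1 hk
  rw [Units.val_inv_eq_inv_val, Complex.inv_eq_conj h2]

/-- The inertia group of a function on a normal subgroup. -/
def inertiaL (N : Subgroup G) [hN : N.Normal] (l : G → ℂˣ)
    (hl : ∀ x ∈ N, ∀ y ∈ N, l (x * y) = l x * l y) : Subgroup G where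
  carrier := {g | ∀ n ∈ N, l (g * n * g⁻¹) = l n}
  one_mem' := by intro n _; simp
  mul_mem' := by
    intro a b ha hb n hn
    have h1 : a * b * n * (a * b)⁻¹ = a * (b * n * b⁻¹) * a⁻¹ := by group
    rw [h1, ha _ (hN.conj_mem n hn b), hb n hn]
  inv_mem' := by
    intro a ha n hn
    have h1 := ha _ (hN.conj_mem n hn a⁻¹)
    have h2 : a * (a⁻¹ * n * a⁻¹⁻¹) * a⁻¹ = n := by group
    rw [h2] at h1
    exact h1.symm

theorem mem_inertiaL (N : Subgroup G) [hN : N.Normal] (l : G → ℂˣ)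
    (hl : ∀ x ∈ N, ∀ y ∈ N, l (x * y) = l x * l y) (g : G) :
    g ∈ inertiaL N l hl ↔ ∀ n ∈ N, l (g * n * g⁻¹) = l n := Iff.rfl

theorem le_inertiaL (N : Subgroup G) [hN : N.Normal] (l : G → ℂˣ)
    (hl : ∀ x ∈ N, ∀ y ∈ N, l (x * y) = l x * l y) : N ≤ inertiaL N l hl := by
  intro g hg n hn
  have hgi : g⁻¹ ∈ N := N.inv_mem hg
  have h1 : l (g * n * g⁻¹) = l g * l n * l g⁻¹ := by
    rw [hl _ (N.mul_mem hg hn) _ hgi, hl _ hg _ hn]
  have h2 : l g * l g⁻¹ = 1 := by
    have h3 := hl g hg g⁻¹ hgi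
    have h4 := hl 1 N.one_mem 1 N.one_mem
    rw [mul_one] at h4
    have h5 : l 1 = 1 := by
      have := mul_left_cancel (a := l 1) (b := l 1) (c := 1) (by rw [mul_one]; exact h4.symm)
      exact this
    rw [mul_inv_cancel, h5] at h3
    exact h3.symm
  rw [h1, mul_comm (l g), mul_assoc, h2, mul_one]

/-- The linear character of `N` given by `l`. -/
def homL (N : Subgroup G) (l : G → ℂˣ) (hl : ∀ x ∈ N, ∀ y ∈ N, l (x * y) = l x * l y) : N →* ℂˣ :=
  MonoidHom.mk' (fun n : N => l n) (fun a b => hl _ a.2 _ b.2)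

theorem isIrr_theta (N : Subgroup G) (l : G → ℂˣ) (hl : ∀ x ∈ N, ∀ y ∈ N, l (x * y) = l x * l y) :
    IsIrrCharacter N (fun n : N => ((l n : ℂˣ) : ℂ)) :=
  LinearChars.isIrr_of_hom (homL N l hl)

theorem inertia_iff (N : Subgroup G) [hN : N.Normal] (l : G → ℂˣ)
    (hl : ∀ x ∈ N, ∀ y ∈ N, l (x * y) = l x * l y) (g : G) :
    g ∈ inertiaL N l hl ↔ ∀ n : N, (fun n : N => ((l n : ℂˣ) : ℂ))
      ⟨g * n * g⁻¹, hN.conj_mem (n : G) n.2 g⟩ = (fun n : N => ((l n : ℂˣ) : ℂ)) n := by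
  rw [mem_inertiaL]
  constructor
  · intro h n
    show ((l (g * n * g⁻¹) : ℂˣ) : ℂ) = ((l n : ℂˣ) : ℂ)
    rw [h n n.2]
  · intro h n hn
    have := h ⟨n, hn⟩
    exact Units.ext this

/-- An element inverting `l` normalizes the inertia group of `l`. -/
theorem inertia_conj_iff (N : Subgroup G) [hN : N.Normal] (l : G → ℂˣ)
    (hl : ∀ x ∈ N, ∀ y ∈ N, l (x * y) = l x * l y) {w : G}
    (hw : ∀ n ∈ N, l (w * n * w⁻¹) = (l n)⁻¹) (y : G) :
    w * y * w⁻¹ ∈ inertiaL N l hl ↔ y ∈ inertiaL N l hl := by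
  rw [mem_inertiaL, mem_inertiaL]
  constructor
  · intro h n hn
    have hm := hN.conj_mem n hn w
    have h1 := h _ hm
    have h2 : w * y * w⁻¹ * (w * n * w⁻¹) * (w * y * w⁻¹)⁻¹ = w * (y * n * y⁻¹) * w⁻¹ := by group
    rw [h2, hw _ (hN.conj_mem n hn y), hw n hn] at h1
    exact inv_injective h1
  · intro h n hn
    have hm : w⁻¹ * n * w ∈ N := by
      have := hN.conj_mem n hn w⁻¹
      simpa using this
    have h1 := h _ hm
    have h2 : w * y * w⁻¹ * n * (w * y * w⁻¹)⁻¹ = w * (y * (w⁻¹ * n * w) * y⁻¹) * w⁻¹ := by group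
    have h3 : w * (w⁻¹ * n * w) * w⁻¹ = n := by group
    have h4 := hw _ hm
    rw [h3] at h4
    rw [h2, hw _ (hN.conj_mem _ hm y), h1, h4]

theorem l_pow_card [Finite G] (N : Subgroup G) (l : G → ℂˣ)
    (hl : ∀ x ∈ N, ∀ y ∈ N, l (x * y) = l x * l y) {n : G} (hn : n ∈ N) :
    (l n) ^ (Nat.card N) = 1 := by
  have h := congrArg (homL N l hl) (pow_card_eq_one' (x := (⟨n, hn⟩ : N)))
  rw [map_pow, map_one] at h
  exact h

/-- **The split case**: a real irreducible character induced from the inertia group. -/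
theorem exists_real_split [Finite G] {N H : Subgroup G} [hN : N.Normal]
    (hd : ∀ x ∈ N, x ∈ H → x = 1) (hs : ∀ g : G, ∃ n ∈ N, ∃ h ∈ H, g = n * h)
    (l : G → ℂˣ) (hl : ∀ x ∈ N, ∀ y ∈ N, l (x * y) = l x * l y) {w : G} (hwH : w ∈ H)
    (hw : ∀ n ∈ N, l (w * n * w⁻¹) = (l n)⁻¹) :
    ∃ χ : IrrCharacter G, (∀ g, ((χ : G → ℂ) g).im = 0) ∧
      charDegree (χ : G → ℂ) = (inertiaL N l hl).index := by
  classical
  haveI : Fintype G := Fintype.ofFinite G
  haveI : Fintype N := Fintype.ofFinite N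
  set T := inertiaL N l hl with hTdef
  haveI : Fintype T := Fintype.ofFinite T
  have hNT : N ≤ T := le_inertiaL N l hl
  have hsT : ∀ y ∈ T, ∃ n ∈ N, ∃ v ∈ T ⊓ H, y = n * v := by
    intro y hy
    obtain ⟨n, hn, h, hh, rfl⟩ := hs y
    refine ⟨n, hn, h, ⟨?_, hh⟩, rfl⟩
    have := T.mul_mem (T.inv_mem (hNT hn)) hy
    simpa using this
  obtain ⟨μ, hμ⟩ := exists_ext (Y := T) (N := N) (V := T ⊓ H) hNT inf_le_left
    (fun v _ n hn => hN.conj_mem n hn v) (fun x hx hx' => hd x hx hx'.2) hsT l hl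
    (fun v hv n hn => hv.1 n hn)
  let τ : T → ℂ := fun y => ((μ y : ℂˣ) : ℂ)
  have hτ : IsIrrCharacter T τ := LinearChars.isIrr_of_hom μ
  let ϑ : N → ℂ := fun n : N => ((l n : ℂˣ) : ℂ)
  have hϑ : IsIrrCharacter N ϑ := isIrr_theta N l hl
  have hres : resT N T hNT τ = ϑ := by
    funext n
    have h := hμ n n.2 1 (one_mem _) (by simpa using hNT n.2)
    show ((μ ⟨n, hNT n.2⟩ : ℂˣ) : ℂ) = ((l n : ℂˣ) : ℂ)
    rw [← h]
    congr 2
    exact Subtype.ext (mul_one _).symm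
  have hirr : IsIrrCharacter G (indFun T τ) := by
    refine isIrr_indFun N ϑ T hNT hϑ (inertia_iff N l hl) hτ ?_
    rw [hres, classInner_irr_self hϑ]
    exact one_ne_zero
  have hwT := inertia_conj_iff N l hl hw
  have hconj : ∀ y (h : y ∈ T) (h' : w * y * w⁻¹ ∈ T),
      conj (τ ⟨y, h⟩) = τ ⟨w * y * w⁻¹, h'⟩ := by
    intro y h h'
    obtain ⟨n, hn, v, hv, rfl⟩ := hsT y h
    have hv' : w * v * w⁻¹ ∈ T ⊓ H :=
      ⟨(hwT v).2 hv.1, H.mul_mem (H.mul_mem hwH hv.2) (H.inv_mem hwH)⟩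
    have hn' := hN.conj_mem n hn w
    have he : w * (n * v) * w⁻¹ = (w * n * w⁻¹) * (w * v * w⁻¹) := by group
    have h2 : τ ⟨w * (n * v) * w⁻¹, h'⟩ = ((l (w * n * w⁻¹) : ℂˣ) : ℂ) := by
      have h3 := hμ _ hn' _ hv' (by rw [← he]; exact h')
      show ((μ ⟨w * (n * v) * w⁻¹, h'⟩ : ℂˣ) : ℂ) = _
      rw [← h3]
      congr 2
      exact Subtype.ext he
    rw [h2, hw n hn]
    show conj ((μ ⟨n * v, h⟩ : ℂˣ) : ℂ) = _
    rw [hμ n hn v hv h]
    exact conj_units_of_pow (k := Nat.card N) Nat.card_pos.ne' (l_pow_card N l hl hn)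
  refine ⟨⟨_, hirr⟩, ?_, ?_⟩
  · intro g
    exact Complex.conj_eq_iff_im.1 (indFun_conj_eq T τ w hwT hconj g)
  · refine Cfsg.Agent.Lib.Char.Values.IsCharacter.charDegree_eq (isCharacter_of_isIrrCharacter hirr) ?_
    show indFun T τ 1 = _
    rw [indFun_one T τ]
    have : τ 1 = 1 := by
      show ((μ 1 : ℂˣ) : ℂ) = 1
      simp
    rw [this, mul_one]

/-- The norm argument: a linear character invariant under a group acting without nontrivial
fixed points has order dividing the order of the group. -/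
theorem char_pow_card {A P : Type*} [CommGroup A] [Group P] [Finite P] (c : P →* MulAut A)
    (hc : ∀ a : A, (∀ y, c y a = a) → a = 1) (l : A →* ℂˣ) (hl : ∀ y a, l (c y a) = l a) (a : A) :
    l a ^ (Nat.card P) = 1 := by
  classical
  haveI : Fintype P := Fintype.ofFinite P
  have hm : (∏ y : P, c y a) = 1 := by
    apply hc
    intro y₀
    rw [map_prod]
    refine Fintype.prod_equiv (Equiv.mulLeft y₀) _ _ (fun y => ?_)
    simp [map_mul]
  have h2 := congrArg l hm
  rw [map_prod, map_one] at h2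
  simp only [hl] at h2
  rw [Finset.prod_const, Finset.card_univ, ← Nat.card_eq_fintype_card] at h2
  exact h2

theorem char_trivial_of_fixed [Finite G] {N P : Subgroup G} [hN : N.Normal]
    (hab : ∀ x ∈ N, ∀ y ∈ N, x * y = y * x) (hc : ∀ n ∈ N, (∀ y ∈ P, y * n = n * y) → n = 1)
    (l : G → ℂˣ) (hl : ∀ x ∈ N, ∀ y ∈ N, l (x * y) = l x * l y) (hP : P ≤ inertiaL N l hl)
    {q : ℕ} (hq : ∀ n ∈ N, n ^ q = 1) (hcop : Nat.Coprime q (Nat.card P)) {n : G} (hn : n ∈ N) :
    l n = 1 := by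
  letI : CommGroup N := { (inferInstance : Group N) with
    mul_comm := fun a b => Subtype.ext (hab _ a.2 _ b.2) }
  let c : P →* MulAut N := (MulAut.conjNormal (H := N)).comp P.subtype
  have h1 := char_pow_card (A := N) c
    (fun a ha => Subtype.ext (hc a a.2 (fun y hy => by
      have := congrArg Subtype.val (ha ⟨y, hy⟩)
      have h3 : y * (a : G) * y⁻¹ = a := by simpa [c, MulAut.conjNormal_apply] using this
      calc y * (a : G) = (y * (a : G) * y⁻¹) * y := by group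
        _ = (a : G) * y := by rw [h3]))) (homL N l hl)
    (fun y a => by
      show l (y * (a : G) * (y : G)⁻¹) = l a
      exact hP y.2 a a.2) ⟨n, hn⟩
  have h2 : l n ^ (Nat.card P) = 1 := h1
  have h3 : l n ^ q = 1 := by
    have := congrArg (homL N l hl) (Subtype.ext (hq n hn) : (⟨n, hn⟩ : N) ^ q = 1)
    rw [map_pow, map_one] at this
    exact this
  have h4 := pow_gcd_eq_one.2 ⟨h3, h2⟩
  rw [hcop.gcd_eq_one, pow_one] at h4
  exact h4

/-- A `p`-group with no fixed point on the cosets of `T` forces `p ∣ |G : T|`. -/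
theorem dvd_index_of_no_fixed [Finite G] (p : ℕ) [hp : Fact p.Prime] {P T : Subgroup G}
    (hP : IsPGroup p P) (hT : ∀ g : G, ¬ ∀ y ∈ P, g⁻¹ * y * g ∈ T) : p ∣ T.index := by
  by_contra h
  have h' : ¬ p ∣ Nat.card (G ⧸ T) := h
  obtain ⟨x, hx⟩ := hP.nonempty_fixed_point_of_prime_not_dvd_card (G ⧸ T) h'
  induction x using QuotientGroup.induction_on with
  | H g =>
    apply hT g
    intro y hy
    have h1 := hx ⟨y, hy⟩
    have h2 : (QuotientGroup.mk (y * g) : G ⧸ T) = QuotientGroup.mk g := h1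
    have h3 := QuotientGroup.eq.1 h2
    have h4 := T.inv_mem h3
    have : ((y * g)⁻¹ * g)⁻¹ = g⁻¹ * y * g := by group
    rwa [this] at h4

/-! ### Linear characters of an abelian normal subgroup -/

/-- Extension of a hom on `N` to a function on `G`. -/
noncomputable def extL (N : Subgroup G) (φ : N →* ℂˣ) : G → ℂˣ := by
  classical
  exact fun g => if h : g ∈ N then φ ⟨g, h⟩ else 1

theorem extL_of_mem (N : Subgroup G) (φ : N →* ℂˣ) {g : G} (h : g ∈ N) : extL N φ g = φ ⟨g, h⟩ := by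
  unfold extL
  simp [h]

theorem extL_mul (N : Subgroup G) (φ : N →* ℂˣ) : ∀ x ∈ N, ∀ y ∈ N,
    extL N φ (x * y) = extL N φ x * extL N φ y := by
  intro x hx y hy
  rw [extL_of_mem N φ hx, extL_of_mem N φ hy, extL_of_mem N φ (N.mul_mem hx hy), ← map_mul]
  rfl

theorem exists_char_ne_one [Finite G] {N : Subgroup G} (hab : ∀ x ∈ N, ∀ y ∈ N, x * y = y * x)
    {a : G} (ha : a ∈ N) (ha1 : a ≠ 1) : ∃ φ : N →* ℂˣ, φ ⟨a, ha⟩ ≠ 1 := by
  letI : CommGroup N := { (inferInstance : Group N) with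
    mul_comm := fun a b => Subtype.ext (hab _ a.2 _ b.2) }
  have h1 : (⟨a, ha⟩ : N) ≠ 1 := fun h => ha1 (congrArg Subtype.val h)
  haveI : NeZero (Monoid.exponent N) := ⟨Monoid.exponent_ne_zero_of_finite⟩
  exact CommGroup.exists_apply_ne_one_of_hasEnoughRootsOfUnity N ℂ h1

/-- A linear character of an abelian normal subgroup inverted by an element acting as an
involution. -/
theorem exists_inverted_char [Finite G] {N : Subgroup G} [hN : N.Normal]
    (hab : ∀ x ∈ N, ∀ y ∈ N, x * y = y * x) {t : G} (ht2 : ∀ n ∈ N, t * t * n = n * (t * t))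
    (htn : ∃ n ∈ N, t * n ≠ n * t) :
    ∃ (l : G → ℂˣ) (hl : ∀ x ∈ N, ∀ y ∈ N, l (x * y) = l x * l y), (∃ n ∈ N, l n ≠ 1) ∧
      ∀ n ∈ N, l (t * n * t⁻¹) = (l n)⁻¹ := by
  obtain ⟨n₀, hn₀, hne⟩ := htn
  have hconj : ∀ n ∈ N, t * n * t⁻¹ ∈ N := fun n hn => hN.conj_mem n hn t
  have hmem : ∀ n ∈ N, n * (t * n * t⁻¹)⁻¹ ∈ N := fun n hn => N.mul_mem hn (N.inv_mem (hconj n hn))
  have ha1 : n₀ * (t * n₀ * t⁻¹)⁻¹ ≠ 1 := by
    intro h
    apply hne
    rw [mul_inv_eq_one] at h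
    calc t * n₀ = (t * n₀ * t⁻¹) * t := by group
      _ = n₀ * t := by rw [← h]
  obtain ⟨φ, hφ⟩ := exists_char_ne_one hab (hmem n₀ hn₀) ha1
  let l : G → ℂˣ := fun g => extL N φ (g * (t * g * t⁻¹)⁻¹)
  have hl : ∀ x ∈ N, ∀ y ∈ N, l (x * y) = l x * l y := by
    intro x hx y hy
    show extL N φ _ = extL N φ _ * extL N φ _
    rw [← extL_mul N φ _ (hmem x hx) _ (hmem y hy)]
    congr 1
    have h1 : t * (x * y) * t⁻¹ = (t * x * t⁻¹) * (t * y * t⁻¹) := by group
    rw [h1, mul_inv_rev]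
    have h2 := hab y hy _ (N.inv_mem (hconj y hy))
    have h3 := hab y hy _ (N.inv_mem (hconj x hx))
    have h4 := hab (t * y * t⁻¹)⁻¹ (N.inv_mem (hconj y hy)) _ (N.inv_mem (hconj x hx))
    calc x * y * ((t * y * t⁻¹)⁻¹ * (t * x * t⁻¹)⁻¹)
        = x * (y * (t * y * t⁻¹)⁻¹) * (t * x * t⁻¹)⁻¹ := by group
      _ = x * (t * x * t⁻¹)⁻¹ * (y * (t * y * t⁻¹)⁻¹) := by
          rw [mul_assoc x, mul_assoc x]
          congr 1
          exact hab _ (hmem y hy) _ (N.inv_mem (hconj x hx))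
  refine ⟨l, hl, ⟨n₀, hn₀, ?_⟩, ?_⟩
  · show extL N φ _ ≠ 1
    rw [extL_of_mem N φ (hmem n₀ hn₀)]
    exact hφ
  · intro n hn
    show extL N φ _ = (extL N φ _)⁻¹
    have h1 : t * (t * n * t⁻¹) * t⁻¹ = n := by
      have := ht2 n hn
      calc t * (t * n * t⁻¹) * t⁻¹ = (t * t * n) * (t * t)⁻¹ := by group
        _ = n := by rw [this]; group
    have h2 : (t * n * t⁻¹) * (t * (t * n * t⁻¹) * t⁻¹)⁻¹ = (n * (t * n * t⁻¹)⁻¹)⁻¹ := by
      rw [h1]; group
    rw [h2]
    have hm := hmem n hn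
    have h3 := extL_mul N φ _ hm _ (N.inv_mem hm)
    rw [mul_inv_cancel, extL_of_mem N φ N.one_mem] at h3
    have h4 : φ ⟨1, N.one_mem⟩ = 1 := map_one φ
    rw [h4] at h3
    exact eq_inv_of_mul_eq_one_right h3.symm

/-! ### Minimal normal subgroups -/

open Cfsg.Agent.Lib.Solvable.MinimalNormal in
theorem min_normal_abelian {N : Subgroup G} (h : IsMinNormal N) (hs : Group.IsSolvable N) :
    ∀ x ∈ N, ∀ y ∈ N, x * y = y * x := by
  haveI := h.normal
  have hcn : (⁅N, N⁆ : Subgroup G).Normal := Subgroup.commutator_normal N N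
  have hle : ⁅N, N⁆ ≤ N := Subgroup.commutator_le_left N N
  rcases h.eq_bot_or_eq _ hcn hle with hb | he
  · intro x hx y hy
    have := Subgroup.commutator_eq_bot_iff_le_centralizer.mp hb
    exact (Subgroup.mem_centralizer_iff.mp (this hx) y hy).symm
  · exfalso
    have hne : Nontrivial N := (Subgroup.nontrivial_iff_ne_bot N).mpr h.ne_bot
    have hlt := Group.IsSolvable.commutator_lt_top_of_nontrivial N
    apply hlt.ne
    have htop : (⊤ : Subgroup N).map N.subtype = N := by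
      rw [← MonoidHom.range_eq_map, Subgroup.range_subtype]
    have hmap : (commutator N).map N.subtype = ⁅N, N⁆ := by
      rw [commutator_def, Subgroup.map_commutator, htop]
    have : (commutator N).map N.subtype = (⊤ : Subgroup N).map N.subtype := by
      rw [hmap, he, htop]
    exact Subgroup.map_injective N.subtype_injective this

open Cfsg.Agent.Lib.Solvable.MinimalNormal in
theorem min_normal_elem [Finite G] {N : Subgroup G} (h : IsMinNormal N)
    (hab : ∀ x ∈ N, ∀ y ∈ N, x * y = y * x) : ∃ q : ℕ, q.Prime ∧ ∀ x ∈ N, x ^ q = 1 := by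
  haveI := h.normal
  have hnt : Nontrivial N := (Subgroup.nontrivial_iff_ne_bot N).mpr h.ne_bot
  have hone : Nat.card N ≠ 1 := (Finite.one_lt_card (α := N)).ne'
  have hq := Nat.minFac_prime hone
  refine ⟨_, hq, ?_⟩
  set q := (Nat.card N).minFac
  let Ω : Subgroup G :=
    { carrier := {x | x ∈ N ∧ x ^ q = 1}
      one_mem' := ⟨N.one_mem, one_pow q⟩
      mul_mem' := by
        rintro a b ⟨ha, ha'⟩ ⟨hb, hb'⟩
        refine ⟨N.mul_mem ha hb, ?_⟩
        have hc : Commute a b := hab a ha b hb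
        rw [hc.mul_pow, ha', hb', one_mul]
      inv_mem' := by
        rintro a ⟨ha, ha'⟩
        exact ⟨N.inv_mem ha, by rw [inv_pow, ha', inv_one]⟩ }
  have hΩ : Ω.Normal := by
    refine ⟨fun n hn g => ⟨h.normal.conj_mem n hn.1 g, ?_⟩⟩
    have h1 : (g * n * g⁻¹) ^ q = g * n ^ q * g⁻¹ := by
      have := map_pow (MulAut.conj g) n q
      simpa [MulAut.conj_apply] using this
    rw [h1, hn.2]
    simp
  rcases h.eq_bot_or_eq Ω hΩ (fun x hx => hx.1) with hb | he
  · exfalso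
    haveI : Fact q.Prime := ⟨hq⟩
    obtain ⟨a, ha⟩ := exists_prime_orderOf_dvd_card' (G := N) q (Nat.minFac_dvd _)
    have h1 : (a : G) ∈ Ω := ⟨a.2, by
      have := pow_orderOf_eq_one a
      rw [ha] at this
      exact_mod_cast congrArg Subtype.val this⟩
    rw [hb, Subgroup.mem_bot] at h1
    have h2 : a = 1 := Subtype.ext h1
    rw [h2, orderOf_one] at ha
    exact hq.ne_one ha.symm
  · intro x hx
    rw [← he] at hx
    exact hx.2

/-- If `t` does not centralize `N` but a `2`-power of it does then some `2`-element acts as an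
involution. -/
theorem exists_involutive_action {N : Subgroup G} {t₀ : G} (ha : ∃ a : ℕ, t₀ ^ (2 ^ a) = 1)
    (hne : ∃ n ∈ N, t₀ * n ≠ n * t₀) :
    ∃ i : ℕ, (∀ n ∈ N, (t₀ ^ (2 ^ i)) * (t₀ ^ (2 ^ i)) * n = n * ((t₀ ^ (2 ^ i)) * (t₀ ^ (2 ^ i)))) ∧
      ∃ n ∈ N, (t₀ ^ (2 ^ i)) * n ≠ n * (t₀ ^ (2 ^ i)) := by
  classical
  have hex : ∃ i : ℕ, ∀ n ∈ N, t₀ ^ (2 ^ i) * n = n * t₀ ^ (2 ^ i) := by
    obtain ⟨a, ha⟩ := ha
    exact ⟨a, fun n _ => by rw [ha]; group⟩
  have h0 : Nat.find hex ≠ 0 := by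
    intro h
    obtain ⟨n, hn, hne⟩ := hne
    have := Nat.find_spec hex n hn
    rw [h] at this
    simp only [pow_zero, pow_one] at this
    exact hne this
  obtain ⟨i, hi⟩ := Nat.exists_eq_succ_of_ne_zero h0
  refine ⟨i, ?_, ?_⟩
  · have h1 := Nat.find_spec hex
    rw [hi] at h1
    intro n hn
    have h2 := h1 n hn
    have h3 : t₀ ^ (2 ^ i) * t₀ ^ (2 ^ i) = t₀ ^ (2 ^ (i + 1)) := by
      rw [← pow_add]
      congr 1
      ring
    rw [h3]
    exact h2
  · have h1 := Nat.find_min hex (m := i) (by omega)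
    push Not at h1
    exact h1

/-- The decomposition `L = N P` for a Sylow subgroup `P` of `L`. -/
theorem sylow_decomp [Finite G] (p : ℕ) [hp : Fact p.Prime] {N L : Subgroup G} [hN : N.Normal]
    (hNL : N ≤ L) (hpN : ¬ p ∣ Nat.card N) (hLp : ∀ x ∈ L, ∃ k : ℕ, x ^ (p ^ k) ∈ N)
    (P : Sylow p L) :
    ∀ x ∈ L, ∃ n ∈ N, ∃ y ∈ (P : Subgroup L).map L.subtype, x = n * y := by
  have hq : IsPGroup p (L ⧸ N.subgroupOf L) := by
    intro g
    induction g using QuotientGroup.induction_on with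
    | H x =>
      obtain ⟨k, hk⟩ := hLp x x.2
      refine ⟨k, ?_⟩
      rw [← QuotientGroup.mk_pow, QuotientGroup.eq_one_iff]
      exact hk
  obtain ⟨a, ha⟩ := IsPGroup.iff_card.1 hq
  have h1 : Nat.card (N.subgroupOf L) = Nat.card N :=
    Nat.card_congr (Subgroup.subgroupOfEquivOfLe hNL).toEquiv
  have h2 : Nat.card L = Nat.card N * p ^ a := by
    rw [← h1, ← ha]
    exact (Subgroup.card_mul_index (N.subgroupOf L)).symm
  have hNpos : Nat.card N ≠ 0 := Nat.card_pos.ne'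
  have h3 : Nat.card (P : Subgroup L) = p ^ a := by
    rw [Sylow.card_eq_multiplicity, h2, Nat.factorization_mul hNpos (pow_ne_zero _ hp.out.ne_zero)]
    simp [Nat.factorization_eq_zero_of_not_dvd hpN, hp.out.factorization_self]
  have hdis : Disjoint (N.subgroupOf L) (P : Subgroup L) := by
    rw [Subgroup.disjoint_def]
    intro x hx hx'
    obtain ⟨k, hk⟩ := P.isPGroup' ⟨x, hx'⟩
    have h5 : x ^ (p ^ k) = 1 := by
      simpa [Subtype.ext_iff] using hk
    have h6 : x ^ (Nat.card N) = 1 := by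
      have h0 : ((⟨(x : G), hx⟩ : N) ^ (Nat.card N) : N) = 1 := pow_card_eq_one'
      have h00 := congrArg Subtype.val h0
      apply Subtype.ext
      simpa only [Subgroup.coe_pow, Subgroup.coe_one] using h00
    have h7 := pow_gcd_eq_one.2 ⟨h5, h6⟩
    have hc : Nat.Coprime (p ^ k) (Nat.card N) :=
      ((Nat.Prime.coprime_iff_not_dvd hp.out).2 hpN).pow_left k
    rw [hc.gcd_eq_one, pow_one] at h7
    exact h7
  have hcomp : Subgroup.IsComplement' (N.subgroupOf L) (P : Subgroup L) :=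
    Subgroup.isComplement'_of_card_mul_and_disjoint (by rw [h1, h3, h2]) hdis
  intro x hx
  obtain ⟨⟨⟨n, hn⟩, ⟨y, hy⟩⟩, hxy⟩ := hcomp.2 ⟨x, hx⟩
  refine ⟨n, hn, y, ⟨y, hy, rfl⟩, ?_⟩
  exact (congrArg Subtype.val hxy).symm

/-- The central step: in the non-central situation one finds a real character of degree divisible
by `p`. -/
theorem nonsplit_contra [Finite G] (p q : ℕ) [hp : Fact p.Prime] (hq : q.Prime) (hqp : q ≠ p)
    {N L : Subgroup G} [hN : N.Normal] (hLn : L.Normal) (hab : ∀ x ∈ N, ∀ y ∈ N, x * y = y * x)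
    (hNq : ∀ x ∈ N, x ^ q = 1) (hNL : N ≤ L) (hLp : ∀ x ∈ L, ∃ k : ℕ, x ^ (p ^ k) ∈ N)
    (hmin : ∀ M : Subgroup G, M.Normal → M ≤ N → M = ⊥ ∨ M = N) (hN1 : N ≠ ⊥)
    (hnc : ¬ ∀ x ∈ L, ∀ y ∈ N, x * y = y * x) (hNK : N ≤ pClo 2 G) (hreal : RealPrime p G) :
    False := by
  classical
  haveI := hLn
  have hcop : ∀ k, Nat.Coprime q (p ^ k) := fun k =>
    ((Nat.coprime_primes hq hp.out).2 hqp).pow_right k
  have hpN : ¬ p ∣ Nat.card N := by
    intro hdvd
    haveI : Fact q.Prime := ⟨hq⟩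
    have hNp : IsPGroup q N := fun x => ⟨1, by
      apply Subtype.ext
      simpa using hNq x x.2⟩
    obtain ⟨k, hk⟩ := IsPGroup.iff_card.1 hNp
    rw [hk] at hdvd
    exact hqp ((Nat.prime_dvd_prime_iff_eq hp.out hq).1 (hp.out.dvd_of_dvd_pow hdvd)).symm
  let P : Sylow p L := Classical.arbitrary _
  let P₁ : Subgroup G := (P : Subgroup L).map L.subtype
  have hP₁L : P₁ ≤ L := by
    rintro _ ⟨y, -, rfl⟩
    exact y.2
  have hP₁p : ∀ y ∈ P₁, ∃ k : ℕ, y ^ (p ^ k) = 1 := by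
    rintro _ ⟨y, hy, rfl⟩
    obtain ⟨k, hk⟩ := P.isPGroup' ⟨y, hy⟩
    refine ⟨k, ?_⟩
    have := congrArg Subtype.val (congrArg Subtype.val hk)
    simpa using this
  have hP₁g : IsPGroup p P₁ := fun x => by
    obtain ⟨k, hk⟩ := hP₁p x x.2
    exact ⟨k, Subtype.ext (by simpa using hk)⟩
  have hdec := sylow_decomp p hNL hpN hLp P
  have hdisj : ∀ x ∈ N, x ∈ P₁ → x = 1 := by
    intro x hx hx'
    obtain ⟨k, hk⟩ := hP₁p x hx'
    have h7 := pow_gcd_eq_one.2 ⟨hNq x hx, hk⟩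
    rw [(hcop k).gcd_eq_one, pow_one] at h7
    exact h7
  have hcen : ∀ n ∈ N, (∀ y ∈ P₁, y * n = n * y) → n = 1 := by
    have hM : (N ⊓ Subgroup.centralizer (L : Set G)).Normal :=
      Subgroup.normal_inf_normal _ _ 
    rcases hmin _ hM inf_le_left with hb | he
    · intro n hn hcn
      have h1 : n ∈ N ⊓ Subgroup.centralizer (L : Set G) := by
        refine ⟨hn, Subgroup.mem_centralizer_iff.2 (fun x hx => ?_)⟩
        obtain ⟨n', hn', y, hy, rfl⟩ := hdec x hx
        calc n' * y * n = n' * (y * n) := by group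
          _ = n' * (n * y) := by rw [hcn y hy]
          _ = (n' * n) * y := by group
          _ = (n * n') * y := by rw [hab n' hn' n hn]
          _ = n * (n' * y) := by group
      rw [hb] at h1
      exact h1
    · exfalso
      apply hnc
      intro x hx y hy
      rw [← he] at hy
      exact Subgroup.mem_centralizer_iff.1 hy.2 x hx
  let H : Subgroup G := Subgroup.normalizer (P₁ : Set G)
  have hP₁H : P₁ ≤ H := Subgroup.le_normalizer
  have hs : ∀ g : G, ∃ n ∈ N, ∃ h ∈ H, g = n * h := by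
    intro g
    have h1 : g ∈ H ⊔ L := by
      have : H ⊔ L = ⊤ := Sylow.normalizer_sup_eq_top P
      rw [this]
      exact Subgroup.mem_top g
    obtain ⟨h, hh, l, hl, rfl⟩ := Subgroup.mem_sup_of_normal_right.1 h1
    obtain ⟨n, hn, y, hy, rfl⟩ := hdec l hl
    refine ⟨h * n * h⁻¹, hN.conj_mem n hn h, h * y, H.mul_mem hh (hP₁H hy), by group⟩
  have hd : ∀ x ∈ N, x ∈ H → x = 1 := by
    intro x hx hxH
    refine hcen x hx (fun y hy => ?_)
    have h1 : x * y * x⁻¹ ∈ P₁ := (Subgroup.mem_normalizer_iff.1 hxH y).1 hy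
    have h2 : x * y * x⁻¹ * y⁻¹ ∈ P₁ := P₁.mul_mem h1 (P₁.inv_mem hy)
    have h3 : x * y * x⁻¹ * y⁻¹ ∈ N := by
      have h4 := hN.conj_mem x⁻¹ (N.inv_mem hx) y
      have h5 := N.mul_mem hx h4
      have h6 : x * (y * x⁻¹ * y⁻¹) = x * y * x⁻¹ * y⁻¹ := by group
      rwa [h6] at h5
    have h7 := hdisj _ h3 h2
    have h8 : x * y * x⁻¹ = y := by
      rwa [mul_inv_eq_one] at h7
    have h9 : x * y = y * x := by
      rw [mul_inv_eq_iff_eq_mul] at h8
      exact h8
    exact h9.symm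
  -- a linear character inverted by an element of `G`
  have hex : ∃ (l : G → ℂˣ) (hl : ∀ x ∈ N, ∀ y ∈ N, l (x * y) = l x * l y), (∃ n ∈ N, l n ≠ 1) ∧
      ∃ w : G, ∀ n ∈ N, l (w * n * w⁻¹) = (l n)⁻¹ := by
    by_cases hq2 : q = 2
    · obtain ⟨a, ha, ha1⟩ := (Subgroup.bot_or_exists_ne_one N).resolve_left hN1
      obtain ⟨φ, hφ⟩ := exists_char_ne_one hab ha ha1
      refine ⟨extL N φ, extL_mul N φ, ⟨a, ha, ?_⟩, 1, ?_⟩
      · rw [extL_of_mem N φ ha]
        exact hφ
      · intro n hn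
        simp only [one_mul, inv_one, mul_one]
        have h1 := extL_mul N φ n hn n hn
        have h2 : n * n = 1 := by
          have := hNq n hn
          rw [hq2, pow_two] at this
          exact this
        rw [h2, extL_of_mem N φ N.one_mem] at h1
        have h4 : φ ⟨1, N.one_mem⟩ = 1 := map_one φ
        rw [h4] at h1
        exact eq_inv_of_mul_eq_one_left h1.symm
    · have hodd : q.Coprime 2 := (Nat.coprime_primes hq Nat.prime_two).2 hq2
      have ht : ∃ t : G, (∃ k : ℕ, orderOf t = 2 ^ k) ∧ ∃ n ∈ N, t * n ≠ n * t := by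
        by_contra hcon
        push Not at hcon
        have hKH : pClo 2 G ≤ H := by
          refine (Subgroup.closure_le _).2 ?_
          rintro t ⟨k, hk⟩
          obtain ⟨n, hn, h, hh, hth⟩ := hs t
          have htn : t * n = n * t := hcon t ⟨k, hk⟩ n hn
          have htn' : Commute n⁻¹ t := by
            have : Commute n t := htn.symm
            exact this.inv_left
          have hcop2 : Nat.Coprime q (orderOf t) := by
            rw [hk]
            exact hodd.pow_right k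
          obtain ⟨c, hc⟩ := exists_inv_mod hcop2
          have hh2 : h = n⁻¹ * t := by
            rw [hth]; group
          have h3 : h ^ (q * c) = t := by
            rw [hh2, htn'.mul_pow, pow_eq_self_of_modEq t hc, pow_mul, inv_pow, hNq n hn]
            simp
          rw [← h3]
          exact H.pow_mem hh _
        apply hN1
        rw [Subgroup.eq_bot_iff_forall]
        intro x hx
        exact hd x hx (hKH (hNK hx))
      obtain ⟨t₀, ⟨k, hk⟩, hne⟩ := ht
      obtain ⟨i, hi1, hi2⟩ := exists_involutive_action (N := N) (t₀ := t₀)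
        ⟨k, by rw [← hk]; exact pow_orderOf_eq_one t₀⟩ hne
      obtain ⟨l, hl, hlne, hlw⟩ := exists_inverted_char hab hi1 hi2
      exact ⟨l, hl, hlne, _, hlw⟩
  obtain ⟨l, hl, ⟨n₀, hn₀, hlne⟩, w, hw⟩ := hex
  obtain ⟨n₁, hn₁, h₁, hh₁, rfl⟩ := hs w
  have hw₁ : ∀ n ∈ N, l (h₁ * n * h₁⁻¹) = (l n)⁻¹ := by
    intro n hn
    have h1 := hw n hn
    have hm := hN.conj_mem n hn h₁
    have h2 : n₁ * h₁ * n * (n₁ * h₁)⁻¹ = h₁ * n * h₁⁻¹ := by
      have h3 := hab n₁ hn₁ _ hm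
      calc n₁ * h₁ * n * (n₁ * h₁)⁻¹ = (n₁ * (h₁ * n * h₁⁻¹)) * n₁⁻¹ := by group
        _ = ((h₁ * n * h₁⁻¹) * n₁) * n₁⁻¹ := by rw [h3]
        _ = h₁ * n * h₁⁻¹ := by group
    rwa [h2] at h1
  obtain ⟨χ, hχre, hχd⟩ := exists_real_split hd hs l hl hh₁ hw₁
  refine hreal χ hχre ?_
  rw [hχd]
  refine dvd_index_of_no_fixed p hP₁g (fun g hg => hlne ?_)
  -- the conjugate of `P₁` by `g⁻¹` lies in the inertia group
  let P' : Subgroup G := P₁.map (MulAut.conj g⁻¹).toMonoidHom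
  have hP'T : P' ≤ inertiaL N l hl := by
    rintro _ ⟨y, hy, rfl⟩
    have := hg y hy
    simpa [MulAut.conj_apply] using this
  have hP'c : Nat.Coprime q (Nat.card P') := by
    have hcard : Nat.card P' = Nat.card P₁ :=
      Nat.card_congr (Subgroup.equivMapOfInjective P₁ _ (MulEquiv.injective _)).symm.toEquiv
    obtain ⟨k, hk⟩ := IsPGroup.iff_card.1 hP₁g
    rw [hcard, hk]
    exact hcop k
  refine char_trivial_of_fixed hab ?_ l hl hP'T hNq hP'c hn₀
  intro n hn hnc'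
  have h1 : g * n * g⁻¹ = 1 := by
    refine hcen _ (hN.conj_mem n hn g) (fun y hy => ?_)
    have h2 := hnc' (g⁻¹ * y * g) ⟨y, hy, by simp [MulAut.conj_apply]⟩
    calc y * (g * n * g⁻¹) = g * ((g⁻¹ * y * g) * n) * g⁻¹ := by group
      _ = g * (n * (g⁻¹ * y * g)) * g⁻¹ := by rw [h2]
      _ = g * n * g⁻¹ * y := by group
  have h2 : n = g⁻¹ * (g * n * g⁻¹) * g := by group
  rw [h2, h1]
  group

/-- **Main theorem A**, in the form used for induction. -/
theorem main_A (p : ℕ) [hp : Fact p.Prime] : ∀ (m : ℕ) (G : Type u) [Group G] [Finite G],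
    Nat.card G ≤ m → Group.IsSolvable (pClo p G) → RealPrime p G →
    ∀ U : Subgroup G, U.Normal → (∀ u ∈ U, ∃ k : ℕ, u ^ (p ^ k) ∈ pClo 2 G) →
    ∃ R : Subgroup G, R.Normal ∧ IsPGroup p R ∧ ∀ x ∈ U, (∃ k : ℕ, orderOf x = p ^ k) → x ∈ R := by
  open Cfsg.Agent.Lib.Solvable.MinimalNormal in
  intro m
  induction m with
  | zero =>
    intro G _ _ hc
    exact absurd hc (by have := Nat.card_pos (α := G); omega)
  | succ m ih =>
    intro G _ _ hc hsolv hreal U hU hUK
    by_cases hnt : Nontrivial G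
    swap
    · rw [not_nontrivial_iff_subsingleton] at hnt
      refine ⟨⊥, inferInstance, ?_, fun x _ _ => ?_⟩
      · exact fun x => ⟨0, Subsingleton.elim _ _⟩
      · rw [Subgroup.mem_bot]
        exact Subsingleton.elim _ _
    obtain ⟨N, hNmin⟩ := exists_isMinNormal (G := G)
    haveI hNn : N.Normal := hNmin.normal
    have hN1 : N ≠ ⊥ := hNmin.ne_bot
    let f : G →* G ⧸ N := QuotientGroup.mk' N
    have hf : Function.Surjective f := QuotientGroup.mk'_surjective N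
    haveI h2 : Fact (Nat.Prime 2) := ⟨Nat.prime_two⟩
    have hcard : Nat.card (G ⧸ N) ≤ m := by
      have := card_quotient_lt N hN1
      omega
    obtain ⟨Rb, hRbn, hRbp, hRb⟩ := ih (G ⧸ N) hcard (isSolvable_map p f hf hsolv)
      (RealPrime.of_surjective p f hf hreal) (U.map f) (hU.map f hf) (by
        rintro _ ⟨u, hu, rfl⟩
        obtain ⟨k, hk⟩ := hUK u hu
        refine ⟨k, ?_⟩
        rw [← map_pow, ← map_pClo 2 f hf]
        exact ⟨_, hk, rfl⟩)
    let L : Subgroup G := Rb.comap f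
    have hLn : L.Normal := hRbn.comap f
    have hNL : N ≤ L := by
      intro n hn
      have : f n = 1 := (QuotientGroup.eq_one_iff n).2 hn
      show f n ∈ Rb
      rw [this]
      exact Rb.one_mem
    have hLp : ∀ x ∈ L, ∃ k : ℕ, x ^ (p ^ k) ∈ N := by
      intro x hx
      obtain ⟨k, hk⟩ := hRbp ⟨f x, hx⟩
      refine ⟨k, ?_⟩
      have h1 : (f x) ^ (p ^ k) = 1 := by
        simpa [Subtype.ext_iff] using hk
      rw [← map_pow] at h1
      exact (QuotientGroup.eq_one_iff _).1 h1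
    have hUL : ∀ x ∈ U, (∃ k : ℕ, orderOf x = p ^ k) → x ∈ L := by
      rintro x hx ⟨k, hk⟩
      exact hRb _ ⟨x, hx, rfl⟩ (orderOf_map_pow p f x k hk)
    -- a normal subgroup meeting `N` trivially containing the relevant elements
    have hdisj : ∀ V : Subgroup G, V.Normal → N ⊓ V = ⊥ →
        (∀ x ∈ U, (∃ k : ℕ, orderOf x = p ^ k) → x ∈ V) →
        ∃ R : Subgroup G, R.Normal ∧ IsPGroup p R ∧
          ∀ x ∈ U, (∃ k : ℕ, orderOf x = p ^ k) → x ∈ R := by
      intro V hV hd hUV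
      refine ⟨L ⊓ V, Subgroup.normal_inf_normal _ _, ?_, fun x hx hxp => ⟨hUL x hx hxp, hUV x hx hxp⟩⟩
      intro x
      obtain ⟨k, hk⟩ := hLp x x.2.1
      refine ⟨k, Subtype.ext ?_⟩
      have h1 : (x : G) ^ (p ^ k) ∈ N ⊓ V := ⟨hk, V.pow_mem x.2.2 _⟩
      rw [hd, Subgroup.mem_bot] at h1
      simpa using h1
    have hle : ∀ V : Subgroup G, V.Normal → N ⊓ V ≠ ⊥ → N ≤ V := by
      intro V hV hne
      rcases hNmin.eq_bot_or_eq (N ⊓ V) (Subgroup.normal_inf_normal _ _) inf_le_left with h | h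
      · exact absurd h hne
      · exact inf_eq_left.1 h
    by_cases h1 : N ⊓ U = ⊥
    · exact hdisj U hU h1 (fun x _ hxp => hUL x ‹_› hxp |> fun _ => ‹x ∈ U›)
    have hNU := hle U hU h1
    have hClo : (pClo p G).Normal := pClo_normal p
    by_cases h3 : N ⊓ pClo p G = ⊥
    · exact hdisj _ hClo h3 (fun x _ hxp => Subgroup.subset_closure hxp)
    have hNC := hle _ hClo h3
    have hNsolv : Group.IsSolvable N :=
      solvable_of_solvable_injective (f := Subgroup.inclusion hNC)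
        (Subgroup.inclusion_injective hNC)
    have hab := min_normal_abelian hNmin hNsolv
    obtain ⟨q, hq, hNq⟩ := min_normal_elem hNmin hab
    by_cases hqp : q = p
    · subst hqp
      refine ⟨L, hLn, ?_, fun x hx hxp => hUL x hx hxp⟩
      intro x
      obtain ⟨k, hk⟩ := hLp x x.2
      refine ⟨k + 1, Subtype.ext ?_⟩
      have := hNq _ hk
      rw [← pow_mul, ← pow_succ] at this
      simpa using this
    have hcop : ∀ k, Nat.Coprime q (p ^ k) := fun k =>
      ((Nat.coprime_primes hq hp.out).2 hqp).pow_right k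
    by_cases hcen : ∀ x ∈ L, ∀ y ∈ N, x * y = y * x
    swap
    · exfalso
      have hNK : N ≤ pClo 2 G := by
        intro n hn
        obtain ⟨k, hk⟩ := hUK n (hNU hn)
        obtain ⟨c, hc'⟩ := exists_inv_mod (hcop k).symm
        have h4 : (n ^ (p ^ k)) ^ c = n := by
          rw [← pow_mul]
          refine pow_eq_self_of_modEq n (hc'.of_dvd ?_)
          exact orderOf_dvd_of_pow_eq_one (hNq n hn)
        rw [← h4]
        exact Subgroup.pow_mem _ hk _
      exact nonsplit_contra p q hq hqp hLn hab hNq hNL hLp (fun M hM hMN => hNmin.eq_bot_or_eq M hM hMN)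
        hN1 hcen hNK hreal
    -- the central case
    have hpN : ¬ p ∣ Nat.card N := by
      intro hdvd
      haveI : Fact q.Prime := ⟨hq⟩
      have hNp : IsPGroup q N := fun x => ⟨1, by
        apply Subtype.ext
        simpa using hNq x x.2⟩
      obtain ⟨k, hk⟩ := IsPGroup.iff_card.1 hNp
      rw [hk] at hdvd
      exact hqp ((Nat.prime_dvd_prime_iff_eq hp.out hq).1 (hp.out.dvd_of_dvd_pow hdvd)).symm
    let P : Sylow p L := Classical.arbitrary _
    let P₁ : Subgroup G := (P : Subgroup L).map L.subtype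
    have hP₁L : P₁ ≤ L := by
      rintro _ ⟨y, -, rfl⟩
      exact y.2
    have hP₁p : ∀ y ∈ P₁, ∃ k : ℕ, y ^ (p ^ k) = 1 := by
      rintro _ ⟨y, hy, rfl⟩
      obtain ⟨k, hk⟩ := P.isPGroup' ⟨y, hy⟩
      refine ⟨k, ?_⟩
      have := congrArg Subtype.val (congrArg Subtype.val hk)
      simpa using this
    have hdec := sylow_decomp p hNL hpN hLp P
    have hmem : ∀ x ∈ L, (∃ k : ℕ, x ^ (p ^ k) = 1) → x ∈ P₁ := by
      rintro x hx ⟨k, hk⟩
      obtain ⟨n, hn, y, hy, rfl⟩ := hdec x hx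
      obtain ⟨j, hj⟩ := hP₁p y hy
      have hcomm : Commute n y := (hcen y (hP₁L hy) n hn).symm
      have h5 : (n * y) ^ (p ^ (k + j)) = 1 := by
        rw [pow_add, pow_mul, hk, one_pow]
      rw [hcomm.mul_pow] at h5
      have h6 : y ^ (p ^ (k + j)) = 1 := by
        rw [pow_add, mul_comm, pow_mul, hj, one_pow]
      rw [h6, mul_one] at h5
      have h7 := pow_gcd_eq_one.2 ⟨hNq n hn, h5⟩
      rw [(hcop (k + j)).gcd_eq_one, pow_one] at h7
      rw [h7, one_mul]
      exact hy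
    refine ⟨P₁, ⟨fun y hy g => ?_⟩, ?_, ?_⟩
    · refine hmem _ (hLn.conj_mem y (hP₁L hy) g) ?_
      obtain ⟨k, hk⟩ := hP₁p y hy
      refine ⟨k, ?_⟩
      have := map_pow (MulAut.conj g) y (p ^ k)
      rw [hk, map_one] at this
      simpa [MulAut.conj_apply] using this.symm
    · intro x
      obtain ⟨k, hk⟩ := hP₁p x x.2
      exact ⟨k, Subtype.ext (by simpa using hk)⟩
    · rintro x hx ⟨k, hk⟩
      exact hmem x (hUL x hx ⟨k, hk⟩) ⟨k, by rw [← hk]; exact pow_orderOf_eq_one x⟩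

end Cfsg.Agent.Lib.Char.RealOver
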