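import Mathlib
import Cfsg.Agent.Lib.Char.RealOver
import Cfsg.Agent.Lib.Char.BrauerSCNum

/-!
# Real characters over an inverted linear character, II

* `exists_real_over`: a linear character of an odd normal subgroup inverted by a `2`-element lies
  under a real irreducible character.
* `main_B`: if real irreducible characters have `p'`-degree, `p` odd, the `2`-elements centralize
  every normal subgroup contained in the derived subgroup of a `p`-subgroup.
-/

set_option autoImplicit false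
set_option linter.style.haveILetI false
set_option linter.unusedSectionVars false
set_option linter.unusedVariables false

namespace Cfsg.Agent.Lib.Char.RealOver

open Cfsg Cfsg.Agent.Lib.Char.Basic Cfsg.Agent.Lib.Char.Ortho Cfsg.Agent.Lib.Char.Induced
  Cfsg.Agent.Lib.Char.IndRep Cfsg.Agent.Lib.Char.Clifford Cfsg.Agent.Lib.Char.CliffordCorr
open scoped ComplexConjugate

universe u

variable {G : Type u} [Group G]

/-- A `2`-element normalizing `T` normalizes a Sylow `2`-subgroup of `T`. -/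
theorem exists_invariant_sylow [Finite G] (T : Subgroup G) (w : G)
    (hw : ∀ x, w * x * w⁻¹ ∈ T ↔ x ∈ T) (hw2 : ∃ k : ℕ, orderOf w = 2 ^ k) :
    ∃ W : Subgroup G, W ≤ T ∧ IsPGroup 2 W ∧ ¬ 2 ∣ W.relIndex T ∧ ∀ x, w * x * w⁻¹ ∈ W ↔ x ∈ W := by
  haveI h2 : Fact (Nat.Prime 2) := ⟨Nat.prime_two⟩
  have hle : Subgroup.zpowers w ≤ Subgroup.normalizer (T : Set G) := by
    rw [Subgroup.zpowers_le]
    exact Subgroup.mem_normalizer_iff.2 (fun x => (hw x).symm)
  let f : Subgroup.zpowers w →* MulAut T :=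
    (Subgroup.normalizerMonoidHom T).comp (Subgroup.inclusion hle)
  letI : MulAction (Subgroup.zpowers w) (Sylow 2 T) := MulAction.compHom _ f
  have hp : IsPGroup 2 (Subgroup.zpowers w) := by
    obtain ⟨k, hk⟩ := hw2
    rw [IsPGroup.iff_card, ]
    exact ⟨k, by rw [Nat.card_zpowers, hk]⟩
  have hcard : ¬ 2 ∣ Nat.card (Sylow 2 T) := by
    have h1 := card_sylow_modEq_one 2 T
    intro hd
    have h3 : Nat.card (Sylow 2 T) % 2 = 0 := Nat.mod_eq_zero_of_dvd hd
    have h4 : Nat.card (Sylow 2 T) % 2 = 1 % 2 := h1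
    omega
  obtain ⟨Q, hQ⟩ := hp.nonempty_fixed_point_of_prime_not_dvd_card (Sylow 2 T) hcard
  let W : Subgroup G := (Q : Subgroup T).map T.subtype
  have hfix : ∀ z : Subgroup.zpowers w, ∀ x : T, x ∈ (Q : Subgroup T) →
      ((z : G) * x * (z : G)⁻¹) ∈ W := by
    intro z x hx
    have h1 : f z • Q = Q := hQ z
    have h2 : (f z • Q : Sylow 2 T) = Q := h1
    have h3 : f z x ∈ (f z • Q : Sylow 2 T) := by
      show f z x ∈ ((Q : Subgroup T).map (f z).toMonoidHom)
      exact ⟨x, hx, rfl⟩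
    rw [h2] at h3
    exact ⟨f z x, h3, rfl⟩
  have hWT : W ≤ T := by
    rintro _ ⟨y, -, rfl⟩
    exact y.2
  refine ⟨W, hWT, ?_, ?_, ?_⟩
  · intro x
    obtain ⟨y, hy, hyx⟩ := x.2
    obtain ⟨k, hk⟩ := Q.isPGroup' ⟨y, hy⟩
    refine ⟨k, Subtype.ext ?_⟩
    have := congrArg Subtype.val (congrArg Subtype.val hk)
    have h3 : (y : G) ^ (2 ^ k) = 1 := by simpa using this
    have h4 : (y : G) = x := hyx
    simpa [← h4] using h3
  · have h1 : W.relIndex T = ((Q : Subgroup T)).index := by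
      have : W.subgroupOf T = (Q : Subgroup T) := by
        ext x
        rw [Subgroup.mem_subgroupOf]
        constructor
        · rintro ⟨y, hy, hyx⟩
          have : y = x := Subtype.ext hyx
          rwa [← this]
        · intro hx
          exact ⟨x, hx, rfl⟩
      unfold Subgroup.relIndex
      rw [this]
    rw [h1]
    exact Sylow.not_dvd_index Q
  · intro x
    constructor
    · intro hx
      obtain ⟨y, hy, hyx⟩ := hx
      have h1 := hfix ⟨w⁻¹, Subgroup.inv_mem _ (Subgroup.mem_zpowers w)⟩ y hy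
      have h2 : (y : G) = w * x * w⁻¹ := hyx
      simp only at h1
      rw [h2] at h1
      have h3 : w⁻¹ * (w * x * w⁻¹) * w⁻¹⁻¹ = x := by group
      rwa [h3] at h1
    · rintro ⟨y, hy, rfl⟩
      exact hfix ⟨w, Subgroup.mem_zpowers w⟩ y hy

theorem isIrr_conj [Fintype G] {χ : G → ℂ} (hχ : IsIrrCharacter G χ) :
    IsIrrCharacter G (fun g => conj (χ g)) := by
  refine isIrrCharacter_of_classInner_self_eq_one
    (isCharacter_conj (isCharacter_of_isIrrCharacter hχ)) ?_
  have h1 := classInner_irr_self hχ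
  unfold classInner at h1 ⊢
  have h2 := congrArg conj h1
  rw [map_mul, map_inv₀, Complex.conj_natCast, map_sum, map_one] at h2
  simpa using h2

/-- A constituent of the restriction to `Y` of `χ` that restricts to `ϑ` on `N` shows `χ` lies
over `ϑ`. -/
theorem classInner_res_ne_zero [Fintype G] {N Y : Subgroup G} [Fintype N] [Fintype Y]
    (hNY : N ≤ Y) {χ : G → ℂ} (hχ : IsCharacter G χ) {τ : Y → ℂ} (hτ : IsIrrCharacter Y τ)
    {ϑ : N → ℂ} (hϑ : IsIrrCharacter N ϑ) (hres : ∀ n : N, τ ⟨n, hNY n.2⟩ = ϑ n)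
    (h : classInner (fun y : Y => χ y) τ ≠ 0) :
    classInner (fun n : N => χ n) ϑ ≠ 0 := by
  classical
  obtain ⟨Ξ, hΞ, hadd⟩ := exists_char_add (isCharacter_restrict hχ Y) hτ h
  have h1 : (fun n : N => χ n) = ϑ + fun n : N => Ξ ⟨n, hNY n.2⟩ := by
    funext n
    have := congrFun hadd ⟨n, hNY n.2⟩
    simp only [Pi.add_apply] at this ⊢
    rw [← hres n]
    exact this
  rw [h1, classInner_add_left, classInner_irr_self hϑ]
  obtain ⟨b, hb⟩ := exists_nat_classInner
    (isCharacter_comp_hom hΞ (Subgroup.inclusion hNY)) ⟨ϑ, hϑ⟩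
  have hb' : classInner (fun n : N => Ξ ⟨n, hNY n.2⟩) ϑ = b := hb
  rw [hb']
  have h9 : ((1 + b : ℕ) : ℂ) ≠ 0 := by
    exact_mod_cast (by omega : 1 + b ≠ 0)
  simpa using h9

/-- **Lemma**: a linear character of a normal subgroup of odd order inverted by a `2`-element lies
under a real irreducible character. -/
theorem exists_real_over [Fintype G] {N : Subgroup G} [hN : N.Normal] [Fintype N]
    (hodd : ¬ 2 ∣ Nat.card N) (l : G → ℂˣ) (hl : ∀ x ∈ N, ∀ y ∈ N, l (x * y) = l x * l y) {w : G}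
    (hw2 : ∃ k : ℕ, orderOf w = 2 ^ k) (hw : ∀ n ∈ N, l (w * n * w⁻¹) = (l n)⁻¹) :
    ∃ χ : IrrCharacter G, (∀ g, ((χ : G → ℂ) g).im = 0) ∧
      classInner (fun n : N => (χ : G → ℂ) n) (fun n : N => ((l n : ℂˣ) : ℂ)) ≠ 0 := by
  classical
  haveI h2 : Fact (Nat.Prime 2) := ⟨Nat.prime_two⟩
  set T := inertiaL N l hl with hTdef
  have hNT : N ≤ T := le_inertiaL N l hl
  have hwT := inertia_conj_iff N l hl hw
  obtain ⟨W, hWT, hW2, hWodd, hwW⟩ := exists_invariant_sylow T w hwT hw2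
  let Y : Subgroup G := W ⊔ N
  have hYdec : ∀ y ∈ Y, ∃ n ∈ N, ∃ v ∈ W, y = n * v := by
    intro y hy
    obtain ⟨v, hv, n, hn, rfl⟩ := Subgroup.mem_sup_of_normal_right.1 hy
    exact ⟨v * n * v⁻¹, hN.conj_mem n hn v, v, hv, by group⟩
  have hNY : N ≤ Y := le_sup_right
  have hWY : W ≤ Y := le_sup_left
  have hYT : Y ≤ T := sup_le hWT hNT
  have hdis : ∀ x ∈ N, x ∈ W → x = 1 := by
    intro x hx hx'
    obtain ⟨k, hk⟩ := hW2 ⟨x, hx'⟩
    have h5 : x ^ (2 ^ k) = 1 := by
      have := congrArg Subtype.val hk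
      simpa using this
    have h0 : ((⟨x, hx⟩ : N) ^ (Nat.card N) : N) = 1 := pow_card_eq_one'
    have h00 := congrArg Subtype.val h0
    have h6 : x ^ (Nat.card N) = 1 := by
      simpa only [Subgroup.coe_pow, Subgroup.coe_one] using h00
    have h7 := pow_gcd_eq_one.2 ⟨h5, h6⟩
    have hc : Nat.Coprime (2 ^ k) (Nat.card N) :=
      ((Nat.Prime.coprime_iff_not_dvd Nat.prime_two).2 hodd).pow_left k
    rw [hc.gcd_eq_one, pow_one] at h7
    exact h7
  obtain ⟨μ, hμ⟩ := exists_ext (Y := Y) (N := N) (V := W) hNY hWY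
    (fun v _ n hn => hN.conj_mem n hn v) hdis hYdec l hl (fun v hv n hn => hWT hv n hn)
  let τ : Y → ℂ := fun y => ((μ y : ℂˣ) : ℂ)
  have hτ : IsIrrCharacter Y τ := LinearChars.isIrr_of_hom μ
  let ϑ : N → ℂ := fun n : N => ((l n : ℂˣ) : ℂ)
  have hϑ : IsIrrCharacter N ϑ := isIrr_theta N l hl
  have hres : ∀ n : N, τ ⟨n, hNY n.2⟩ = ϑ n := by
    intro n
    have h := hμ n n.2 1 (one_mem _) (by simpa using hNY n.2)
    show ((μ ⟨n, hNY n.2⟩ : ℂˣ) : ℂ) = ((l n : ℂˣ) : ℂ)
    rw [← h]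
    congr 2
    exact Subtype.ext (mul_one _).symm
  have hwY : ∀ y, w * y * w⁻¹ ∈ Y ↔ y ∈ Y := by
    have hfor : ∀ (u : G), (∀ n ∈ N, u * n * u⁻¹ ∈ N) → (∀ v ∈ W, u * v * u⁻¹ ∈ W) →
        ∀ y ∈ Y, u * y * u⁻¹ ∈ Y := by
      intro u hu1 hu2 y hy
      obtain ⟨n, hn, v, hv, rfl⟩ := hYdec y hy
      have he : u * (n * v) * u⁻¹ = (u * n * u⁻¹) * (u * v * u⁻¹) := by group
      rw [he]
      exact Y.mul_mem (hNY (hu1 n hn)) (hWY (hu2 v hv))
    intro y
    constructor
    · intro h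
      have h3 := hfor w⁻¹ (fun n hn => hN.conj_mem n hn w⁻¹)
        (fun v hv => by
          rw [← hwW]
          have h4 : w * (w⁻¹ * v * w⁻¹⁻¹) * w⁻¹ = v := by group
          rwa [h4]) _ h
      have h4 : w⁻¹ * (w * y * w⁻¹) * w⁻¹⁻¹ = y := by group
      rwa [h4] at h3
    · exact hfor w (fun n hn => hN.conj_mem n hn w) (fun v hv => (hwW v).2 hv) y
  have hconj : ∀ y (h : y ∈ Y) (h' : w * y * w⁻¹ ∈ Y),
      conj (τ ⟨y, h⟩) = τ ⟨w * y * w⁻¹, h'⟩ := by
    intro y h h'
    obtain ⟨n, hn, v, hv, rfl⟩ := hYdec y h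
    have hv' : w * v * w⁻¹ ∈ W := (hwW v).2 hv
    have hn' := hN.conj_mem n hn w
    have he : w * (n * v) * w⁻¹ = (w * n * w⁻¹) * (w * v * w⁻¹) := by group
    have h2 : τ ⟨w * (n * v) * w⁻¹, h'⟩ = ((l (w * n * w⁻¹) : ℂˣ) : ℂ) := by
      have h3 := hμ _ hn' _ hv' (by rw [← he]; exact h')
      show ((μ ⟨w * (n * v) * w⁻¹, h'⟩ : ℂˣ) : ℂ) = _
      rw [← h3]
      congr 2
      exact Subtype.ext he
    rw [h2, hw n hn]
    show conj ((μ ⟨n * v, h⟩ : ℂˣ) : ℂ) = _
    rw [hμ n hn v hv h]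
    exact conj_units_of_pow (k := Nat.card N) Nat.card_pos.ne' (l_pow_card N l hl hn)
  -- the induced character
  have hΨ : IsCharacter G (indFun Y τ) := isCharacter_indFun Y (isCharacter_of_isIrrCharacter hτ)
  have hΨreal : ∀ g, conj (indFun Y τ g) = indFun Y τ g := indFun_conj_eq Y τ w hwY hconj
  have hτ1 : τ 1 = 1 := by
    show ((μ 1 : ℂˣ) : ℂ) = 1
    simp
  have hΨ1 : indFun Y τ 1 = (Y.index : ℂ) := by
    rw [indFun_one Y τ, hτ1, mul_one]
  choose m hm using fun χ : IrrCharacter G => exists_nat_classInner hΨ χ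
  have hover : ∀ χ : IrrCharacter G, m χ ≠ 0 →
      classInner (fun n : N => (χ : G → ℂ) n) ϑ ≠ 0 := by
    intro χ hχ
    have hχcl := isClassFunction_of_isCharacter (isCharacter_of_isIrrCharacter χ.2)
    have h1 : classInner (indFun Y τ) (χ : G → ℂ) ≠ 0 := by
      rw [hm χ]
      exact_mod_cast hχ
    rw [frobenius_reciprocity Y τ χ hχcl] at h1
    refine classInner_res_ne_zero hNY (isCharacter_of_isIrrCharacter χ.2) hτ hϑ hres ?_
    intro h0
    apply h1
    rw [← classInner_conj_symm, h0]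
    simp
  have hdvd : ∀ χ : IrrCharacter G, m χ ≠ 0 → T.index ∣ charDegree (χ : G → ℂ) := by
    intro χ hχ
    have h1 := apply_one_eq N ϑ T hϑ (inertia_iff N l hl) χ.2 (hover χ hχ)
    obtain ⟨e, he⟩ := exists_nat_classInner
      (isCharacter_restrict (isCharacter_of_isIrrCharacter χ.2) N) ⟨ϑ, hϑ⟩
    have he' : classInner (fun n : N => (χ : G → ℂ) n) ϑ = e := he
    have hϑ1 : ϑ 1 = 1 := by
      show ((l ((1 : N) : G) : ℂˣ) : ℂ) = 1
      have := hl 1 N.one_mem 1 N.one_mem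
      rw [mul_one] at this
      have h5 : l 1 = 1 := by
        have h6 := mul_left_cancel (a := l 1) (b := l 1) (c := 1) (by rw [mul_one]; exact this.symm)
        exact h6
      simp [h5]
    rw [he', hϑ1, mul_one] at h1
    have h3 : ((charDegree (χ : G → ℂ) : ℕ) : ℂ) = (χ : G → ℂ) 1 :=
      Cfsg.Agent.Lib.Char.Values.IsCharacter.charDegree_cast (isCharacter_of_isIrrCharacter χ.2)
    rw [h1] at h3
    have h4 : charDegree (χ : G → ℂ) = e * T.index := by exact_mod_cast h3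
    exact ⟨e, by rw [h4, mul_comm]⟩
  -- the degree equation
  have hdec := decomp_eq_sum_classInner hΨ
  have hsum : Y.index = ∑ χ : IrrCharacter G, m χ * charDegree (χ : G → ℂ) := by
    have h1 := congrFun hdec 1
    rw [hΨ1, Finset.sum_apply] at h1
    have h3 : ((Y.index : ℕ) : ℂ) =
        ((∑ χ : IrrCharacter G, m χ * charDegree (χ : G → ℂ) : ℕ) : ℂ) := by
      rw [h1]
      push_cast
      refine Finset.sum_congr rfl (fun χ _ => ?_)
      rw [Pi.smul_apply, hm χ, smul_eq_mul,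
        Cfsg.Agent.Lib.Char.Values.IsCharacter.charDegree_cast (isCharacter_of_isIrrCharacter χ.2)]
    exact_mod_cast h3
  have hTpos : T.index ≠ 0 := Subgroup.index_ne_zero_of_finite
  let b : IrrCharacter G → ℕ := fun χ => charDegree (χ : G → ℂ) / T.index
  have hsum2 : Y.relIndex T = ∑ χ : IrrCharacter G, m χ * b χ := by
    have h1 : Y.relIndex T * T.index = Y.index := Subgroup.relIndex_mul_index hYT
    refine Nat.eq_of_mul_eq_mul_right (Nat.pos_of_ne_zero hTpos) ?_
    rw [h1, hsum, Finset.sum_mul]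
    refine Finset.sum_congr rfl (fun χ _ => ?_)
    by_cases h0 : m χ = 0
    · simp [h0]
    · rw [mul_assoc, Nat.div_mul_cancel (hdvd χ h0)]
  have hYodd : ¬ 2 ∣ Y.relIndex T := by
    intro h
    exact hWodd (h.trans (Subgroup.relIndex_dvd_of_le_left T hWY))
  -- complex conjugation on characters
  let cc : IrrCharacter G → IrrCharacter G := fun χ => ⟨_, isIrr_conj χ.2⟩
  have hcc2 : ∀ χ, cc (cc χ) = χ := by
    intro χ
    apply Subtype.ext
    funext g
    simp [cc]
  have hmcc : ∀ χ, m (cc χ) = m χ := by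
    intro χ
    have h1 : ((m (cc χ) : ℕ) : ℂ) = conj ((m χ : ℕ) : ℂ) := by
      rw [← hm (cc χ), ← hm χ]
      unfold classInner
      rw [map_mul, map_inv₀, Complex.conj_natCast, map_sum]
      congr 1
      refine Finset.sum_congr rfl (fun g _ => ?_)
      rw [map_mul, hΨreal g]
    rw [Complex.conj_natCast] at h1
    exact_mod_cast h1
  have hdeg : ∀ χ : IrrCharacter G, charDegree ((cc χ : IrrCharacter G) : G → ℂ) =
      charDegree (χ : G → ℂ) := by
    intro χ
    unfold charDegree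
    show ⌊(conj ((χ : G → ℂ) 1)).re⌋₊ = _
    rw [Complex.conj_re]
  have hbcc : ∀ χ, b (cc χ) = b χ := fun χ => by
    show charDegree ((cc χ : IrrCharacter G) : G → ℂ) / T.index = _
    rw [hdeg]
  -- the parity argument
  have hzmod : (∑ χ : IrrCharacter G, ((m χ * b χ : ℕ) : ZMod 2)) ≠ 0 := by
    rw [← Nat.cast_sum, ← hsum2]
    intro h
    exact hYodd ((ZMod.natCast_eq_zero_iff _ _).1 h)
  have hex : ∃ χ : IrrCharacter G, ((m χ * b χ : ℕ) : ZMod 2) ≠ 0 ∧ cc χ = χ := by
    by_contra hcon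
    push Not at hcon
    apply hzmod
    refine Finset.sum_involution (fun χ _ => cc χ) ?_ ?_ (fun _ _ => Finset.mem_univ _)
      (fun χ _ => hcc2 χ)
    · intro χ _
      rw [hmcc, hbcc]
      exact CharTwo.add_self_eq_zero _
    · intro χ _ h
      exact hcon χ h
  obtain ⟨χ, hχ1, hχ2⟩ := hex
  refine ⟨χ, ?_, ?_⟩
  · intro g
    have h1 : conj ((χ : G → ℂ) g) = (χ : G → ℂ) g := by
      have := congrArg (fun f : IrrCharacter G => (f : G → ℂ) g) hχ2
      exact this
    exact Complex.conj_eq_iff_im.1 h1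
  · refine hover χ ?_
    intro h0
    apply hχ1
    simp [h0]

/-- A character of `p'`-degree has a linear constituent on every `p`-subgroup. -/
theorem exists_linear_constituent [Fintype G] (p : ℕ) [hp : Fact p.Prime] {P : Subgroup G}
    [Fintype P] (hP : IsPGroup p P) {χ : G → ℂ} (hχ : IsCharacter G χ)
    (hd : ¬ p ∣ charDegree χ) :
    ∃ φ : P →* ℂˣ, classInner (fun y : P => χ y) (fun y => ((φ y : ℂˣ) : ℂ)) ≠ 0 := by
  classical
  by_contra hcon
  push Not at hcon
  have hres := isCharacter_restrict hχ P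
  choose m hm using fun θ : IrrCharacter P => exists_nat_classInner hres θ
  obtain ⟨a, ha⟩ := IsPGroup.iff_card.1 hP
  have hdeg : ∀ θ : IrrCharacter P, m θ ≠ 0 → p ∣ charDegree (θ : P → ℂ) := by
    intro θ hθ
    have hθc := isCharacter_of_isIrrCharacter θ.2
    have h1 : (θ : P → ℂ) 1 = (charDegree (θ : P → ℂ) : ℕ) :=
      (Cfsg.Agent.Lib.Char.Values.IsCharacter.charDegree_cast hθc).symm
    have h2 := Cfsg.Agent.Lib.Char.BrauerSCNum.degree_dvd θ _ h1
    rw [ha] at h2
    obtain ⟨j, -, hj⟩ := (Nat.dvd_prime_pow hp.out).1 h2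
    rcases Nat.eq_zero_or_pos j with rfl | hj0
    · exfalso
      rw [pow_zero] at hj
      have h3 : (θ : P → ℂ) 1 = 1 := by
        rw [h1, hj]
        simp
      obtain ⟨φ, hφ⟩ := LinearChars.exists_hom_of_isCharacter_one hθc h3
      apply hθ
      have h4 := hcon φ
      rw [← hφ, hm θ] at h4
      exact_mod_cast h4
    · rw [hj]
      exact dvd_pow_self p hj0.ne'
  apply hd
  have hdec := congrFun (decomp_eq_sum_classInner hres) 1
  rw [Finset.sum_apply] at hdec
  have hsum : charDegree χ = ∑ θ : IrrCharacter P, m θ * charDegree (θ : P → ℂ) := by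
    have h3 : ((charDegree χ : ℕ) : ℂ) =
        ((∑ θ : IrrCharacter P, m θ * charDegree (θ : P → ℂ) : ℕ) : ℂ) := by
      rw [Cfsg.Agent.Lib.Char.Values.IsCharacter.charDegree_cast hχ]
      have h5 : χ 1 = χ ((1 : P) : G) := rfl
      rw [h5, hdec]
      push_cast
      refine Finset.sum_congr rfl (fun θ _ => ?_)
      rw [Pi.smul_apply, hm θ, smul_eq_mul,
        Cfsg.Agent.Lib.Char.Values.IsCharacter.charDegree_cast (isCharacter_of_isIrrCharacter θ.2)]
    exact_mod_cast h3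
  rw [hsum]
  refine Finset.dvd_sum (fun θ _ => ?_)
  by_cases h0 : m θ = 0
  · simp [h0]
  · exact (hdeg θ h0).mul_left _

theorem comm_le_self (P : Subgroup G) : (⁅P, P⁆ : Subgroup G) ≤ P := by
  rw [Subgroup.commutator_le]
  intro a ha b hb
  rw [commutatorElement_def]
  exact P.mul_mem (P.mul_mem (P.mul_mem ha hb) (P.inv_mem ha)) (P.inv_mem hb)

/-- A linear character of `P` vanishes on the derived subgroup of `P`. -/
theorem hom_trivial_on_commutator {P : Subgroup G} (φ : P →* ℂˣ) {x : G}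
    (hx : x ∈ (⁅P, P⁆ : Subgroup G)) (hxP : x ∈ P) : φ ⟨x, hxP⟩ = 1 := by
  have h1 : ⁅P, P⁆ ≤ (φ.ker).map P.subtype := by
    rw [Subgroup.commutator_le]
    intro g₁ hg₁ g₂ hg₂
    refine ⟨(⟨g₁, hg₁⟩ : P) * ⟨g₂, hg₂⟩ * (⟨g₁, hg₁⟩ : P)⁻¹ * (⟨g₂, hg₂⟩ : P)⁻¹, ?_, ?_⟩
    · rw [SetLike.mem_coe, MonoidHom.mem_ker, map_mul, map_mul, map_mul, map_inv, map_inv]
      rw [mul_comm (φ ⟨g₁, hg₁⟩), mul_assoc, mul_assoc, mul_inv_cancel_left, mul_inv_cancel]
    · rw [commutatorElement_def]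
      rfl
  obtain ⟨y, hy, rfl⟩ := h1 hx
  exact hy

open Cfsg.Agent.Lib.Solvable.MinimalNormal in
/-- The `2`-elements centralize every minimal normal subgroup inside the derived subgroup of a
`p`-subgroup. -/
theorem two_central_min [Finite G] (p : ℕ) [hp : Fact p.Prime] (hp2 : p ≠ 2)
    (hreal : RealPrime p G) {P N : Subgroup G} (hP : IsPGroup p P) (hN : IsMinNormal N)
    (hNP : N ≤ (⁅P, P⁆ : Subgroup G)) : ∀ t : G, (∃ k : ℕ, orderOf t = 2 ^ k) → ∀ n ∈ N, t * n = n * t := by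
  classical
  haveI : Fintype G := Fintype.ofFinite G
  haveI : Fintype N := Fintype.ofFinite N
  haveI : Fintype P := Fintype.ofFinite P
  haveI hNn : N.Normal := hN.normal
  have hNleP : N ≤ P := hNP.trans (comm_le_self P)
  have hNpg : IsPGroup p N := hP.to_le hNleP
  have hs : Group.IsSolvable N := by
    haveI := hNpg.isNilpotent
    infer_instance
  have hab := min_normal_abelian hN hs
  obtain ⟨q, hq, hNq⟩ := min_normal_elem hN hab
  have hcoq : ∀ k, Nat.Coprime 2 (p ^ k) := fun k =>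
    ((Nat.coprime_primes Nat.prime_two hp.out).2 (Ne.symm hp2)).pow_right k
  have hodd : ¬ 2 ∣ Nat.card N := by
    obtain ⟨j, hj⟩ := IsPGroup.iff_card.1 hNpg
    rw [hj]
    intro h
    exact hp2 ((Nat.prime_dvd_prime_iff_eq Nat.prime_two hp.out).1
      (Nat.prime_two.dvd_of_dvd_pow h)).symm
  intro t ⟨k, hk⟩
  by_contra hcon
  push Not at hcon
  obtain ⟨i, hi1, hi2⟩ := exists_involutive_action (N := N) (t₀ := t)
    ⟨k, by rw [← hk]; exact pow_orderOf_eq_one t⟩ hcon
  set t₁ := t ^ (2 ^ i) with ht₁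
  have ht₁2 : ∃ j : ℕ, orderOf t₁ = 2 ^ j := by
    have h1 : t₁ ^ (2 ^ k) = 1 := by
      rw [ht₁, ← pow_mul, mul_comm, pow_mul, ← hk, pow_orderOf_eq_one, one_pow]
    obtain ⟨j, -, hj⟩ := (Nat.dvd_prime_pow Nat.prime_two).1 (orderOf_dvd_of_pow_eq_one h1)
    exact ⟨j, hj⟩
  obtain ⟨l, hl, ⟨n₀, hn₀, hlne⟩, hw⟩ := exists_inverted_char hab hi1 hi2
  obtain ⟨χ, hχre, hχover⟩ := exists_real_over hodd l hl ht₁2 hw
  have hχc := isCharacter_of_isIrrCharacter χ.2
  obtain ⟨φ, hφ⟩ := exists_linear_constituent p hP hχc (hreal χ hχre)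
  let τ₀ : N → ℂ := fun n => (((1 : N →* ℂˣ) n : ℂˣ) : ℂ)
  have hτ₀ : IsIrrCharacter N τ₀ := LinearChars.isIrr_of_hom 1
  have h1 : classInner (fun n : N => (χ : G → ℂ) n) τ₀ ≠ 0 := by
    refine classInner_res_ne_zero hNleP hχc (LinearChars.isIrr_of_hom φ) hτ₀ ?_ hφ
    intro n
    show ((φ ⟨n, hNleP n.2⟩ : ℂˣ) : ℂ) = (((1 : N →* ℂˣ) n : ℂˣ) : ℂ)
    rw [hom_trivial_on_commutator φ (hNP n.2) (hNleP n.2)]
    simp
  obtain ⟨g, hg⟩ := exists_conj_of_classInner_ne_zero N χ.2 hτ₀ (isIrr_theta N l hl) h1 hχover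
  apply hlne
  have h2 := congrFun hg ⟨n₀, hn₀⟩
  rw [conjFun_apply] at h2
  have h3 : ∀ y : N, τ₀ y = 1 := fun y => by simp [τ₀]
  rw [h3] at h2
  exact Units.ext h2

open Cfsg.Agent.Lib.Solvable.MinimalNormal in
/-- **Main theorem B**. -/
theorem main_B (p : ℕ) [hp : Fact p.Prime] (hp2 : p ≠ 2) : ∀ (m : ℕ) (G : Type u) [Group G]
    [Finite G], Nat.card G ≤ m → RealPrime p G → ∀ P M : Subgroup G, IsPGroup p P → M.Normal →
    M ≤ (⁅P, P⁆ : Subgroup G) → ∀ t : G, (∃ k : ℕ, orderOf t = 2 ^ k) → ∀ x ∈ M, t * x = x * t := by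
  intro m
  induction m with
  | zero =>
    intro G _ _ hc
    exact absurd hc (by have := Nat.card_pos (α := G); omega)
  | succ m ih =>
    intro G _ _ hc hreal P M hP hMn hMP t ht x hx
    by_cases hM1 : M = ⊥
    · rw [hM1, Subgroup.mem_bot] at hx
      rw [hx]
      group
    obtain ⟨N, hN, hNM⟩ := exists_isMinNormal_le M hMn hM1
    haveI hNn : N.Normal := hN.normal
    have hcen := two_central_min p hp2 hreal hP hN (hNM.trans hMP) t ht
    let f : G →* G ⧸ N := QuotientGroup.mk' N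
    have hf : Function.Surjective f := QuotientGroup.mk'_surjective N
    haveI h2 : Fact (Nat.Prime 2) := ⟨Nat.prime_two⟩
    have hcard : Nat.card (G ⧸ N) ≤ m := by
      have := card_quotient_lt N hN.ne_bot
      omega
    have hPb : IsPGroup p (P.map f) := by
      rintro ⟨_, y, hy, rfl⟩
      obtain ⟨k, hk⟩ := hP ⟨y, hy⟩
      refine ⟨k, Subtype.ext ?_⟩
      have h3 : y ^ (p ^ k) = 1 := by
        have := congrArg Subtype.val hk
        simpa using this
      show (f y) ^ (p ^ k) = 1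
      rw [← map_pow, h3, map_one]
    have hMb : (M.map f) ≤ (⁅P.map f, P.map f⁆ : Subgroup (G ⧸ N)) := by
      rw [← Subgroup.map_commutator]
      exact Subgroup.map_mono hMP
    obtain ⟨k, hk⟩ := ht
    obtain ⟨j, hj⟩ := orderOf_map_pow 2 f t k hk
    have h1 := ih (G ⧸ N) hcard (RealPrime.of_surjective p f hf hreal) (P.map f) (M.map f) hPb
      (hMn.map f hf) hMb (f t) ⟨j, hj⟩ (f x) ⟨x, hx, rfl⟩
    -- `t` fixes `x` modulo `N`
    set z : G := x⁻¹ * (t * x * t⁻¹) with hz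
    have hzN : z ∈ N := by
      rw [← QuotientGroup.eq_one_iff (N := N) z]
      show f z = 1
      rw [hz, map_mul, map_mul, map_mul, map_inv, map_inv, h1]
      group
    have hcz : t * z * t⁻¹ = z := by
      rw [hcen z hzN]
      group
    have hpow : ∀ i : ℕ, t ^ i * x * (t ^ i)⁻¹ = x * z ^ i := by
      intro i
      induction i with
      | zero => simp
      | succ i ih =>
        have h5 : t ^ (i + 1) * x * (t ^ (i + 1))⁻¹ = t * (t ^ i * x * (t ^ i)⁻¹) * t⁻¹ := by
          rw [pow_succ']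
          group
        rw [h5, ih]
        have h6 : t * (x * z ^ i) * t⁻¹ = (t * x * t⁻¹) * (t * z * t⁻¹) ^ i := by
          have h7 : (t * z * t⁻¹) ^ i = t * z ^ i * t⁻¹ := by
            have := map_pow (MulAut.conj t) z i
            simpa [MulAut.conj_apply] using this.symm
          rw [h7]
          group
        rw [h6, hcz]
        have h8 : t * x * t⁻¹ = x * z := by
          rw [hz]
          group
        rw [h8, pow_succ']
        group
    have h5 := hpow (2 ^ k)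
    rw [← hk, pow_orderOf_eq_one, one_mul, inv_one, mul_one] at h5
    have h6 : z ^ orderOf t = 1 := by
      have := mul_left_cancel (a := x) (b := 1) (c := z ^ orderOf t) (by rw [mul_one]; exact h5)
      exact this.symm
    -- `z` has `p`-power order
    have hNleP : N ≤ P := (hNM.trans hMP).trans (comm_le_self P)
    obtain ⟨e, he⟩ := hP ⟨z, hNleP hzN⟩
    have he' : z ^ (p ^ e) = 1 := by
      have := congrArg Subtype.val he
      simpa using this
    have h7 := pow_gcd_eq_one.2 ⟨h6, he'⟩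
    have hcop : Nat.Coprime (orderOf t) (p ^ e) := by
      rw [hk]
      exact (((Nat.coprime_primes Nat.prime_two hp.out).2 (Ne.symm hp2)).pow_left k).pow_right e
    rw [hcop.gcd_eq_one, pow_one] at h7
    have h8 : t * x * t⁻¹ = x := by
      have : x * z = t * x * t⁻¹ := by
        rw [hz]
        group
      rw [← this, h7, mul_one]
    rw [mul_inv_eq_iff_eq_mul] at h8
    exact h8

end Cfsg.Agent.Lib.Char.RealOver
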