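import Mathlib
import Cfsg.Agent.Lib.Char.CompleteCor
import Cfsg.Agent.Lib.Char.IndNormal
import Cfsg.Agent.Lib.Char.Ortho
import Cfsg.Agent.Lib.Char.RealOver2
import Cfsg.Agent.Lib.Char.GlaubSolv

/-!
# Orbits on real characters and on real classes

For a group `A` acting on a finite group `X` by automorphisms such that an odd power of each element
acts as an inner automorphism, the number of `A`-orbits on the real irreducible characters of `X`
equals the number of `A`-orbits on the real classes of `X`.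
-/

set_option autoImplicit false
set_option linter.style.haveILetI false
set_option linter.unusedSectionVars false
set_option linter.unusedVariables false

namespace Cfsg.Agent.Lib.Char.RealClass

open Cfsg Cfsg.Agent.Lib.Char.CompleteCor Cfsg.Agent.Lib.Char.Ortho
open Cfsg.Agent.Lib.Char.GlaubRel
open scoped ComplexConjugate

universe u v

variable {X : Type u} [Group X] [Finite X]

/-- Summing the class size over a class-invariant predicate counts classes. -/
theorem sum_classes (Q : X → Prop) (hQ : ∀ g x, IsConj g x → (Q g ↔ Q x)) [DecidablePred Q]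
    [Fintype X] :
    (Nat.card X : ℂ)⁻¹ * (∑ g : X, if Q g then
        (Nat.card (Subgroup.centralizer ({g} : Set X)) : ℂ) else 0) =
      ((Nat.card {c : ConjClasses X // ∀ k : X, ConjClasses.mk k = c → Q k} : ℕ) : ℂ) := by
  classical
  haveI := Fintype.ofFinite (ConjClasses X)
  rw [Nat.card_eq_fintype_card (α := {c : ConjClasses X // _}), Fintype.card_subtype,
    Finset.natCast_card_filter]
  rw [← Finset.sum_fiberwise (s := Finset.univ) (g := ConjClasses.mk) , Finset.mul_sum]
  refine Finset.sum_congr rfl fun c _ => ?_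
  obtain ⟨x, rfl⟩ := ConjClasses.mk_surjective c
  have hreal : ∀ g : X, ConjClasses.mk g = ConjClasses.mk x → (Q g ↔ Q x) := by
    intro g hg
    exact hQ g x (ConjClasses.mk_eq_mk_iff_isConj.1 hg)
  -- orbit-stabiliser
  have key : ∀ g : X, (Finset.univ.filter (fun h : X => ConjClasses.mk h = ConjClasses.mk g)).card *
      Nat.card (Subgroup.centralizer ({g} : Set X)) = Nat.card X := by
    intro g
    have h1 := MulAction.card_orbit_mul_card_stabilizer_eq_card_group (ConjAct X) g
    have h2 : (Finset.univ.filter (fun h : X => ConjClasses.mk h = ConjClasses.mk g)).card =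
        Fintype.card (MulAction.orbit (ConjAct X) g) := by
      rw [← Fintype.card_subtype]
      refine Fintype.card_congr (Equiv.subtypeEquivRight fun h => ?_)
      rw [ConjAct.mem_orbit_conjAct, ConjClasses.mk_eq_mk_iff_isConj]
    rw [h2, Subgroup.nat_card_centralizer_nat_card_stabilizer, Nat.card_eq_fintype_card,
      Nat.card_eq_fintype_card, h1, ConjAct.card]
  have hcent : ∀ g : X, ConjClasses.mk g = ConjClasses.mk x →
      Nat.card (Subgroup.centralizer ({g} : Set X)) =
        Nat.card (Subgroup.centralizer ({x} : Set X)) := by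
    intro g hg
    have h1 := key g
    have h2 := key x
    rw [hg] at h1
    refine Nat.eq_of_mul_eq_mul_left ?_ (h1.trans h2.symm)
    refine Nat.pos_of_ne_zero fun h0 => ?_
    rw [h0, zero_mul] at h1
    exact Nat.card_pos.ne h1
  have hsum : ∑ g ∈ Finset.univ.filter (fun g : X => ConjClasses.mk g = ConjClasses.mk x),
      (if Q g then (Nat.card (Subgroup.centralizer ({g} : Set X)) : ℂ) else 0) =
      ((Finset.univ.filter (fun g : X => ConjClasses.mk g = ConjClasses.mk x)).card : ℂ) *
        (if Q x then (Nat.card (Subgroup.centralizer ({x} : Set X)) : ℂ) else 0) := by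
    rw [← nsmul_eq_mul, ← Finset.sum_const]
    refine Finset.sum_congr rfl fun g hg => ?_
    have hg' := (Finset.mem_filter.1 hg).2
    simp only [hreal g hg', hcent g hg']
  rw [hsum]
  have hKne : (Nat.card X : ℂ) ≠ 0 := by exact_mod_cast Nat.card_pos.ne'
  have hk := key x
  have hk' : ((Finset.univ.filter (fun g : X => ConjClasses.mk g = ConjClasses.mk x)).card : ℂ) *
      (Nat.card (Subgroup.centralizer ({x} : Set X)) : ℂ) = Nat.card X := by
    exact_mod_cast hk
  have hiff : (∀ k : X, ConjClasses.mk k = ConjClasses.mk x → Q k) ↔ Q x :=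
    ⟨fun h => h x rfl, fun h k hk => (hreal k hk).2 h⟩
  by_cases hx : Q x
  · rw [if_pos hx, if_pos (hiff.2 hx), hk']
    field_simp
  · rw [if_neg hx, if_neg (fun h => hx (hiff.1 h))]
    simp

/-- The number of irreducible characters `θ` with `θ̄ ∘ α = θ` equals the number of classes fixed by
`k ↦ (α k)⁻¹`. -/
theorem card_twisted (α : MulAut X) :
    Nat.card {θ : IrrCharacter X // ∀ x, conj ((θ : X → ℂ) (α x)) = (θ : X → ℂ) x} =
      Nat.card {c : ConjClasses X // ∀ k : X, ConjClasses.mk k = c → IsConj k (α k)⁻¹} := by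
  classical
  haveI := Fintype.ofFinite X
  haveI := Fintype.ofFinite (IrrCharacter X)
  haveI := Fintype.ofFinite (ConjClasses X)
  have hirr : ∀ θ : IrrCharacter X, IsIrrCharacter X (fun g => conj ((θ : X → ℂ) (α g))) := by
    intro θ
    exact Cfsg.Agent.Lib.Char.Basic.isIrrCharacter_comp_surjective
      (Cfsg.Agent.Lib.Char.RealOver.isIrr_conj θ.2) (α : X ≃* X).toMonoidHom (α : X ≃* X).surjective
  -- left side
  have hL : ((Nat.card {θ : IrrCharacter X // ∀ x, conj ((θ : X → ℂ) (α x)) = (θ : X → ℂ) x} : ℕ) : ℂ)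
      = ∑ θ : IrrCharacter X, classInner (θ : X → ℂ) (fun g => conj ((θ : X → ℂ) (α g))) := by
    rw [Nat.card_eq_fintype_card, Fintype.card_subtype, Finset.natCast_card_filter]
    refine Finset.sum_congr rfl fun θ _ => ?_
    by_cases hr : ∀ x, conj ((θ : X → ℂ) (α x)) = (θ : X → ℂ) x
    · rw [if_pos hr]
      have : (fun g => conj ((θ : X → ℂ) (α g))) = (θ : X → ℂ) := funext hr
      rw [this, classInner_irr_self θ.2]
    · rw [if_neg hr]
      symm
      refine classInner_irr_of_ne θ.2 (hirr θ) ?_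
      intro h
      exact hr fun x => (congrFun h x).symm
  -- exchange
  have hX : ∑ θ : IrrCharacter X, classInner (θ : X → ℂ) (fun g => conj ((θ : X → ℂ) (α g))) =
      (Nat.card X : ℂ)⁻¹ * ∑ g : X, if IsConj g (α g)⁻¹ then
        (Nat.card (Subgroup.centralizer ({g} : Set X)) : ℂ) else 0 := by
    simp only [classInner]
    rw [← Finset.mul_sum, Finset.sum_comm]
    refine congrArg _ (Finset.sum_congr rfl fun g _ => ?_)
    have h1 : ∀ θ : IrrCharacter X, (θ : X → ℂ) g * conj (conj ((θ : X → ℂ) (α g))) =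
        (θ : X → ℂ) g * conj ((θ : X → ℂ) (α g)⁻¹) := by
      intro θ
      rw [Cfsg.Agent.Lib.Char.Complete.isIrr_inv θ.2]
    simp only [h1]
    split_ifs with hc
    · exact column_orth_conj hc
    · exact column_orth_not_conj hc
  have hQ : ∀ g x : X, IsConj g x → (IsConj g (α g)⁻¹ ↔ IsConj x (α x)⁻¹) := by
    intro g x h
    have h1 : IsConj (α g)⁻¹ (α x)⁻¹ := by
      obtain ⟨k, hk⟩ := isConj_iff.1 h
      refine isConj_iff.2 ⟨α k, ?_⟩
      rw [← hk]
      simp only [map_mul, map_inv]
      group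
    constructor
    · intro h2
      exact (h.symm.trans h2).trans h1
    · intro h2
      exact (h.trans h2).trans h1.symm
  have hR := sum_classes (fun g : X => IsConj g (α g)⁻¹) hQ
  have : ((Nat.card {θ : IrrCharacter X // ∀ x, conj ((θ : X → ℂ) (α x)) = (θ : X → ℂ) x} : ℕ) : ℂ) =
      ((Nat.card {c : ConjClasses X // ∀ k : X, ConjClasses.mk k = c → IsConj k (α k)⁻¹} : ℕ) : ℂ) := by
    rw [hL, hX, hR]
  exact_mod_cast this

/-- Under the odd-power hypothesis, twisted-invariant means real and invariant (characters). -/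
theorem twisted_irr_iff (α : MulAut X) {m : ℕ} (hm : Odd m)
    (h : ∀ x, IsConj ((α ^ m) x) x) (θ : IrrCharacter X) :
    (∀ x, conj ((θ : X → ℂ) (α x)) = (θ : X → ℂ) x) ↔
      (∀ x, ((θ : X → ℂ) x).im = 0) ∧ ∀ x, (θ : X → ℂ) (α x) = (θ : X → ℂ) x := by
  haveI := Fintype.ofFinite X
  constructor
  · intro ht
    have hiter : ∀ j : ℕ, ∀ x, conj ((θ : X → ℂ) ((α ^ (2 * j + 1)) x)) = (θ : X → ℂ) x := by
      intro j
      induction j with
      | zero =>
        intro x
        simpa using ht x
      | succ j ih =>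
        intro x
        have h1 : (α ^ (2 * (j + 1) + 1)) x = α (α ((α ^ (2 * j + 1)) x)) := by
          have : 2 * (j + 1) + 1 = 1 + (1 + (2 * j + 1)) := by ring
          rw [this, pow_add, pow_add, pow_one]
          rfl
        rw [h1, ht]
        have h2 := ht ((α ^ (2 * j + 1)) x)
        rw [← ih x, ← h2, Complex.conj_conj]
    obtain ⟨j, rfl⟩ := hm
    have hr : ∀ x, conj ((θ : X → ℂ) x) = (θ : X → ℂ) x := by
      intro x
      have h1 := hiter j x
      rwa [irr_apply_of_isConj (h x) θ] at h1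
    refine ⟨fun x => Complex.conj_eq_iff_im.1 (hr x), fun x => ?_⟩
    have h2 := ht x
    rwa [hr] at h2
  · rintro ⟨h1, h2⟩ x
    rw [h2]
    exact Complex.conj_eq_iff_im.2 (h1 x)

theorem isConj_inv_inv {a b : X} (h : IsConj a b) : IsConj a⁻¹ b⁻¹ := by
  obtain ⟨k, hk⟩ := isConj_iff.1 h
  refine isConj_iff.2 ⟨k, ?_⟩
  rw [← hk]
  group

theorem isConj_map (α : MulAut X) {a b : X} (h : IsConj a b) : IsConj (α a) (α b) := by
  obtain ⟨k, hk⟩ := isConj_iff.1 h
  refine isConj_iff.2 ⟨α k, ?_⟩
  rw [← hk]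
  simp only [map_mul, map_inv]

/-- Under the odd-power hypothesis, twisted-invariant means real and invariant (classes). -/
theorem twisted_class_iff (α : MulAut X) {m : ℕ} (hm : Odd m)
    (h : ∀ x, IsConj ((α ^ m) x) x) (x : X) :
    (∀ k : X, ConjClasses.mk k = ConjClasses.mk x → IsConj k (α k)⁻¹) ↔
      IsConj x x⁻¹ ∧ IsConj (α x) x := by
  constructor
  · intro ht
    have hiter : ∀ j : ℕ, IsConj ((α ^ (2 * j)) x) x := by
      intro j
      induction j with
      | zero =>
        rw [Nat.mul_zero, pow_zero]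
        exact IsConj.refl _
      | succ j ih =>
        have h1 : (α ^ (2 * (j + 1))) x = α (α ((α ^ (2 * j)) x)) := by
          have : 2 * (j + 1) = 1 + (1 + (2 * j)) := by ring
          rw [this, pow_add, pow_add, pow_one]
          rfl
        rw [h1]
        have hc1 := ht _ (ConjClasses.mk_eq_mk_iff_isConj.2 ih)
        have hc2 := ht _ (ConjClasses.mk_eq_mk_iff_isConj.2 (hc1.symm.trans ih))
        rw [map_inv, inv_inv] at hc2
        exact hc2.symm.trans (hc1.symm.trans ih)
    obtain ⟨j, rfl⟩ := hm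
    have h1 : IsConj x x⁻¹ := by
      have h2 := hiter j
      have h3 := ht _ (ConjClasses.mk_eq_mk_iff_isConj.2 h2)
      have h4 : α ((α ^ (2 * j)) x) = (α ^ (2 * j + 1)) x := by
        rw [add_comm, pow_add, pow_one]
        rfl
      rw [h4] at h3
      have h5 := isConj_inv_inv (h x)
      exact h2.symm.trans (h3.trans h5)
    refine ⟨h1, ?_⟩
    have h2 := ht x rfl
    have h3 := isConj_inv_inv (h2.symm.trans h1)
    simpa using h3.symm.symm
  · rintro ⟨h1, h2⟩ k hk
    have hk' : IsConj k x := ConjClasses.mk_eq_mk_iff_isConj.1 hk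
    exact (hk'.trans h1).trans (isConj_inv_inv ((isConj_map α hk').trans h2)).symm

section Action

variable {A : Type v} [Group A]

/-- The real irreducible characters of `X`, with the action of `A` through `φ`. -/
def RIrr (_φ : A →* MulAut X) : Type u := {θ : IrrCharacter X // ∀ k : X, ((θ : X → ℂ) k).im = 0}

/-- The real classes of `X`, with the action of `A` through `φ`. -/
def RCl (_φ : A →* MulAut X) : Type u :=
  {c : ConjClasses X // ∀ k : X, ConjClasses.mk k = c → IsConj k k⁻¹}

variable (φ : A →* MulAut X)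

instance : Finite (RIrr φ) := by
  unfold RIrr
  infer_instance

instance : Finite (RCl φ) := by
  unfold RCl
  haveI : Finite (ConjClasses X) := Quotient.finite _
  infer_instance

/-- The value of a real irreducible character. -/
def RIrr.val (θ : RIrr φ) : IrrCharacter X := Subtype.val θ

/-- The underlying class. -/
def RCl.val (c : RCl φ) : ConjClasses X := Subtype.val c

noncomputable instance : MulAction A (RIrr φ) where
  smul a θ := ⟨irrComp (φ a)⁻¹ θ.1, fun k => θ.2 _⟩
  one_smul θ := by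
    refine Subtype.ext (Subtype.ext (funext fun k => ?_))
    show (θ.1 : X → ℂ) ((φ 1)⁻¹ k) = (θ.1 : X → ℂ) k
    simp
  mul_smul a b θ := by
    refine Subtype.ext (Subtype.ext (funext fun k => ?_))
    show (θ.1 : X → ℂ) ((φ (a * b))⁻¹ k) = (θ.1 : X → ℂ) ((φ b)⁻¹ ((φ a)⁻¹ k))
    rw [map_mul, mul_inv_rev]
    rfl

theorem RIrr.smul_apply (a : A) (θ : RIrr φ) (k : X) :
    ((a • θ : RIrr φ).1 : X → ℂ) k = (θ.1 : X → ℂ) ((φ a)⁻¹ k) := rfl

theorem real_map (α : MulAut X) (c : ConjClasses X)
    (hc : ∀ k : X, ConjClasses.mk k = c → IsConj k k⁻¹) :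
    ∀ k : X, ConjClasses.mk k = ConjClasses.map (α : X ≃* X).toMonoidHom c → IsConj k k⁻¹ := by
  obtain ⟨y, rfl⟩ := ConjClasses.mk_surjective c
  intro k hk
  have h1 : IsConj k (α y) := ConjClasses.mk_eq_mk_iff_isConj.1 hk
  have h2 : IsConj (α y) (α y)⁻¹ := by
    have := isConj_map α (hc y rfl)
    rwa [map_inv] at this
  exact (h1.trans h2).trans (isConj_inv_inv h1).symm

noncomputable instance : MulAction A (RCl φ) where
  smul a c := ⟨ConjClasses.map (φ a : X ≃* X).toMonoidHom c.1, real_map (φ a) c.1 c.2⟩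
  one_smul c := by
    obtain ⟨c, hc⟩ := c
    refine Subtype.ext ?_
    obtain ⟨y, rfl⟩ := ConjClasses.mk_surjective c
    show ConjClasses.mk ((φ 1) y) = ConjClasses.mk y
    simp
  mul_smul a b c := by
    obtain ⟨c, hc⟩ := c
    refine Subtype.ext ?_
    obtain ⟨y, rfl⟩ := ConjClasses.mk_surjective c
    show ConjClasses.mk ((φ (a * b)) y) = ConjClasses.mk ((φ a) ((φ b) y))
    rw [map_mul]
    rfl

theorem RCl.smul_val (a : A) (c : RCl φ) (y : X) (hy : c.1 = ConjClasses.mk y) :
    (a • c).1 = ConjClasses.mk (φ a y) := by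
  obtain ⟨c, hc⟩ := c
  obtain rfl : c = ConjClasses.mk y := hy
  rfl

/-- Fixed points of one element on real characters and on real classes. -/
theorem card_fixedBy_eq (a : A) {m : ℕ} (hm : Odd m) (h : ∀ x, IsConj (((φ a) ^ m) x) x) :
    Nat.card (MulAction.fixedBy (RIrr φ) a) = Nat.card (MulAction.fixedBy (RCl φ) a) := by
  have h1 : Nat.card (MulAction.fixedBy (RIrr φ) a) =
      Nat.card {θ : IrrCharacter X // ∀ x, conj ((θ : X → ℂ) (φ a x)) = (θ : X → ℂ) x} := by
    refine Nat.card_congr ⟨fun θ => ⟨θ.1.1, ?_⟩, fun θ => ⟨⟨θ.1, ?_⟩, ?_⟩, ?_, ?_⟩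
    · have hθ : a • θ.1 = θ.1 := θ.2
      refine (twisted_irr_iff (φ a) hm h θ.1.1).2 ⟨θ.1.2, fun x => ?_⟩
      have h2 := congrFun (congrArg Subtype.val (congrArg Subtype.val hθ)) (φ a x)
      have h3 : ((a • θ.1 : RIrr φ).1 : X → ℂ) (φ a x) = (θ.1.1 : X → ℂ) x := by
        rw [RIrr.smul_apply]
        simp
      rw [← h3, h2]
    · exact ((twisted_irr_iff (φ a) hm h θ.1).1 θ.2).1
    · have hfix := ((twisted_irr_iff (φ a) hm h θ.1).1 θ.2).2
      refine Subtype.ext (Subtype.ext (funext fun k => ?_))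
      show (θ.1 : X → ℂ) ((φ a)⁻¹ k) = (θ.1 : X → ℂ) k
      have h3 := hfix ((φ a)⁻¹ k)
      rw [← h3]
      congr 1
      simp
    · rintro ⟨⟨θ, h1⟩, h2⟩
      rfl
    · rintro ⟨θ, h1⟩
      rfl
  have h2 : Nat.card (MulAction.fixedBy (RCl φ) a) =
      Nat.card {c : ConjClasses X // ∀ k : X, ConjClasses.mk k = c → IsConj k (φ a k)⁻¹} := by
    refine Nat.card_congr ⟨fun c => ⟨c.1.1, ?_⟩, fun c => ⟨⟨c.1, ?_⟩, ?_⟩, ?_, ?_⟩
    · obtain ⟨c, hfix⟩ := c
      have h3 : a • c = c := hfix
      obtain ⟨y, hy⟩ := ConjClasses.mk_surjective c.1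
      show ∀ k : X, ConjClasses.mk k = c.1 → IsConj k (φ a k)⁻¹
      rw [← hy]
      refine (twisted_class_iff (φ a) hm h y).2 ⟨c.2 y hy, ?_⟩
      have h4 := congrArg Subtype.val h3
      have h5 : (a • c).1 = ConjClasses.mk (φ a y) := RCl.smul_val φ a c y hy.symm
      rw [h5, ← hy] at h4
      exact ConjClasses.mk_eq_mk_iff_isConj.1 h4
    · obtain ⟨c, hc⟩ := c
      obtain ⟨y, rfl⟩ := ConjClasses.mk_surjective c
      intro k hk
      have h3 := ((twisted_class_iff (φ a) hm h y).1 hc).1
      have hk' : IsConj k y := ConjClasses.mk_eq_mk_iff_isConj.1 hk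
      exact (hk'.trans h3).trans (isConj_inv_inv hk').symm
    · obtain ⟨c, hc⟩ := c
      obtain ⟨y, rfl⟩ := ConjClasses.mk_surjective c
      apply Subtype.ext
      exact ConjClasses.mk_eq_mk_iff_isConj.2 ((twisted_class_iff (φ a) hm h y).1 hc).2
    · rintro ⟨⟨c, h1⟩, h2⟩
      rfl
    · rintro ⟨c, h1⟩
      rfl
  rw [h1, h2]
  exact card_twisted (φ a)

/-- The number of orbits on real characters and on real classes coincide. -/
theorem card_orbits_eq [Finite A] (hφ : ∀ a, ∃ m : ℕ, Odd m ∧ ∀ x, IsConj (((φ a) ^ m) x) x) :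
    Nat.card (MulAction.orbitRel.Quotient A (RIrr φ)) =
      Nat.card (MulAction.orbitRel.Quotient A (RCl φ)) := by
  classical
  haveI := Fintype.ofFinite A
  haveI := Fintype.ofFinite (RIrr φ)
  haveI := Fintype.ofFinite (RCl φ)
  haveI : ∀ a : A, Fintype (MulAction.fixedBy (RIrr φ) a) := fun a => Fintype.ofFinite _
  haveI : ∀ a : A, Fintype (MulAction.fixedBy (RCl φ) a) := fun a => Fintype.ofFinite _
  haveI : Fintype (MulAction.orbitRel.Quotient A (RIrr φ)) := Fintype.ofFinite _
  haveI : Fintype (MulAction.orbitRel.Quotient A (RCl φ)) := Fintype.ofFinite _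
  have h1 := MulAction.sum_card_fixedBy_eq_card_orbits_mul_card_group A (RIrr φ)
  have h2 := MulAction.sum_card_fixedBy_eq_card_orbits_mul_card_group A (RCl φ)
  have h3 : ∀ a : A, Fintype.card (MulAction.fixedBy (RIrr φ) a) =
      Fintype.card (MulAction.fixedBy (RCl φ) a) := by
    intro a
    obtain ⟨m, hm, h⟩ := hφ a
    rw [← Nat.card_eq_fintype_card, ← Nat.card_eq_fintype_card]
    exact card_fixedBy_eq φ a hm h
  simp only [h3] at h1
  rw [h2] at h1
  rw [Nat.card_eq_fintype_card, Nat.card_eq_fintype_card]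
  exact (Nat.eq_of_mul_eq_mul_right Fintype.card_pos h1).symm

end Action

end Cfsg.Agent.Lib.Char.RealClass
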