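import Mathlib
import Cfsg.Agent.Lib.Char.RealClass
import Cfsg.Agent.Lib.Char.Monomial

/-!
# Real classes of the normal subgroup generated by the `2`-elements

If `K` is a normal `p'`-subgroup containing all `2`-elements and real irreducible characters have
`p'`-degree, then every real element of `K` is conjugate to an element centralized by a given Sylow
`p`-subgroup.
-/

set_option autoImplicit false
set_option linter.style.haveILetI false
set_option linter.unusedSectionVars false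
set_option linter.unusedVariables false

namespace Cfsg.Agent.Lib.Char.RealClass

open Cfsg Cfsg.Agent.Lib.Char.Basic Cfsg.Agent.Lib.Char.Ortho Cfsg.Agent.Lib.Char.Induced
  Cfsg.Agent.Lib.Char.IndRep Cfsg.Agent.Lib.Char.Clifford Cfsg.Agent.Lib.Char.CliffordCorr
  Cfsg.Agent.Lib.Char.RealOver Cfsg.Agent.Lib.Char.Monomial
open Cfsg.Agent.Lib.Char.GlaubRel Cfsg.Agent.Lib.Char.GlaubP Cfsg.Agent.Lib.Char.GlaubSolv
open scoped ComplexConjugate Pointwise

universe u v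

section Sylow

/-- Sylow fusion: two `P`-fixed points in the same orbit are in the same orbit of `N(P)`. -/
theorem exists_normalizer_smul {Γ : Type*} [Group Γ] [Finite Γ] {p : ℕ} [Fact p.Prime]
    (P : Sylow p Γ) {Ω : Type*} [MulAction Γ Ω] (x : Ω) (g : Γ)
    (hx : ∀ u ∈ (P : Subgroup Γ), u • x = x) (hy : ∀ u ∈ (P : Subgroup Γ), u • (g • x) = g • x) :
    ∃ n : Γ, n ∈ Subgroup.normalizer ((P : Subgroup Γ) : Set Γ) ∧ n • x = g • x := by
  let S := MulAction.stabilizer Γ x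
  have hPS : (P : Subgroup Γ) ≤ S := fun u hu => hx u hu
  let P' : Sylow p Γ := g⁻¹ • P
  have hP'S : (P' : Subgroup Γ) ≤ S := by
    intro v hv
    have hv' : v ∈ ((P' : Subgroup Γ) : Set Γ) := hv
    rw [show ((P' : Subgroup Γ) : Set Γ) = MulAut.conj g⁻¹ • ((P : Subgroup Γ) : Set Γ) from
      Sylow.coe_smul] at hv'
    obtain ⟨u, hu, rfl⟩ := Set.mem_smul_set.1 hv'
    show _ • x = x
    have h1 := hy u hu
    have h2 : (MulAut.conj g⁻¹ • u) = g⁻¹ * u * g := by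
      rw [MulAut.smul_def, MulAut.conj_apply, inv_inv]
    rw [h2, mul_smul, mul_smul, h1, inv_smul_smul]
  obtain ⟨s, hs⟩ := MulAction.exists_smul_eq S (P'.subtype hP'S) (P.subtype hPS)
  rw [Sylow.smul_subtype] at hs
  have h2 : (s : Γ) • P' = P := Sylow.subtype_injective hs
  have h3 : ((s : Γ) * g⁻¹) • P = P := by
    rw [mul_smul]
    exact h2
  have hn := Sylow.smul_eq_iff_mem_normalizer.1 h3
  refine ⟨((s : Γ) * g⁻¹)⁻¹, Subgroup.inv_mem _ hn, ?_⟩
  rw [mul_inv_rev, inv_inv, mul_smul]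
  congr 1
  have hs1 : (s : Γ)⁻¹ ∈ S := S.inv_mem s.2
  exact hs1

end Sylow

section OrbitMap

variable {A : Type*} {B : Type*} [Group A] [Group B] (ι : B →* A) {Ω : Type*} {Ω' : Type*}
  [MulAction A Ω] [MulAction B Ω'] (F : Ω' → Ω) (hF : ∀ b x, F (b • x) = ι b • F x)

/-- The map induced on orbits by an equivariant map. -/
def orbitMap : MulAction.orbitRel.Quotient B Ω' → MulAction.orbitRel.Quotient A Ω :=
  Quotient.map' F (by
    intro x y h
    have h1 : x ∈ MulAction.orbit B y := h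
    obtain ⟨b, rfl⟩ := h1
    exact ⟨ι b, (hF b y).symm⟩)

theorem orbitMap_mk (x : Ω') :
    orbitMap ι F hF (Quotient.mk'' x) = Quotient.mk'' (F x) := rfl

/-- `orbitRel` in elementary form. -/
theorem orbit_eq_iff {C : Type*} [Group C] {Y : Type*} [MulAction C Y] (x y : Y) :
    (Quotient.mk'' x : MulAction.orbitRel.Quotient C Y) = Quotient.mk'' y ↔ ∃ c : C, c • y = x := by
  rw [Quotient.eq'']
  exact Iff.rfl

end OrbitMap

section Parity

variable {G : Type u} [Group G] [Fintype G]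

/-- A real character whose irreducible constituents have degree divisible by `d`, and whose degree
is `d` times an odd number, has a real irreducible constituent. -/
theorem exists_real_constituent {Ψ : G → ℂ} (hΨ : IsCharacter G Ψ)
    (hre : ∀ g, conj (Ψ g) = Ψ g) {d t : ℕ} (hd : d ≠ 0)
    (hdvd : ∀ χ : IrrCharacter G, classInner Ψ (χ : G → ℂ) ≠ 0 → d ∣ charDegree (χ : G → ℂ))
    (h1 : Ψ 1 = ((d * t : ℕ) : ℂ)) (ht : ¬ 2 ∣ t) :
    ∃ χ : IrrCharacter G, (∀ g, ((χ : G → ℂ) g).im = 0) ∧ classInner Ψ (χ : G → ℂ) ≠ 0 := by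
  classical
  haveI h2 : Fact (Nat.Prime 2) := ⟨Nat.prime_two⟩
  choose m hm using fun χ : IrrCharacter G => exists_nat_classInner hΨ χ
  have hdec := decomp_eq_sum_classInner hΨ
  have hsum : d * t = ∑ χ : IrrCharacter G, m χ * charDegree (χ : G → ℂ) := by
    have h3 := congrFun hdec 1
    rw [h1, Finset.sum_apply] at h3
    have h4 : ((d * t : ℕ) : ℂ) =
        ((∑ χ : IrrCharacter G, m χ * charDegree (χ : G → ℂ) : ℕ) : ℂ) := by
      rw [h3]
      push_cast
      refine Finset.sum_congr rfl (fun χ _ => ?_)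
      rw [Pi.smul_apply, hm χ, smul_eq_mul,
        Cfsg.Agent.Lib.Char.Values.IsCharacter.charDegree_cast (isCharacter_of_isIrrCharacter χ.2)]
    exact_mod_cast h4
  let b : IrrCharacter G → ℕ := fun χ => charDegree (χ : G → ℂ) / d
  have hsum2 : t = ∑ χ : IrrCharacter G, m χ * b χ := by
    refine Nat.eq_of_mul_eq_mul_left (Nat.pos_of_ne_zero hd) ?_
    rw [hsum, Finset.mul_sum]
    refine Finset.sum_congr rfl (fun χ _ => ?_)
    by_cases h0 : m χ = 0
    · simp [h0]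
    · have hne : classInner Ψ (χ : G → ℂ) ≠ 0 := by
        rw [hm χ]
        exact_mod_cast h0
      show _ = d * (m χ * (charDegree (χ : G → ℂ) / d))
      rw [mul_left_comm, Nat.mul_div_cancel' (hdvd χ hne)]
  let cc : IrrCharacter G → IrrCharacter G := fun χ => ⟨_, isIrr_conj χ.2⟩
  have hcc2 : ∀ χ, cc (cc χ) = χ := by
    intro χ
    apply Subtype.ext
    funext g
    simp [cc]
  have hmcc : ∀ χ, m (cc χ) = m χ := by
    intro χ
    have h3 : ((m (cc χ) : ℕ) : ℂ) = conj ((m χ : ℕ) : ℂ) := by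
      rw [← hm (cc χ), ← hm χ]
      unfold classInner
      rw [map_mul, map_inv₀, Complex.conj_natCast, map_sum]
      congr 1
      refine Finset.sum_congr rfl (fun g _ => ?_)
      rw [map_mul, hre g]
    rw [Complex.conj_natCast] at h3
    exact_mod_cast h3
  have hdeg : ∀ χ : IrrCharacter G, charDegree ((cc χ : IrrCharacter G) : G → ℂ) =
      charDegree (χ : G → ℂ) := by
    intro χ
    unfold charDegree
    show ⌊(conj ((χ : G → ℂ) 1)).re⌋₊ = _
    rw [Complex.conj_re]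
  have hbcc : ∀ χ, b (cc χ) = b χ := fun χ => by
    show charDegree ((cc χ : IrrCharacter G) : G → ℂ) / d = _
    rw [hdeg]
  have hzmod : (∑ χ : IrrCharacter G, ((m χ * b χ : ℕ) : ZMod 2)) ≠ 0 := by
    rw [← Nat.cast_sum, ← hsum2]
    intro h
    exact ht ((ZMod.natCast_eq_zero_iff _ _).1 h)
  have hex : ∃ χ : IrrCharacter G, ((m χ * b χ : ℕ) : ZMod 2) ≠ 0 ∧ cc χ = χ := by
    by_contra hcon
    push Not at hcon
    apply hzmod
    refine Finset.sum_involution (fun χ _ => cc χ) ?_ ?_ (fun _ _ => Finset.mem_univ _)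
      (fun χ _ => hcc2 χ)
    · intro χ _
      rw [hmcc, hbcc]
      exact CharTwo.add_self_eq_zero _
    · intro χ _ h
      exact hcon χ h
  obtain ⟨χ, hχ1, hχ2⟩ := hex
  refine ⟨χ, ?_, ?_⟩
  · intro g
    have h3 := congrFun (congrArg Subtype.val hχ2) g
    exact Complex.conj_eq_iff_im.1 h3
  · rw [hm χ]
    intro h0
    have h3 : m χ = 0 := by exact_mod_cast h0
    apply hχ1
    rw [h3, zero_mul]
    simp

end Parity

section Main

variable {Γ : Type u} [Group Γ] [Finite Γ]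

/-- Conjugation as a homomorphism to the automorphisms of a normalized subgroup. -/
noncomputable def conjHom {A : Type*} [Group A] (ι : A →* Γ) (X : Subgroup Γ)
    (h : ∀ a, ∀ x ∈ X, ι a * x * (ι a)⁻¹ ∈ X) : A →* MulAut X where
  toFun a := conjE X (ι a) (h a)
  map_one' := by
    ext x
    simp
  map_mul' a b := by
    ext x
    show ι (a * b) * (x : Γ) * (ι (a * b))⁻¹ = ι a * (ι b * (x : Γ) * (ι b)⁻¹) * (ι a)⁻¹
    rw [map_mul]
    group

theorem conjHom_coe {A : Type*} [Group A] (ι : A →* Γ) (X : Subgroup Γ)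
    (h : ∀ a, ∀ x ∈ X, ι a * x * (ι a)⁻¹ ∈ X) (a : A) (x : X) :
    ((conjHom ι X h a x : X) : Γ) = ι a * x * (ι a)⁻¹ := rfl

theorem conjHom_inv_coe {A : Type*} [Group A] (ι : A →* Γ) (X : Subgroup Γ)
    (h : ∀ a, ∀ x ∈ X, ι a * x * (ι a)⁻¹ ∈ X) (a : A) (x : X) :
    (((conjHom ι X h a)⁻¹ x : X) : Γ) = (ι a)⁻¹ * x * ι a := by
  rw [← map_inv, conjHom_coe, map_inv, inv_inv]

/-- An odd power of any element is a `2`-element. -/
theorem exists_odd_pow (a : Γ) : ∃ m : ℕ, Odd m ∧ ∃ k : ℕ, orderOf (a ^ m) = 2 ^ k := by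
  have hpos : orderOf a ≠ 0 := (orderOf_pos a).ne'
  obtain ⟨k, m, hm, ho⟩ := Nat.exists_eq_pow_mul_and_not_dvd hpos 2 (by norm_num)
  have hm0 : m ≠ 0 := by
    rintro rfl
    simp at hm
  refine ⟨m, Nat.odd_iff.2 (by omega), k, ?_⟩
  rw [orderOf_pow_of_dvd hm0 (Dvd.intro_left _ ho.symm), ho]
  exact Nat.mul_div_cancel _ (Nat.pos_of_ne_zero hm0)

/-- A real element of `Γ` lies in `K` and is real in `K`. -/
theorem real_mem_of {K : Subgroup Γ} [hKn : K.Normal]
    (h2 : ∀ g : Γ, (∃ k : ℕ, orderOf g = 2 ^ k) → g ∈ K) (y : Γ) (hy : IsConj y y⁻¹) :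
    ∃ hyK : y ∈ K, IsConj (⟨y, hyK⟩ : K) (⟨y, hyK⟩ : K)⁻¹ := by
  obtain ⟨c, hc⟩ := isConj_iff.1 hy
  obtain ⟨m, hm, hk⟩ := exists_odd_pow c
  have htK : c ^ m ∈ K := h2 _ hk
  have heven : ∀ j : ℕ, c ^ (2 * j) * y * (c ^ (2 * j))⁻¹ = y := by
    intro j
    induction j with
    | zero => simp
    | succ j ih =>
      have h3 : c * (c * y * c⁻¹) * c⁻¹ = y := by
        rw [hc]
        have : c * y⁻¹ * c⁻¹ = (c * y * c⁻¹)⁻¹ := by group
        rw [this, hc, inv_inv]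
      calc c ^ (2 * (j + 1)) * y * (c ^ (2 * (j + 1)))⁻¹
          = c ^ (2 * j) * (c * (c * y * c⁻¹) * c⁻¹) * (c ^ (2 * j))⁻¹ := by
            rw [show 2 * (j + 1) = 2 * j + 1 + 1 by ring, pow_succ, pow_succ]
            group
        _ = y := by rw [h3, ih]
  have ht : c ^ m * y * (c ^ m)⁻¹ = y⁻¹ := by
    obtain ⟨j, rfl⟩ := hm
    have h4 := heven j
    calc c ^ (2 * j + 1) * y * (c ^ (2 * j + 1))⁻¹
        = c ^ (2 * j) * (c * y * c⁻¹) * (c ^ (2 * j))⁻¹ := by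
          rw [pow_succ]
          group
      _ = c ^ (2 * j) * y⁻¹ * (c ^ (2 * j))⁻¹ := by rw [hc]
      _ = (c ^ (2 * j) * y * (c ^ (2 * j))⁻¹)⁻¹ := by group
      _ = y⁻¹ := by rw [h4]
  -- `y ^ 2 ∈ K`
  have hsq : y ^ 2 ∈ K := by
    have h5 : c ^ m * (y * (c ^ m)⁻¹ * y⁻¹) ∈ K :=
      K.mul_mem htK (hKn.conj_mem _ (K.inv_mem htK) y)
    have h6 : c ^ m * (y * (c ^ m)⁻¹ * y⁻¹) = (y ^ 2)⁻¹ := by
      have : c ^ m * (y * (c ^ m)⁻¹ * y⁻¹) = (c ^ m * y * (c ^ m)⁻¹) * y⁻¹ := by group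
      rw [this, ht]
      group
    rw [h6] at h5
    exact (K.inv_mem_iff).1 h5
  obtain ⟨o, ho, ho2⟩ := exists_odd_pow y
  have hoK : y ^ o ∈ K := h2 _ ho2
  have hyK : y ∈ K := by
    obtain ⟨j, rfl⟩ := ho
    have h7 : y = ((y ^ 2) ^ j)⁻¹ * y ^ (2 * j + 1) := by
      rw [pow_add, pow_one, pow_mul, inv_mul_cancel_left]
    rw [h7]
    exact K.mul_mem (K.inv_mem (K.pow_mem hsq j)) hoK
  refine ⟨hyK, isConj_iff.2 ⟨⟨c ^ m, htK⟩, Subtype.ext ?_⟩⟩
  exact ht


/-- Complex conjugate of an irreducible character. -/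
noncomputable def ccI {C : Type u} [Group C] [Fintype C] (β : IrrCharacter C) : IrrCharacter C :=
  ⟨fun g => conj ((β : C → ℂ) g), isIrr_conj β.2⟩

omit [Finite Γ] in
theorem ccI_apply {C : Type u} [Group C] [Fintype C] (β : IrrCharacter C) (g : C) :
    (ccI β : C → ℂ) g = conj ((β : C → ℂ) g) := rfl

omit [Finite Γ] in
theorem ccI_ccI {C : Type u} [Group C] [Fintype C] (β : IrrCharacter C) : ccI (ccI β) = β := by
  apply Subtype.ext
  funext g
  simp [ccI]

omit [Finite Γ] in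
theorem ccI_eq_of_real {C : Type u} [Group C] [Fintype C] (β : IrrCharacter C)
    (h : ∀ g, ((β : C → ℂ) g).im = 0) : ccI β = β := by
  apply Subtype.ext
  funext g
  exact Complex.conj_eq_iff_im.2 (h g)

omit [Finite Γ] in
theorem real_of_ccI_eq {C : Type u} [Group C] [Fintype C] (β : IrrCharacter C)
    (h : ccI β = β) (g : C) : ((β : C → ℂ) g).im = 0 :=
  Complex.conj_eq_iff_im.1 (congrFun (congrArg Subtype.val h) g)

omit [Finite Γ] in
/-- The mod `p` relation is compatible with complex conjugation. -/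
theorem prel_conj {C : Type u} [Group C] [Fintype C] {p : ℕ} {f : C → ℂ} {β : IrrCharacter C}
    (h : PRel p f β) : PRel p (fun c => conj (f c)) (ccI β) := by
  classical
  obtain ⟨ε, hε, H⟩ := h
  refine ⟨ε, hε, fun β' => ?_⟩
  obtain ⟨m, hm, hc⟩ := H (ccI β')
  refine ⟨m, ?_, ?_⟩
  · have h1 : classInner (fun c => conj (f c)) (β' : C → ℂ) =
        conj (classInner f (ccI β' : C → ℂ)) := by
      unfold classInner
      rw [map_mul, map_inv₀, Complex.conj_natCast, map_sum]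
      simp [ccI]
    rw [h1, hm, Complex.conj_natCast]
  · refine hc.trans ?_
    have h2 : (ccI β' = β) ↔ (β' = ccI β) := by
      constructor
      · rintro rfl
        exact (ccI_ccI β').symm
      · rintro rfl
        exact ccI_ccI β
    simp only [h2]
    rfl

/-- Coset argument: conjugacy of fixed elements in `K` implies conjugacy in `C_K(S)`. -/
theorem class_inj {G S C : Subgroup Γ} (hnorm : ∀ s ∈ S, ∀ g ∈ G, s * g * s⁻¹ ∈ G)
    (hcop : (Nat.card G).Coprime (Nat.card S)) (hsolv : Group.IsSolvable S)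
    (hC : C = G ⊓ Subgroup.centralizer (S : Set Γ)) (c c' : C) (g : G)
    (hg' : (g : Γ) * c * (g : Γ)⁻¹ = c') : IsConj c c' := by
  classical
  have hCc : ∀ c ∈ C, ∀ s ∈ S, s * c = c * s := by
    intro c hc
    rw [hC, mem_fix] at hc
    exact hc.2
  set N : Subgroup Γ := G ⊓ Subgroup.centralizer ({(c : Γ)} : Set Γ) with hN
  have hAK : S ≤ Subgroup.normalizer (G : Set Γ) := Subgroup.le_normalizer_iff.2 hnorm
  have hNK : N ≤ G := inf_le_left
  have hmemN : ∀ x, x ∈ N ↔ x ∈ G ∧ (c : Γ) * x = x * c := by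
    intro x
    rw [hN, Subgroup.mem_inf, Subgroup.mem_centralizer_iff]
    simp
  have hNA : S ≤ Subgroup.normalizer (N : Set Γ) := by
    apply Subgroup.le_normalizer_iff.2
    intro s hs n hn
    rw [hmemN] at hn ⊢
    refine ⟨hnorm s hs n hn.1, ?_⟩
    have h2 := hCc c c.2 s hs
    have h3 : (c : Γ) = s⁻¹ * c * s := by
      rw [mul_assoc, ← h2]
      group
    calc (c : Γ) * (s * n * s⁻¹) = s * ((s⁻¹ * c * s) * n) * s⁻¹ := by group
      _ = s * (c * n) * s⁻¹ := by rw [← h3]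
      _ = s * (n * c) * s⁻¹ := by rw [hn.2]
      _ = s * n * s⁻¹ * (s * c * s⁻¹) := by group
      _ = s * n * s⁻¹ * c := by
        rw [h2]
        group
  have ht : ∀ a ∈ S, (g : Γ)⁻¹ * (a * g * a⁻¹) ∈ N := by
    intro a ha
    rw [hmemN]
    refine ⟨G.mul_mem (G.inv_mem g.2) (hnorm a ha g g.2), ?_⟩
    have h2 := hCc c c.2 a ha
    have h3 := hCc c' c'.2 a ha
    have h4 : (a : Γ) * c * a⁻¹ = c := by
      rw [h2]
      group
    have h5 : (a : Γ) * c' * a⁻¹ = c' := by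
      rw [h3]
      group
    have h6 : (a : Γ)⁻¹ * c * a = c := by
      nth_rw 1 [← h4]
      group
    have h7 : (g : Γ) * (a⁻¹ * c * a) * (g : Γ)⁻¹ = c' := by rw [h6, hg']
    have h8 : (a : Γ) * g * (a⁻¹ * c * a) * (g : Γ)⁻¹ * a⁻¹ = c' := by
      calc (a : Γ) * g * (a⁻¹ * c * a) * (g : Γ)⁻¹ * a⁻¹
          = a * ((g : Γ) * (a⁻¹ * c * a) * (g : Γ)⁻¹) * a⁻¹ := by group
        _ = c' := by rw [h7, h5]
    have h9 : (a : Γ) * g * a⁻¹ * c * a * (g : Γ)⁻¹ * a⁻¹ = c' := by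
      rw [← h8]
      group
    calc (c : Γ) * ((g : Γ)⁻¹ * (a * g * a⁻¹))
        = (g : Γ)⁻¹ * ((g : Γ) * c * (g : Γ)⁻¹) * (a * g * a⁻¹) := by group
      _ = (g : Γ)⁻¹ * c' * (a * g * a⁻¹) := by rw [hg']
      _ = (g : Γ)⁻¹ * ((a : Γ) * g * a⁻¹ * c * a * (g : Γ)⁻¹ * a⁻¹) * (a * g * a⁻¹) := by rw [h9]
      _ = (g : Γ)⁻¹ * (a * g * a⁻¹) * c := by group
  obtain ⟨c₁, hc₁, hc₁N⟩ := Cfsg.Agent.Lib.Coprime.Coset.exists_centralizer_mem_coset hAK
    hcop.symm (Or.inl hsolv) hNK hNA (g : Γ) g.2 ht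
  have hc₁C : c₁ ∈ C := by
    rw [hC]
    exact hc₁
  rw [isConj_iff]
  refine ⟨⟨c₁, hc₁C⟩, Subtype.ext ?_⟩
  show c₁ * c * c₁⁻¹ = c'
  have h10 := ((hmemN _).1 hc₁N).2
  rw [← hg']
  calc c₁ * (c : Γ) * c₁⁻¹ = (g : Γ) * ((g : Γ)⁻¹ * c₁) * c * c₁⁻¹ := by group
    _ = (g : Γ) * (((g : Γ)⁻¹ * c₁) * c) * c₁⁻¹ := by group
    _ = (g : Γ) * ((c : Γ) * ((g : Γ)⁻¹ * c₁)) * c₁⁻¹ := by rw [h10]
    _ = (g : Γ) * c * (g : Γ)⁻¹ := by group

/-- The inertia group of a real character of `K` has `p'`-index. -/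
theorem not_dvd_index_inertia (p : ℕ) (K : Subgroup Γ) [hKn : K.Normal]
    (h2 : ∀ g : Γ, (∃ k : ℕ, orderOf g = 2 ^ k) → g ∈ K)
    (hreal : RealPrime p Γ) (θ : IrrCharacter K) (hθ : ∀ k, ((θ : K → ℂ) k).im = 0) :
    ¬ p ∣ (inertiaOf K (θ : K → ℂ)).index := by
  classical
  haveI := Fintype.ofFinite Γ
  haveI := Fintype.ofFinite K
  set T := inertiaOf K (θ : K → ℂ) with hT
  have hmemT := mem_inertiaOf K (θ : K → ℂ)
  have hKT : K ≤ T := by
    intro a ha n
    have hcl := isClassFunction_of_isCharacter (isCharacter_of_isIrrCharacter θ.2)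
    have := hcl n ⟨a, ha⟩
    exact this
  have hodd : ¬ 2 ∣ K.index := by
    haveI : Fact (Nat.Prime 2) := ⟨Nat.prime_two⟩
    let Q : Sylow 2 Γ := (Sylow.nonempty (p := 2) (G := Γ)).some
    have hQK : (Q : Subgroup Γ) ≤ K := by
      intro z hz
      obtain ⟨k, hk⟩ := (IsPGroup.iff_orderOf.1 Q.isPGroup') ⟨z, hz⟩
      refine h2 z ⟨k, ?_⟩
      rw [← hk, Subgroup.orderOf_mk]
    intro hd
    exact Q.not_dvd_index (hd.trans (Subgroup.index_dvd_of_le hQK))
  have hθ1 : (θ : K → ℂ) 1 = (charDegree (θ : K → ℂ) : ℂ) :=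
    (Cfsg.Agent.Lib.Char.Values.IsCharacter.charDegree_cast (isCharacter_of_isIrrCharacter θ.2)).symm
  have hdeg0 : charDegree (θ : K → ℂ) ≠ 0 := by
    intro h0
    apply irr_apply_one_ne_zero θ.2
    rw [hθ1, h0]
    simp
  have hΨ := isCharacter_indFun K (isCharacter_of_isIrrCharacter θ.2)
  have hre : ∀ g, conj (indFun K (θ : K → ℂ) g) = indFun K (θ : K → ℂ) g := by
    intro g
    rw [indFun_apply, map_mul, map_inv₀, Complex.conj_natCast, map_sum]
    congr 1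
    refine Finset.sum_congr rfl fun x _ => ?_
    by_cases h : x⁻¹ * g * x ∈ K
    · rw [extendByZero_of_mem K _ h]
      exact Complex.conj_eq_iff_im.2 (hθ _)
    · rw [extendByZero_of_notMem K _ h, map_zero]
  have hTidx : T.index ≠ 0 := Subgroup.index_ne_zero_of_finite
  have hmul : K.relIndex T * T.index = K.index := Subgroup.relIndex_mul_index hKT
  have hdvd : ∀ χ : IrrCharacter Γ, classInner (indFun K (θ : K → ℂ)) (χ : Γ → ℂ) ≠ 0 →
      T.index * charDegree (θ : K → ℂ) ∣ charDegree (χ : Γ → ℂ) := by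
    intro χ h
    have hχcl := isClassFunction_of_isCharacter (isCharacter_of_isIrrCharacter χ.2)
    rw [frobenius_reciprocity K (θ : K → ℂ) χ hχcl] at h
    have h' : classInner (fun n : K => (χ : Γ → ℂ) n) (θ : K → ℂ) ≠ 0 := by
      intro h0
      apply h
      rw [← classInner_conj_symm, h0]
      simp
    have h1 := apply_one_eq K (θ : K → ℂ) T θ.2 hmemT χ.2 h'
    obtain ⟨e, he⟩ := exists_nat_classInner
      (isCharacter_restrict (isCharacter_of_isIrrCharacter χ.2) K) θ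
    have he' : classInner (fun n : K => (χ : Γ → ℂ) n) (θ : K → ℂ) = e := he
    rw [he', hθ1] at h1
    have h3 : ((charDegree (χ : Γ → ℂ) : ℕ) : ℂ) = (χ : Γ → ℂ) 1 :=
      Cfsg.Agent.Lib.Char.Values.IsCharacter.charDegree_cast (isCharacter_of_isIrrCharacter χ.2)
    rw [h1] at h3
    have h4 : charDegree (χ : Γ → ℂ) = e * (T.index * charDegree (θ : K → ℂ)) := by
      exact_mod_cast h3
    exact ⟨e, by rw [h4, mul_comm]⟩
  have hone : indFun K (θ : K → ℂ) 1 =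
      ((T.index * charDegree (θ : K → ℂ) * K.relIndex T : ℕ) : ℂ) := by
    rw [indFun_one K, hθ1, ← hmul]
    push_cast
    ring
  have htodd : ¬ 2 ∣ K.relIndex T := fun h => hodd (by rw [← hmul]; exact h.trans (Dvd.intro _ rfl))
  obtain ⟨χ, hχr, hχ⟩ := exists_real_constituent hΨ hre (Nat.mul_ne_zero hTidx hdeg0) hdvd hone htodd
  intro hpd
  exact hreal χ hχr (hpd.trans ((Dvd.intro _ rfl).trans (hdvd χ hχ)))

/-- **Main theorem**: every real element of `K` is conjugate to an element centralized by `P`. -/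
theorem exists_centralizing_conj (p : ℕ) [hp : Fact p.Prime] (K : Subgroup Γ) [hKn : K.Normal]
    (hK : ¬ p ∣ Nat.card K) (h2 : ∀ g : Γ, (∃ k : ℕ, orderOf g = 2 ^ k) → g ∈ K)
    (hreal : RealPrime p Γ) (P : Sylow p Γ) (x : K) (hx : IsConj x x⁻¹) :
    ∃ g : Γ, ∀ u ∈ (P : Subgroup Γ), u * (g * x * g⁻¹) = (g * x * g⁻¹) * u := by
  classical
  haveI := Fintype.ofFinite Γ
  set N := Subgroup.normalizer ((P : Subgroup Γ) : Set Γ) with hN
  set D : Subgroup Γ := K ⊓ Subgroup.centralizer ((P : Subgroup Γ) : Set Γ) with hD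
  haveI := Fintype.ofFinite K
  haveI := Fintype.ofFinite D
  have hDK : D ≤ K := inf_le_left
  have hnorm : ∀ s ∈ (P : Subgroup Γ), ∀ g ∈ K, s * g * s⁻¹ ∈ K :=
    fun s _ g hg => hKn.conj_mem g hg s
  have hPp : IsPGroup p (P : Subgroup Γ) := P.isPGroup'
  have hcop : (Nat.card K).Coprime (Nat.card (P : Subgroup Γ)) := by
    obtain ⟨a, ha⟩ := IsPGroup.iff_card.1 hPp
    rw [ha]
    exact Nat.Coprime.pow_right a ((Nat.Prime.coprime_iff_not_dvd hp.out).2 hK).symm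
  have hdisj : ∀ z, z ∈ K → z ∈ (P : Subgroup Γ) → z = 1 := by
    intro z hzK hzP
    have h1 := Cfsg.Agent.Lib.Coprime.SZ.inf_eq_bot_of_coprime_card hcop
    have h3 : z ∈ K ⊓ (P : Subgroup Γ) := ⟨hzK, hzP⟩
    rw [h1] at h3
    exact h3
  obtain ⟨ca, cb, cc⟩ := corr hp.out _ (P : Subgroup Γ) rfl hPp K D hnorm hcop rfl hDK
  let φK : Γ →* MulAut K := conjHom (MonoidHom.id Γ) K (fun a x hx => hKn.conj_mem x hx a)
  have hND : ∀ a : N, ∀ c ∈ D, N.subtype a * c * (N.subtype a)⁻¹ ∈ D := by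
    intro a c hc
    exact norm_fix (fun g hg => hKn.conj_mem g hg a)
      (fun t ht => (Subgroup.mem_normalizer_iff.1 a.2 t).1 ht) c hc
  let φD : N →* MulAut D := conjHom N.subtype D hND
  have hφK : ∀ a, ∃ m : ℕ, Odd m ∧ ∀ x, IsConj (((φK a) ^ m) x) x := by
    intro a
    obtain ⟨m, hm, hk⟩ := exists_odd_pow a
    refine ⟨m, hm, fun x => ?_⟩
    have ht := h2 _ hk
    rw [← map_pow]
    exact (isConj_iff.2 ⟨⟨a ^ m, ht⟩, Subtype.ext rfl⟩).symm
  have hφD : ∀ a, ∃ m : ℕ, Odd m ∧ ∀ x, IsConj (((φD a) ^ m) x) x := by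
    intro n
    obtain ⟨m, hm, hk⟩ := exists_odd_pow (n : Γ)
    refine ⟨m, hm, fun x => ?_⟩
    have ht := h2 _ hk
    have htN : (n : Γ) ^ m ∈ N := N.pow_mem n.2 m
    have htD : (n : Γ) ^ m ∈ D := by
      rw [hD, mem_fix]
      refine ⟨ht, fun u hu => ?_⟩
      have hz : (n : Γ) ^ m * u * ((n : Γ) ^ m)⁻¹ * u⁻¹ = 1 := by
        apply hdisj
        · have h5 : (n : Γ) ^ m * (u * ((n : Γ) ^ m)⁻¹ * u⁻¹) ∈ K :=
            K.mul_mem ht (hKn.conj_mem _ (K.inv_mem ht) u)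
          have h6 : (n : Γ) ^ m * u * ((n : Γ) ^ m)⁻¹ * u⁻¹ =
              (n : Γ) ^ m * (u * ((n : Γ) ^ m)⁻¹ * u⁻¹) := by group
          rw [h6]
          exact h5
        · exact (P : Subgroup Γ).mul_mem ((Subgroup.mem_normalizer_iff.1 htN u).1 hu)
            ((P : Subgroup Γ).inv_mem hu)
      have h7 : (n : Γ) ^ m * u = u * (n : Γ) ^ m := by
        have h8 := mul_eq_one_iff_eq_inv.1 hz
        rw [inv_inv] at h8
        exact mul_inv_eq_iff_eq_mul.1 h8
      exact h7.symm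
    rw [← map_pow]
    refine (isConj_iff.2 ⟨⟨(n : Γ) ^ m, htD⟩, Subtype.ext ?_⟩).symm
    show (n : Γ) ^ m * (x : Γ) * ((n : Γ) ^ m)⁻¹ = N.subtype (n ^ m) * x * (N.subtype (n ^ m))⁻¹
    rw [map_pow]
    rfl
  -- real characters: the map
  have hex1 : ∀ β : RIrr φD, ∃ χ : RIrr φK, SInv (P : Subgroup Γ) (χ.1 : K → ℂ) ∧
      PRel p (resC hDK (χ.1 : K → ℂ)) β.1 := by
    intro β
    obtain ⟨χ, hs, hr⟩ := cc β.1
    have hccχ : PRel p (resC hDK (ccI χ : K → ℂ)) β.1 := by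
      have h1 := prel_conj hr
      rw [ccI_eq_of_real β.1 β.2] at h1
      exact h1
    have hsc : SInv (P : Subgroup Γ) (ccI χ : K → ℂ) :=
      fun s hs' g g' hg => congrArg conj (hs s hs' g g' hg)
    have h3 := cb χ (ccI χ) hs hsc β.1 hr hccχ
    exact ⟨⟨χ, fun k => real_of_ccI_eq χ h3.symm k⟩, hs, hr⟩
  choose F₁ hF₁s hF₁r using hex1
  have hF₁eq : ∀ (n : N) (β : RIrr φD), F₁ (n • β) = N.subtype n • F₁ β := by
    intro n β
    apply Subtype.ext
    refine cb _ _ (hF₁s (n • β)) ?_ (n • β).1 (hF₁r (n • β)) ?_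
    · intro s hs g g' hg
      show ((F₁ β).1 : K → ℂ) ((φK n)⁻¹ g') = ((F₁ β).1 : K → ℂ) ((φK n)⁻¹ g)
      refine hF₁s β ((n : Γ)⁻¹ * s * n) ?_ _ _ ?_
      · have h4 := (Subgroup.mem_normalizer_iff.1 (N.inv_mem n.2) s).1 hs
        simpa using h4
      · rw [conjHom_inv_coe, conjHom_inv_coe, hg]
        show ((n : Γ))⁻¹ * (s * g * s⁻¹) * n = _
        show _ = (n : Γ)⁻¹ * s * n * ((n : Γ)⁻¹ * g * n) * ((n : Γ)⁻¹ * s * n)⁻¹
        group
    · have h1 := PRel.comp_equiv ((φD n)⁻¹ : MulAut D) (hF₁r β)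
      have h3 : resC hDK ((N.subtype n • F₁ β).1 : K → ℂ) =
          fun k => resC hDK ((F₁ β).1 : K → ℂ) (((φD n)⁻¹ : MulAut D) k) := by
        funext d
        show ((F₁ β).1 : K → ℂ) ((φK n)⁻¹ ⟨d, hDK d.2⟩) = ((F₁ β).1 : K → ℂ) ⟨((φD n)⁻¹ d : D), _⟩
        refine congrArg _ (Subtype.ext ?_)
        rw [conjHom_inv_coe, conjHom_inv_coe]
        rfl
      rw [h3]
      exact h1
  have hB1 : ∀ θ : RIrr φK, ∃ g : Γ, SInv (P : Subgroup Γ) ((g • θ).1 : K → ℂ) := by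
    intro θ
    by_contra hno
    push Not at hno
    refine not_dvd_index_inertia p K h2 hreal θ.1 θ.2
      (dvd_index_of_no_fixed p hPp (fun g hg => hno g ?_))
    intro u hu k k' hk
    show (θ.1 : K → ℂ) ((φK g)⁻¹ k') = (θ.1 : K → ℂ) ((φK g)⁻¹ k)
    have h3 := (mem_inertiaOf K (θ.1 : K → ℂ) _).1 (hg u hu) ((φK g)⁻¹ k)
    rw [← h3]
    refine congrArg _ (Subtype.ext ?_)
    rw [conjHom_inv_coe]
    show g⁻¹ * (k' : Γ) * g = g⁻¹ * u * g * (((φK g)⁻¹ k : K) : Γ) * (g⁻¹ * u * g)⁻¹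
    rw [conjHom_inv_coe, hk]
    show g⁻¹ * (u * k * u⁻¹) * g = g⁻¹ * u * g * (g⁻¹ * k * g) * (g⁻¹ * u * g)⁻¹
    group
  have hΦ₁ : Function.Surjective (orbitMap N.subtype F₁ hF₁eq) := by
    intro q
    induction q using Quotient.inductionOn' with
    | h θ =>
    obtain ⟨g, hg⟩ := hB1 θ
    obtain ⟨β, hβ⟩ := ca (g • θ).1 hg
    have hβre : ∀ d, ((β : D → ℂ) d).im = 0 := by
      have h1 := prel_conj hβ
      have h3 : (fun c => conj (resC hDK ((g • θ).1 : K → ℂ) c)) = resC hDK ((g • θ).1 : K → ℂ) :=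
        funext fun c => Complex.conj_eq_iff_im.2 ((g • θ).2 _)
      rw [h3] at h1
      exact real_of_ccI_eq β (h1.unique hp.out hβ).symm
    let β' : RIrr φD := ⟨β, hβre⟩
    refine ⟨Quotient.mk'' β', ?_⟩
    rw [orbitMap_mk, orbit_eq_iff]
    refine ⟨g, ?_⟩
    apply Subtype.ext
    exact (cb _ _ (hF₁s _) hg β (hF₁r _) hβ).symm
  -- real classes: the map
  let i : D →* K := Subgroup.inclusion hDK
  have hF2real : ∀ c : RCl φD, ∀ k : K, ConjClasses.mk k = ConjClasses.map i c.1 →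
      IsConj k k⁻¹ := by
    intro c k hk
    obtain ⟨y, hy⟩ := ConjClasses.mk_surjective c.1
    rw [← hy] at hk
    have h1 : IsConj k (i y) := ConjClasses.mk_eq_mk_iff_isConj.1 hk
    obtain ⟨w, hw⟩ := isConj_iff.1 (c.2 y hy)
    have h3 : IsConj (i y) (i y)⁻¹ := by
      refine isConj_iff.2 ⟨i w, ?_⟩
      have h5 := congrArg i hw
      simpa only [map_mul, map_inv] using h5
    exact (h1.trans h3).trans (isConj_inv_inv h1).symm
  let F₂ : RCl φD → RCl φK := fun c => ⟨ConjClasses.map i c.1, hF2real c⟩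
  have hF₂mk : ∀ (c : RCl φD) (y : D), c.1 = ConjClasses.mk y →
      (F₂ c).1 = ConjClasses.mk (i y) := by
    intro c y h
    show ConjClasses.map i c.1 = _
    rw [h]
    rfl
  have hF₂eq : ∀ (n : N) (c : RCl φD), F₂ (n • c) = N.subtype n • F₂ c := by
    intro n c
    obtain ⟨y, hy⟩ := ConjClasses.mk_surjective c.1
    apply Subtype.ext
    rw [hF₂mk _ (φD n y) (RCl.smul_val φD n c y hy.symm),
      RCl.smul_val φK (N.subtype n) (F₂ c) (i y) (hF₂mk c y hy.symm)]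
    rfl
  have hsolvP : Group.IsSolvable (P : Subgroup Γ) := by
    haveI := hPp.isNilpotent
    infer_instance
  have hF₂inj : Function.Injective F₂ := by
    intro c c' h
    obtain ⟨y, hy⟩ := ConjClasses.mk_surjective c.1
    obtain ⟨y', hy'⟩ := ConjClasses.mk_surjective c'.1
    apply Subtype.ext
    have h1 : ConjClasses.mk (i y) = ConjClasses.mk (i y') := by
      rw [← hF₂mk c y hy.symm, ← hF₂mk c' y' hy'.symm, h]
    rw [ConjClasses.mk_eq_mk_iff_isConj, isConj_iff] at h1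
    obtain ⟨g, hg⟩ := h1
    have hg' : (g : Γ) * y * (g : Γ)⁻¹ = y' := congrArg Subtype.val hg
    show c.1 = c'.1
    rw [← hy, ← hy', ConjClasses.mk_eq_mk_iff_isConj]
    exact class_inj hnorm hcop hsolvP rfl y y' g hg'
  have hfixP : ∀ c : RCl φD, ∀ u ∈ (P : Subgroup Γ), u • F₂ c = F₂ c := by
    intro c u hu
    obtain ⟨y, hy⟩ := ConjClasses.mk_surjective c.1
    apply Subtype.ext
    rw [RCl.smul_val φK u (F₂ c) (i y) (hF₂mk c y hy.symm), hF₂mk c y hy.symm]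
    congr 1
    apply Subtype.ext
    show u * (y : Γ) * u⁻¹ = y
    have h3 := (mem_fix.1 y.2).2 u hu
    rw [h3]
    group
  have hΦ₂ : Function.Injective (orbitMap N.subtype F₂ hF₂eq) := by
    intro q q'
    induction q using Quotient.inductionOn' with
    | h c =>
    induction q' using Quotient.inductionOn' with
    | h c' =>
    intro h
    rw [orbitMap_mk, orbitMap_mk, orbit_eq_iff] at h
    obtain ⟨g, hg⟩ := h
    obtain ⟨n, hn, hn'⟩ := exists_normalizer_smul P (F₂ c') g (hfixP c')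
      (by rw [hg]; exact hfixP c)
    rw [orbit_eq_iff]
    refine ⟨⟨n, hn⟩, hF₂inj ?_⟩
    rw [hF₂eq]
    show n • F₂ c' = F₂ c
    rw [hn', hg]
  have hc1 := card_orbits_eq φK hφK
  have hc2 := card_orbits_eq φD hφD
  haveI : Finite (MulAction.orbitRel.Quotient N (RIrr φD)) := Quotient.finite _
  haveI : Finite (MulAction.orbitRel.Quotient Γ (RCl φK)) := Quotient.finite _
  have hle := Nat.card_le_card_of_surjective _ hΦ₁
  have hbij := hΦ₂.bijective_of_nat_card_le (by rw [← hc1, ← hc2]; exact hle)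
  have hxc : ∀ k : K, ConjClasses.mk k = ConjClasses.mk x → IsConj k k⁻¹ := by
    intro k hk
    have h1 : IsConj k x := ConjClasses.mk_eq_mk_iff_isConj.1 hk
    exact (h1.trans hx).trans (isConj_inv_inv h1).symm
  let xc : RCl φK := ⟨ConjClasses.mk x, hxc⟩
  obtain ⟨q, hq⟩ := hbij.2 (Quotient.mk'' xc)
  induction q using Quotient.inductionOn' with
  | h c =>
  rw [orbitMap_mk, orbit_eq_iff] at hq
  obtain ⟨g, hg⟩ := hq
  obtain ⟨y, hy⟩ := ConjClasses.mk_surjective c.1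
  have h3 := congrArg Subtype.val hg
  rw [RCl.smul_val φK g xc x rfl, hF₂mk c y hy.symm, ConjClasses.mk_eq_mk_iff_isConj,
    isConj_iff] at h3
  obtain ⟨k, hk⟩ := h3
  have hk' : (k : Γ) * (g * x * g⁻¹) * (k : Γ)⁻¹ = y := congrArg Subtype.val hk
  refine ⟨k * g, fun u hu => ?_⟩
  have h5 : (k : Γ) * g * x * ((k : Γ) * g)⁻¹ = y := by
    rw [← hk']
    group
  rw [h5]
  exact (mem_fix.1 y.2).2 u hu

end Main

end Cfsg.Agent.Lib.Char.RealClass
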