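import Mathlib
import Cfsg.Agent.Lib.Char.CompleteCor
import Cfsg.Agent.Lib.Char.IndNormal
import Cfsg.Agent.Lib.Char.Ortho

/-!
# The number of real irreducible characters is the number of real classes
-/

set_option autoImplicit false
set_option linter.style.haveILetI false

namespace Cfsg.Agent.Lib.Char.RealCount

open Cfsg Cfsg.Agent.Lib.Char.CompleteCor Cfsg.Agent.Lib.Char.Ortho
open scoped ComplexConjugate

universe u

variable {K : Type u} [Group K] [Finite K]

/-- The number of real-valued irreducible characters is the number of real classes. -/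
theorem card_real_irr :
    Nat.card {θ : IrrCharacter K // ∀ k : K, ((θ : K → ℂ) k).im = 0} =
      Nat.card {c : ConjClasses K // ∀ k : K, ConjClasses.mk k = c → IsConj k k⁻¹} := by
  classical
  haveI := Fintype.ofFinite K
  haveI := Fintype.ofFinite (IrrCharacter K)
  haveI := Fintype.ofFinite (ConjClasses K)
  -- left side
  have hL : ((Nat.card {θ : IrrCharacter K // ∀ k : K, ((θ : K → ℂ) k).im = 0} : ℕ) : ℂ) =
      ∑ θ : IrrCharacter K, classInner (θ : K → ℂ) (fun g => conj ((θ : K → ℂ) g)) := by
    rw [Nat.card_eq_fintype_card, Fintype.card_subtype, Finset.natCast_card_filter]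
    refine Finset.sum_congr rfl fun θ _ => ?_
    have hconj := Cfsg.Agent.Lib.Char.IndNormal.isIrrCharacter_conj θ.2
    by_cases hr : ∀ k : K, ((θ : K → ℂ) k).im = 0
    · rw [if_pos hr]
      have : (fun g => conj ((θ : K → ℂ) g)) = (θ : K → ℂ) := by
        funext g
        exact Complex.conj_eq_iff_im.2 (hr g)
      rw [this, classInner_irr_self θ.2]
    · rw [if_neg hr]
      symm
      refine classInner_irr_of_ne θ.2 hconj ?_
      intro h
      apply hr
      intro k
      exact Complex.conj_eq_iff_im.1 (congrFun h k).symm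
  -- exchange
  have hX : ∑ θ : IrrCharacter K, classInner (θ : K → ℂ) (fun g => conj ((θ : K → ℂ) g)) =
      (Nat.card K : ℂ)⁻¹ * ∑ g : K, if IsConj g g⁻¹ then
        (Nat.card (Subgroup.centralizer ({g} : Set K)) : ℂ) else 0 := by
    simp only [classInner]
    rw [← Finset.mul_sum, Finset.sum_comm]
    refine congrArg _ (Finset.sum_congr rfl fun g _ => ?_)
    have h1 : ∀ θ : IrrCharacter K, (θ : K → ℂ) g * conj (conj ((θ : K → ℂ) g)) =
        (θ : K → ℂ) g * conj ((θ : K → ℂ) g⁻¹) := by
      intro θ
      rw [Cfsg.Agent.Lib.Char.Complete.isIrr_inv θ.2]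
    simp only [h1]
    split_ifs with hc
    · exact column_orth_conj hc
    · exact column_orth_not_conj hc
  -- classes
  have hR : (Nat.card K : ℂ)⁻¹ * (∑ g : K, if IsConj g g⁻¹ then
        (Nat.card (Subgroup.centralizer ({g} : Set K)) : ℂ) else 0) =
      ((Nat.card {c : ConjClasses K // ∀ k : K, ConjClasses.mk k = c → IsConj k k⁻¹} : ℕ) : ℂ) := by
    rw [Nat.card_eq_fintype_card (α := {c : ConjClasses K // _}), Fintype.card_subtype,
      Finset.natCast_card_filter]
    rw [← Finset.sum_fiberwise (s := Finset.univ) (g := ConjClasses.mk) , Finset.mul_sum]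
    refine Finset.sum_congr rfl fun c _ => ?_
    obtain ⟨x, rfl⟩ := ConjClasses.mk_surjective c
    have hreal : ∀ g : K, ConjClasses.mk g = ConjClasses.mk x → (IsConj g g⁻¹ ↔ IsConj x x⁻¹) := by
      intro g hg
      have h1 : IsConj g x := ConjClasses.mk_eq_mk_iff_isConj.1 hg
      have h2 : IsConj g⁻¹ x⁻¹ := by
        obtain ⟨k, hk⟩ := isConj_iff.1 h1
        refine isConj_iff.2 ⟨k, ?_⟩
        rw [← hk]
        group
      constructor
      · intro h
        exact (h1.symm.trans h).trans h2
      · intro h
        exact (h1.trans h).trans h2.symm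
    -- orbit-stabiliser
    have key : ∀ g : K, (Finset.univ.filter (fun h : K => ConjClasses.mk h = ConjClasses.mk g)).card *
        Nat.card (Subgroup.centralizer ({g} : Set K)) = Nat.card K := by
      intro g
      have h1 := MulAction.card_orbit_mul_card_stabilizer_eq_card_group (ConjAct K) g
      have h2 : (Finset.univ.filter (fun h : K => ConjClasses.mk h = ConjClasses.mk g)).card =
          Fintype.card (MulAction.orbit (ConjAct K) g) := by
        rw [← Fintype.card_subtype]
        refine Fintype.card_congr (Equiv.subtypeEquivRight fun h => ?_)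
        rw [ConjAct.mem_orbit_conjAct, ConjClasses.mk_eq_mk_iff_isConj]
      rw [h2, Subgroup.nat_card_centralizer_nat_card_stabilizer, Nat.card_eq_fintype_card,
        Nat.card_eq_fintype_card, h1, ConjAct.card]
    have hcent : ∀ g : K, ConjClasses.mk g = ConjClasses.mk x →
        Nat.card (Subgroup.centralizer ({g} : Set K)) =
          Nat.card (Subgroup.centralizer ({x} : Set K)) := by
      intro g hg
      have h1 := key g
      have h2 := key x
      rw [hg] at h1
      refine Nat.eq_of_mul_eq_mul_left ?_ (h1.trans h2.symm)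
      refine Nat.pos_of_ne_zero fun h0 => ?_
      rw [h0, zero_mul] at h1
      exact Nat.card_pos.ne h1
    have hsum : ∑ g ∈ Finset.univ.filter (fun g : K => ConjClasses.mk g = ConjClasses.mk x),
        (if IsConj g g⁻¹ then (Nat.card (Subgroup.centralizer ({g} : Set K)) : ℂ) else 0) =
        ((Finset.univ.filter (fun g : K => ConjClasses.mk g = ConjClasses.mk x)).card : ℂ) *
          (if IsConj x x⁻¹ then (Nat.card (Subgroup.centralizer ({x} : Set K)) : ℂ) else 0) := by
      rw [← nsmul_eq_mul, ← Finset.sum_const]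
      refine Finset.sum_congr rfl fun g hg => ?_
      have hg' := (Finset.mem_filter.1 hg).2
      simp only [hreal g hg', hcent g hg']
    rw [hsum]
    have hKne : (Nat.card K : ℂ) ≠ 0 := by exact_mod_cast Nat.card_pos.ne'
    have hk := key x
    have hk' : ((Finset.univ.filter (fun g : K => ConjClasses.mk g = ConjClasses.mk x)).card : ℂ) *
        (Nat.card (Subgroup.centralizer ({x} : Set K)) : ℂ) = Nat.card K := by
      exact_mod_cast hk
    have hiff : (∀ k : K, ConjClasses.mk k = ConjClasses.mk x → IsConj k k⁻¹) ↔ IsConj x x⁻¹ :=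
      ⟨fun h => h x rfl, fun h k hk => (hreal k hk).2 h⟩
    by_cases hx : IsConj x x⁻¹
    · rw [if_pos hx, if_pos (hiff.2 hx), hk']
      field_simp
    · rw [if_neg hx, if_neg (fun h => hx (hiff.1 h))]
      simp
  have : ((Nat.card {θ : IrrCharacter K // ∀ k : K, ((θ : K → ℂ) k).im = 0} : ℕ) : ℂ) =
      ((Nat.card {c : ConjClasses K // ∀ k : K, ConjClasses.mk k = c → IsConj k k⁻¹} : ℕ) : ℂ) := by
    rw [hL, hX, hR]
  exact_mod_cast this

end Cfsg.Agent.Lib.Char.RealCount
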