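import Mathlib
import Cfsg.Agent.Lib.Char.RealClass2
import Cfsg.Agent.Lib.Char.QuotRep
import Cfsg.Agent.Lib.Char.RealCount
import Cfsg.Agent.Lib.Char.BrauerSCNum

/-!
# Real irreducible characters of odd degree: foundations

* `RO A`: the real irreducible characters of odd degree.
* `card_RO_surj`: descent along a surjective homomorphism.
* `real_irr_trivial`: a real irreducible character of a group of odd order is trivial.
* `ro_constituent`: constituents of the restriction of `χ ∈ RO Γ` to a normal subgroup are real,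
  have odd degree and inertia group of odd index.
* `ro_ker_of_odd`: normal subgroups of odd order lie in the kernel of `χ ∈ RO Γ`.
* `exists_odd_constituent`: parity arguments.
* `transfer_apply_normal`: the value of the transfer on a normal subgroup.
-/

set_option autoImplicit false
set_option linter.style.haveILetI false
set_option linter.unusedSectionVars false
set_option linter.unusedVariables false

namespace Cfsg.Agent.Lib.Char.RealOdd

open Cfsg Cfsg.Agent.Lib.Char.Basic Cfsg.Agent.Lib.Char.Ortho Cfsg.Agent.Lib.Char.Induced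
  Cfsg.Agent.Lib.Char.IndRep Cfsg.Agent.Lib.Char.Clifford Cfsg.Agent.Lib.Char.CliffordCorr
  Cfsg.Agent.Lib.Char.RealOver Cfsg.Agent.Lib.Char.Monomial Cfsg.Agent.Lib.Char.RealClass
open scoped ComplexConjugate

universe u

/-- The real irreducible characters of odd degree. -/
abbrev RO (A : Type u) [Group A] : Type u :=
  {χ : IrrCharacter A // (∀ g : A, ((χ : A → ℂ) g).im = 0) ∧ Odd (charDegree (χ : A → ℂ))}

section Descend

variable {A B : Type u} [Group A] [Group B]

/-- An irreducible character trivial on the kernel of a surjective homomorphism descends. -/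
theorem exists_irr_descend [Finite A] (φ : A →* B) (hφ : Function.Surjective φ) {χ : A → ℂ}
    (hχ : IsIrrCharacter A χ) (hk : ∀ a, φ a = 1 → χ a = χ 1) :
    ∃ ξ : B → ℂ, IsIrrCharacter B ξ ∧ ∀ a, ξ (φ a) = χ a := by
  classical
  obtain ⟨n, ρ, hρ, rfl⟩ := hχ
  haveI := hρ
  have h1 : ∀ g ∈ φ.ker, ρ g = 1 := by
    intro g hg
    have h2 := (Cfsg.Agent.Lib.Char.Codegree.character_eq_one_iff ρ g).1 (hk g hg)
    exact (Cfsg.Agent.Lib.Char.Codegree.mem_repKer ρ g).1 h2
  obtain ⟨ρ', hcomp⟩ : ∃ ρ' : Representation ℂ B (Fin n → ℂ), ∀ a, ρ' (φ a) = ρ a := by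
    let e := QuotientGroup.quotientKerEquivOfSurjective φ hφ
    refine ⟨(Cfsg.Agent.Lib.Char.QuotRep.quotRep ρ φ.ker h1).comp e.symm.toMonoidHom, fun a => ?_⟩
    have h3 : e.symm (φ a) = (a : A ⧸ φ.ker) := by
      rw [MulEquiv.symm_apply_eq]
      rfl
    show Cfsg.Agent.Lib.Char.QuotRep.quotRep ρ φ.ker h1 (e.symm (φ a)) = ρ a
    rw [h3]
    rfl
  refine ⟨ρ'.character, ⟨n, ρ', ?_, rfl⟩, fun a => ?_⟩
  · apply Cfsg.Agent.Lib.Char.QuotRep.isIrreducible_of_comp_surjective ρ' φ hφ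
    have h5 : (ρ'.comp φ : Representation ℂ A (Fin n → ℂ)) = ρ := MonoidHom.ext hcomp
    rw [h5]
    exact hρ
  · show LinearMap.trace ℂ _ (ρ' (φ a)) = LinearMap.trace ℂ _ (ρ a)
    rw [hcomp]

/-- Characters of `B` are the characters of `A` trivial on the kernel. -/
theorem card_RO_surj [Finite A] (φ : A →* B) (hφ : Function.Surjective φ) :
    Nat.card (RO B) =
      Nat.card {χ : RO A // ∀ a, φ a = 1 → (χ.1 : A → ℂ) a = (χ.1 : A → ℂ) 1} := by
  classical
  let F : RO B → {χ : RO A // ∀ a, φ a = 1 → (χ.1 : A → ℂ) a = (χ.1 : A → ℂ) 1} := fun ξ =>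
    ⟨⟨⟨fun a => (ξ.1 : B → ℂ) (φ a), isIrrCharacter_comp_surjective ξ.1.2 φ hφ⟩,
      fun a => ξ.2.1 _, by
        have : charDegree (fun a => (ξ.1 : B → ℂ) (φ a)) = charDegree (ξ.1 : B → ℂ) := by
          unfold charDegree
          simp
        show Odd (charDegree (fun a => (ξ.1 : B → ℂ) (φ a)))
        rw [this]
        exact ξ.2.2⟩,
      fun a ha => by
        show (ξ.1 : B → ℂ) (φ a) = (ξ.1 : B → ℂ) (φ 1)
        rw [ha, map_one]⟩
  refine Nat.card_eq_of_bijective F ⟨?_, ?_⟩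
  · intro ξ ξ' h
    apply Subtype.ext
    apply Subtype.ext
    funext b
    obtain ⟨a, rfl⟩ := hφ b
    have h1 := congrArg (fun z => ((z.1.1 : A → ℂ) a)) h
    exact h1
  · rintro ⟨χ, hk⟩
    obtain ⟨ξ, hξ, h⟩ := exists_irr_descend φ hφ χ.1.2 hk
    refine ⟨⟨⟨ξ, hξ⟩, fun b => ?_, ?_⟩, ?_⟩
    · obtain ⟨a, rfl⟩ := hφ b
      show (ξ (φ a)).im = 0
      rw [h]
      exact χ.2.1 a
    · have : charDegree ξ = charDegree (χ.1 : A → ℂ) := by
        unfold charDegree
        rw [← h 1, map_one]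
      show Odd (charDegree ξ)
      rw [this]
      exact χ.2.2
    · apply Subtype.ext
      apply Subtype.ext
      apply Subtype.ext
      funext a
      exact h a

/-- Isomorphic groups have equally many. -/
theorem card_RO_of_bijective [Finite A] (φ : A →* B) (hφ : Function.Bijective φ) :
    Nat.card (RO B) = Nat.card (RO A) := by
  rw [card_RO_surj φ hφ.2]
  refine Nat.card_congr (Equiv.subtypeUnivEquiv fun χ a ha => ?_)
  have : a = 1 := hφ.1 (by rw [ha, map_one])
  rw [this]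

end Descend

section OddOrder

variable {K : Type u} [Group K] [Finite K]

/-- A real element of a group of odd order is trivial. -/
theorem eq_one_of_isConj_inv (hK : Odd (Nat.card K)) {x : K} (h : IsConj x x⁻¹) : x = 1 := by
  obtain ⟨c, hc⟩ := isConj_iff.1 h
  have h2 : c ^ 2 * x * (c ^ 2)⁻¹ = x := by
    have h3 : c * x⁻¹ * c⁻¹ = (c * x * c⁻¹)⁻¹ := by group
    calc c ^ 2 * x * (c ^ 2)⁻¹ = c * (c * x * c⁻¹) * c⁻¹ := by
          rw [pow_two]
          group
      _ = x := by rw [hc, h3, hc, inv_inv]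
  have hj : ∀ j : ℕ, (c ^ 2) ^ j * x * ((c ^ 2) ^ j)⁻¹ = x := by
    intro j
    induction j with
    | zero => simp
    | succ j ih =>
      calc (c ^ 2) ^ (j + 1) * x * ((c ^ 2) ^ (j + 1))⁻¹
          = (c ^ 2) ^ j * (c ^ 2 * x * (c ^ 2)⁻¹) * ((c ^ 2) ^ j)⁻¹ := by
            rw [pow_succ]
            group
        _ = x := by rw [h2, ih]
  obtain ⟨t, ht⟩ := hK
  have hc1 : c ^ (Nat.card K) = 1 := pow_card_eq_one'
  have h4 : c = ((c ^ 2) ^ (t + 1)) := by
    have : c * c ^ (2 * t + 1) = c ^ (2 * (t + 1)) := by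
      rw [← pow_succ']
      congr 1
    rw [← pow_mul, ← this, ← ht, hc1, mul_one]
  have h5 : c * x * c⁻¹ = x := by
    conv_lhs => rw [h4]
    exact hj _
  have h6 : x = x⁻¹ := h5.symm.trans hc
  have h7 : x ^ 2 = 1 := by
    rw [pow_two]
    nth_rw 1 [h6]
    simp
  have h8 : orderOf x ∣ 2 := orderOf_dvd_of_pow_eq_one h7
  have h9 : orderOf x ∣ Nat.card K := orderOf_dvd_natCard x
  have h10 : orderOf x ∣ 1 := by
    have hcop : Nat.Coprime 2 (Nat.card K) := by
      rw [ht]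
      simp
    exact Nat.Coprime.eq_one_of_dvd (Nat.Coprime.coprime_dvd_left h8 hcop) h9 ▸ dvd_refl _
  exact orderOf_eq_one_iff.1 (Nat.dvd_one.1 h10)

/-- A real irreducible character of a group of odd order is trivial. -/
theorem real_irr_trivial (hK : Odd (Nat.card K)) (θ : IrrCharacter K)
    (hθ : ∀ k, ((θ : K → ℂ) k).im = 0) (k : K) : (θ : K → ℂ) k = 1 := by
  classical
  have h1 := Cfsg.Agent.Lib.Char.RealCount.card_real_irr (K := K)
  have h2 : Nat.card {c : ConjClasses K // ∀ k : K, ConjClasses.mk k = c → IsConj k k⁻¹} = 1 := by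
    rw [Nat.card_eq_one_iff_unique]
    refine ⟨⟨?_⟩, ⟨⟨ConjClasses.mk 1, ?_⟩⟩⟩
    · rintro ⟨c, hc⟩ ⟨c', hc'⟩
      apply Subtype.ext
      obtain ⟨x, rfl⟩ := ConjClasses.mk_surjective c
      obtain ⟨x', rfl⟩ := ConjClasses.mk_surjective c'
      have h3 := eq_one_of_isConj_inv hK (hc x rfl)
      have h4 := eq_one_of_isConj_inv hK (hc' x' rfl)
      subst h3
      subst h4
      rfl
    · intro k hk
      have h3 : IsConj k 1 := ConjClasses.mk_eq_mk_iff_isConj.1 hk
      have h4 : k = 1 := isConj_one_right.1 h3.symm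
      rw [h4]
      simp
  rw [h2] at h1
  have h3 := (Nat.card_eq_one_iff_unique.1 h1).1
  let triv : K →* ℂˣ := 1
  have htr : IsIrrCharacter K (fun g => ((triv g : ℂˣ) : ℂ)) :=
    Cfsg.Agent.Lib.Char.LinearChars.isIrr_of_hom triv
  let t : {θ : IrrCharacter K // ∀ k : K, ((θ : K → ℂ) k).im = 0} :=
    ⟨⟨_, htr⟩, fun k => by simp [triv]⟩
  have h4 : (⟨θ, hθ⟩ : {θ : IrrCharacter K // ∀ k : K, ((θ : K → ℂ) k).im = 0}) = t :=
    Subsingleton.elim _ _
  have h5 := congrArg (fun z => ((z.1 : K → ℂ) k)) h4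
  simpa [t, triv] using h5

end OddOrder

section Constituents

variable {Γ : Type u} [Group Γ] [Fintype Γ] (H : Subgroup Γ) [hH : H.Normal] [Fintype H]

omit [Fintype H] in
theorem le_inertia (θ : IrrCharacter H) : H ≤ inertiaOf H (θ : H → ℂ) := by
  intro a ha n
  have hcl := isClassFunction_of_isCharacter (isCharacter_of_isIrrCharacter θ.2)
  have := hcl n ⟨a, ha⟩
  exact this

/-- An orbit of odd size which is stable under complex conjugation contains real points. -/
theorem real_of_odd_orbit (θ : IrrCharacter H) (hodd : Odd (inertiaOf H (θ : H → ℂ)).index)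
    (g₀ : Γ) (h₀ : (fun n => conj ((θ : H → ℂ) n)) = Clifford.conjFun H g₀ (θ : H → ℂ)) (n : H) :
    ((θ : H → ℂ) n).im = 0 := by
  classical
  let σ : (H → ℂ) → (H → ℂ) := fun τ n => conj (τ n)
  let Ω : Set (H → ℂ) := orbitSet H (θ : H → ℂ)
  have hfin : Ω.Finite := orbitSet_finite H θ.2
  letI : Fintype Ω := hfin.fintype
  have hσconj : ∀ (g : Γ) (τ : H → ℂ), σ (Clifford.conjFun H g τ) = Clifford.conjFun H g (σ τ) := fun g τ => rfl
  have hstep : ∀ τ ∈ Ω, σ τ ∈ Ω := by
    rintro τ ⟨g, rfl⟩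
    refine ⟨g₀ * g, ?_⟩
    rw [hσconj, conjFun_mul]
    congr 1
  let f : Function.End Ω := fun τ => ⟨σ τ.1, hstep _ τ.2⟩
  have hf2 : f ^ 2 ^ 1 = 1 := by
    funext τ
    apply Subtype.ext
    funext n
    show conj (conj (τ.1 n)) = τ.1 n
    simp
  haveI : Fact (Nat.Prime 2) := ⟨Nat.prime_two⟩
  have hcard := Equiv.Perm.card_fixedPoints_modEq (p := 2) (n := 1) hf2
  have hΩcard : Fintype.card Ω = (inertiaOf H (θ : H → ℂ)).index := by
    rw [← ncard_orbitSet H (θ : H → ℂ) (inertiaOf H (θ : H → ℂ)) (mem_inertiaOf H _)]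
    rw [← Nat.card_coe_set_eq, Nat.card_eq_fintype_card]
  have hfixne : Nonempty f.fixedPoints := by
    by_contra hcon
    rw [not_nonempty_iff] at hcon
    have h0 : Fintype.card f.fixedPoints = 0 := Fintype.card_eq_zero
    rw [h0, hΩcard] at hcard
    have := Nat.modEq_zero_iff_dvd.mp hcard
    exact (Nat.not_even_iff_odd.2 hodd) (even_iff_two_dvd.2 this)
  obtain ⟨⟨⟨τ₀, g, rfl⟩, hτ₀⟩⟩ := hfixne
  have h1 : σ (Clifford.conjFun H g (θ : H → ℂ)) = Clifford.conjFun H g (θ : H → ℂ) :=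
    congrArg Subtype.val hτ₀
  have h2 : σ (θ : H → ℂ) = θ := by
    have h3 : Clifford.conjFun H g (σ (θ : H → ℂ)) = Clifford.conjFun H g (θ : H → ℂ) := by
      rw [← hσconj, h1]
    exact conjFun_injective H g h3
  exact Complex.conj_eq_iff_im.1 (congrFun h2 n)

/-- Inner product of conjugates. -/
theorem classInner_conj_conj {A : Type*} [Group A] [Fintype A] (f g : A → ℂ) :
    classInner (fun a => conj (f a)) (fun a => conj (g a)) = conj (classInner f g) := by
  unfold classInner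
  rw [map_mul, map_inv₀, Complex.conj_natCast, map_sum]
  simp

/-- Constituents of the restriction of `χ ∈ RO Γ` to a normal subgroup. -/
theorem ro_constituent (χ : RO Γ) (θ : IrrCharacter H)
    (hθ : classInner (fun n : H => (χ.1 : Γ → ℂ) n) (θ : H → ℂ) ≠ 0) :
    Odd (inertiaOf H (θ : H → ℂ)).index ∧ Odd (charDegree (θ : H → ℂ)) ∧
      ∀ n, ((θ : H → ℂ) n).im = 0 := by
  classical
  obtain ⟨χ, hre, hodd⟩ := χ
  have h1 := apply_one_eq H (θ : H → ℂ) _ θ.2 (mem_inertiaOf H _) χ.2 hθ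
  obtain ⟨e, he⟩ := exists_nat_classInner
    (isCharacter_restrict (isCharacter_of_isIrrCharacter χ.2) H) θ
  have he' : classInner (fun n : H => (χ : Γ → ℂ) n) (θ : H → ℂ) = e := he
  have hχ1 := Cfsg.Agent.Lib.Char.Values.IsCharacter.charDegree_cast
    (isCharacter_of_isIrrCharacter χ.2)
  have hθ1 := Cfsg.Agent.Lib.Char.Values.IsCharacter.charDegree_cast
    (isCharacter_of_isIrrCharacter θ.2)
  rw [he', ← hθ1, ← hχ1] at h1
  have h2 : charDegree (χ : Γ → ℂ) = e * ((inertiaOf H (θ : H → ℂ)).index *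
      charDegree (θ : H → ℂ)) := by exact_mod_cast h1
  rw [h2] at hodd
  have h3 := (Nat.odd_mul.1 hodd).2
  have h4 := Nat.odd_mul.1 h3
  refine ⟨h4.1, h4.2, ?_⟩
  have hc : classInner (fun n : H => (χ : Γ → ℂ) n) (fun n => conj ((θ : H → ℂ) n)) ≠ 0 := by
    have h5 : (fun n : H => (χ : Γ → ℂ) n) = fun n : H => conj ((χ : Γ → ℂ) n) := by
      funext n
      exact (Complex.conj_eq_iff_im.2 (hre _)).symm
    rw [h5, classInner_conj_conj]
    intro h0
    apply hθ
    have := (map_eq_zero _).1 h0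
    exact this
  obtain ⟨g, hg⟩ := exists_conj_of_classInner_ne_zero H χ.2 θ.2 (isIrr_conj θ.2) hθ hc
  exact fun n => real_of_odd_orbit H θ h4.1 g hg n

/-- Normal subgroups of odd order lie in the kernel of `χ ∈ RO Γ`. -/
theorem ro_ker_of_odd (hodd : Odd (Nat.card H)) (χ : RO Γ) (h : H) :
    (χ.1 : Γ → ℂ) h = (χ.1 : Γ → ℂ) 1 := by
  classical
  have hres := isCharacter_restrict (isCharacter_of_isIrrCharacter χ.1.2) H
  have hdec := decomp_eq_sum_classInner hres
  have htr : ∀ θ : IrrCharacter H, classInner (fun n : H => (χ.1 : Γ → ℂ) n) (θ : H → ℂ) ≠ 0 →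
      ∀ n, (θ : H → ℂ) n = 1 := by
    intro θ hθ n
    exact real_irr_trivial hodd θ (ro_constituent H χ θ hθ).2.2 n
  have h1 : ∀ n : H, (χ.1 : Γ → ℂ) n = ∑ θ : IrrCharacter H,
      classInner (fun n : H => (χ.1 : Γ → ℂ) n) (θ : H → ℂ) := by
    intro n
    have h2 := congrFun hdec n
    rw [Finset.sum_apply] at h2
    refine h2.trans (Finset.sum_congr rfl fun θ _ => ?_)
    by_cases h0 : classInner (fun n : H => (χ.1 : Γ → ℂ) n) (θ : H → ℂ) = 0
    · simp [h0]
    · simp [htr θ h0 n]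
  have h2 := h1 h
  have h3 := h1 1
  rw [h2]
  exact h3.symm

end Constituents


section Parity

variable {G : Type u} [Group G] [Fintype G]

/-- `charDegree` from the value at `1`. -/
theorem charDegree_of_apply_one {A : Type*} [Group A] (f : A → ℂ) (n : ℕ) (h : f 1 = n) :
    charDegree f = n := by
  unfold charDegree
  rw [h]
  simp

/-- The degree equation for a character. -/
theorem sum_degree {Ψ : G → ℂ} (hΨ : IsCharacter G Ψ) {t : ℕ} (h1 : Ψ 1 = (t : ℂ))
    (m : IrrCharacter G → ℕ) (hm : ∀ χ : IrrCharacter G, classInner Ψ (χ : G → ℂ) = (m χ : ℂ)) :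
    t = ∑ χ : IrrCharacter G, m χ * charDegree (χ : G → ℂ) := by
  classical
  have hdec := decomp_eq_sum_classInner hΨ
  have h3 := congrFun hdec 1
  rw [h1, Finset.sum_apply] at h3
  have h4 : ((t : ℕ) : ℂ) =
      ((∑ χ : IrrCharacter G, m χ * charDegree (χ : G → ℂ) : ℕ) : ℂ) := by
    rw [h3]
    push_cast
    refine Finset.sum_congr rfl (fun χ _ => ?_)
    rw [Pi.smul_apply, hm χ, smul_eq_mul,
      Cfsg.Agent.Lib.Char.Values.IsCharacter.charDegree_cast (isCharacter_of_isIrrCharacter χ.2)]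
  exact_mod_cast h4

/-- A character of odd degree has a constituent of odd degree. -/
theorem exists_odd_constituent {Ψ : G → ℂ} (hΨ : IsCharacter G Ψ) {t : ℕ} (h1 : Ψ 1 = (t : ℂ))
    (ht : Odd t) :
    ∃ χ : IrrCharacter G, classInner Ψ (χ : G → ℂ) ≠ 0 ∧ Odd (charDegree (χ : G → ℂ)) := by
  classical
  by_contra hcon
  push Not at hcon
  choose m hm using fun χ : IrrCharacter G => exists_nat_classInner hΨ χ
  have hsum := sum_degree hΨ h1 m hm
  apply (Nat.not_even_iff_odd.2 ht)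
  rw [hsum]
  refine Finset.even_sum _ fun χ _ => ?_
  by_cases h0 : m χ = 0
  · simp [h0]
  · have hne : classInner Ψ (χ : G → ℂ) ≠ 0 := by
      rw [hm χ]
      exact_mod_cast h0
    exact (Nat.not_odd_iff_even.1 (hcon χ hne)).mul_left _

/-- A real character of odd degree has a real constituent of odd degree. -/
theorem exists_real_odd_constituent {Ψ : G → ℂ} (hΨ : IsCharacter G Ψ)
    (hre : ∀ g, conj (Ψ g) = Ψ g) {t : ℕ} (h1 : Ψ 1 = (t : ℂ)) (ht : Odd t) :
    ∃ χ : RO G, classInner Ψ (χ.1 : G → ℂ) ≠ 0 := by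
  classical
  choose m hm using fun χ : IrrCharacter G => exists_nat_classInner hΨ χ
  have hsum := sum_degree hΨ h1 m hm
  have hmcc : ∀ χ, m (ccI χ) = m χ := by
    intro χ
    have h3 : ((m (ccI χ) : ℕ) : ℂ) = conj ((m χ : ℕ) : ℂ) := by
      rw [← hm (ccI χ), ← hm χ]
      unfold classInner
      rw [map_mul, map_inv₀, Complex.conj_natCast, map_sum]
      congr 1
      refine Finset.sum_congr rfl (fun g _ => ?_)
      rw [map_mul, hre g]
      rfl
    rw [Complex.conj_natCast] at h3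
    exact_mod_cast h3
  have hdeg : ∀ χ : IrrCharacter G, charDegree ((ccI χ : IrrCharacter G) : G → ℂ) =
      charDegree (χ : G → ℂ) := by
    intro χ
    unfold charDegree
    show ⌊(conj ((χ : G → ℂ) 1)).re⌋₊ = _
    rw [Complex.conj_re]
  have hzmod : (∑ χ : IrrCharacter G,
      ((m χ * charDegree (χ : G → ℂ) : ℕ) : ZMod 2)) ≠ 0 := by
    rw [← Nat.cast_sum, ← hsum]
    intro h
    have := (ZMod.natCast_eq_zero_iff _ _).1 h
    exact (Nat.not_even_iff_odd.2 ht) (even_iff_two_dvd.2 this)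
  have hex : ∃ χ : IrrCharacter G,
      ((m χ * charDegree (χ : G → ℂ) : ℕ) : ZMod 2) ≠ 0 ∧ ccI χ = χ := by
    by_contra hcon
    push Not at hcon
    apply hzmod
    refine Finset.sum_involution (fun χ _ => ccI χ) ?_ ?_ (fun _ _ => Finset.mem_univ _)
      (fun χ _ => ccI_ccI χ)
    · intro χ _
      rw [hmcc, hdeg]
      exact CharTwo.add_self_eq_zero _
    · intro χ _ h
      exact hcon χ h
  obtain ⟨χ, hχ1, hχ2⟩ := hex
  have hodd : Odd (m χ * charDegree (χ : G → ℂ)) := by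
    rw [← Nat.not_even_iff_odd, even_iff_two_dvd]
    intro hd
    exact hχ1 ((ZMod.natCast_eq_zero_iff _ _).2 hd)
  refine ⟨⟨χ, real_of_ccI_eq χ hχ2, (Nat.odd_mul.1 hodd).2⟩, ?_⟩
  rw [hm χ]
  intro h0
  have h3 : m χ = 0 := by exact_mod_cast h0
  rw [h3] at hodd
  simp at hodd

/-- The function of a linear character. -/
abbrev thF {H : Type*} [Group H] (θ : H →* ℂˣ) : H → ℂ := fun h => ((θ h : ℂˣ) : ℂ)

theorem isIrr_thF {H : Type*} [Group H] (θ : H →* ℂˣ) : IsIrrCharacter H (thF θ) :=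
  Cfsg.Agent.Lib.Char.LinearChars.isIrr_of_hom θ

omit [Fintype G] in
/-- An irreducible character of odd degree of a `2`-group is linear. -/
theorem exists_hom_of_odd_degree [Finite G] (hG : IsPGroup 2 G) (χ : IrrCharacter G)
    (hd : Odd (charDegree (χ : G → ℂ))) : ∃ μ : G →* ℂˣ, (χ : G → ℂ) = thF μ := by
  classical
  haveI := Fintype.ofFinite G
  have h1 := Cfsg.Agent.Lib.Char.Values.IsCharacter.charDegree_cast
    (isCharacter_of_isIrrCharacter χ.2)
  have h2 := Cfsg.Agent.Lib.Char.BrauerSCNum.degree_dvd χ (charDegree (χ : G → ℂ)) h1.symm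
  obtain ⟨a, ha⟩ := IsPGroup.iff_card.1 hG
  rw [ha] at h2
  have h3 : charDegree (χ : G → ℂ) = 1 := by
    have hcop : Nat.Coprime (charDegree (χ : G → ℂ)) (2 ^ a) := by
      apply Nat.Coprime.pow_right
      exact Nat.coprime_two_right.2 hd
    exact Nat.Coprime.eq_one_of_dvd hcop h2
  rw [h3] at h1
  have h4 : (χ : G → ℂ) 1 = 1 := by
    rw [← h1]
    simp
  exact Cfsg.Agent.Lib.Char.LinearChars.exists_hom_of_isCharacter_one
    (isCharacter_of_isIrrCharacter χ.2) h4

end Parity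

section Transfer

variable {Y : Type*} [Group Y] [Finite Y] (Q : Subgroup Y) (μ : Q →* ℂˣ)

/-- The transfer on a normal subgroup on which the character is invariant. -/
theorem transfer_apply_normal {H : Subgroup Y} [hH : H.Normal] (hHQ : H ≤ Q)
    (hinv : ∀ (t h : Y) (hh : h ∈ H),
      μ ⟨t * h * t⁻¹, hHQ (hH.conj_mem h hh t)⟩ = μ ⟨h, hHQ hh⟩) (h : Y) (hh : h ∈ H) :
    μ.transfer h = μ ⟨h, hHQ hh⟩ ^ Q.index := by
  classical
  letI := Fintype.ofFinite (Quotient (MulAction.orbitRel (Subgroup.zpowers h) (Y ⧸ Q)))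
  letI := Fintype.ofFinite (Y ⧸ Q)
  rw [MonoidHom.transfer_eq_prod_quotient_orbitRel_zpowers_quot,
    Subgroup.index_eq_sum_minimalPeriod Q h, ← Finset.prod_pow_eq_pow_sum]
  refine Finset.prod_congr rfl fun q _ => ?_
  have h2 : ∀ k : ℕ, ∀ (hk : h ^ k ∈ H), μ ⟨h ^ k, hHQ hk⟩ = μ ⟨h, hHQ hh⟩ ^ k := by
    intro k
    induction k with
    | zero =>
      intro hk
      have : (⟨h ^ 0, hHQ hk⟩ : Q) = 1 := Subtype.ext (pow_zero h)
      rw [this, map_one, pow_zero]
    | succ k ih =>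
      intro hk
      have h3 : (⟨h ^ (k + 1), hHQ hk⟩ : Q) = ⟨h ^ k, hHQ (H.pow_mem hh k)⟩ * ⟨h, hHQ hh⟩ :=
        Subtype.ext (pow_succ h k)
      rw [h3, map_mul, ih (H.pow_mem hh k), pow_succ]
  have h3 := hinv q.out.out⁻¹ (h ^ Function.minimalPeriod (h • ·) q.out) (H.pow_mem hh _)
  simp only [inv_inv] at h3
  rw [← h2 _ (H.pow_mem hh _), ← h3]

/-- The transfer of a character of order at most two has order at most two. -/
theorem transfer_sq (h2 : ∀ u, μ u ^ 2 = 1) (t : Y) : μ.transfer t ^ 2 = 1 := by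
  classical
  letI := Fintype.ofFinite (Quotient (MulAction.orbitRel (Subgroup.zpowers t) (Y ⧸ Q)))
  rw [MonoidHom.transfer_eq_prod_quotient_orbitRel_zpowers_quot, ← Finset.prod_pow]
  exact Finset.prod_eq_one fun q _ => h2 _

end Transfer

end Cfsg.Agent.Lib.Char.RealOdd
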