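import Mathlib
import Cfsg.Prelude.Def_Characters
import Cfsg.Agent.Lib.Char.CliffordCorr
import Cfsg.Agent.Lib.Char.ItoMichler
import Cfsg.Agent.Lib.Char.LinearChars
import Cfsg.Agent.Lib.Char.Values

/-!
# Linear characters of an abelian normal subgroup and their inertia groups

The conjugation action of `G` on the homomorphisms `A →* ℂˣ`, for `A` an abelian normal subgroup;
inertia groups; separation of points; the rank one lemma: when `G' ≤ A`, all inertia groups have
index `1` or `p`, then either all proper inertia groups coincide, or the commutators `λ^g / λ` are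
all powers of a single `G`-invariant character of order `p`.
-/

set_option autoImplicit false
set_option linter.style.haveILetI false
set_option linter.deprecated false
set_option linter.unusedSectionVars false

namespace Cfsg.Agent.Lib.Char.TwoDeg

open Cfsg
open scoped commutatorElement

universe u

/-- Homomorphisms to `ℂˣ` separate points from subgroups of a finite abelian group. -/
theorem exists_hom_sep {B : Type*} [Group B] [Finite B] (hab : ∀ a b : B, a * b = b * a)
    (S : Subgroup B) {x : B} (hx : x ∉ S) : ∃ φ : B →* ℂˣ, (∀ s ∈ S, φ s = 1) ∧ φ x ≠ 1 := by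
  letI inst : CommGroup B := { (inferInstance : Group B) with mul_comm := hab }
  haveI : NeZero (Monoid.exponent B) := ⟨Monoid.exponent_ne_zero_of_finite⟩
  by_contra hcon
  push Not at hcon
  exact hx ((CommGroup.forall_monoidHom_apply_eq_one_iff (M := ℂ) S x).mp hcon)

/-- Extending homomorphisms to `ℂˣ` from a subgroup of a finite abelian group. -/
theorem exists_hom_extend {B : Type*} [Group B] [Finite B] (hab : ∀ a b : B, a * b = b * a)
    (S : Subgroup B) (φ : S →* ℂˣ) : ∃ ψ : B →* ℂˣ, ∀ s : S, ψ s = φ s := by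
  letI inst : CommGroup B := { (inferInstance : Group B) with mul_comm := hab }
  haveI : NeZero (Monoid.exponent B) := ⟨Monoid.exponent_ne_zero_of_finite⟩
  obtain ⟨ψ, hψ⟩ := MonoidHom.domRestrict_surjective (M := ℂ) S φ
  refine ⟨ψ, fun s => ?_⟩
  have := DFunLike.congr_fun hψ s
  simpa using this

section Cj

variable {G : Type u} [Group G] (A : Subgroup G) [hA : A.Normal]

/-- The conjugate of a homomorphism `A →* ℂˣ`: `(cj g l) a = l (g a g⁻¹)`. -/
def cj (g : G) (l : A →* ℂˣ) : A →* ℂˣ := l.comp (MulAut.conjNormal g).toMonoidHom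

theorem cj_apply (g : G) (l : A →* ℂˣ) (a : A) :
    cj A g l a = l ⟨g * a * g⁻¹, hA.conj_mem a a.2 g⟩ := rfl

theorem cj_one (l : A →* ℂˣ) : cj A 1 l = l := by
  ext a
  rw [cj_apply]
  congr 3
  simp

theorem cj_mul (x y : G) (l : A →* ℂˣ) : cj A (x * y) l = cj A y (cj A x l) := by
  ext a
  rw [cj_apply, cj_apply, cj_apply]
  congr 3
  simp only [mul_inv_rev]
  group

theorem cj_mul_hom (g : G) (l m : A →* ℂˣ) : cj A g (l * m) = cj A g l * cj A g m := rfl

theorem cj_inv_hom (g : G) (l : A →* ℂˣ) : cj A g l⁻¹ = (cj A g l)⁻¹ := rfl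

theorem cj_pow_hom (g : G) (l : A →* ℂˣ) (n : ℕ) : cj A g (l ^ n) = (cj A g l) ^ n := rfl

theorem cj_zpow_hom (g : G) (l : A →* ℂˣ) (n : ℤ) : cj A g (l ^ n) = (cj A g l) ^ n := rfl

theorem cj_inv_cj (g : G) (l : A →* ℂˣ) : cj A g⁻¹ (cj A g l) = l := by
  rw [← cj_mul, mul_inv_cancel, cj_one]

theorem cj_cj_inv (g : G) (l : A →* ℂˣ) : cj A g (cj A g⁻¹ l) = l := by
  rw [← cj_mul, inv_mul_cancel, cj_one]

/-- The inertia group of a homomorphism `A →* ℂˣ`. -/
def stab (l : A →* ℂˣ) : Subgroup G where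
  carrier := {g | cj A g l = l}
  one_mem' := cj_one A l
  mul_mem' := by
    intro x y hx hy
    simp only [Set.mem_setOf_eq] at hx hy ⊢
    rw [cj_mul, hx, hy]
  inv_mem' := by
    intro x hx
    simp only [Set.mem_setOf_eq] at hx ⊢
    conv_lhs => rw [← hx]
    exact cj_inv_cj A x l

theorem mem_stab {l : A →* ℂˣ} {g : G} : g ∈ stab A l ↔ cj A g l = l := Iff.rfl

/-- The commutator `λ^g / λ`. -/
def com (l : A →* ℂˣ) (g : G) : A →* ℂˣ := cj A g l * l⁻¹

theorem com_apply (l : A →* ℂˣ) (g : G) (a : A) : com A l g a = cj A g l a * (l a)⁻¹ := rfl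

theorem com_eq_one_iff {l : A →* ℂˣ} {g : G} : com A l g = 1 ↔ g ∈ stab A l := by
  show cj A g l * l⁻¹ = 1 ↔ cj A g l = l
  exact mul_inv_eq_one (G := A →* ℂˣ)

theorem cj_eq_com_mul (l : A →* ℂˣ) (g : G) : cj A g l = com A l g * l := by
  show cj A g l = cj A g l * l⁻¹ * l
  exact (inv_mul_cancel_right (G := A →* ℂˣ) _ _).symm

theorem com_mul_hom (l m : A →* ℂˣ) (g : G) : com A (l * m) g = com A l g * com A m g := by
  ext a
  simp only [com_apply, MonoidHom.mul_apply, cj_mul_hom]
  simp only [mul_inv, Units.val_mul, Units.val_inv_eq_inv_val]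
  ring

end Cj

section Ab

variable {G : Type u} [Group G] (A : Subgroup G) [hA : A.Normal]
  (hab : ∀ a ∈ A, ∀ b ∈ A, a * b = b * a)

include hab in
theorem le_stab (l : A →* ℂˣ) : A ≤ stab A l := by
  intro a ha
  rw [mem_stab]
  ext b
  rw [cj_apply]
  congr 3
  rw [hab a ha b b.2, mul_inv_cancel_right]

variable (hcomm : commutator G ≤ A)

include hab hcomm in
theorem cj_comm (x y : G) (l : A →* ℂˣ) : cj A x (cj A y l) = cj A y (cj A x l) := by
  rw [← cj_mul, ← cj_mul]
  ext b
  rw [cj_apply, cj_apply]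
  congr 3
  -- `y x = x y c` with `c ∈ A`
  have hc : y⁻¹ * x⁻¹ * y * x ∈ A := by
    apply hcomm
    have : y⁻¹ * x⁻¹ * y * x = ⁅y⁻¹, x⁻¹⁆ := by
      simp [commutatorElement_def]
    rw [this, commutator_def]
    exact Subgroup.commutator_mem_commutator (Subgroup.mem_top _) (Subgroup.mem_top _)
  have h1 : y⁻¹ * x⁻¹ * y * x * (b : G) = (b : G) * (y⁻¹ * x⁻¹ * y * x) := hab _ hc _ b.2
  have h2 : y * x * (b : G) * (y * x)⁻¹
      = x * y * (y⁻¹ * x⁻¹ * y * x * (b : G)) * (y⁻¹ * x⁻¹ * y * x)⁻¹ * (x * y)⁻¹ := by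
    group
  rw [h2, h1]
  group

omit hA in
include hcomm in
theorem stab_normal_of_le {T : Subgroup G} (hT : A ≤ T) : T.Normal :=
  Subgroup.Normal.of_commutator_le _ (hcomm.trans hT)

include hab hcomm in
theorem stab_normal (l : A →* ℂˣ) : (stab A l).Normal :=
  stab_normal_of_le A hcomm (le_stab A hab l)

include hab hcomm in
/-- Elements of the inertia group of `λ` fix every conjugate of `λ`. -/
theorem mem_stab_cj {l : A →* ℂˣ} {t : G} (ht : t ∈ stab A l) (y : G) : t ∈ stab A (cj A y l) := by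
  rw [mem_stab, cj_comm A hab hcomm, (mem_stab A).mp ht]

include hab hcomm in
theorem mem_stab_com {l : A →* ℂˣ} {t : G} (ht : t ∈ stab A l) (y : G) : t ∈ stab A (com A l y) := by
  rw [mem_stab, com, cj_mul_hom, cj_inv_hom, (mem_stab A).mp ht,
    (mem_stab A).mp (mem_stab_cj A hab hcomm ht y)]

end Ab

section Abstract

/-! ### The rank one lemma for an abstract action on an abelian group -/

theorem exists_pow_inv_mul_mem {G : Type u} [Group G] [Finite G] {p : ℕ} (hp : p.Prime)
    {T : Subgroup G} [T.Normal] (hT : T.index = p) {x : G} (hx : x ∉ T) (y : G) :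
    ∃ i : ℕ, (x ^ i)⁻¹ * y ∈ T := by
  haveI : Fact p.Prime := ⟨hp⟩
  have hc : Nat.card (G ⧸ T) = p := by rw [← hT]; rfl
  have hx1 : (x : G ⧸ T) ≠ 1 := by
    rwa [Ne, QuotientGroup.eq_one_iff]
  have h1 : (y : G ⧸ T) ∈ Subgroup.zpowers (x : G ⧸ T) := mem_zpowers_of_prime_card hc hx1
  have h2 : (y : G ⧸ T) ∈ Submonoid.powers (x : G ⧸ T) := mem_powers_iff_mem_zpowers.mpr h1
  obtain ⟨i, hi⟩ := h2
  refine ⟨i, ?_⟩
  rw [← QuotientGroup.eq]
  rw [← hi]
  rfl

theorem exists_mem_not_mem {G : Type u} [Group G] [Finite G] {T₁ T₂ : Subgroup G}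
    (hne : T₁ ≠ T₂) (h : T₁.index = T₂.index) : ∃ x ∈ T₁, x ∉ T₂ := by
  by_contra hcon
  push Not at hcon
  have hle : T₁ ≤ T₂ := hcon
  apply hne
  have h1 := Subgroup.relIndex_mul_index hle
  rw [h] at h1
  have h2 : T₂.index ≠ 0 := Subgroup.index_ne_zero_of_finite
  have h3 : T₁.relIndex T₂ = 1 := by
    have := Nat.pos_of_ne_zero h2
    nlinarith
  exact le_antisymm hle (Subgroup.relIndex_eq_one.mp h3)

/-- A commutative (right) action of `G` on an abelian group `D`, by automorphisms. -/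
structure ComAct (G : Type u) [Group G] (D : Type*) [CommGroup D] where
  /-- the action -/
  act : G → D →* D
  act_one : ∀ l, act 1 l = l
  act_mul : ∀ x y l, act (x * y) l = act y (act x l)
  act_comm : ∀ x y l, act x (act y l) = act y (act x l)

namespace ComAct

variable {G : Type u} [Group G] {D : Type*} [CommGroup D] (a : ComAct G D)

/-- The stabilizer. -/
def stabS (l : D) : Subgroup G where
  carrier := {g | a.act g l = l}
  one_mem' := a.act_one l
  mul_mem' := by
    intro x y hx hy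
    simp only [Set.mem_setOf_eq] at hx hy ⊢
    rw [a.act_mul, hx, hy]
  inv_mem' := by
    intro x hx
    simp only [Set.mem_setOf_eq] at hx ⊢
    conv_lhs => rw [← hx]
    rw [← a.act_mul, mul_inv_cancel, a.act_one]

theorem mem_stabS {l : D} {g : G} : g ∈ a.stabS l ↔ a.act g l = l := Iff.rfl

/-- The commutator. -/
def comS (l : D) (g : G) : D := a.act g l * l⁻¹

theorem comS_eq_one_iff {l : D} {g : G} : a.comS l g = 1 ↔ g ∈ a.stabS l := by
  rw [comS, mul_inv_eq_one]; rfl

theorem act_eq_comS_mul (l : D) (g : G) : a.act g l = a.comS l g * l := by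
  rw [comS, inv_mul_cancel_right]

theorem comS_mul (l m : D) (g : G) : a.comS (l * m) g = a.comS l g * a.comS m g := by
  simp only [comS, map_mul, mul_inv]
  exact mul_mul_mul_comm _ _ _ _

theorem mem_stabS_act {l : D} {t : G} (ht : t ∈ a.stabS l) (y : G) : t ∈ a.stabS (a.act y l) := by
  rw [mem_stabS, a.act_comm, (a.mem_stabS).mp ht]

theorem mem_stabS_comS {l : D} {t : G} (ht : t ∈ a.stabS l) (y : G) :
    t ∈ a.stabS (a.comS l y) := by
  rw [mem_stabS, comS, map_mul, map_inv, (a.mem_stabS).mp ht, (a.mem_stabS).mp (a.mem_stabS_act ht y)]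

/-- With `β` invariant, and `λ^x = β λ`: the powers of `x`. -/
theorem act_pow_eq {l β : D} {x : G} (hβ : ∀ g, a.act g β = β) (h : a.comS l x = β) (i : ℕ) :
    a.act (x ^ i) l = β ^ i * l := by
  induction i with
  | zero => simp [a.act_one]
  | succ n ih =>
    rw [pow_succ, a.act_mul, ih, map_mul, map_pow, hβ, a.act_eq_comS_mul, h, pow_succ, mul_assoc]

theorem act_inv_pow_eq {l β : D} {x : G} (hβ : ∀ g, a.act g β = β) (h : a.comS l x = β) (i : ℕ) :
    a.act (x ^ i)⁻¹ l = (β ^ i)⁻¹ * l := by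
  have h1 : a.act (x ^ i)⁻¹ (a.act (x ^ i) l) = l := by
    rw [← a.act_mul, mul_inv_cancel, a.act_one]
  rw [a.act_pow_eq hβ h, map_mul, map_pow, hβ] at h1
  rw [eq_inv_mul_iff_mul_eq]
  exact h1

theorem comS_inv_pow_mul {l : D} {x : G} (hx : x ∈ a.stabS l) (i : ℕ) (y : G) :
    a.comS l ((x ^ i)⁻¹ * y) = a.comS l y := by
  have h1 : (x ^ i)⁻¹ ∈ a.stabS l := (a.stabS l).inv_mem ((a.stabS l).pow_mem hx i)
  rw [comS, comS, a.act_mul, (a.mem_stabS).mp h1]

variable [Finite G] (hnormal : ∀ l, (a.stabS l).Normal) {p : ℕ} (hp : p.Prime)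
  (hidx : ∀ l : D, (a.stabS l).index = 1 ∨ (a.stabS l).index = p)

include hidx in
theorem index_stabS_mul {l m : D} {x : G} (hx : x ∈ a.stabS l) (hxm : x ∉ a.stabS m) :
    (a.stabS (l * m)).index = p ∧ x ∉ a.stabS (l * m) := by
  have h1 : x ∉ a.stabS (l * m) := by
    rw [← comS_eq_one_iff, comS_mul, a.comS_eq_one_iff.mpr hx, one_mul, comS_eq_one_iff]
    exact hxm
  refine ⟨?_, h1⟩
  rcases hidx (l * m) with h | h
  · exact absurd (by rw [Subgroup.index_eq_one.mp h]; trivial) h1
  · exact h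

include hnormal hp hidx in
/-- The commutators `l^y / l` are invariant, when `x` fixes `l` but not `m`, and the inertia group
of `m` has index `p`. -/
theorem comS_invariant {l m : D} {x : G} (hx : x ∈ a.stabS l) (hxm : x ∉ a.stabS m)
    (hm : (a.stabS m).index = p) (y g : G) :
    a.act g (a.comS l y) = a.comS l y := by
  obtain ⟨h3, hx3⟩ := a.index_stabS_mul hidx hx hxm
  haveI := hnormal (l * m)
  haveI := hnormal m
  obtain ⟨i, hi⟩ := exists_pow_inv_mul_mem hp h3 hx3 y
  have hz : a.comS l y * a.comS m ((x ^ i)⁻¹ * y) = 1 := by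
    have := a.comS_eq_one_iff.mpr hi
    rw [comS_mul, a.comS_inv_pow_mul hx] at this
    exact this
  have hγ : a.comS l y = (a.comS m ((x ^ i)⁻¹ * y))⁻¹ := eq_inv_of_mul_eq_one_left hz
  have hfixm : ∀ t ∈ a.stabS m, t ∈ a.stabS (a.comS l y) := by
    intro t ht
    rw [hγ, mem_stabS, map_inv, (a.mem_stabS).mp (a.mem_stabS_comS ht _)]
  have hfixx : x ∈ a.stabS (a.comS l y) := a.mem_stabS_comS hx y
  obtain ⟨j, hj⟩ := exists_pow_inv_mul_mem hp hm hxm g
  have h1 := hfixm _ hj
  have h2 : x ^ j ∈ a.stabS (a.comS l y) := (a.stabS _).pow_mem hfixx j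
  have h3 : g = x ^ j * ((x ^ j)⁻¹ * g) := by group
  rw [← mem_stabS, h3]
  exact (a.stabS _).mul_mem h2 h1

include hnormal hp hidx in
/-- Pair lemma: `l^y/l` is a power of `β = m^x/m` if `β` is invariant. -/
theorem comS_eq_pow_of_pair {l m : D} {x : G} (hx : x ∈ a.stabS l) (hxm : x ∉ a.stabS m)
    (hm : (a.stabS m).index = p) (hβ : ∀ g, a.act g (a.comS m x) = a.comS m x) (y : G) :
    ∃ k : ℕ, a.comS l y = a.comS m x ^ k := by
  obtain ⟨h3, hx3⟩ := a.index_stabS_mul hidx hx hxm
  haveI := hnormal (l * m)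
  haveI := hnormal m
  obtain ⟨i, hi⟩ := exists_pow_inv_mul_mem hp hm hxm y
  set y' := (x ^ i)⁻¹ * y with hy'
  obtain ⟨j, hj⟩ := exists_pow_inv_mul_mem hp h3 hx3 y'
  refine ⟨j, ?_⟩
  have e1 : a.comS l y = a.comS l ((x ^ j)⁻¹ * y') := by
    rw [a.comS_inv_pow_mul hx, hy', a.comS_inv_pow_mul hx]
  have e2 : a.comS m ((x ^ j)⁻¹ * y') = (a.comS m x ^ j)⁻¹ := by
    rw [comS, a.act_mul, a.act_inv_pow_eq hβ rfl, map_mul, map_inv, map_pow, hβ,
      (a.mem_stabS).mp hi]
    exact mul_inv_cancel_right _ _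
  have hz := a.comS_eq_one_iff.mpr hj
  rw [comS_mul, e2, ← e1] at hz
  exact mul_inv_eq_one.mp hz

omit [Finite G] in
theorem comS_pow_aux {m : D} {x y : G} (hβ : ∀ g, a.act g (a.comS m x) = a.comS m x) {i : ℕ}
    (hi : (x ^ i)⁻¹ * y ∈ a.stabS m) : a.comS m y = a.comS m x ^ i := by
  have h1 := (a.mem_stabS).mp hi
  rw [a.act_mul, a.act_inv_pow_eq hβ rfl, map_mul, map_inv, map_pow, hβ] at h1
  have h2 : a.act y m = a.comS m x ^ i * m := inv_mul_eq_iff_eq_mul.mp h1
  rw [comS, h2]
  exact mul_inv_cancel_right _ _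

include hnormal hp hidx in
/-- The rank one lemma. -/
theorem rank_one {l₁ l₂ : D} (hne : a.stabS l₁ ≠ a.stabS l₂) (h1 : (a.stabS l₁).index = p)
    (h2 : (a.stabS l₂).index = p) :
    ∃ (l₀ : D) (x₀ : G) (β : D), β = a.comS l₀ x₀ ∧ β ≠ 1 ∧ (∀ g, a.act g β = β) ∧
      β ^ p = 1 ∧ ∀ (l : D) (g : G), ∃ k : ℕ, a.comS l g = β ^ k := by
  haveI := hnormal l₂
  obtain ⟨x, hx, hx2⟩ := exists_mem_not_mem hne (h1.trans h2.symm)
  obtain ⟨y, hy, hy1⟩ := exists_mem_not_mem hne.symm (h2.trans h1.symm)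
  have hinv2 : ∀ z g, a.act g (a.comS l₂ z) = a.comS l₂ z := fun z g =>
    a.comS_invariant hnormal hp hidx hy hy1 h1 z g
  have hinv1 : ∀ z g, a.act g (a.comS l₁ z) = a.comS l₁ z := fun z g =>
    a.comS_invariant hnormal hp hidx hx hx2 h2 z g
  refine ⟨l₂, x, a.comS l₂ x, rfl, ?_, hinv2 x, ?_, ?_⟩
  · rwa [Ne, comS_eq_one_iff]
  · have h3 : x ^ p ∈ a.stabS l₂ := by
      rw [← h2]
      exact Subgroup.pow_index_mem _ x
    have h4 := (a.mem_stabS).mp h3
    rw [a.act_pow_eq (hinv2 x) rfl] at h4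
    exact mul_eq_right.mp h4
  · intro l g
    have hpow : ∀ z, ∃ k : ℕ, a.comS l₂ z = a.comS l₂ x ^ k := by
      intro z
      obtain ⟨i, hi⟩ := exists_pow_inv_mul_mem hp h2 hx2 z
      exact ⟨i, a.comS_pow_aux (hinv2 x) hi⟩
    by_cases hg : g ∈ a.stabS l
    · exact ⟨0, by rw [a.comS_eq_one_iff.mpr hg, pow_zero]⟩
    have hl : (a.stabS l).index = p := by
      rcases hidx l with h | h
      · exact absurd (by rw [Subgroup.index_eq_one.mp h]; trivial) hg
      · exact h
    by_cases hc : a.stabS l = a.stabS l₂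
    · have hc1 : a.stabS l ≠ a.stabS l₁ := by rw [hc]; exact hne.symm
      obtain ⟨y', hy', hy'1⟩ := exists_mem_not_mem hc1 (hl.trans h1.symm)
      obtain ⟨k, hk⟩ := a.comS_eq_pow_of_pair hnormal hp hidx hy' hy'1 h1 (hinv1 y') g
      obtain ⟨j, hj⟩ := a.comS_eq_pow_of_pair hnormal hp hidx hx hx2 h2 (hinv2 x) y'
      exact ⟨j * k, by rw [hk, hj, pow_mul]⟩
    · obtain ⟨x', hx', hx'2⟩ := exists_mem_not_mem hc (hl.trans h2.symm)
      obtain ⟨k, hk⟩ := a.comS_eq_pow_of_pair hnormal hp hidx hx' hx'2 h2 (hinv2 x') g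
      obtain ⟨j, hj⟩ := hpow x'
      exact ⟨j * k, by rw [hk, hj, pow_mul]⟩

omit [Finite G] in
theorem mem_stabS_inv {l : D} {g : G} (h : g ∈ a.stabS l) : g ∈ a.stabS l⁻¹ := by
  rw [mem_stabS, map_inv, (a.mem_stabS).mp h]

theorem eq_of_le_of_index_eq {T₁ T₂ : Subgroup G} (hle : T₁ ≤ T₂) (h : T₁.index = T₂.index) :
    T₁ = T₂ := by
  by_contra hne
  obtain ⟨x, hx, hx2⟩ := exists_mem_not_mem (Ne.symm hne) h.symm
  have h1 := Subgroup.relIndex_mul_index hle
  rw [h] at h1
  have h2 : T₂.index ≠ 0 := Subgroup.index_ne_zero_of_finite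
  have h3 : T₁.relIndex T₂ = 1 := by
    have := Nat.pos_of_ne_zero h2
    nlinarith
  exact hx2 (Subgroup.relIndex_eq_one.mp h3 hx)

/-- If all nontrivial elements have stabilizers of the same index, the stabilizers coincide. -/
theorem stabS_eq {m : ℕ} (hm : ∀ l : D, l ≠ 1 → (a.stabS l).index = m) {μ ν : D} (hμ : μ ≠ 1)
    (hν : ν ≠ 1) : a.stabS μ = a.stabS ν := by
  by_contra hne
  have hfix : ∀ ρ l : D, ρ ≠ 1 → l ≠ 1 → a.stabS l ≤ a.stabS ρ → a.stabS ρ = a.stabS l := by
    intro ρ l hρ hl hle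
    exact (eq_of_le_of_index_eq hle ((hm l hl).trans (hm ρ hρ).symm)).symm
  have hmn : μ * ν ≠ 1 := by
    intro h
    have h1 : ν = μ⁻¹ := eq_inv_of_mul_eq_one_right h
    apply hne
    rw [h1]
    apply le_antisymm
    · intro g hg
      exact a.mem_stabS_inv hg
    · intro g hg
      have := a.mem_stabS_inv hg
      rwa [inv_inv] at this
  have key : ∀ g ∈ a.stabS (μ * ν), a.comS μ g = 1 := by
    intro g hg
    by_contra hα
    have h1 := a.comS_eq_one_iff.mpr hg
    rw [comS_mul] at h1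
    have h2 : a.comS μ g = (a.comS ν g)⁻¹ := eq_inv_of_mul_eq_one_left h1
    have h3 := hfix _ μ hα hμ (fun t ht => a.mem_stabS_comS ht g)
    have h4 : a.stabS ν ≤ a.stabS (a.comS μ g) := fun t ht => by
      rw [h2]
      exact a.mem_stabS_inv (a.mem_stabS_comS ht g)
    have h5 := hfix _ ν hα hν h4
    exact hne (h3.symm.trans h5)
  have h1 : a.stabS (μ * ν) ≤ a.stabS μ := fun g hg => a.comS_eq_one_iff.mp (key g hg)
  have h2 : a.stabS (μ * ν) ≤ a.stabS ν := by
    intro g hg
    have h3 := a.comS_eq_one_iff.mpr hg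
    rw [comS_mul, key g hg, one_mul] at h3
    exact a.comS_eq_one_iff.mp h3
  have h3 := eq_of_le_of_index_eq h1 ((hm _ hmn).trans (hm _ hμ).symm)
  have h4 := eq_of_le_of_index_eq h2 ((hm _ hmn).trans (hm _ hν).symm)
  exact hne (h3.symm.trans h4)

end ComAct

end Abstract

section RankOne

variable {G : Type u} [Group G] [Finite G] (A : Subgroup G) [hA : A.Normal]
  (hab : ∀ a ∈ A, ∀ b ∈ A, a * b = b * a)

omit hA in
include hab in
theorem eq_of_forall_hom {a b : A} (h : ∀ m : A →* ℂˣ, m a = m b) : a = b := by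
  by_contra hne
  have hab' : ∀ x y : A, x * y = y * x := fun x y => Subtype.ext (hab x x.2 y y.2)
  have hx : a * b⁻¹ ∉ (⊥ : Subgroup A) := by
    rw [Subgroup.mem_bot, mul_inv_eq_one]
    exact hne
  obtain ⟨φ, -, hφ⟩ := exists_hom_sep hab' ⊥ hx
  apply hφ
  rw [map_mul, map_inv, h φ, mul_inv_cancel]

include hab in
/-- An element fixing all homomorphisms `A →* ℂˣ` centralizes `A`. -/
theorem commute_of_forall_stab {g : G} (h : ∀ m : A →* ℂˣ, g ∈ stab A m) (a : G) (ha : a ∈ A) :
    g * a = a * g := by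
  have h1 : (⟨g * a * g⁻¹, hA.conj_mem a ha g⟩ : A) = ⟨a, ha⟩ := by
    apply eq_of_forall_hom A hab
    intro m
    have := DFunLike.congr_fun ((mem_stab A).mp (h m)) ⟨a, ha⟩
    rwa [cj_apply] at this
  have h2 := congrArg Subtype.val h1
  simp only at h2
  exact mul_inv_eq_iff_eq_mul.mp h2

variable (hcomm : commutator G ≤ A)

/-- The conjugation action on `A →* ℂˣ`, as a commutative action. -/
def comAct : ComAct G (A →* ℂˣ) where
  act g :=
    { toFun := cj A g
      map_one' := rfl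
      map_mul' := fun _ _ => rfl }
  act_one := cj_one A
  act_mul := cj_mul A
  act_comm := cj_comm A hab hcomm

theorem comAct_act (g : G) (l : A →* ℂˣ) : (comAct A hab hcomm).act g l = cj A g l := rfl

theorem comAct_stabS (l : A →* ℂˣ) : (comAct A hab hcomm).stabS l = stab A l := rfl

theorem comAct_comS (l : A →* ℂˣ) (g : G) : (comAct A hab hcomm).comS l g = com A l g := rfl

variable {p : ℕ} (hp : p.Prime)
  (hidx : ∀ l : A →* ℂˣ, (stab A l).index = 1 ∨ (stab A l).index = p)

include hab hcomm hp hidx in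
/-- The rank one lemma, for characters of `A`. -/
theorem rank_one {l₁ l₂ : A →* ℂˣ} (hne : stab A l₁ ≠ stab A l₂) (h1 : (stab A l₁).index = p)
    (h2 : (stab A l₂).index = p) :
    ∃ (l₀ : A →* ℂˣ) (x₀ : G) (β : A →* ℂˣ), β = com A l₀ x₀ ∧ β ≠ 1 ∧ (∀ g, cj A g β = β) ∧
      β ^ p = 1 ∧ ∀ (l : A →* ℂˣ) (g : G), ∃ k : ℕ, com A l g = β ^ k :=
  (comAct A hab hcomm).rank_one (fun l => stab_normal A hab hcomm l) hp hidx hne h1 h2

end RankOne

section CentralizedByDerived

/-! The case where `G'` centralizes `A` without being contained in it. -/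

variable {G : Type u} [Group G] (A : Subgroup G) [hA : A.Normal]
  (hcc : ∀ c ∈ commutator G, ∀ b ∈ A, c * b = b * c)

include hcc in
theorem cj_comm' (x y : G) (l : A →* ℂˣ) : cj A x (cj A y l) = cj A y (cj A x l) := by
  rw [← cj_mul, ← cj_mul]
  ext b
  rw [cj_apply, cj_apply]
  congr 3
  have hc : y⁻¹ * x⁻¹ * y * x ∈ commutator G := by
    have : y⁻¹ * x⁻¹ * y * x = ⁅y⁻¹, x⁻¹⁆ := by
      simp [commutatorElement_def]
    rw [this, commutator_def]
    exact Subgroup.commutator_mem_commutator (Subgroup.mem_top _) (Subgroup.mem_top _)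
  have h1 : y⁻¹ * x⁻¹ * y * x * (b : G) = (b : G) * (y⁻¹ * x⁻¹ * y * x) := hcc _ hc _ b.2
  have h2 : y * x * (b : G) * (y * x)⁻¹
      = x * y * (y⁻¹ * x⁻¹ * y * x * (b : G)) * (y⁻¹ * x⁻¹ * y * x)⁻¹ * (x * y)⁻¹ := by
    group
  rw [h2, h1]
  group

include hcc in
theorem commutator_le_stab (l : A →* ℂˣ) : commutator G ≤ stab A l := by
  intro c hc
  rw [mem_stab]
  ext b
  rw [cj_apply]
  congr 3
  rw [hcc c hc b b.2, mul_inv_cancel_right]

include hcc in
theorem stab_normal' (l : A →* ℂˣ) : (stab A l).Normal :=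
  Subgroup.Normal.of_commutator_le _ (commutator_le_stab A hcc l)

/-- The conjugation action on `A →* ℂˣ`, as a commutative action. -/
def comAct' : ComAct G (A →* ℂˣ) where
  act g :=
    { toFun := cj A g
      map_one' := rfl
      map_mul' := fun _ _ => rfl }
  act_one := cj_one A
  act_mul := cj_mul A
  act_comm := cj_comm' A hcc

theorem comAct'_stabS (l : A →* ℂˣ) : (comAct' A hcc).stabS l = stab A l := rfl

theorem comAct'_comS (l : A →* ℂˣ) (g : G) : (comAct' A hcc).comS l g = com A l g := rfl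

end CentralizedByDerived

section Center

variable {G : Type u} [Group G] [Finite G] (A : Subgroup G) [hA : A.Normal]
  (hab : ∀ a ∈ A, ∀ b ∈ A, a * b = b * a)

/-- A nontrivial homomorphism to `ℂˣ` of exponent `p` has range of order `p`. -/
theorem card_range_eq {B : Type*} [Group B] [Finite B] {p : ℕ} (hp : p.Prime) {β : B →* ℂˣ}
    (hne : β ≠ 1) (hpow : ∀ b, β b ^ p = 1) : Nat.card β.range = p := by
  classical
  haveI : Finite β.range := by
    have : β.range = Set.range β := rfl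
    exact Set.finite_coe_iff.mpr (Set.finite_range β)
  letI : Fintype β.range := Fintype.ofFinite _
  haveI : IsCyclic β.range := inferInstance
  obtain ⟨g, hg⟩ := IsCyclic.exists_generator (α := β.range)
  have h1 : orderOf g = Nat.card β.range := orderOf_eq_card_of_forall_mem_zpowers hg
  have h2 : orderOf g ∣ p := by
    apply orderOf_dvd_of_pow_eq_one
    obtain ⟨g, b, rfl⟩ := g
    apply Subtype.ext
    simpa using hpow b
  rcases (Nat.dvd_prime hp).mp h2 with h3 | h3
  · exfalso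
    apply hne
    have hc : Nat.card β.range = 1 := by rw [← h1, h3]
    have hs : Subsingleton β.range := (Nat.card_eq_one_iff_unique.mp hc).1
    ext b
    have := Subsingleton.elim (⟨β b, ⟨b, rfl⟩⟩ : β.range) 1
    have h4 : β b = 1 := congrArg Subtype.val this
    simp [h4]
  · rw [← h1, h3]

include hab in
/-- The structure theorem from the rank one lemma: either `|G : A| ∈ {1, p}` or `Z(G)` is the
kernel of a single invariant character of order `p` of `A`. -/
theorem structure_of_rank_one (hcomm : commutator G ≤ A) {p : ℕ} (hp : p.Prime)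
    (hidx : ∀ l : A →* ℂˣ, (stab A l).index = 1 ∨ (stab A l).index = p)
    (hcent : ∀ g : G, (∀ a ∈ A, g * a = a * g) → g ∈ A) :
    A.index = 1 ∨ A.index = p ∨
      ∃ β : A →* ℂˣ, β ≠ 1 ∧ (∀ g, cj A g β = β) ∧ (∀ b, β b ^ p = 1) ∧
        (∀ (l : A →* ℂˣ) (g : G), ∃ k : ℕ, com A l g = β ^ k) ∧
        (∀ a : A, (a : G) ∈ Subgroup.center G ↔ β a = 1) ∧
        Subgroup.center G ≤ A ∧ (Subgroup.center G).index = A.index * p := by
  classical
  by_cases hex : ∃ l₁ l₂ : A →* ℂˣ, stab A l₁ ≠ stab A l₂ ∧ (stab A l₁).index = p ∧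
      (stab A l₂).index = p
  · obtain ⟨l₁, l₂, hne, h1, h2⟩ := hex
    obtain ⟨l₀, x₀, β, hβ0, hβ1, hβinv, hβp, hall⟩ := rank_one A hab hcomm hp hidx hne h1 h2
    have hcle : Subgroup.center G ≤ A := by
      intro z hz
      exact hcent z (fun a _ => (Subgroup.mem_center_iff.mp hz a).symm)
    have hpow : ∀ b, β b ^ p = 1 := fun b => by
      have : (β ^ p) b = 1 := by rw [hβp]; rfl
      exact this
    have hcen : ∀ a : A, (a : G) ∈ Subgroup.center G ↔ β a = 1 := by
      intro a
      constructor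
      · intro ha
        rw [hβ0, com_apply, cj_apply]
        have : (⟨x₀ * a * x₀⁻¹, hA.conj_mem a a.2 x₀⟩ : A) = a := by
          apply Subtype.ext
          simp only
          rw [(Subgroup.mem_center_iff.mp ha x₀), mul_inv_cancel_right]
        rw [this, mul_inv_cancel]
      · intro ha
        rw [Subgroup.mem_center_iff]
        intro g
        have h1 : (⟨g * a * g⁻¹, hA.conj_mem a a.2 g⟩ : A) = a := by
          apply eq_of_forall_hom A hab
          intro m
          obtain ⟨k, hk⟩ := hall m g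
          have h2 : com A m g a = 1 := by
            rw [hk]
            show β a ^ k = 1
            rw [ha, one_pow]
          rw [com_apply, cj_apply] at h2
          exact mul_inv_eq_one.mp h2
        have h2 := congrArg Subtype.val h1
        simp only at h2
        exact mul_inv_eq_iff_eq_mul.mp h2
    refine Or.inr (Or.inr ⟨β, hβ1, hβinv, hpow, hall, hcen, hcle, ?_⟩)
    have hker : (Subgroup.center G).subgroupOf A = β.ker := by
      ext a
      rw [Subgroup.mem_subgroupOf, MonoidHom.mem_ker]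
      exact hcen a
    have h3 : (Subgroup.center G).relIndex A = p := by
      rw [Subgroup.relIndex, hker, Subgroup.index_ker]
      exact card_range_eq hp hβ1 hpow
    rw [← Subgroup.relIndex_mul_index hcle, h3, mul_comm]
  · push Not at hex
    by_cases hl : ∃ l : A →* ℂˣ, (stab A l).index = p
    · obtain ⟨l, hl⟩ := hl
      refine Or.inr (Or.inl ?_)
      have hle : stab A l ≤ A := by
        intro g hg
        apply hcent g
        apply commute_of_forall_stab A hab
        intro m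
        rcases hidx m with h | h
        · rw [Subgroup.index_eq_one.mp h]; trivial
        · by_cases heq : stab A l = stab A m
          · rw [← heq]; exact hg
          · exact absurd h (hex l m heq hl)
      have := le_antisymm hle (le_stab A hab l)
      rw [← this]; exact hl
    · push Not at hl
      refine Or.inl ?_
      rw [Subgroup.index_eq_one, eq_top_iff]
      intro g _
      apply hcent g
      apply commute_of_forall_stab A hab
      intro m
      rcases hidx m with h | h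
      · rw [Subgroup.index_eq_one.mp h]; trivial
      · exact absurd h (hl m)

end Center

section Over

open Cfsg.Agent.Lib.Char.Basic Cfsg.Agent.Lib.Char.Ortho Cfsg.Agent.Lib.Char.Clifford
  Cfsg.Agent.Lib.Char.CliffordCorr Cfsg.Agent.Lib.Char.LinearChars Cfsg.Agent.Lib.Char.Induced

variable {G : Type u} [Group G] [Fintype G] (A : Subgroup G) [hA : A.Normal]

/-- The inertia group in the form needed for the Clifford correspondence. -/
theorem hT_stab (l : A →* ℂˣ) (g : G) :
    g ∈ stab A l ↔ ∀ n : A, (fun a : A => ((l a : ℂˣ) : ℂ)) ⟨g * n * g⁻¹, hA.conj_mem n n.2 g⟩ =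
      (fun a : A => ((l a : ℂˣ) : ℂ)) n := by
  rw [mem_stab]
  constructor
  · intro h n
    have := DFunLike.congr_fun h n
    rw [cj_apply] at this
    simp only
    rw [this]
  · intro h
    ext n
    rw [cj_apply]
    exact h n

/-- `η` lies over the linear character `l` of `A`. -/
def IsOver {T : Subgroup G} (hAT : A ≤ T) (l : A →* ℂˣ) (η : T → ℂ) : Prop :=
  ∀ a : A, η ⟨a, hAT a.2⟩ = η 1 * ((l a : ℂˣ) : ℂ)

variable (hab : ∀ a ∈ A, ∀ b ∈ A, a * b = b * a)

theorem resT_eq_of_inertia (l : A →* ℂˣ) (hAT : A ≤ stab A l) [Fintype A] [Fintype (stab A l)]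
    {η : stab A l → ℂ} (hη : IsIrrCharacter (stab A l) η)
    (h : classInner (resT A (stab A l) hAT η) (fun a : A => ((l a : ℂˣ) : ℂ)) ≠ 0) :
    IsOver A hAT l η := by
  have h1 := res_eq_smul_of_inertia A (fun a : A => ((l a : ℂˣ) : ℂ)) (stab A l) hAT
    (isIrr_of_hom l) (hT_stab A l) hη h
  have h2 := congrFun h1 1
  simp only [Pi.smul_apply, smul_eq_mul, map_one, Units.val_one, mul_one] at h2
  intro a
  have h3 := congrFun h1 a
  simp only [Pi.smul_apply, smul_eq_mul] at h3
  have h4 : resT A (stab A l) hAT η 1 = η 1 := rfl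
  rw [h4] at h2
  rw [h2]
  exact h3

/-- There is an irreducible character of the inertia group lying over `l`. -/
theorem exists_over (l : A →* ℂˣ) (hAT : A ≤ stab A l) :
    ∃ η : stab A l → ℂ, IsIrrCharacter (stab A l) η ∧ IsOver A hAT l η := by
  classical
  letI : Fintype A := Fintype.ofFinite _
  letI : Fintype (stab A l) := Fintype.ofFinite _
  obtain ⟨χ, hχ, hne⟩ := Cfsg.Agent.Lib.Char.ItoMichler.exists_irr_over A (isIrr_of_hom l)
  obtain ⟨η, hη, h1, -⟩ := exists_irr_T A (fun a : A => ((l a : ℂˣ) : ℂ)) (stab A l) hAT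
    (isIrr_of_hom l) hχ hne
  exact ⟨η, hη, resT_eq_of_inertia A l hAT hη h1⟩

/-- The Clifford correspondent of an irreducible character over `l` is irreducible. -/
theorem isIrr_ind_of_over (l : A →* ℂˣ) (hAT : A ≤ stab A l) {η : stab A l → ℂ}
    (hη : IsIrrCharacter (stab A l) η) (hover : IsOver A hAT l η) :
    IsIrrCharacter G (indFun (stab A l) η) := by
  classical
  letI : Fintype A := Fintype.ofFinite _
  letI : Fintype (stab A l) := Fintype.ofFinite _
  apply isIrr_indFun A (fun a : A => ((l a : ℂˣ) : ℂ)) (stab A l) hAT (isIrr_of_hom l)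
    (hT_stab A l) hη
  have h1 : resT A (stab A l) hAT η = η 1 • (fun a : A => ((l a : ℂˣ) : ℂ)) := by
    funext a
    exact hover a
  rw [h1, classInner_smul_left, classInner_irr_self (isIrr_of_hom l), mul_one]
  exact irr_apply_one_ne_zero hη

/-- The degree of the Clifford correspondent. -/
theorem exists_irr_degree_of_over (l : A →* ℂˣ) (hAT : A ≤ stab A l) {η : stab A l → ℂ}
    (hη : IsIrrCharacter (stab A l) η) (hover : IsOver A hAT l η) :
    ∃ (χ : IrrCharacter G) (d : ℕ), η 1 = d ∧ charDegree (χ : G → ℂ) = (stab A l).index * d := by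
  obtain ⟨d, hd⟩ := Cfsg.Agent.Lib.Char.Clifford.exists_nat_apply_one
    (isCharacter_of_isIrrCharacter hη)
  refine ⟨⟨_, isIrr_ind_of_over A l hAT hη hover⟩, d, hd, ?_⟩
  apply Cfsg.Agent.Lib.Char.Values.IsCharacter.charDegree_eq
    (isCharacter_of_isIrrCharacter (isIrr_ind_of_over A l hAT hη hover))
  rw [indFun_one, hd]
  push_cast
  rfl

/-- The same, for a subgroup equal to the inertia group. -/
theorem exists_irr_degree_of_over' (l : A →* ℂˣ) {T : Subgroup G} (hT : stab A l = T) (hAT : A ≤ T)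
    {η : T → ℂ} (hη : IsIrrCharacter T η) (hover : IsOver A hAT l η) :
    ∃ (χ : IrrCharacter G) (d : ℕ), η 1 = d ∧ charDegree (χ : G → ℂ) = T.index * d := by
  subst hT
  exact exists_irr_degree_of_over A l hAT hη hover

/-- If all characters over `l` in the inertia group are linear, then `l` kills commutators. -/
theorem apply_commutator_eq_one (l : A →* ℂˣ) (hAT : A ≤ stab A l)
    (hlin : ∀ η : stab A l → ℂ, IsIrrCharacter (stab A l) η → IsOver A hAT l η → η 1 = 1)
    {s t : G} (hs : s ∈ stab A l) (ht : t ∈ stab A l) (hc : ⁅s, t⁆ ∈ A) : l ⟨⁅s, t⁆, hc⟩ = 1 := by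
  classical
  obtain ⟨η, hη, hover⟩ := exists_over A l hAT
  have h1 := hlin η hη hover
  obtain ⟨φ, hφ⟩ := exists_hom_of_isCharacter_one (isCharacter_of_isIrrCharacter hη) h1
  have h2 := hover ⟨⁅s, t⁆, hc⟩
  rw [h1, one_mul] at h2
  have h3 : ((⟨⁅s, t⁆, hAT hc⟩ : stab A l) : stab A l) = ⁅(⟨s, hs⟩ : stab A l), ⟨t, ht⟩⁆ := by
    apply Subtype.ext
    rfl
  simp only at h2
  rw [h3, hφ] at h2
  simp only at h2
  apply Units.ext
  rw [← h2, commutatorElement_def, map_mul, map_mul, map_mul, map_inv, map_inv]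
  simp only [Units.val_mul, Units.val_inv_eq_inv_val, Units.val_one]
  have h5 : ((φ ⟨s, hs⟩ : ℂˣ) : ℂ) ≠ 0 := Units.ne_zero _
  have h6 : ((φ ⟨t, ht⟩ : ℂˣ) : ℂ) ≠ 0 := Units.ne_zero _
  field_simp

end Over

end Cfsg.Agent.Lib.Char.TwoDeg
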